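import Cfsg.Agent.Known.FieldCoset
import Mathlib.FieldTheory.Finite.GaloisField

/-!
Automorphisms of finite fields and the index of a sum of power subgroups, free of the Chevalley library.
-/

set_option autoImplicit false
set_option linter.unusedSectionVars false

namespace Cfsg.Lib.Known.FieldLight

variable {F : Type*} [Field F] [Fintype F]

theorem ringAut_facts (p f : ℕ) [Fact p.Prime] [CharP F p] (hF : Fintype.card F = p ^ f) :
    IsCyclic (F ≃+* F) ∧ Nat.card (F ≃+* F) = f := by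
  letI := ZMod.algebra F p
  have hfin : FiniteDimensional (ZMod p) F := Module.Finite.of_finite
  let eA : (F ≃+* F) ≃* (F ≃ₐ[ZMod p] F) :=
    { toFun := fun σ => AlgEquiv.ofRingEquiv (f := σ) (fun k => DFunLike.congr_fun
        (Subsingleton.elim (σ.toRingHom.comp (algebraMap (ZMod p) F)) (algebraMap (ZMod p) F)) k)
      invFun := fun σ => σ.toRingEquiv
      left_inv := fun σ => RingEquiv.ext fun _ => rfl
      right_inv := fun σ => AlgEquiv.ext fun _ => rfl
      map_mul' := fun σ τ => AlgEquiv.ext fun _ => rfl }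
  have hcard : Nat.card (F ≃ₐ[ZMod p] F) = f := by
    rw [IsGalois.card_aut_eq_finrank]
    have h := Module.natCard_eq_pow_finrank (K := ZMod p) (V := F)
    rw [Nat.card_eq_fintype_card, hF, Nat.card_zmod] at h
    exact (Nat.pow_right_injective (Fact.out : p.Prime).two_le h).symm
  haveI : IsCyclic (F ≃ₐ[ZMod p] F) := inferInstance
  exact ⟨isCyclic_of_surjective eA.symm.toMonoidHom eA.symm.surjective, (Nat.card_congr eA.toEquiv).trans hcard⟩

theorem index_pow_sup (a b : ℕ) (hb : b ∣ Nat.card Fˣ) :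
    ((powMonoidHom a : Fˣ →* Fˣ).range ⊔ (powMonoidHom b : Fˣ →* Fˣ).range).index = Nat.gcd a b := by
  have e : (powMonoidHom a : Fˣ →* Fˣ).range ⊔ (powMonoidHom b : Fˣ →* Fˣ).range =
      (powMonoidHom (Nat.gcd a b) : Fˣ →* Fˣ).range := by
    refine le_antisymm (sup_le ?_ ?_) ?_
    · rintro _ ⟨x, rfl⟩
      obtain ⟨c, hc⟩ := Nat.gcd_dvd_left a b
      exact ⟨x ^ c, by rw [powMonoidHom_apply, powMonoidHom_apply, ← pow_mul, mul_comm, ← hc]⟩
    · rintro _ ⟨x, rfl⟩
      obtain ⟨c, hc⟩ := Nat.gcd_dvd_right a b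
      exact ⟨x ^ c, by rw [powMonoidHom_apply, powMonoidHom_apply, ← pow_mul, mul_comm, ← hc]⟩
    · rintro _ ⟨x, rfl⟩
      have : powMonoidHom (Nat.gcd a b) x = (x ^ (Nat.gcdA a b)) ^ a * (x ^ (Nat.gcdB a b)) ^ b := by
        rw [powMonoidHom_apply, ← zpow_natCast x, Nat.gcd_eq_gcd_ab, ← zpow_natCast (x ^ Nat.gcdA a b),
          ← zpow_natCast (x ^ Nat.gcdB a b), ← _root_.zpow_mul, ← _root_.zpow_mul, ← _root_.zpow_add, mul_comm (a : ℤ), mul_comm (b : ℤ)]
      rw [this]
      exact Subgroup.mul_mem_sup ⟨_, rfl⟩ ⟨_, rfl⟩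
  have hd : Nat.gcd a b ∣ Nat.card Fˣ := (Nat.gcd_dvd_right a b).trans hb
  rw [e, ← Nat.mul_left_inj (Nat.card_pos (α := (powMonoidHom (Nat.gcd a b) : Fˣ →* Fˣ).range)).ne',
    Subgroup.index_mul_card, IsCyclic.card_powMonoidHom_range, Nat.gcd_eq_right hd, Nat.mul_div_cancel' hd]

theorem nonempty_equiv {A Y : Type*} [Group A] [Group Y] (Ψ : Y →* A) (N : Subgroup Y) [N.Normal] (S : Subgroup A)
    (hker : Ψ.ker = N) (hran : Ψ.range = S) : Nonempty (↥S ≃* Y ⧸ N) :=
  ⟨((QuotientGroup.quotientMulEquivOfEq hker.symm).trans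
    ((QuotientGroup.quotientKerEquivRange Ψ).trans (MulEquiv.subgroupCongr hran))).symm⟩

theorem order_dvd {p f : ℕ} [Fact p.Prime] (hF : Fintype.card F = p ^ f) (σ : F ≃+* F) : orderOf σ ∣ f := by
  obtain ⟨c, hc⟩ := CharP.exists F
  have hcp : c = p := by
    obtain ⟨e, hcp, he⟩ := FiniteField.card F c
    exact (Nat.prime_dvd_prime_iff_eq hcp Fact.out).1 (hcp.dvd_of_dvd_pow (hF ▸ he ▸ dvd_pow_self c e.ne_zero))
  subst hcp
  exact (ringAut_facts (F := F) c f hF).2 ▸ orderOf_dvd_natCard σ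

/-- The fixed field of a prime order automorphism, as the image of any field of its order. -/
theorem exists_fixed_hom {p f r : ℕ} [Fact p.Prime] (hF : Fintype.card F = p ^ f) {σ : F ≃+* F}
    (hord : orderOf σ = r) (F₀ : Type*) [Field F₀] [Fintype F₀] (hF₀ : Fintype.card F₀ = p ^ (f / r)) :
    ∃ ι : F₀ →+* F, ∀ x, σ x = x ↔ x ∈ Set.range ι := by
  classical
  have : Finite (F ≃+* F) := Finite.of_injective (fun e => (e : F → F)) DFunLike.coe_injective
  let H : Subgroup (F ≃+* F) := Subgroup.zpowers σ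
  have : Fintype H := Fintype.ofFinite H
  let L := FixedPoints.subfield H F
  have hmem : ∀ x, x ∈ L ↔ σ x = x := by
    refine fun x => ⟨fun h => h ⟨σ, Subgroup.mem_zpowers σ⟩, fun h k => ?_⟩
    obtain ⟨i, hi⟩ := Subgroup.mem_zpowers_iff.1 k.2
    show (k : F ≃+* F) x = x
    rw [← hi]
    have hfix : σ ∈ MulAction.stabilizer (F ≃+* F) x := h
    exact Subgroup.zpow_mem _ hfix i
  have hr0 : 0 < r := hord ▸ orderOf_pos σ
  have hcard : Fintype.card F₀ = Fintype.card L := by
    refine Nat.pow_left_injective hr0.ne' ?_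
    show Fintype.card F₀ ^ r = Fintype.card L ^ r
    rw [hF₀, ← pow_mul, Nat.div_mul_cancel (hord ▸ order_dvd hF σ), ← hF, Module.card_eq_pow_finrank (K := L) (V := F),
      FixedPoints.finrank_eq_card H F]
    congr 1
    rw [← hord, ← Nat.card_zpowers σ, Nat.card_eq_fintype_card]
  refine ⟨L.subtype.comp (FiniteField.ringEquivOfCardEq (K := F₀) (K' := L) hcard).toRingHom, fun x => ?_⟩
  constructor
  · intro h
    exact ⟨(FiniteField.ringEquivOfCardEq (K := F₀) (K' := L) hcard).symm ⟨x, (hmem x).2 h⟩, by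
      show ((FiniteField.ringEquivOfCardEq (K := F₀) (K' := L) hcard)
        ((FiniteField.ringEquivOfCardEq (K := F₀) (K' := L) hcard).symm ⟨x, (hmem x).2 h⟩) : L).1 = x
      rw [RingEquiv.apply_symm_apply]⟩
  · rintro ⟨y, rfl⟩
    exact (hmem _).1 (Subtype.mem _)

end Cfsg.Lib.Known.FieldLight
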