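import Cfsg.Prelude.Def_KGroupFacts
import Cfsg.Agent.Classical.SL

/-!
`Out (PSL 2 q)` is an extension of the field automorphisms by the diagonal automorphism.
-/

namespace Cfsg.Lib.Known.AutPSL2

open Matrix
open scoped Pointwise

variable {F : Type*} [Field F]

local notation "S" => Matrix.SpecialLinearGroup (Fin 2) F
local notation "P" => Matrix.ProjectiveSpecialLinearGroup (Fin 2) F

/-- The upper unitriangular element. -/
def uS (x : F) : S := ⟨!![1, x; 0, 1], by simp [det_fin_two]⟩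

/-- The lower unitriangular element. -/
def vS (y : F) : S := ⟨!![1, 0; y, 1], by simp [det_fin_two]⟩

theorem coe_uS (x : F) : (uS x : Matrix (Fin 2) (Fin 2) F) = !![1, x; 0, 1] := rfl

theorem coe_vS (y : F) : (vS y : Matrix (Fin 2) (Fin 2) F) = !![1, 0; y, 1] := rfl

theorem sl_ext {M N : S} (h : (M : Matrix (Fin 2) (Fin 2) F) = (N : Matrix (Fin 2) (Fin 2) F)) : M = N :=
  Subtype.ext h

theorem cmul (M N : S) : ((M * N : S) : Matrix (Fin 2) (Fin 2) F) = (M : Matrix (Fin 2) (Fin 2) F) * N := rfl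

theorem cinv (M : S) : ((M⁻¹ : S) : Matrix (Fin 2) (Fin 2) F) = adjugate (M : Matrix (Fin 2) (Fin 2) F) :=
  Matrix.SpecialLinearGroup.coe_inv M

theorem cone : ((1 : S) : Matrix (Fin 2) (Fin 2) F) = 1 := rfl

theorem uS_add (x y : F) : uS (x + y) = uS x * uS y := sl_ext (by
  rw [cmul]
  ext i j; fin_cases i <;> fin_cases j <;> simp [coe_uS, Matrix.mul_apply, Fin.sum_univ_two, add_comm])

theorem vS_add (x y : F) : vS (x + y) = vS x * vS y := sl_ext (by
  rw [cmul]
  ext i j; fin_cases i <;> fin_cases j <;> simp [coe_vS, Matrix.mul_apply, Fin.sum_univ_two, add_comm])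

/-- The projection. -/
abbrev π : S →* P := QuotientGroup.mk' (Subgroup.center S)

/-- Upper unitriangular hom. -/
def u : Multiplicative F →* P :=
  π.comp
    { toFun := fun x => uS x.toAdd
      map_one' := sl_ext (by rw [coe_uS, cone]; simp [one_fin_two])
      map_mul' := fun x y => uS_add _ _ }

/-- Lower unitriangular hom. -/
def v : Multiplicative F →* P :=
  π.comp
    { toFun := fun x => vS x.toAdd
      map_one' := sl_ext (by rw [coe_vS, cone]; simp [one_fin_two])
      map_mul' := fun x y => vS_add _ _ }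

theorem u_apply (x : F) : u (Multiplicative.ofAdd x) = π (uS x) := rfl

theorem v_apply (x : F) : v (Multiplicative.ofAdd x) = π (vS x) := rfl

theorem π_eq {M N : S} (h : π M = π N) :
    ∃ c : F, c * c = 1 ∧ (N : Matrix (Fin 2) (Fin 2) F) = c • (M : Matrix (Fin 2) (Fin 2) F) := by
  obtain ⟨z, hz, rfl⟩ := (QuotientGroup.mk'_eq_mk' _).1 h
  obtain ⟨c, hc, hcz⟩ := Matrix.SpecialLinearGroup.mem_center_iff.1 hz
  refine ⟨c, by simpa [sq] using hc, ?_⟩
  rw [cmul, ← hcz, ← smul_one_eq_diagonal c |>.trans (scalar_apply c).symm, mul_smul_comm, mul_one]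

theorem π_eq_apply {M N : S} (h : π M = π N) (i j : Fin 2) (hz : (M : Matrix (Fin 2) (Fin 2) F) i j = 0) :
    (N : Matrix (Fin 2) (Fin 2) F) i j = 0 := by
  obtain ⟨c, -, h⟩ := π_eq h
  rw [h, Matrix.smul_apply, hz, smul_zero]

theorem uS_injective_π {x y : F} (h : π (uS x) = π (uS y)) : x = y := by
  obtain ⟨c, -, h⟩ := π_eq h
  have h0 := congrFun (congrFun h 0) 0
  have h1 := congrFun (congrFun h 0) 1
  simp [coe_uS] at h0 h1
  rw [h1, ← h0, one_mul]

theorem u_injective : Function.Injective (u : Multiplicative F →* P) := fun _ _ h =>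
  Multiplicative.toAdd.injective (uS_injective_π h)

theorem v_injective : Function.Injective (v : Multiplicative F →* P) := fun x y h => by
  obtain ⟨c, -, h⟩ := π_eq (show π (vS x.toAdd) = π (vS y.toAdd) from h)
  have h0 := congrFun (congrFun h 0) 0
  have h1 := congrFun (congrFun h 1) 0
  simp [coe_vS] at h0 h1
  exact Multiplicative.toAdd.injective (by rw [h1, ← h0, one_mul])

/-- Conjugation on the upper unitriangular group. -/
theorem conj_uS (g : S) (x : F) : ((g * uS x * g⁻¹ : S) : Matrix (Fin 2) (Fin 2) F) =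
    !![1 - g.1 0 0 * g.1 1 0 * x, g.1 0 0 ^ 2 * x; -(g.1 1 0 ^ 2 * x), 1 + g.1 0 0 * g.1 1 0 * x] := by
  have hd := g.2
  rw [det_fin_two] at hd
  rw [cmul, cmul, cinv, adjugate_fin_two, coe_uS]
  ext i j
  fin_cases i <;> fin_cases j <;> simp [Matrix.mul_apply, Fin.sum_univ_two] <;>
    first | linear_combination hd | linear_combination -hd | ring

theorem conj_vS (g : S) (x : F) : ((g * vS x * g⁻¹ : S) : Matrix (Fin 2) (Fin 2) F) =
    !![1 + g.1 0 1 * g.1 1 1 * x, -(g.1 0 1 ^ 2 * x); g.1 1 1 ^ 2 * x, 1 - g.1 0 1 * g.1 1 1 * x] := by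
  have hd := g.2
  rw [det_fin_two] at hd
  rw [cmul, cmul, cinv, adjugate_fin_two, coe_vS]
  ext i j
  fin_cases i <;> fin_cases j <;> simp [Matrix.mul_apply, Fin.sum_univ_two] <;>
    first | linear_combination hd | linear_combination -hd | ring

/-- Automorphisms of `SL` act on `PSL`. -/
noncomputable def liftPSL : MulAut S →* MulAut P where
  toFun a := QuotientGroup.congr _ _ a (Subgroup.map_center_eq_of_mulEquiv_aux a)
  map_one' := MulEquiv.ext fun x => QuotientGroup.induction_on x fun _ => rfl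
  map_mul' a b := MulEquiv.ext fun x => QuotientGroup.induction_on x fun _ => rfl
where
  Subgroup.map_center_eq_of_mulEquiv_aux (a : MulAut S) :
      (Subgroup.center S).map (a : S →* S) = Subgroup.center S := by
    exact Subgroup.characteristic_iff_map_eq.1 inferInstance a

theorem liftPSL_apply (a : MulAut S) (M : S) : liftPSL a (π M) = π (a M) := rfl

/-- Conjugation by `GL` on `SL`. -/
noncomputable def conjSL : GL (Fin 2) F →* MulAut S where
  toFun g :=
    { toFun := fun M => ⟨(g : Matrix (Fin 2) (Fin 2) F) * M * ((g⁻¹ : GL (Fin 2) F) : Matrix (Fin 2) (Fin 2) F), by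
        rw [det_mul, det_mul, M.2, mul_one, ← det_mul, ← Units.val_mul, mul_inv_cancel, Units.val_one, det_one]⟩
      invFun := fun M => ⟨((g⁻¹ : GL (Fin 2) F) : Matrix (Fin 2) (Fin 2) F) * M * (g : Matrix (Fin 2) (Fin 2) F), by
        rw [det_mul, det_mul, M.2, mul_one, ← det_mul, ← Units.val_mul, inv_mul_cancel, Units.val_one, det_one]⟩
      left_inv := fun M => sl_ext (by simp [mul_assoc])
      right_inv := fun M => sl_ext (by simp [mul_assoc])
      map_mul' := fun M N => sl_ext (by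
        change _ * ((M * N : S) : Matrix (Fin 2) (Fin 2) F) * _ = (_ * _ * _) * (_ * _ * _)
        simp [cmul, mul_assoc]) }
  map_one' := MulEquiv.ext fun M => sl_ext (by
    change ((1 : GL (Fin 2) F) : Matrix (Fin 2) (Fin 2) F) * (M : Matrix (Fin 2) (Fin 2) F) *
      (((1 : GL (Fin 2) F)⁻¹ : GL (Fin 2) F) : Matrix (Fin 2) (Fin 2) F) = (M : Matrix (Fin 2) (Fin 2) F)
    simp)
  map_mul' g h := MulEquiv.ext fun M => sl_ext (by
    change ((g * h : GL (Fin 2) F) : Matrix (Fin 2) (Fin 2) F) * (M : Matrix (Fin 2) (Fin 2) F) *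
      (((g * h)⁻¹ : GL (Fin 2) F) : Matrix (Fin 2) (Fin 2) F) =
      (g : Matrix (Fin 2) (Fin 2) F) * ((h : Matrix (Fin 2) (Fin 2) F) * M * ((h⁻¹ : GL (Fin 2) F) : Matrix (Fin 2) (Fin 2) F)) *
        ((g⁻¹ : GL (Fin 2) F) : Matrix (Fin 2) (Fin 2) F)
    simp [_root_.mul_inv_rev, mul_assoc])

theorem coe_conjSL (g : GL (Fin 2) F) (M : S) : ((conjSL g M : S) : Matrix (Fin 2) (Fin 2) F) =
    (g : Matrix (Fin 2) (Fin 2) F) * M * ((g⁻¹ : GL (Fin 2) F) : Matrix (Fin 2) (Fin 2) F) := rfl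

/-- `a ↦ diag (a, 1)`. -/
def diagGL : Fˣ →* GL (Fin 2) F :=
  MonoidHom.toHomUnits
    { toFun := fun a => !![(a : F), 0; 0, 1]
      map_one' := by simp [one_fin_two]
      map_mul' := fun a b => by ext i j; fin_cases i <;> fin_cases j <;> simp [Matrix.mul_apply, Fin.sum_univ_two] }

theorem coe_diagGL (a : Fˣ) : ((diagGL a : GL (Fin 2) F) : Matrix (Fin 2) (Fin 2) F) = !![(a : F), 0; 0, 1] := rfl

/-- The diagonal automorphisms. -/
noncomputable def diagAut : Fˣ →* MulAut P := liftPSL.comp (conjSL.comp diagGL)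

theorem diagAut_u (a : Fˣ) (x : F) : diagAut a (π (uS x)) = π (uS ((a : F) * x)) := by
  change π (conjSL (diagGL a) (uS x)) = _
  congr 1
  refine sl_ext ?_
  rw [coe_conjSL, ← map_inv, coe_diagGL, coe_diagGL, coe_uS, coe_uS]
  ext i j; fin_cases i <;> fin_cases j <;> simp [Matrix.mul_apply, Fin.sum_univ_two]

theorem diagAut_v (a : Fˣ) (x : F) : diagAut a (π (vS x)) = π (vS ((a⁻¹ : Fˣ) * x)) := by
  change π (conjSL (diagGL a) (vS x)) = _
  congr 1
  refine sl_ext ?_
  rw [coe_conjSL, ← map_inv, coe_diagGL, coe_diagGL, coe_vS, coe_vS]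
  ext i j; fin_cases i <;> fin_cases j <;> simp [Matrix.mul_apply, Fin.sum_univ_two, mul_comm]

/-- The unipotents generate. -/
theorem closure_eq_top (H : Subgroup P) (hu : ∀ x : F, π (uS x) ∈ H) (hv : ∀ x : F, π (vS x) ∈ H) : H = ⊤ := by
  have h : H.comap (π : S →* P) = ⊤ := Cfsg.Lib.Classical.eq_top_of_transvection_mem _ fun i j hij c => by
    rw [Subgroup.mem_comap]
    fin_cases i <;> fin_cases j
    · exact absurd rfl hij
    · convert hu c using 2
      refine sl_ext ?_
      rw [Matrix.SpecialLinearGroup.transvection_coe, coe_uS]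
      ext r s; fin_cases r <;> fin_cases s <;> simp [Matrix.single, Matrix.transvection]
    · convert hv c using 2
      refine sl_ext ?_
      rw [Matrix.SpecialLinearGroup.transvection_coe, coe_vS]
      ext r s; fin_cases r <;> fin_cases s <;> simp [Matrix.single, Matrix.transvection]
    · exact absurd rfl hij
  rw [eq_top_iff]
  intro x _
  obtain ⟨M, rfl⟩ := QuotientGroup.mk_surjective x
  exact (h ▸ Subgroup.mem_top M : M ∈ H.comap (π : S →* P))

theorem aut_ext {α β : MulAut P} (hu : ∀ x : F, α (π (uS x)) = β (π (uS x)))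
    (hv : ∀ x : F, α (π (vS x)) = β (π (vS x))) : α = β := by
  have h := closure_eq_top (α.toMonoidHom.eqLocus β.toMonoidHom) hu hv
  exact MulEquiv.ext fun x => (h ▸ Subgroup.mem_top x : x ∈ α.toMonoidHom.eqLocus β.toMonoidHom)

/-- If conjugation by the invertible `A` maps `u 1`, `v 1` to themselves up to sign then `A` is scalar. -/
theorem scalar_of_fix {A : Matrix (Fin 2) (Fin 2) F} (hA : A.det ≠ 0) (c d : F) (hc : c * c = 1)
    (hu : A * !![1, 1; 0, 1] = c • (!![1, 1; 0, 1] * A)) (hv : A * !![1, 0; 1, 1] = d • (!![1, 0; 1, 1] * A)) :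
    A 0 1 = 0 ∧ A 1 0 = 0 ∧ A 0 0 = A 1 1 := by
  have a00 := congrFun (congrFun hu 0) 0
  have a01 := congrFun (congrFun hu 0) 1
  have a10 := congrFun (congrFun hu 1) 0
  have a11 := congrFun (congrFun hu 1) 1
  have b00 := congrFun (congrFun hv 0) 0
  have b01 := congrFun (congrFun hv 0) 1
  have b10 := congrFun (congrFun hv 1) 0
  have b11 := congrFun (congrFun hv 1) 1
  simp [Matrix.mul_apply, Fin.sum_univ_two, Matrix.vecMul, dotProduct] at a00 a01 a10 a11 b00 b01 b10 b11
  rw [det_fin_two] at hA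
  have hc1 : c = 1 := by
    by_contra hne
    have hcs : c = -1 := by
      rcases mul_self_eq_one_iff.1 hc with h | h
      · exact absurd h hne
      · exact h
    subst hcs
    have h2 : (2 : F) ≠ 0 := fun h2 => hne (by linear_combination -h2)
    have e10 : A 1 0 = 0 := by
      have : (2 : F) * A 1 0 = 0 := by linear_combination a10
      exact (mul_eq_zero.1 this).resolve_left h2
    have e00 : A 0 0 = 0 := by
      have : (2 : F) * A 0 0 = 0 := by linear_combination a00 - e10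
      exact (mul_eq_zero.1 this).resolve_left h2
    exact hA (by rw [e00, e10]; ring)
  subst hc1
  have e10 : A 1 0 = 0 := by linear_combination -a00
  have e00 : A 0 0 = A 1 1 := by linear_combination a01
  refine ⟨?_, e10, e00⟩
  have hd : d = 1 := by
    by_contra hne
    have h11 : A 1 1 = 0 := by
      have e1 : A 0 0 + A 0 1 = d * A 0 0 := by linear_combination b00 + d * (0 : F)
      have e2 : A 0 1 = d * A 0 1 := by linear_combination b01
      have e3 : A 0 1 = 0 := by
        have : (1 - d) * A 0 1 = 0 := by linear_combination e2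
        exact (mul_eq_zero.1 this).resolve_left (sub_ne_zero.2 (Ne.symm hne))
      have : (1 - d) * A 0 0 = 0 := by linear_combination e1 - e3
      rw [← e00]
      exact (mul_eq_zero.1 this).resolve_left (sub_ne_zero.2 (Ne.symm hne))
    exact hA (by rw [h11, e10]; ring)
  subst hd
  linear_combination b00

theorem π_eq_mul {M N : Matrix (Fin 2) (Fin 2) F} (A : GL (Fin 2) F) (c : F)
    (h : N = c • ((A : Matrix (Fin 2) (Fin 2) F) * M * ((A⁻¹ : GL (Fin 2) F) : Matrix (Fin 2) (Fin 2) F))) :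
    N * (A : Matrix (Fin 2) (Fin 2) F) = c • ((A : Matrix (Fin 2) (Fin 2) F) * M) := by
  rw [h, smul_mul_assoc, mul_assoc _ _ (A : Matrix (Fin 2) (Fin 2) F), ← Units.val_mul, inv_mul_cancel, Units.val_one,
    mul_one]

/-- An element `g` of `GL` whose conjugation fixes `u 1` and `v 1` projectively is scalar. -/
theorem scalar_of_conjSL_fix {g : GL (Fin 2) F} (hu : π (conjSL g (uS 1)) = π (uS (1 : F)))
    (hv : π (conjSL g (vS 1)) = π (vS (1 : F))) :
    g.val 0 1 = 0 ∧ g.val 1 0 = 0 ∧ g.val 0 0 = g.val 1 1 := by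
  obtain ⟨c, hc, h1⟩ := π_eq hu
  obtain ⟨d, hd, h2⟩ := π_eq hv
  rw [coe_conjSL, coe_uS] at h1
  rw [coe_conjSL, coe_vS] at h2
  have e1 := π_eq_mul g c h1
  have e2 := π_eq_mul g d h2
  have hflip : ∀ {c : F} {X Y : Matrix (Fin 2) (Fin 2) F}, c * c = 1 → X = c • Y → Y = c • X :=
    fun hc h => by rw [h, smul_smul, hc, one_smul]
  exact scalar_of_fix ((Matrix.isUnit_iff_isUnit_det _).1 g.isUnit).ne_zero c d hc
    (hflip hc e1) (hflip hd e2)

variable [Fintype F] (p : ℕ) [Fact p.Prime] [CharP F p] [Algebra (ZMod p) F]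

/-- The field automorphisms. -/
noncomputable def fieldSL : (F ≃ₐ[ZMod p] F) →* MulAut S where
  toFun σ :=
    { toFun := Matrix.SpecialLinearGroup.map σ.toRingEquiv.toRingHom
      invFun := Matrix.SpecialLinearGroup.map σ.symm.toRingEquiv.toRingHom
      left_inv := fun M => by ext i j; exact σ.symm_apply_apply _
      right_inv := fun M => by ext i j; exact σ.apply_symm_apply _
      map_mul' := map_mul _ }
  map_one' := MulEquiv.ext fun M => by ext i j; rfl
  map_mul' _ _ := MulEquiv.ext fun M => by ext i j; rfl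

/-- The field automorphisms of `PSL`. -/
noncomputable def fieldAut : (F ≃ₐ[ZMod p] F) →* MulAut P := liftPSL.comp (fieldSL p)

theorem fieldAut_u (σ : F ≃ₐ[ZMod p] F) (x : F) : fieldAut p σ (π (uS x)) = π (uS (σ x)) := by
  change π (Matrix.SpecialLinearGroup.map _ (uS x)) = _
  congr 1
  ext i j
  change σ ((uS x : Matrix (Fin 2) (Fin 2) F) i j) = _
  fin_cases i <;> fin_cases j <;> simp [coe_uS]

theorem fieldAut_v (σ : F ≃ₐ[ZMod p] F) (x : F) : fieldAut p σ (π (vS x)) = π (vS (σ x)) := by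
  change π (Matrix.SpecialLinearGroup.map _ (vS x)) = _
  congr 1
  ext i j
  change σ ((vS x : Matrix (Fin 2) (Fin 2) F) i j) = _
  fin_cases i <;> fin_cases j <;> simp [coe_vS]

omit [Algebra (ZMod p) F] in
theorem card_S : Nat.card S = Fintype.card F * (Fintype.card F ^ 2 - 1) := by
  have h := Cfsg.Lib.Classical.card_SL_mul_eq_prod (F := F) (n := 2) (by norm_num)
  rw [Fin.prod_univ_two] at h
  simp only [Fin.val_zero, pow_zero, Fin.val_one, pow_one] at h
  have h1 : 1 ≤ Fintype.card F - 1 := by have := Fintype.one_lt_card (α := F); omega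
  refine Nat.eq_of_mul_eq_mul_left h1 (h.trans ?_)
  have h2 : Fintype.card F ^ 2 - Fintype.card F = Fintype.card F * (Fintype.card F - 1) := by
    rw [Nat.mul_sub, mul_one, sq]
  rw [h2]; ring

omit [Algebra (ZMod p) F] in
theorem exists_sylow_u {f : ℕ} (hf : 1 ≤ f) (hF : Fintype.card F = p ^ f) :
    ∃ U : Sylow p P, (U : Subgroup P) = (u (F := F)).range := by
  have hcard : Nat.card (u (F := F)).range = p ^ f := by
    rw [← Nat.card_congr (MonoidHom.ofInjective (u_injective (F := F))).toEquiv, ← hF,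
      Nat.card_congr Multiplicative.toAdd, Nat.card_eq_fintype_card]
  refine ⟨Sylow.ofCard (u (F := F)).range (hcard.trans ?_), rfl⟩
  have hq : 1 < p ^ f := Nat.one_lt_pow (by omega) (Fact.out : p.Prime).one_lt
  have h1 : Nat.card P ∣ p ^ f * (p ^ (2 * f) - 1) := by
    refine ⟨Nat.card (Subgroup.center S), ?_⟩
    rw [← Subgroup.card_eq_card_quotient_mul_card_subgroup, card_S, hF, ← pow_mul, mul_comm f 2]
  have h2 : p ^ f ∣ Nat.card P := hcard ▸ Subgroup.card_subgroup_dvd_card _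
  have hp : p.Prime := Fact.out
  congr 1
  refine le_antisymm ((hp.pow_dvd_iff_le_factorization Nat.card_pos.ne').1 h2) ?_
  have h4 : p ^ (Nat.card P).factorization p ∣ p ^ f * (p ^ (2 * f) - 1) := (Nat.ordProj_dvd _ _).trans h1
  have hco : (p ^ (Nat.card P).factorization p).Coprime (p ^ (2 * f) - 1) := by
    refine ((hp.coprime_iff_not_dvd).2 fun hd => ?_).pow_left _
    have h5 : p ∣ p ^ (2 * f) := dvd_pow_self _ (by omega)
    have h6 := Nat.dvd_sub h5 hd
    rw [Nat.sub_sub_self (Nat.one_le_pow _ _ hp.pos), Nat.dvd_one] at h6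
    exact hp.ne_one h6
  exact (Nat.pow_dvd_pow_iff_le_right hp.one_lt).1 (hco.dvd_of_dvd_mul_right h4)

theorem conj_map (g : P) (W : Subgroup P) : W.map (MulAut.conj g).toMonoidHom = MulAut.conj g • W := by
  rw [Subgroup.pointwise_smul_def]; rfl

omit [Algebra (ZMod p) F] in
/-- Every automorphism becomes, after an inner one, one fixing the two root groups. -/
theorem exists_normalised {f : ℕ} (hf : 1 ≤ f) (hF : Fintype.card F = p ^ f) (α : MulAut P) :
    ∃ g : P, (u (F := F)).range.map (MulAut.conj g * α).toMonoidHom = (u (F := F)).range ∧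
      (v (F := F)).range.map (MulAut.conj g * α).toMonoidHom = (v (F := F)).range := by
  obtain ⟨U, hU⟩ := exists_sylow_u p hf hF
  set Ur := (u (F := F)).range with hUr
  set Vr := (v (F := F)).range with hVr
  -- the conjugates of `U`
  have horb : ∀ g : S, (Ur.map (MulAut.conj (π g)).toMonoidHom = Ur) ∨
      ∃ x : F, Ur.map (MulAut.conj (π g)).toMonoidHom = Vr.map (MulAut.conj (π (uS x))).toMonoidHom := by
    intro g
    by_cases hc : g.1 1 0 = 0
    · left
      have hd := g.2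
      rw [det_fin_two, hc, mul_zero, sub_zero] at hd
      have ha : g.1 0 0 ≠ 0 := fun h => by rw [h, zero_mul] at hd; exact one_ne_zero hd.symm
      have key : ∀ x, π g * π (uS x) * (π g)⁻¹ = π (uS (g.1 0 0 ^ 2 * x)) := fun x => by
        rw [← map_inv, ← map_mul, ← map_mul]
        congr 1
        refine sl_ext ?_
        rw [conj_uS, coe_uS, hc]
        simp
      ext y
      constructor
      · rintro ⟨_, ⟨x, rfl⟩, rfl⟩
        exact ⟨Multiplicative.ofAdd _, (key x.toAdd).symm⟩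
      · rintro ⟨x, rfl⟩
        refine ⟨_, ⟨Multiplicative.ofAdd ((g.1 0 0 ^ 2)⁻¹ * x.toAdd), rfl⟩, ?_⟩
        change π g * π (uS _) * (π g)⁻¹ = π (uS x.toAdd)
        rw [key, toAdd_ofAdd, mul_inv_cancel_left₀ (pow_ne_zero _ ha)]
    · right
      refine ⟨g.1 0 0 / g.1 1 0, ?_⟩
      set x₀ := g.1 0 0 / g.1 1 0 with hx₀
      set h : S := uS (-x₀) * g with hh
      have h00 : h.1 0 0 = 0 := by
        rw [hh, cmul, coe_uS]
        simp [Matrix.mul_apply, Fin.sum_univ_two, hx₀, hc]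
      have h10 : h.1 1 0 = g.1 1 0 := by
        rw [hh, cmul, coe_uS]
        simp [Matrix.mul_apply, Fin.sum_univ_two]
      have key : ∀ x, π g * π (uS x) * (π g)⁻¹ =
          π (uS x₀) * π (vS (-(g.1 1 0 ^ 2 * x))) * (π (uS x₀))⁻¹ := fun x => by
        have e1 : h * uS x * h⁻¹ = vS (-(g.1 1 0 ^ 2 * x)) := by
          refine sl_ext ?_
          rw [conj_uS, coe_vS, h00, h10]
          simp
        have e2 : g = uS x₀ * h := by
          rw [hh, ← mul_assoc, ← uS_add, add_neg_cancel,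
            show (uS (0 : F) : S) = 1 from sl_ext (by rw [coe_uS, cone]; simp [one_fin_two]), one_mul]
        rw [← map_inv, ← map_inv, ← map_mul, ← map_mul, ← map_mul, ← map_mul, ← e1]
        congr 1
        rw [e2]
        group
      ext y
      constructor
      · rintro ⟨_, ⟨x, rfl⟩, rfl⟩
        exact ⟨_, ⟨Multiplicative.ofAdd (-(g.1 1 0 ^ 2 * x.toAdd)), rfl⟩, (key x.toAdd).symm⟩
      · rintro ⟨_, ⟨z, rfl⟩, rfl⟩
        refine ⟨_, ⟨Multiplicative.ofAdd (-((g.1 1 0 ^ 2)⁻¹ * z.toAdd)), rfl⟩, ?_⟩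
        change π g * π (uS _) * (π g)⁻¹ = π (uS x₀) * π (vS z.toAdd) * (π (uS x₀))⁻¹
        rw [key, toAdd_ofAdd, mul_neg, neg_neg, mul_inv_cancel_left₀ (pow_ne_zero _ hc)]
  have hsy : ∀ R : Sylow p P, (R : Subgroup P) = Ur ∨
      ∃ x : F, (R : Subgroup P) = Vr.map (MulAut.conj (π (uS x))).toMonoidHom := by
    intro R
    obtain ⟨g, rfl⟩ := MulAction.exists_smul_eq P U R
    obtain ⟨g, rfl⟩ := QuotientGroup.mk_surjective g
    rw [Sylow.coe_subgroup_smul, hU, ← conj_map]
    exact horb g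
  have hcardT : ∀ (W : Subgroup P) (τ : MulAut P), Nat.card W = Nat.card (U : Subgroup P) →
      ∃ R : Sylow p P, (R : Subgroup P) = W.map τ.toMonoidHom := fun W τ hW =>
    ⟨Sylow.ofCard (W.map τ.toMonoidHom)
      ((Subgroup.card_map_of_injective τ.injective).trans (hW.trans U.card_eq_multiplicity)), rfl⟩
  -- fix `U`
  obtain ⟨R, hR⟩ := hcardT Ur α (by rw [hU])
  obtain ⟨g₁, hg₁⟩ := MulAction.exists_smul_eq P R U
  have hfix : Ur.map (MulAut.conj g₁ * α).toMonoidHom = Ur := by
    have := congrArg (fun T : Sylow p P => (T : Subgroup P)) hg₁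
    simp only [Sylow.coe_subgroup_smul, hR, hU, ← conj_map, Subgroup.map_map] at this
    exact this
  obtain ⟨R', hR'⟩ := hcardT Vr (MulAut.conj g₁ * α) (by
    rw [hU, hUr, hVr, ← Nat.card_congr (MonoidHom.ofInjective (u_injective (F := F))).toEquiv,
      ← Nat.card_congr (MonoidHom.ofInjective (v_injective (F := F))).toEquiv])
  rcases hsy R' with h | ⟨x, hx⟩
  · exfalso
    have heq : Vr = Ur := by
      refine Subgroup.map_injective (f := (MulAut.conj g₁ * α).toMonoidHom) (MulEquiv.injective _) ?_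
      rw [hfix, ← hR', h]
    have hv1 : π (vS (1 : F)) ∈ Ur := heq ▸ ⟨Multiplicative.ofAdd 1, rfl⟩
    obtain ⟨z, hz⟩ := hv1
    have := π_eq_apply (show π (uS z.toAdd) = π (vS 1) from hz) 1 0 (by simp [coe_uS])
    simp [coe_vS] at this
  · refine ⟨π (uS (-x)) * g₁, ?_, ?_⟩
    · rw [map_mul, mul_assoc]
      change Ur.map ((MulAut.conj (π (uS (-x)))).toMonoidHom.comp (MulAut.conj g₁ * α).toMonoidHom) = Ur
      rw [← Subgroup.map_map, hfix]
      rcases horb (uS (-x)) with h | ⟨y, hy⟩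
      · exact h
      · exfalso
        have hmem : π (uS (-x)) * π (uS (1 : F)) * (π (uS (-x)))⁻¹ ∈ Vr.map (MulAut.conj (π (uS y))).toMonoidHom :=
          hy ▸ ⟨_, ⟨Multiplicative.ofAdd 1, rfl⟩, rfl⟩
        obtain ⟨_, ⟨z, rfl⟩, hz⟩ := hmem
        change π (uS y) * π (vS z.toAdd) * (π (uS y))⁻¹ = _ at hz
        rw [← map_inv, ← map_mul, ← map_mul, ← map_inv, ← map_mul, ← map_mul] at hz
        obtain ⟨c, hc, hz⟩ := π_eq hz
        rw [conj_uS, conj_vS] at hz
        have e10 := congrFun (congrFun hz 1) 0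
        have e01 := congrFun (congrFun hz 0) 1
        simp [coe_uS] at e10 e01
        rcases e10 with e10 | e10
        · rw [e10, mul_zero] at hc; exact zero_ne_one hc
        · rw [e10] at e01; simp at e01
    · rw [map_mul, mul_assoc]
      change Vr.map ((MulAut.conj (π (uS (-x)))).toMonoidHom.comp (MulAut.conj g₁ * α).toMonoidHom) = Vr
      rw [← Subgroup.map_map, ← hR', hx, Subgroup.map_map]
      have : (MulAut.conj (π (uS (-x)))).toMonoidHom.comp (MulAut.conj (π (uS x))).toMonoidHom = MonoidHom.id P := by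
        refine MonoidHom.ext fun z => ?_
        change π (uS (-x)) * (π (uS x) * z * (π (uS x))⁻¹) * (π (uS (-x)))⁻¹ = z
        have : π (uS (-x)) * π (uS x) = 1 := by
          rw [← map_mul, ← uS_add, neg_add_cancel,
            show (uS (0 : F) : S) = 1 from sl_ext (by rw [coe_uS, cone]; simp [one_fin_two]), map_one]
        rw [eq_inv_of_mul_eq_one_left this]; group
      rw [this, Subgroup.map_id]

/-- Classification of the automorphisms. -/
theorem exists_decomp {f : ℕ} (hf : 1 ≤ f) (hF : Fintype.card F = p ^ f) (α : MulAut P) :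
    ∃ (g : P) (a : Fˣ) (σ : F ≃ₐ[ZMod p] F), α = MulAut.conj g * diagAut a * fieldAut p σ := by
  obtain ⟨g₀, hUf, hVf⟩ := exists_normalised p hf hF α
  set β := MulAut.conj g₀ * α with hβ
  have hu' : ∀ x : F, ∃ z, β (π (uS x)) = π (uS z) := fun x => by
    obtain ⟨z, hz⟩ : β (π (uS x)) ∈ (u (F := F)).range := hUf ▸ ⟨_, ⟨Multiplicative.ofAdd x, rfl⟩, rfl⟩
    exact ⟨z.toAdd, hz.symm⟩
  have hv' : ∀ x : F, ∃ z, β (π (vS x)) = π (vS z) := fun x => by
    obtain ⟨z, hz⟩ : β (π (vS x)) ∈ (v (F := F)).range := hVf ▸ ⟨_, ⟨Multiplicative.ofAdd x, rfl⟩, rfl⟩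
    exact ⟨z.toAdd, hz.symm⟩
  choose f₀ hf₀ using hu'
  choose h₀ hh₀ using hv'
  have hf₀add : ∀ x y, f₀ (x + y) = f₀ x + f₀ y := fun x y => uS_injective_π (by
    rw [← hf₀, uS_add, map_mul, map_mul, hf₀, hf₀, ← map_mul, ← uS_add])
  have hf₀inj : Function.Injective f₀ := fun x y h => uS_injective_π (β.injective (by rw [hf₀, hf₀, h]))
  have hf₀one : f₀ 1 ≠ 0 := fun h => one_ne_zero (hf₀inj (h.trans (by
    have := hf₀add 0 0; rw [add_zero] at this; exact (left_eq_add.1 this).symm)))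
  set a : Fˣ := Units.mk0 (f₀ 1) hf₀one with ha
  set γ := (diagAut a)⁻¹ * β with hγ
  set φ : F → F := fun x => ((a⁻¹ : Fˣ) : F) * f₀ x with hφ
  set ψ : F → F := fun x => (a : F) * h₀ x with hψ
  have hγu : ∀ x, γ (π (uS x)) = π (uS (φ x)) := fun x => by
    change (diagAut a)⁻¹ (β (π (uS x))) = _
    rw [hf₀, ← map_inv, diagAut_u]
  have hγv : ∀ x, γ (π (vS x)) = π (vS (ψ x)) := fun x => by
    change (diagAut a)⁻¹ (β (π (vS x))) = _
    rw [hh₀, ← map_inv, diagAut_v, inv_inv]
  have hφ1 : φ 1 = 1 := by simp [hφ, ha, hf₀one]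
  have hφadd : ∀ x y, φ (x + y) = φ x + φ y := fun x y => by simp [hφ, hf₀add, mul_add]
  have hφinj : Function.Injective φ := (mul_right_injective₀ (Units.ne_zero _)).comp hf₀inj
  -- squares
  have hsq : ∀ b x : F, φ (b ^ 2 * x) = φ (b ^ 2) * φ x := by
    intro b x
    rcases eq_or_ne b 0 with rfl | hb
    · have h0 : φ 0 = 0 := by
        have := hφadd 0 0; rw [add_zero] at this; exact left_eq_add.1 this
      simp [h0]
    let d : S := ⟨!![b, 0; 0, b⁻¹], by simp [det_fin_two, hb]⟩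
    have hd : ∀ x, π d * π (uS x) * (π d)⁻¹ = π (uS (b ^ 2 * x)) := fun x => by
      rw [← map_inv, ← map_mul, ← map_mul]; congr 1
      refine sl_ext ?_
      rw [conj_uS, coe_uS]; simp [d]
    have hdv : ∀ x, π d * π (vS x) * (π d)⁻¹ = π (vS ((b⁻¹) ^ 2 * x)) := fun x => by
      rw [← map_inv, ← map_mul, ← map_mul]; congr 1
      refine sl_ext ?_
      rw [conj_vS, coe_vS]; simp [d]
    obtain ⟨M, hM⟩ := QuotientGroup.mk_surjective (γ (π d))
    have e1 : π M * π (uS (φ 1)) * (π M)⁻¹ = π (uS (φ (b ^ 2 * 1))) := by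
      rw [show π M = γ (π d) from hM, ← hγu, ← map_inv, ← map_mul, ← map_mul, hd, hγu]
    have e2 : π M * π (uS (φ x)) * (π M)⁻¹ = π (uS (φ (b ^ 2 * x))) := by
      rw [show π M = γ (π d) from hM, ← hγu, ← map_inv, ← map_mul, ← map_mul, hd, hγu]
    rw [← map_inv, ← map_mul, ← map_mul] at e1 e2
    have hc : M.1 1 0 = 0 := by
      obtain ⟨c, hc, h⟩ := π_eq e1.symm
      have h10 := congrFun (congrFun h 1) 0
      rw [conj_uS] at h10
      simpa [hφ1, coe_uS] using h10
    have key : ∀ y, (M * uS y * M⁻¹ : S) = uS (M.1 0 0 ^ 2 * y) := fun y => sl_ext (by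
      rw [conj_uS, coe_uS, hc]; simp)
    rw [key] at e1 e2
    have f1 := uS_injective_π e1
    have f2 := uS_injective_π e2
    rw [hφ1, mul_one, mul_one] at f1
    rw [← f2, f1]
  have hmul : ∀ z x : F, φ (z * x) = φ z * φ x := by
    by_cases h2 : (2 : F) = 0
    · intro z x
      have : CharP F 2 := CharTwo.of_one_ne_zero_of_two_eq_zero one_ne_zero h2
      obtain ⟨b, rfl⟩ : ∃ b, b ^ 2 = z := (bijective_frobenius F 2).2 z
      exact hsq b x
    · intro z x
      have hsub : ∀ s t, φ (s - t) = φ s - φ t := fun s t => eq_sub_of_add_eq (by rw [← hφadd, sub_add_cancel])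
      have hz : z = ((z + 1) / 2) ^ 2 - ((z - 1) / 2) ^ 2 := by field_simp; ring
      rw [hz, sub_mul, hsub, hsq, hsq, hsub, sub_mul]
  let σ₀ : F →+* F :=
    { toFun := φ
      map_one' := hφ1
      map_mul' := hmul
      map_zero' := by have := hφadd 0 0; rw [add_zero] at this; exact left_eq_add.1 this
      map_add' := hφadd }
  let σ : F ≃ₐ[ZMod p] F := AlgEquiv.ofRingEquiv
    (f := RingEquiv.ofBijective σ₀ (Finite.injective_iff_bijective.1 hφinj)) fun z => by
      change (σ₀.comp (algebraMap (ZMod p) F)) z = algebraMap (ZMod p) F z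
      rw [Subsingleton.elim (σ₀.comp (algebraMap (ZMod p) F)) (algebraMap (ZMod p) F)]
  -- the lower root group
  have hψφ : ∀ y, ψ y = φ y := by
    have key : ∀ x : F, x ≠ 0 → ψ (-x⁻¹) = -(φ x)⁻¹ := by
      intro x hx
      set n : S := uS x * vS (-x⁻¹) * uS x with hn
      have hn00 : n.1 0 0 = 0 := by
        rw [hn, cmul, cmul, coe_uS, coe_vS]
        simp [Matrix.mul_apply, Fin.sum_univ_two, hx]
      set m : S := uS (φ x) * vS (ψ (-x⁻¹)) * uS (φ x) with hm
      have hm' : γ (π n) = π m := by rw [hn, hm, map_mul, map_mul, map_mul, map_mul, hγu, hγv, map_mul, map_mul]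
      have e : π (n * uS 1 * n⁻¹) = π (vS (-(n.1 1 0 ^ 2))) := by
        congr 1
        refine sl_ext ?_
        rw [conj_uS, coe_vS, hn00]
        simp
      have e' := congrArg γ e
      rw [hγv, map_mul, map_mul, map_inv, map_mul, map_mul, map_inv, hm', hγu, hφ1, ← map_inv, ← map_mul,
        ← map_mul] at e'
      obtain ⟨c, hc, h⟩ := π_eq e'.symm
      have h01 := congrFun (congrFun h 0) 1
      rw [conj_uS] at h01
      simp [coe_vS] at h01
      rw [hm, cmul, cmul, coe_uS, coe_vS] at h01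
      simp [Matrix.mul_apply, Fin.sum_univ_two] at h01
      have hφx : φ x ≠ 0 := fun h => hx (hφinj (h.trans (map_zero σ₀).symm))
      refine mul_left_cancel₀ hφx ?_
      rw [mul_neg, mul_inv_cancel₀ hφx]
      linear_combination h01
    intro y
    rcases eq_or_ne y 0 with rfl | hy
    · have h0 : π (vS (ψ 0)) = π (vS (0 : F)) := by
        rw [← hγv, show (vS (0 : F) : S) = 1 from sl_ext (by rw [coe_vS, cone]; simp [one_fin_two]), map_one, map_one]
      rw [show φ 0 = 0 from map_zero σ₀]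
      exact Multiplicative.ofAdd.injective (v_injective h0)
    · have hy' : -y⁻¹ ≠ 0 := neg_ne_zero.2 (inv_ne_zero hy)
      have := key _ hy'
      rw [inv_neg, inv_inv, neg_neg] at this
      rw [this, show φ (-y⁻¹) = -(φ y)⁻¹ by
        change σ₀ (-y⁻¹) = -(σ₀ y)⁻¹
        rw [map_neg, map_inv₀], inv_neg, inv_inv, neg_neg]
  have hγeq : γ = fieldAut p σ := aut_ext (fun x => by rw [hγu, fieldAut_u]; rfl) (fun x => by
    rw [hγv, fieldAut_v, hψφ]; rfl)
  refine ⟨g₀⁻¹, a, σ, ?_⟩
  rw [← hγeq, hγ, hβ, map_inv]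
  group

/-- A diagonal times field automorphism is inner only for squares and the trivial field automorphism. -/
theorem inner_imp {g : P} {a : Fˣ} {σ : F ≃ₐ[ZMod p] F} (h : diagAut a * fieldAut p σ = MulAut.conj g) :
    σ = 1 ∧ ∃ b : Fˣ, b ^ 2 = a := by
  obtain ⟨M, rfl⟩ := QuotientGroup.mk_surjective g
  have hD : ∀ N : S, MulAut.conj (π M) (π N) = π (conjSL (Matrix.SpecialLinearGroup.toGL M) N) := fun N => by
    rw [MulAut.conj_apply, ← map_inv, ← map_mul, ← map_mul]
    congr 1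
  set A : GL (Fin 2) F := (diagGL a)⁻¹ * Matrix.SpecialLinearGroup.toGL M with hA
  have hfield : ∀ N : S, fieldAut p σ (π N) = π (conjSL A N) := fun N => by
    have h1 : fieldAut p σ (π N) = ((diagAut a)⁻¹ * MulAut.conj (π M)) (π N) := by
      rw [show MulAut.conj (π M) = MulAut.conj (QuotientGroup.mk M : P) from rfl, ← h, inv_mul_cancel_left]
    rw [h1, MulAut.mul_apply, hD, ← map_inv, hA, map_mul, MulAut.mul_apply]
    rfl
  obtain ⟨h01, h10, h00⟩ := scalar_of_conjSL_fix (g := A)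
    (by rw [← hfield, fieldAut_u, map_one]) (by rw [← hfield, fieldAut_v, map_one])
  have hscal : A.val = (A.val 0 0) • (1 : Matrix (Fin 2) (Fin 2) F) := by
    ext i j
    fin_cases i <;> fin_cases j <;> simp [h01, h10, h00]
  refine ⟨?_, ?_⟩
  · refine AlgEquiv.ext fun x => ?_
    have h1 := hfield (uS x)
    rw [fieldAut_u] at h1
    refine uS_injective_π (h1.trans ?_)
    congr 1
    refine sl_ext ?_
    rw [coe_conjSL, hscal, smul_mul_assoc, one_mul, smul_mul_assoc]
    have : (A.val 0 0) • ((A⁻¹ : GL (Fin 2) F) : Matrix (Fin 2) (Fin 2) F) = 1 := by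
      have h2 := A.mul_inv
      rw [hscal, smul_mul_assoc, one_mul] at h2
      exact h2
    rw [← mul_smul_comm, this, mul_one]
    rfl
  · have hd := congrArg Matrix.det (show A.val = _ from rfl : A.val = A.val)
    have h1 : ((Matrix.SpecialLinearGroup.toGL M : GL (Fin 2) F) : Matrix (Fin 2) (Fin 2) F) =
        ((diagGL a : GL (Fin 2) F) : Matrix (Fin 2) (Fin 2) F) * A.val := by
      rw [← Units.val_mul, hA, mul_inv_cancel_left]
    have h2 := congrArg Matrix.det h1
    rw [det_mul, coe_diagGL, det_fin_two A.val, h01, h10, ← h00] at h2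
    have h3 : (a : F) * (A.val 0 0 * A.val 0 0) = 1 := by
      have : ((Matrix.SpecialLinearGroup.toGL M : GL (Fin 2) F) : Matrix (Fin 2) (Fin 2) F).det = 1 := M.2
      rw [this] at h2
      simp [det_fin_two] at h2
      linear_combination -h2
    have hne : A.val 0 0 ≠ 0 := fun e => by rw [e, mul_zero, mul_zero] at h3; exact zero_ne_one h3
    refine ⟨(Units.mk0 _ hne)⁻¹, Units.ext ?_⟩
    simp only [Units.val_pow_eq_pow_val, Units.val_inv_eq_inv_val, Units.val_mk0]
    field_simp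
    linear_combination -h3

omit [Fintype F] [Fact p.Prime] [CharP F p] [Algebra (ZMod p) F] in
theorem diagAut_sq (b : Fˣ) : ∃ g : P, diagAut (b ^ 2) = MulAut.conj g := by
  let d : S := ⟨!![(b : F), 0; 0, ((b⁻¹ : Fˣ) : F)], by simp [det_fin_two]⟩
  refine ⟨π d, aut_ext (fun x => ?_) (fun x => ?_)⟩
  · rw [diagAut_u, MulAut.conj_apply, ← map_inv, ← map_mul, ← map_mul]
    congr 1
    refine sl_ext ?_
    rw [conj_uS, coe_uS]; simp [d]
  · rw [diagAut_v, MulAut.conj_apply, ← map_inv, ← map_mul, ← map_mul]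
    congr 1
    refine sl_ext ?_
    rw [conj_vS, coe_vS]; simp [d]

theorem fieldAut_conj_diag (σ : F ≃ₐ[ZMod p] F) (a : Fˣ) :
    fieldAut p σ * diagAut a = diagAut (Units.map σ.toRingEquiv.toMonoidHom a) * fieldAut p σ :=
  aut_ext (fun x => by
    simp only [MulAut.mul_apply, diagAut_u, fieldAut_u, map_mul]
    rfl)
    (fun x => by
    simp only [MulAut.mul_apply, diagAut_v, fieldAut_v, map_mul, ← map_inv]
    rfl)

theorem exists_hom_out {f : ℕ} (hf : 1 ≤ f) (hF : Fintype.card F = p ^ f) :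
    ∃ φ : Cfsg.Out P →* Multiplicative (ZMod f), Function.Surjective φ ∧ IsCyclic φ.ker ∧
      Nat.card φ.ker = Nat.gcd 2 (p ^ f - 1) := by
  classical
  let mk : MulAut P →* Cfsg.Out P := QuotientGroup.mk' (Cfsg.Inn P)
  let δ : Fˣ →* Cfsg.Out P := mk.comp diagAut
  let Φ : (F ≃ₐ[ZMod p] F) →* Cfsg.Out P := mk.comp (fieldAut p)
  have hmk : ∀ g : P, mk (MulAut.conj g) = 1 := fun g => (QuotientGroup.eq_one_iff _).2 ⟨g, rfl⟩
  have hdec : ∀ o : Cfsg.Out P, ∃ a σ, o = δ a * Φ σ := fun o => by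
    obtain ⟨α, rfl⟩ := QuotientGroup.mk_surjective o
    obtain ⟨g, a, σ, rfl⟩ := exists_decomp p hf hF α
    exact ⟨a, σ, by change mk _ = _; rw [map_mul, map_mul, hmk, one_mul]; rfl⟩
  have hsw : ∀ σ a, Φ σ * δ a = δ (Units.map σ.toRingEquiv.toMonoidHom a) * Φ σ := fun σ a => by
    change mk (fieldAut p σ) * mk (diagAut a) = mk (diagAut _) * mk (fieldAut p σ)
    rw [← map_mul, fieldAut_conj_diag, map_mul]
  have : δ.range.Normal := ⟨by
    rintro _ ⟨b, rfl⟩ o
    obtain ⟨a, σ, rfl⟩ := hdec o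
    refine ⟨a * Units.map σ.toRingEquiv.toMonoidHom b * a⁻¹, ?_⟩
    rw [map_mul, map_mul, map_inv, _root_.mul_inv_rev, mul_assoc (δ a) (Φ σ), hsw]
    group⟩
  let Ψ : (F ≃ₐ[ZMod p] F) →* Cfsg.Out P ⧸ δ.range := (QuotientGroup.mk' δ.range).comp Φ
  have hinner : ∀ a σ, δ a * Φ σ = 1 → σ = 1 ∧ ∃ b : Fˣ, b ^ 2 = a := fun a σ h => by
    obtain ⟨g, hg⟩ := (QuotientGroup.eq_one_iff (diagAut a * fieldAut p σ)).1 (by
      rw [← h]; exact map_mul mk (diagAut a) (fieldAut p σ))
    exact inner_imp p hg.symm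
  have hΨ : Function.Bijective Ψ := by
    refine ⟨(injective_iff_map_eq_one _).2 fun σ h => ?_, fun o => ?_⟩
    · obtain ⟨a, ha⟩ := (QuotientGroup.eq_one_iff _).1 h
      exact (hinner a⁻¹ σ (by rw [map_inv, ha, inv_mul_cancel])).1
    · obtain ⟨o, rfl⟩ := QuotientGroup.mk_surjective o
      obtain ⟨a, σ, rfl⟩ := hdec o
      refine ⟨σ, ?_⟩
      change QuotientGroup.mk' δ.range (Φ σ) = QuotientGroup.mk' δ.range (δ a * Φ σ)
      rw [map_mul, show QuotientGroup.mk' δ.range (δ a) = 1 from (QuotientGroup.eq_one_iff _).2 ⟨a, rfl⟩, one_mul]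
  have hfin : FiniteDimensional (ZMod p) F := Module.Finite.of_finite
  have hcard : Nat.card (F ≃ₐ[ZMod p] F) = f := by
    rw [IsGalois.card_aut_eq_finrank]
    have h := Module.natCard_eq_pow_finrank (K := ZMod p) (V := F)
    rw [Nat.card_eq_fintype_card, hF, Nat.card_zmod] at h
    exact (Nat.pow_right_injective (Fact.out : p.Prime).two_le h).symm
  let e₁ : (F ≃ₐ[ZMod p] F) ≃* Cfsg.Out P ⧸ δ.range := MulEquiv.ofBijective Ψ hΨ
  have hcyc : IsCyclic (Cfsg.Out P ⧸ δ.range) := isCyclic_of_surjective e₁.toMonoidHom e₁.surjective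
  have hcard' : Nat.card (Cfsg.Out P ⧸ δ.range) = f := (Nat.card_congr e₁.toEquiv).symm.trans hcard
  let e₂ : Cfsg.Out P ⧸ δ.range ≃* Multiplicative (ZMod f) :=
    (zmodCyclicMulEquiv hcyc).symm.trans (AddEquiv.toMultiplicative (ZMod.ringEquivCongr hcard').toAddEquiv)
  refine ⟨e₂.toMonoidHom.comp (QuotientGroup.mk' δ.range),
    e₂.surjective.comp (QuotientGroup.mk'_surjective _), ?_⟩
  have hker : (e₂.toMonoidHom.comp (QuotientGroup.mk' δ.range)).ker = δ.range := by
    ext o
    rw [MonoidHom.mem_ker, MonoidHom.comp_apply]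
    exact e₂.map_eq_one_iff.trans (QuotientGroup.eq_one_iff o)
  rw [hker]
  refine ⟨isCyclic_of_surjective δ.rangeRestrict δ.rangeRestrict_surjective, ?_⟩
  have hδker : δ.ker = (powMonoidHom 2 : Fˣ →* Fˣ).range := by
    ext a
    constructor
    · intro h
      obtain ⟨-, b, hb⟩ := hinner a 1 (by rw [map_one, mul_one]; exact h)
      exact ⟨b, hb⟩
    · rintro ⟨b, rfl⟩
      obtain ⟨g, hg⟩ := diagAut_sq (F := F) b
      rw [MonoidHom.mem_ker, powMonoidHom_apply, MonoidHom.comp_apply, hg, hmk]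
  rw [← Subgroup.index_ker, hδker]
  have h1 := (powMonoidHom 2 : Fˣ →* Fˣ).range.card_mul_index
  have h2 := (powMonoidHom 2 : Fˣ →* Fˣ).ker.card_mul_index
  rw [Subgroup.index_ker] at h2
  have h3 : Nat.card (powMonoidHom 2 : Fˣ →* Fˣ).ker = Nat.gcd 2 (p ^ f - 1) := by
    rw [IsCyclic.card_powMonoidHom_ker, Nat.card_units, Nat.card_eq_fintype_card, hF, Nat.gcd_comm]
  rw [← h2, mul_comm (Nat.card (powMonoidHom 2 : Fˣ →* Fˣ).ker)] at h1
  exact (Nat.eq_of_mul_eq_mul_left Nat.card_pos h1).trans h3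

end Cfsg.Lib.Known.AutPSL2
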