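import Mathlib

/-!
A nontrivial reduced word is not a law in `SL 2 F` for `F` large: ping-pong by degrees in `F[t]`.
-/

namespace Cfsg.Lib.Known

open Polynomial

section Words

variable (R : Type*) [CommRing R]

/-- `!![1, x; 0, 1]`. -/
def uMat (x : R) : Matrix.SpecialLinearGroup (Fin 2) R := ⟨!![1, x; 0, 1], by simp [Matrix.det_fin_two]⟩

/-- `!![0, -1; 1, 0]`. -/
def wMat : Matrix.SpecialLinearGroup (Fin 2) R := ⟨!![0, -1; 1, 0], by simp [Matrix.det_fin_two]⟩

/-- The generator attached to `i` at the parameter `t`. -/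
def genMat (t : R) (i : ℕ) : Matrix.SpecialLinearGroup (Fin 2) R :=
  uMat R (t ^ (2 * i + 2)) * wMat R * uMat R t * wMat R * uMat R (t ^ (2 * i + 3))

/-- The letters of the word, as matrices. -/
def letterMat (t : R) (x : ℕ × Bool) : Matrix.SpecialLinearGroup (Fin 2) R :=
  cond x.2 (genMat R t x.1) (genMat R t x.1)⁻¹

variable {R}

theorem coe_uMat (x : R) : (uMat R x : Matrix (Fin 2) (Fin 2) R) = !![1, x; 0, 1] := rfl

theorem coe_wMat : (wMat R : Matrix (Fin 2) (Fin 2) R) = !![0, -1; 1, 0] := rfl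

theorem coe_slMap {S : Type*} [CommRing S] (f : R →+* S) (g : Matrix.SpecialLinearGroup (Fin 2) R) :
    (Matrix.SpecialLinearGroup.map f g : Matrix (Fin 2) (Fin 2) S) = (g : Matrix (Fin 2) (Fin 2) R).map f := rfl

theorem map_uMat {S : Type*} [CommRing S] (f : R →+* S) (x : R) :
    Matrix.SpecialLinearGroup.map f (uMat R x) = uMat S (f x) := by
  ext i j; fin_cases i <;> fin_cases j <;> simp [coe_uMat]

theorem map_wMat {S : Type*} [CommRing S] (f : R →+* S) :
    Matrix.SpecialLinearGroup.map f (wMat R) = wMat S := by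
  ext i j; fin_cases i <;> fin_cases j <;> simp [coe_wMat]

theorem map_letterMat {S : Type*} [CommRing S] (f : R →+* S) (t : R) (x : ℕ × Bool) :
    Matrix.SpecialLinearGroup.map f (letterMat R t x) = letterMat S (f t) x := by
  obtain ⟨i, b⟩ := x
  cases b <;> simp [letterMat, genMat, map_uMat, map_wMat, map_mul, map_inv, map_pow]

/-- first parameter of a letter -/
def startP (t : R) (x : ℕ × Bool) : R := cond x.2 (t ^ (2 * x.1 + 2)) (-t ^ (2 * x.1 + 3))

/-- middle parameter of a letter -/
def midP (t : R) (x : ℕ × Bool) : R := cond x.2 t (-t)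

/-- last parameter of a letter -/
def endP (t : R) (x : ℕ × Bool) : R := cond x.2 (t ^ (2 * x.1 + 3)) (-t ^ (2 * x.1 + 2))

theorem uMat_inv (x : R) : (uMat R x)⁻¹ = uMat R (-x) := by
  refine inv_eq_of_mul_eq_one_right ?_
  ext i j; fin_cases i <;> fin_cases j <;> simp [coe_uMat, Matrix.mul_apply]

theorem letterMat_eq (t : R) (x : ℕ × Bool) :
    letterMat R t x = uMat R (startP t x) * wMat R * uMat R (midP t x) * wMat R * uMat R (endP t x) := by
  obtain ⟨i, b⟩ := x
  cases b
  · have hw : ∀ a : R, (wMat R)⁻¹ * uMat R a * (wMat R)⁻¹ = wMat R * uMat R a * wMat R := by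
      intro a
      rw [eq_comm, mul_assoc _ (uMat R a) (wMat R)⁻¹, eq_inv_mul_iff_mul_eq, eq_mul_inv_iff_mul_eq]
      ext i j; fin_cases i <;> fin_cases j <;> simp [coe_uMat, coe_wMat, Matrix.mul_apply]
    have hw' : ∀ z, (wMat R)⁻¹ * (uMat R (-t) * ((wMat R)⁻¹ * z)) = wMat R * (uMat R (-t) * (wMat R * z)) :=
      fun z => by simpa [mul_assoc] using congrArg (· * z) (hw (-t))
    simp only [letterMat, genMat, cond_false, startP, midP, endP, mul_inv_rev, uMat_inv, mul_assoc, hw']
  · rfl

end Words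

section Degree

variable {F : Type*} [Field F]

/-- `(a, b)` has degree profile: `a` strictly below `b`, and `b` of degree at most `B`. -/
def GoodVec (B : ℕ) (v : Fin 2 → F[X]) : Prop := (v 0).degree < (v 1).degree ∧ (v 1).natDegree ≤ B

theorem GoodVec.step {B D : ℕ} {v : Fin 2 → F[X]} (hv : GoodVec B v) (f : F[X]) (h1 : 0 < f.natDegree)
    (hD : f.natDegree ≤ D) :
    GoodVec (B + D) (((wMat F[X] * uMat F[X] f : Matrix.SpecialLinearGroup (Fin 2) F[X]) : Matrix (Fin 2) (Fin 2) F[X]).mulVec v) := by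
  obtain ⟨hlt, hB⟩ := hv
  have hy0 : v 1 ≠ 0 := fun h => by simp [h] at hlt
  have hf0 : f ≠ 0 := fun h => by simp [h] at h1
  have hd : (v 1).degree < (f * v 1).degree := by
    rw [degree_mul, degree_eq_natDegree hy0, degree_eq_natDegree hf0]
    exact_mod_cast Nat.lt_add_of_pos_left h1
  have e : (v 0 + f * v 1).degree = (f * v 1).degree := degree_add_eq_right_of_degree_lt (hlt.trans hd)
  have h0 : ((wMat F[X] * uMat F[X] f : Matrix.SpecialLinearGroup (Fin 2) F[X]) : Matrix (Fin 2) (Fin 2) F[X]).mulVec v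
      = ![-(v 1), v 0 + f * v 1] := by
    funext i; fin_cases i <;> simp [coe_wMat, coe_uMat, Matrix.mul_apply, Matrix.mulVec, dotProduct]
  rw [h0]
  refine ⟨?_, ?_⟩
  · simp only [Matrix.cons_val_zero, Matrix.cons_val_one, degree_neg, e]; exact hd
  · have h2 := natDegree_eq_of_degree_eq e
    simp only [Matrix.cons_val_one, Matrix.cons_val_fin_one, h2, natDegree_mul hf0 hy0]
    omega

theorem natDegree_params (x : ℕ × Bool) :
    (midP (X : F[X]) x).natDegree = 1 := by
  obtain ⟨i, b⟩ := x; cases b <;> simp [midP]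

theorem junction (x y : ℕ × Bool) (hxy : x.1 = y.1 → x.2 = y.2) :
    0 < (endP (X : F[X]) x + startP X y).natDegree ∧
      (endP (X : F[X]) x + startP X y).natDegree ≤ 2 * max x.1 y.1 + 3 := by
  obtain ⟨i, bi⟩ := x
  obtain ⟨j, bj⟩ := y
  have key : ∀ (ε δ : F) (a b : ℕ), ε ≠ 0 → δ ≠ 0 → a ≠ b → 0 < a → 0 < b →
      0 < (C ε * X ^ a + C δ * X ^ b).natDegree ∧ (C ε * X ^ a + C δ * X ^ b).natDegree ≤ max a b := by
    intro ε δ a b hε hδ hab ha hb
    rcases Nat.lt_or_gt_of_ne hab with h | h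
    · rw [natDegree_add_eq_right_of_natDegree_lt (by simp [hε, hδ, h])]
      rw [natDegree_C_mul_X_pow _ _ hδ]; omega
    · rw [natDegree_add_eq_left_of_natDegree_lt (by simp [hε, hδ, h])]
      rw [natDegree_C_mul_X_pow _ _ hε]; omega
  rcases bi <;> rcases bj <;> simp only [endP, startP, cond_true, cond_false] at *
  · have h := key (-1) (-1) (2 * i + 2) (2 * j + 3) (by simp) (by simp) (by omega) (by omega) (by omega)
    simp only [map_neg, map_one, neg_mul, one_mul] at h
    exact ⟨h.1, h.2.trans (by omega)⟩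
  · have hij : i ≠ j := fun h => by simpa using hxy h
    have h := key (-1) 1 (2 * i + 2) (2 * j + 2) (by simp) (by simp) (by omega) (by omega) (by omega)
    simp only [map_neg, map_one, neg_mul, one_mul] at h
    exact ⟨h.1, h.2.trans (by omega)⟩
  · have hij : i ≠ j := fun h => by simpa using hxy h
    have h := key 1 (-1) (2 * i + 3) (2 * j + 3) (by simp) (by simp) (by omega) (by omega) (by omega)
    simp only [map_neg, map_one, neg_mul, one_mul] at h
    exact ⟨h.1, h.2.trans (by omega)⟩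
  · have h := key 1 1 (2 * i + 3) (2 * j + 2) (by simp) (by simp) (by omega) (by omega) (by omega)
    simp only [map_one, one_mul] at h
    exact ⟨h.1, h.2.trans (by omega)⟩

/-- The degree bound for a list of letters. -/
def wordBound : List (ℕ × Bool) → ℕ
  | [] => 0
  | x :: L => wordBound L + (2 * x.1 + 4)

theorem goodVec_word (D : ℕ) : ∀ (x : ℕ × Bool) (L : List (ℕ × Bool)), FreeGroup.IsReduced (x :: L) →
    (∀ y ∈ x :: L, 2 * y.1 + 3 ≤ D) →
    ∃ v, GoodVec ((L.length + 1) * (D + 1)) v ∧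
      ((((x :: L).map (letterMat F[X] X)).prod : Matrix.SpecialLinearGroup (Fin 2) F[X]) : Matrix (Fin 2) (Fin 2) F[X]).mulVec ![1, 0]
        = ((uMat F[X] (startP X x) : Matrix.SpecialLinearGroup (Fin 2) F[X]) : Matrix (Fin 2) (Fin 2) F[X]).mulVec v := by
  intro x L
  induction L generalizing x with
  | nil =>
    intro _ hD
    have h0 : GoodVec (F := F) 0 ![0, 1] := by simp [GoodVec]
    have h1 := h0.step (D := D + 1) (midP X x) (by simp [natDegree_params]) (by simp [natDegree_params])
    have hv : ((wMat F[X] * uMat F[X] (endP X x) : Matrix.SpecialLinearGroup (Fin 2) F[X]) :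
        Matrix (Fin 2) (Fin 2) F[X]).mulVec ![1, 0] = ![0, 1] := by
      funext i; fin_cases i <;> simp [coe_wMat, coe_uMat, Matrix.mul_apply, Matrix.mulVec, dotProduct]
    refine ⟨_, ⟨h1.1, h1.2.trans (by simp)⟩, ?_⟩
    rw [← hv, List.map_cons, List.map_nil, List.prod_cons, List.prod_nil, mul_one, letterMat_eq]
    simp only [Matrix.mulVec_mulVec, ← Matrix.SpecialLinearGroup.coe_mul, mul_assoc]
  | cons y L ih =>
    intro hred hD
    rw [FreeGroup.IsReduced, List.isChain_cons_cons] at hred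
    obtain ⟨v, hv, hprod⟩ := ih y hred.2 (fun z hz => hD z (List.mem_cons_of_mem _ hz))
    have hj := junction (F := F) x y hred.1
    have hx := hD x List.mem_cons_self
    have hy := hD y (List.mem_cons_of_mem _ List.mem_cons_self)
    have h1 := (hv.step (D := D) (endP X x + startP X y) hj.1 (hj.2.trans (by omega))).step (D := 1) (midP X x)
      (by simp [natDegree_params]) (by simp [natDegree_params])
    refine ⟨_, ⟨h1.1, h1.2.trans (by simp [Nat.succ_mul])⟩, ?_⟩
    have hu : uMat F[X] (endP X x + startP X y) = uMat F[X] (endP X x) * uMat F[X] (startP X y) := by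
      ext i j; fin_cases i <;> fin_cases j <;> simp [coe_uMat, Matrix.mul_apply, add_comm]
    rw [List.map_cons, List.prod_cons, Matrix.SpecialLinearGroup.coe_mul, ← Matrix.mulVec_mulVec, hprod,
      letterMat_eq, hu]
    simp only [Matrix.mulVec_mulVec, ← Matrix.SpecialLinearGroup.coe_mul, mul_assoc]

/-- The main statement: a nontrivial word takes a nonscalar value in `SL 2 F` once `F` is large. -/
theorem exists_word_value_ne (w : FreeGroup ℕ) (hw : w ≠ 1) :
    ∃ N : ℕ, ∀ (F : Type*) [Field F] [Fintype F], N ≤ Fintype.card F →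
      ∃ f : ℕ → Matrix.SpecialLinearGroup (Fin 2) F,
        FreeGroup.lift f w ∉ Subgroup.center (Matrix.SpecialLinearGroup (Fin 2) F) := by
  obtain ⟨x, L, hL⟩ : ∃ x L, w.toWord = x :: L :=
    List.exists_cons_of_ne_nil fun h => hw (FreeGroup.toWord_eq_nil_iff.1 h)
  obtain ⟨D, hD⟩ : ∃ D, ∀ y ∈ x :: L, 2 * y.1 + 3 ≤ D :=
    ⟨((x :: L).map fun y => 2 * y.1 + 3).sum, fun y hy => List.le_sum_of_mem (List.mem_map_of_mem hy)⟩
  refine ⟨(L.length + 1) * (D + 1) + 1, fun F _ _ hF => ?_⟩
  classical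
  obtain ⟨v, hv, hprod⟩ := goodVec_word (F := F) D x L (hL ▸ FreeGroup.isReduced_toWord) hD
  have hy0 : v 1 ≠ 0 := fun h => by simp [GoodVec, h] at hv
  obtain ⟨t, ht⟩ : ∃ t : F, (v 1).eval t ≠ 0 := by
    by_contra hall
    push Not at hall
    exact hy0 (eq_zero_of_natDegree_lt_card_of_eval_eq_zero _ Function.injective_id hall
      (lt_of_le_of_lt hv.2 (by omega)))
  refine ⟨genMat F t, fun hmem => ht ?_⟩
  set P := ((x :: L).map (letterMat F[X] X)).prod with hP
  have hval : FreeGroup.lift (genMat F t) w = Matrix.SpecialLinearGroup.map (evalRingHom t) P := by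
    rw [← FreeGroup.mk_toWord (x := w), hL, FreeGroup.lift_mk, hP, map_list_prod, List.map_map]
    congr 1
    refine List.map_congr_left fun z _ => ?_
    simp only [Function.comp_apply, map_letterMat, coe_evalRingHom, eval_X]
    rfl
  obtain ⟨c, -, hc⟩ := Matrix.SpecialLinearGroup.mem_center_iff.1 hmem
  have h10 := congrArg (fun A : Matrix (Fin 2) (Fin 2) F => A 1 0) hc
  rw [hval] at h10
  have hP10 : (P : Matrix (Fin 2) (Fin 2) F[X]) 1 0 = v 1 := by
    have := congrFun hprod 1
    simp [Matrix.mulVec, dotProduct, coe_uMat] at this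
    simpa using this
  simp [hP10] at h10
  exact h10.symm

end Degree

/-- `Perm α` embeds in `alternatingGroup (Fin n)` when `card α + 2 ≤ n`. -/
theorem exists_hom_alternating (α : Type*) [Fintype α] [DecidableEq α] (n : ℕ) (h : Fintype.card α + 2 ≤ n) :
    ∃ f : Equiv.Perm α →* alternatingGroup (Fin n), Function.Injective f := by
  classical
  let s : Equiv.Perm α →* Equiv.Perm (Fin 2) :=
    { toFun := fun σ => if Equiv.Perm.sign σ = 1 then 1 else Equiv.swap 0 1
      map_one' := by simp
      map_mul' := fun a b => by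
        rcases Int.units_eq_one_or (Equiv.Perm.sign a) with ha | ha <;>
          rcases Int.units_eq_one_or (Equiv.Perm.sign b) with hb | hb <;> simp [ha, hb] }
  let g : Equiv.Perm α →* Equiv.Perm (α ⊕ Fin 2) :=
    (Equiv.Perm.sumCongrHom α (Fin 2)).comp ((MonoidHom.id _).prod s)
  have hg : Function.Injective g := fun a b hab =>
    congrArg Prod.fst (Equiv.Perm.sumCongrHom_injective hab)
  have hsgn : ∀ σ, Equiv.Perm.sign (g σ) = 1 := by
    intro σ
    simp only [g, MonoidHom.comp_apply, MonoidHom.prod_apply, MonoidHom.id_apply,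
      Equiv.Perm.sumCongrHom_apply, Equiv.Perm.sign_sumCongr]
    rcases Int.units_eq_one_or (Equiv.Perm.sign σ) with hs | hs <;> simp [s, hs]
  obtain ⟨e⟩ : Nonempty ((α ⊕ Fin 2) ↪ Fin n) := Function.Embedding.nonempty_of_card_le (by simpa using h)
  let φ := (Equiv.Perm.viaEmbeddingHom e).comp g
  have hφ : ∀ σ, φ σ ∈ alternatingGroup (Fin n) := by
    intro σ
    rw [Equiv.Perm.mem_alternatingGroup]
    simp only [φ, MonoidHom.comp_apply, Equiv.Perm.viaEmbeddingHom_apply, Equiv.Perm.viaEmbedding]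
    convert hsgn σ using 1
    convert Equiv.Perm.sign_extendDomain (g σ) (Equiv.ofInjective e.1 e.2)
  exact ⟨φ.codRestrict _ hφ, fun a b hab =>
    hg (Equiv.Perm.viaEmbeddingHom_injective e (congrArg Subtype.val hab))⟩

end Cfsg.Lib.Known
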