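import Cfsg.Prelude.Def_Classical
import Cfsg.Agent.Known.FreeWords
import Cfsg.Agent.Classical.SL

/-!
A law holding in a classical group bounds the rank and the field.
-/

namespace Cfsg.Lib.Known

open Matrix
open scoped commutatorElement

theorem sl2_commutator_eq_top (F : Type*) [Field F] [Fintype F] (h : 4 ≤ Fintype.card F) :
    commutator (SpecialLinearGroup (Fin 2) F) = ⊤ := by
  classical
  obtain ⟨a, -, ha⟩ := Finset.exists_mem_notMem_of_card_lt_card (s := ({0, 1, -1} : Finset F))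
    (t := Finset.univ) (lt_of_le_of_lt Finset.card_le_three (by rw [Finset.card_univ]; omega))
  simp only [Finset.mem_insert, Finset.mem_singleton, not_or] at ha
  obtain ⟨ha0, ha1, ha2⟩ := ha
  have hsq : a ^ 2 - 1 ≠ 0 := fun h => by
    rcases (sq_eq_one_iff.1 (sub_eq_zero.1 h)) with e | e
    · exact ha1 e
    · exact ha2 e
  refine Cfsg.Lib.Classical.eq_top_of_transvection_mem _ fun i j hij c => ?_
  let d : SpecialLinearGroup (Fin 2) F := ⟨diagonal (fun k => if k = i then a else a⁻¹), by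
    rw [det_diagonal, Fin.prod_univ_two]
    fin_cases i <;> simp [ha0]⟩
  have key : ⁅d, SpecialLinearGroup.transvection hij (c / (a ^ 2 - 1))⁆ = SpecialLinearGroup.transvection hij c := by
    rw [commutatorElement_def, mul_inv_eq_iff_eq_mul, mul_inv_eq_iff_eq_mul]
    apply Subtype.ext
    change d.1 * (SpecialLinearGroup.transvection hij _).1 =
      (SpecialLinearGroup.transvection hij c).1 * (SpecialLinearGroup.transvection hij _).1 * d.1
    ext r s
    fin_cases i <;> fin_cases j <;> fin_cases r <;> fin_cases s <;>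
      simp [d, SpecialLinearGroup.coe_mul, SpecialLinearGroup.transvection_coe, Matrix.mul_apply, Fin.sum_univ_two, Matrix.single, Matrix.one_apply] at hij ⊢ <;>
      field_simp <;> ring
  rw [← key]
  exact Subgroup.commutator_mem_commutator (Subgroup.mem_top _) (Subgroup.mem_top _)

/-- The permutation matrices. -/
noncomputable def permGL (ι F : Type*) [Fintype ι] [DecidableEq ι] [Field F] : Equiv.Perm ι →* GL ι F :=
  MonoidHom.toHomUnits
    { toFun := fun σ => (σ⁻¹).permMatrix F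
      map_one' := by simp
      map_mul' := fun a b => by rw [_root_.mul_inv_rev, Matrix.permMatrix_mul] }

theorem permGL_injective (ι F : Type*) [Fintype ι] [DecidableEq ι] [Field F] :
    Function.Injective (permGL ι F) := by
  intro a b h
  have h1 : (a⁻¹).permMatrix F = (b⁻¹).permMatrix F := congrArg Units.val h
  refine inv_injective (Equiv.ext fun i => ?_)
  have h2 := congrFun (congrFun h1 i) (a⁻¹ i)
  by_contra hne
  simp [Equiv.Perm.permMatrix, PEquiv.toMatrix_apply, Equiv.toPEquiv, Ne.symm hne] at h2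
  exact hne h2.symm

/-- `A ↦ diag (A, 1)`. -/
noncomputable def blockGL (ι κ F : Type*) [Fintype ι] [DecidableEq ι] [Fintype κ] [DecidableEq κ] [Field F] :
    GL ι F →* GL (ι ⊕ κ) F :=
  MonoidHom.toHomUnits
    { toFun := fun A => fromBlocks (A : Matrix ι ι F) 0 0 1
      map_one' := by simp [fromBlocks_one]
      map_mul' := fun A B => by simp [fromBlocks_multiply] }

theorem blockGL_injective (ι κ F : Type*) [Fintype ι] [DecidableEq ι] [Fintype κ] [DecidableEq κ] [Field F] :
    Function.Injective (blockGL ι κ F) := fun A B h => Units.ext (by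
  have h1 : fromBlocks (A : Matrix ι ι F) 0 0 (1 : Matrix κ κ F) = fromBlocks (B : Matrix ι ι F) 0 0 1 :=
    congrArg Units.val h
  exact (fromBlocks_inj.1 h1).1)

/-- Reindexing. -/
noncomputable def reindexGL {ι κ : Type*} (F : Type*) [Fintype ι] [DecidableEq ι] [Fintype κ] [DecidableEq κ]
    [Field F] (e : ι ≃ κ) : GL ι F ≃* GL κ F :=
  Units.mapEquiv (Matrix.reindexAlgEquiv F F e).toMulEquiv

/-- A big copy of `SL 2` in `GL (Fin m) F` when the field or the rank is large. -/
theorem exists_sl2_hom (N : ℕ) : ∃ M : ℕ, ∀ (F : Type) [Field F] [Fintype F] (m : ℕ), 2 ≤ m →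
    (max N 4 ≤ Fintype.card F ∨ M ≤ m) →
      ∃ (K : Type) (_ : Field K) (_ : Fintype K), max N 4 ≤ Fintype.card K ∧
        ∃ φ : SpecialLinearGroup (Fin 2) K →* GL (Fin m) F, Function.Injective φ := by
  classical
  obtain ⟨p, hp, hpp⟩ := Nat.exists_infinite_primes (max N 4)
  have := Fact.mk hpp
  refine ⟨Fintype.card (SpecialLinearGroup (Fin 2) (ZMod p)), fun F _ _ m hm h => ?_⟩
  rcases h with h | h
  · obtain ⟨k, rfl⟩ := Nat.exists_eq_add_of_le hm
    refine ⟨F, ‹_›, ‹_›, h, ((reindexGL F finSumFinEquiv).toMonoidHom.comp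
      ((blockGL (Fin 2) (Fin k) F).comp SpecialLinearGroup.toGL)), ?_⟩
    exact (reindexGL F finSumFinEquiv).injective.comp ((blockGL_injective _ _ _).comp Cfsg.Lib.Classical.toGL_injective')
  · refine ⟨ZMod p, inferInstance, inferInstance, by rw [ZMod.card]; exact hp, ?_⟩
    obtain ⟨e⟩ : Nonempty (SpecialLinearGroup (Fin 2) (ZMod p) ↪ Fin m) :=
      Function.Embedding.nonempty_of_card_le (by rwa [Fintype.card_fin])
    refine ⟨(permGL (Fin m) F).comp ((Equiv.Perm.viaEmbeddingHom e).comp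
      (MulAction.toPermHom (SpecialLinearGroup (Fin 2) (ZMod p)) (SpecialLinearGroup (Fin 2) (ZMod p)))), ?_⟩
    exact (permGL_injective _ _).comp ((Equiv.Perm.viaEmbeddingHom_injective e).comp MulAction.toPerm_injective)

/-- A perfect domain lands in the kernel of the determinant. -/
theorem det_eq_one_of_perfect {K : Type*} [Group K] (hK : commutator K = ⊤) {ι F : Type*} [Fintype ι]
    [DecidableEq ι] [Field F] (φ : K →* GL ι F) (g : K) : Matrix.det (φ g : Matrix ι ι F) = 1 := by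
  have h1 : commutator K ≤ (GeneralLinearGroup.det.comp φ).ker := Abelianization.commutator_subset_ker _
  rw [hK] at h1
  exact congrArg Units.val (MonoidHom.mem_ker.1 (h1 (Subgroup.mem_top g)))

/-- An injective hom into `GL` from a perfect group gives one into `SL`. -/
theorem exists_hom_sl {K : Type*} [Group K] (hK : commutator K = ⊤) {ι F : Type*} [Fintype ι]
    [DecidableEq ι] [Field F] (φ : K →* GL ι F) (hφ : Function.Injective φ) :
    ∃ ψ : K →* SpecialLinearGroup ι F, Function.Injective ψ ∧ ∀ g, (ψ g : Matrix ι ι F) = (φ g : Matrix ι ι F) :=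
  ⟨{ toFun := fun g => ⟨(φ g : Matrix ι ι F), det_eq_one_of_perfect hK φ g⟩
     map_one' := Subtype.ext (by simp)
     map_mul' := fun a b => Subtype.ext (show ((φ (a * b) : GL ι F) : Matrix ι ι F) =
       (φ a : Matrix ι ι F) * (φ b : Matrix ι ι F) by rw [map_mul, Units.val_mul]) },
    fun a b h => hφ (Units.ext (congrArg Subtype.val h :)), fun g => rfl⟩

/-- `A ↦ diag (A, A^{-T})`. -/
noncomputable def doubleGL (ι F : Type*) [Fintype ι] [DecidableEq ι] [Field F] : GL ι F →* GL (ι ⊕ ι) F :=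
  MonoidHom.toHomUnits
    { toFun := fun A => fromBlocks (A : Matrix ι ι F) 0 0 ((A⁻¹ : GL ι F) : Matrix ι ι F)ᵀ
      map_one' := by simp [fromBlocks_one]
      map_mul' := fun A B => by simp [fromBlocks_multiply, _root_.mul_inv_rev, Matrix.transpose_mul] }

theorem doubleGL_injective (ι F : Type*) [Fintype ι] [DecidableEq ι] [Field F] :
    Function.Injective (doubleGL ι F) := fun A B h => Units.ext (by
  have h1 : fromBlocks (A : Matrix ι ι F) 0 0 ((A⁻¹ : GL ι F) : Matrix ι ι F)ᵀ =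
      fromBlocks (B : Matrix ι ι F) 0 0 ((B⁻¹ : GL ι F) : Matrix ι ι F)ᵀ := congrArg Units.val h
  exact (fromBlocks_inj.1 h1).1)

theorem exists_hom_symplectic {K : Type*} [Group K] {m : ℕ} {F : Type} [Field F] (φ : K →* GL (Fin m) F)
    (hφ : Function.Injective φ) : ∃ ψ : K →* symplecticGroup (Fin m) F, Function.Injective ψ := by
  have hmem : ∀ A : GL (Fin m) F, ((doubleGL (Fin m) F A : GL _ F) : Matrix _ _ F) ∈ symplecticGroup (Fin m) F := by
    intro A
    change fromBlocks (A : Matrix (Fin m) (Fin m) F) 0 0 ((A⁻¹ : GL _ F) : Matrix (Fin m) (Fin m) F)ᵀ ∈ _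
    rw [SymplecticGroup.mem_iff, Matrix.J, fromBlocks_transpose, fromBlocks_multiply, fromBlocks_multiply]
    simp only [Matrix.mul_zero, Matrix.zero_mul, add_zero, zero_add, Matrix.transpose_transpose, Matrix.transpose_zero,
      mul_neg, neg_mul, mul_one, one_mul, neg_zero]
    simp [← Matrix.transpose_mul, ← Units.val_mul]
  exact ⟨((((Units.coeHom (Matrix (Fin m ⊕ Fin m) (Fin m ⊕ Fin m) F)).comp
      ((doubleGL (Fin m) F).comp φ)).codRestrict (symplecticGroup (Fin m) F) fun g => hmem (φ g))),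
    fun a b h => hφ (doubleGL_injective _ _ (Units.ext (congrArg Subtype.val h :)))⟩

theorem doubleGL_preserves {m : ℕ} {F : Type*} [Field F] (A : GL (Fin m) F) (v : Fin m ⊕ Fin m → F) :
    Cfsg.quadFormPlus m F (((doubleGL (Fin m) F A : GL _ F) : Matrix _ _ F) *ᵥ v) = Cfsg.quadFormPlus m F v := by
  change Cfsg.quadFormPlus m F (fromBlocks (A : Matrix (Fin m) (Fin m) F) 0 0
    ((A⁻¹ : GL _ F) : Matrix (Fin m) (Fin m) F)ᵀ *ᵥ v) = _
  simp only [Cfsg.quadFormPlus, fromBlocks_mulVec, zero_mulVec, add_zero, zero_add, Sum.elim_inl, Sum.elim_inr]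
  change ((A : Matrix (Fin m) (Fin m) F) *ᵥ (v ∘ Sum.inl)) ⬝ᵥ
    (((A⁻¹ : GL _ F) : Matrix (Fin m) (Fin m) F)ᵀ *ᵥ (v ∘ Sum.inr)) = (v ∘ Sum.inl) ⬝ᵥ (v ∘ Sum.inr)
  rw [dotProduct_mulVec, vecMul_transpose, mulVec_mulVec, ← Units.val_mul, inv_mul_cancel, Units.val_one, one_mulVec]

/-- A hom into `GL` preserving a function of vectors gives one into `Ω`. -/
theorem exists_hom_omega {K : Type*} [Group K] (hK : commutator K = ⊤) {ι : Type} [Fintype ι] [DecidableEq ι]
    {F : Type*} [Field F] (Q : (ι → F) → F) (φ : K →* GL ι F) (hφ : Function.Injective φ)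
    (hQ : ∀ g v, Q ((φ g : Matrix ι ι F) *ᵥ v) = Q v) :
    ∃ ψ : K →* Cfsg.Omega F Q, Function.Injective ψ := by
  let χ : K →* Cfsg.isometryGroup F Q := φ.codRestrict _ fun g u v => hQ g u
  have hmem : ∀ g, χ g ∈ Cfsg.Omega F Q := fun g => by
    have h1 : (commutator K).map χ ≤ commutator (Cfsg.isometryGroup F Q) := by
      rw [commutator_def, commutator_def, Subgroup.map_commutator]
      exact Subgroup.commutator_mono le_top le_top
    exact h1 ⟨g, by rw [hK]; exact Subgroup.mem_top g, rfl⟩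
  exact ⟨χ.codRestrict _ hmem, fun a b h => hφ (congrArg (fun x : Cfsg.Omega F Q => ((x : Cfsg.isometryGroup F Q) : GL ι F)) h)⟩

theorem exists_hom_omega_sum {K : Type*} [Group K] (hK : commutator K = ⊤) {m : ℕ} {κ : Type} [Fintype κ]
    [DecidableEq κ] {F : Type} [Field F] (φ : K →* GL (Fin m) F) (hφ : Function.Injective φ) (R : (κ → F) → F)
    (Q : ((Fin m ⊕ Fin m) ⊕ κ → F) → F)
    (hQ : ∀ v, Q v = Cfsg.quadFormPlus m F (v ∘ Sum.inl) + R (v ∘ Sum.inr)) :
    ∃ ψ : K →* Cfsg.Omega F Q, Function.Injective ψ := by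
  refine exists_hom_omega hK Q ((blockGL (Fin m ⊕ Fin m) κ F).comp ((doubleGL (Fin m) F).comp φ))
    ((blockGL_injective _ _ _).comp ((doubleGL_injective _ _).comp hφ)) fun g v => ?_
  change Q (fromBlocks (((doubleGL (Fin m) F (φ g)) : GL _ F) : Matrix _ _ F) 0 0 1 *ᵥ v) = Q v
  rw [hQ, hQ, fromBlocks_mulVec]
  simp only [zero_mulVec, add_zero, zero_add, one_mulVec, Sum.elim_comp_inl, Sum.elim_comp_inr, doubleGL_preserves]

/-! ### Unitary groups -/

theorem exists_unitary_basis {F : Type*} [Field F] [Fintype F] (q : ℕ) (hq : Fintype.card F = q ^ 2) :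
    ∃ T : GL (Fin 2) F, ∃ s : F, s ≠ 0 ∧
      (T : Matrix (Fin 2) (Fin 2) F)ᵀ * (T : Matrix (Fin 2) (Fin 2) F).map (· ^ q) = s • !![0, -1; 1, 0] := by
  classical
  have h2 : 2 ≤ q := by
    by_contra! h
    have := Fintype.one_lt_card (α := F)
    interval_cases q <;> simp [hq] at this
  obtain ⟨u, hu⟩ := IsCyclic.exists_generator (α := Fˣ)
  have hord : orderOf u = q ^ 2 - 1 := by
    rw [orderOf_eq_card_of_forall_mem_zpowers hu, Nat.card_units, Nat.card_eq_fintype_card, hq]
  obtain ⟨k, rfl⟩ : ∃ k, q = k + 1 := ⟨q - 1, by omega⟩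
  have hmul : (k + 1) ^ 2 - 1 = k * (k + 2) := by
    rw [Nat.sub_eq_iff_eq_add (Nat.one_le_pow _ _ (by omega))]; ring
  rw [hmul] at hord
  -- `-1` is a `(q+1)`-st and a `(q-1)`-st power
  have hneg : ∀ d, d ∣ k * (k + 2) → ((-1 : Fˣ) ^ (k * (k + 2) / d) = 1) → ∃ x : Fˣ, x ^ d = -1 := by
    intro d hd h1
    obtain ⟨i, hi⟩ := Subgroup.mem_zpowers_iff.1 (hu (-1))
    rw [← hi, ← zpow_natCast, ← _root_.zpow_mul, ← orderOf_dvd_iff_zpow_eq_one, hord] at h1
    obtain ⟨c, hc⟩ := hd
    have hdpos : 0 < d := Nat.pos_of_ne_zero fun e => by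
      rw [e, zero_mul] at hc
      have : 0 < k * (k + 2) := Nat.mul_pos (by omega) (by omega)
      omega
    rw [hc, Nat.mul_div_cancel_left c hdpos] at h1
    push_cast at h1
    have hc0 : (c : ℤ) ≠ 0 := by
      intro e
      have : c = 0 := by exact_mod_cast e
      rw [this, mul_zero] at hc
      rcases Nat.mul_eq_zero.1 hc with h | h <;> omega
    obtain ⟨w, hw⟩ := Int.dvd_of_mul_dvd_mul_right hc0 h1
    exact ⟨u ^ w, by rw [← zpow_natCast, ← _root_.zpow_mul, mul_comm, ← hw, hi]⟩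
  have hpar : ∀ c, c = k ∨ c = k + 2 → (-1 : Fˣ) ^ c = 1 := by
    intro c hc
    rcases Nat.even_or_odd k with hk | hk
    · refine Even.neg_one_pow ?_
      rcases hc with rfl | rfl
      · exact hk
      · exact hk.add (by decide)
    · have hcard : Even (Fintype.card F) := by
        rw [hq]
        exact ((Odd.add_odd hk odd_one).pow_of_ne_zero two_ne_zero)
      have h2 : (2 : F) = 0 := by
        have h2 := FiniteField.even_card_iff_char_two.2 (Nat.even_iff.1 hcard)
        have h3 : ((ringChar F : ℕ) : F) = 0 := CharP.cast_eq_zero F _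
        rw [h2] at h3
        exact_mod_cast h3
      have : (-1 : Fˣ) = 1 := Units.ext (by
        rw [Units.val_neg, Units.val_one, neg_eq_iff_add_eq_zero, one_add_one_eq_two, h2])
      rw [this, one_pow]
  have hkpos : 0 < k := by omega
  obtain ⟨α, hα⟩ := hneg (k + 2) (dvd_mul_left _ _) (by
    rw [Nat.mul_div_cancel _ (by omega)]; exact hpar k (Or.inl rfl))
  obtain ⟨δ, hδ⟩ := hneg k (dvd_mul_right _ _) (by
    rw [Nat.mul_div_cancel_left _ hkpos]; exact hpar (k + 2) (Or.inr rfl))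
  -- a second root
  set ζ := u ^ k with hζ
  have hζ1 : ζ ≠ 1 := fun h => by
    have h1 := Nat.le_of_dvd hkpos (hord ▸ orderOf_dvd_of_pow_eq_one h)
    nlinarith
  have hζp : ζ ^ (k + 2) = 1 := by rw [hζ, ← pow_mul, ← hord, pow_orderOf_eq_one]
  set β := α * ζ with hβ
  have hβp : β ^ (k + 2) = -1 := by rw [hβ, mul_pow, hα, hζp, mul_one]
  have hαF : (α : F) ^ (k + 2) = -1 := by rw [← Units.val_pow_eq_pow_val, hα]; rfl
  have hβF : (β : F) ^ (k + 2) = -1 := by rw [← Units.val_pow_eq_pow_val, hβp]; rfl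
  have hδF : (δ : F) ^ (k + 1) = -(δ : F) := by
    rw [pow_succ, ← Units.val_pow_eq_pow_val, hδ]; simp
  obtain ⟨p, hp⟩ := CharP.exists F
  obtain ⟨f, hpp, hf⟩ := FiniteField.card F p
  have := Fact.mk hpp
  obtain ⟨g, -, hg⟩ : ∃ g, g ≤ (f : ℕ) ∧ k + 1 = p ^ g := by
    refine (Nat.dvd_prime_pow hpp).1 ?_
    rw [← hf, hq]; exact dvd_pow_self _ two_ne_zero
  have hadd : ∀ x y : F, (x + y) ^ (k + 1) = x ^ (k + 1) + y ^ (k + 1) := fun x y => by
    rw [hg]; exact add_pow_char_pow x y p g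
  have hαβ : (1 : F) + (α : F) ^ (k + 1) * β ≠ 0 := fun h => by
    have h1 : (α : F) ^ (k + 1) * β = (α : F) ^ (k + 1) * α := by
      rw [← pow_succ, hαF]; linear_combination h
    exact hζ1 (mul_eq_left.1 (Units.ext (mul_left_cancel₀ (pow_ne_zero _ α.ne_zero) h1) : β = α))
  set μ : F := (δ : F) / (1 + (α : F) ^ (k + 1) * β) with hμ
  have hμ0 : μ ≠ 0 := div_ne_zero δ.ne_zero hαβ
  set M : Matrix (Fin 2) (Fin 2) F := !![1, μ; (α : F), μ * β] with hM
  have hne : (β : F) ≠ α := fun h => hζ1 (mul_eq_left.1 (Units.ext h : β = α))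
  have hdet : IsUnit M.det := by
    rw [isUnit_iff_ne_zero, hM, det_fin_two_of]
    intro h
    have : μ * ((β : F) - α) = 0 := by linear_combination h
    rcases mul_eq_zero.1 this with e | e
    · exact hμ0 e
    · exact hne (sub_eq_zero.1 e)
  refine ⟨GeneralLinearGroup.mk'' M hdet, (δ : F), δ.ne_zero, ?_⟩
  have hs : μ * (1 + (β : F) * (α : F) ^ (k + 1)) = δ := by
    rw [hμ, mul_comm (β : F), div_mul_cancel₀ _ hαβ]
  have hs' : μ ^ (k + 1) * (1 + (α : F) * (β : F) ^ (k + 1)) = -δ := by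
    have h1 := congrArg (· ^ (k + 1)) hs
    simp only [mul_pow, hadd, one_pow, hδF] at h1
    have hα2 : ((α : F) ^ (k + 1)) ^ (k + 1) = α := by
      rw [← pow_mul, ← pow_two, ← hq]; exact FiniteField.pow_card _
    rw [hα2] at h1
    linear_combination h1
  change Mᵀ * M.map (· ^ (k + 1)) = _
  have e00 : (1 : F) + (α : F) * (α : F) ^ (k + 1) = 0 := by rw [← pow_succ', hαF]; ring
  have e11 : μ * μ ^ (k + 1) + (μ * β) * (μ * (β : F)) ^ (k + 1) = 0 := by
    have : (1 : F) + (β : F) * (β : F) ^ (k + 1) = 0 := by rw [← pow_succ', hβF]; ring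
    rw [mul_pow]; linear_combination (μ * μ ^ (k + 1)) * this
  ext i j
  fin_cases i <;> fin_cases j <;>
    simp [hM, Matrix.mul_apply, Fin.sum_univ_two, mul_pow]
  · linear_combination e00
  · linear_combination hs'
  · linear_combination hs
  · linear_combination e11

theorem exists_hom_unitary_two {F : Type} [Field F] [Fintype F] (q : ℕ) (hq : Fintype.card F = q ^ 2) :
    ∃ (K : Type) (_ : Field K) (_ : Fintype K), q ≤ Fintype.card K ∧
      ∃ φ : SpecialLinearGroup (Fin 2) K →* GL (Fin 2) F, Function.Injective φ ∧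
        ∀ g, ((φ g : GL (Fin 2) F) : Matrix (Fin 2) (Fin 2) F)ᵀ *
          ((φ g : GL (Fin 2) F) : Matrix (Fin 2) (Fin 2) F).map (· ^ q) = 1 := by
  classical
  obtain ⟨p, hp⟩ := CharP.exists F
  obtain ⟨f, hpp, hf⟩ := FiniteField.card F p
  have := Fact.mk hpp
  obtain ⟨g, -, hg⟩ : ∃ g, g ≤ (f : ℕ) ∧ q = p ^ g := by
    refine (Nat.dvd_prime_pow hpp).1 ?_
    rw [← hf, hq]; exact dvd_pow_self _ two_ne_zero
  obtain ⟨T, s, hs, hT⟩ := exists_unitary_basis q hq
  let σ : F →+* F := iterateFrobenius F p g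
  have hσ : ∀ x, σ x = x ^ q := fun x => by rw [hg]; exact iterateFrobenius_def p g x
  let K : Subfield F := σ.eqLocusField (RingHom.id F)
  refine ⟨K, inferInstance, Fintype.ofFinite _, ?_, ?_⟩
  · have h2 : 2 ≤ q := by
      by_contra! h
      have := Fintype.one_lt_card (α := F)
      interval_cases q <;> simp [hq] at this
    let ν : Fˣ →* Fˣ := powMonoidHom (q + 1)
    have hmem : ∀ x : Fˣ, ((ν x : Fˣ) : F) ∈ K := fun x => by
      change σ _ = _
      rw [RingHom.id_apply, hσ, powMonoidHom_apply, Units.val_pow_eq_pow_val, ← pow_mul,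
        show (q + 1) * q = Fintype.card F + q by rw [hq]; ring, pow_add, FiniteField.pow_card, ← pow_succ']
    have hker : Nat.card ν.ker ≤ q + 1 := by
      rw [show ν.ker = rootsOfUnity (q + 1) F from Subgroup.ext fun x => Iff.rfl]
      exact card_rootsOfUnity F (q + 1)
    have hcard : Nat.card ν.range * Nat.card ν.ker = q ^ 2 - 1 := by
      rw [← Subgroup.index_ker, mul_comm, Subgroup.card_mul_index, Nat.card_units, Nat.card_eq_fintype_card, hq]
    let ι : Option ν.range → K := fun o => o.elim 0 fun x => ⟨((x : Fˣ) : F), by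
      obtain ⟨y, hy⟩ := x.2
      rw [← hy]; exact hmem y⟩
    have hι : Function.Injective ι := by
      intro a b h
      have h1 : ((ι a : K) : F) = (ι b : F) := congrArg Subtype.val h
      rcases a with _ | a <;> rcases b with _ | b
      · rfl
      · exact absurd (h1.symm : ((b.1 : Fˣ) : F) = 0) (Units.ne_zero _)
      · exact absurd (h1 : ((a.1 : Fˣ) : F) = 0) (Units.ne_zero _)
      · exact congrArg some (Subtype.ext (Units.ext h1))
    have h3 := Nat.card_le_card_of_injective ι hι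
    rw [Finite.card_option] at h3
    refine le_of_le_of_eq ?_ (@Nat.card_eq_fintype_card _ (_))
    refine le_trans ?_ h3
    by_contra! hlt
    have h4 : Nat.card ν.range + 2 ≤ q := hlt
    have := Nat.mul_le_mul (Nat.le_sub_of_add_le h4) hker
    rw [hcard] at this
    obtain ⟨e, rfl⟩ : ∃ e, q = e + 2 := ⟨q - 2, by omega⟩
    rw [Nat.add_sub_cancel] at this
    have e2 : (e + 2) ^ 2 - 1 = e * e + 4 * e + 3 := by
      rw [Nat.sub_eq_iff_eq_add (Nat.one_le_pow _ _ (by omega))]; ring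
    rw [e2] at this
    nlinarith
  · let φ : SpecialLinearGroup (Fin 2) K →* GL (Fin 2) F :=
      (MulAut.conj T).toMonoidHom.comp (SpecialLinearGroup.toGL.comp (SpecialLinearGroup.map K.subtype))
    refine ⟨φ, (MulAut.conj T).injective.comp (Cfsg.Lib.Classical.toGL_injective'.comp fun a b h => ?_), fun x => ?_⟩
    · ext i j
      exact congrFun (congrFun (congrArg Subtype.val h) i) j
    · set A : Matrix (Fin 2) (Fin 2) F := (SpecialLinearGroup.map K.subtype x : Matrix (Fin 2) (Fin 2) F) with hA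
      have hfix : A.map (· ^ q) = A := by
        ext i j
        have := (x.1 i j).2
        change σ _ = _ at this
        rw [RingHom.id_apply, hσ] at this
        exact this
      have hJ : Aᵀ * !![0, -1; 1, 0] * A = !![0, -1; 1, 0] := by
        have hdet : A.det = 1 := (SpecialLinearGroup.map K.subtype x).2
        rw [det_fin_two] at hdet
        ext i j
        fin_cases i <;> fin_cases j <;> simp [Matrix.mul_apply, Fin.sum_univ_two] <;>
          first | linear_combination hdet | linear_combination -hdet | ring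
      set B : Matrix (Fin 2) (Fin 2) F := (T : Matrix (Fin 2) (Fin 2) F)
      set B' : Matrix (Fin 2) (Fin 2) F := ((T⁻¹ : GL (Fin 2) F) : Matrix (Fin 2) (Fin 2) F)
      have hmap : ∀ X Y : Matrix (Fin 2) (Fin 2) F, (X * Y).map (· ^ q) = X.map (· ^ q) * Y.map (· ^ q) := fun X Y => by
        have : (fun z : F => z ^ q) = σ := funext fun z => (hσ z).symm
        rw [this, Matrix.map_mul]
      change (B * A * B')ᵀ * (B * A * B').map (· ^ q) = 1
      rw [hmap, hmap, hfix, transpose_mul, transpose_mul]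
      calc B'ᵀ * (Aᵀ * Bᵀ) * (B.map (· ^ q) * A * B'.map (· ^ q))
          = B'ᵀ * (Aᵀ * (Bᵀ * B.map (· ^ q)) * A) * B'.map (· ^ q) := by simp only [mul_assoc]
        _ = B'ᵀ * (Bᵀ * B.map (· ^ q)) * B'.map (· ^ q) := by
            rw [hT, mul_smul_comm, smul_mul_assoc, hJ]
        _ = 1 := by
            have h1 : B * B' = 1 := by simp [B, B']
            calc B'ᵀ * (Bᵀ * B.map (· ^ q)) * B'.map (· ^ q) = (B * B')ᵀ * (B * B').map (· ^ q) := by
                  rw [transpose_mul, hmap]; simp only [mul_assoc]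
              _ = 1 := by
                  rw [h1, transpose_one, one_mul]
                  have : (fun z : F => z ^ q) = σ := funext fun z => (hσ z).symm
                  rw [this, Matrix.map_one _ (map_zero σ) (map_one σ)]

theorem mem_preserving_herm {ι : Type} [Fintype ι] [DecidableEq ι] {F : Type*} [Field F] {q : ℕ}
    (M : Matrix ι ι F) (hM : Mᵀ * M.map (· ^ q) = 1)
    (hadd : ∀ (x : ι → F) (i : ι), (M *ᵥ x) i ^ q = (M.map (· ^ q) *ᵥ fun j => x j ^ q) i) (u v : ι → F) :
    (∑ i, (M *ᵥ u) i * (M *ᵥ v) i ^ q) = ∑ i, u i * v i ^ q := by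
  simp only [hadd]
  change (M *ᵥ u) ⬝ᵥ (M.map (· ^ q) *ᵥ fun j => v j ^ q) = u ⬝ᵥ fun j => v j ^ q
  rw [dotProduct_mulVec, ← mulVec_transpose, mulVec_mulVec]
  have : (M.map (· ^ q))ᵀ * M = 1 := by
    have := congrArg Matrix.transpose hM
    rwa [transpose_mul, transpose_transpose, transpose_one] at this
  rw [this, one_mulVec]

theorem exists_hom_SU {F : Type} [Field F] [Fintype F] {n q : ℕ} (hq : Fintype.card F = q ^ 2)
    {K : Type*} [Group K] (hK : commutator K = ⊤) (φ : K →* GL (Fin n) F) (hφ : Function.Injective φ)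
    (hu : ∀ g, ((φ g : GL (Fin n) F) : Matrix (Fin n) (Fin n) F)ᵀ *
      ((φ g : GL (Fin n) F) : Matrix (Fin n) (Fin n) F).map (· ^ q) = 1) :
    ∃ ψ : K →* Cfsg.SU n F q, Function.Injective ψ := by
  obtain ⟨p, hp⟩ := CharP.exists F
  obtain ⟨f, hpp, hf⟩ := FiniteField.card F p
  have := Fact.mk hpp
  obtain ⟨g, -, hg⟩ : ∃ g, g ≤ (f : ℕ) ∧ q = p ^ g := by
    refine (Nat.dvd_prime_pow hpp).1 ?_
    rw [← hf, hq]; exact dvd_pow_self _ two_ne_zero
  obtain ⟨ψ, hψ, hψv⟩ := exists_hom_sl hK φ hφ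
  refine ⟨ψ.codRestrict _ fun x u v => ?_, fun a b h => hψ (congrArg Subtype.val h)⟩
  change (∑ i, ((ψ x : Matrix (Fin n) (Fin n) F) *ᵥ u) i * ((ψ x : Matrix (Fin n) (Fin n) F) *ᵥ v) i ^ q) = _
  rw [hψv]
  refine mem_preserving_herm _ (hu x) (fun y i => ?_) u v
  rw [hg]
  simp only [mulVec, dotProduct, sum_pow_char_pow, mul_pow, Matrix.map_apply]

theorem blockGL_unitary {ι κ : Type*} [Fintype ι] [DecidableEq ι] [Fintype κ] [DecidableEq κ] {F : Type*}
    [Field F] {q : ℕ} (hq : q ≠ 0) (A : GL ι F)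
    (h : (A : Matrix ι ι F)ᵀ * (A : Matrix ι ι F).map (· ^ q) = 1) :
    ((blockGL ι κ F A : GL (ι ⊕ κ) F) : Matrix (ι ⊕ κ) (ι ⊕ κ) F)ᵀ *
      ((blockGL ι κ F A : GL (ι ⊕ κ) F) : Matrix (ι ⊕ κ) (ι ⊕ κ) F).map (· ^ q) = 1 := by
  change (fromBlocks (A : Matrix ι ι F) 0 0 1)ᵀ * (fromBlocks (A : Matrix ι ι F) 0 0 1).map (· ^ q) = 1
  rw [fromBlocks_transpose, fromBlocks_map, fromBlocks_multiply]
  simp [Matrix.map_zero, Matrix.map_one, zero_pow hq, h, fromBlocks_one]

theorem permGL_unitary {ι : Type*} [Fintype ι] [DecidableEq ι] {F : Type*} [Field F] {q : ℕ} (hq : q ≠ 0)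
    (σ : Equiv.Perm ι) :
    ((permGL ι F σ : GL ι F) : Matrix ι ι F)ᵀ * ((permGL ι F σ : GL ι F) : Matrix ι ι F).map (· ^ q) = 1 := by
  change ((σ⁻¹).permMatrix F)ᵀ * ((σ⁻¹).permMatrix F).map (· ^ q) = 1
  have : ((σ⁻¹).permMatrix F).map (· ^ q) = (σ⁻¹).permMatrix F := by
    ext i j
    simp only [Equiv.Perm.permMatrix, Matrix.map_apply, PEquiv.toMatrix_apply]
    split_ifs <;> simp [zero_pow hq]
  rw [this, Matrix.transpose_permMatrix, ← Matrix.permMatrix_mul]
  simp

end Cfsg.Lib.Known
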