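import Mathlib

/-! The Coxeter presentation of the symmetric group: the counting bound. -/

set_option autoImplicit false

open Nat

namespace Cfsg.Lib.CoxeterSymm

variable {W : Type*} [Group W] (s : ℕ → W)

/-- The descending products. -/
def desc (n : ℕ) : ℕ → W
  | 0 => 1
  | k + 1 => desc n k * s (n - 1 - k)

variable {s}

theorem bound (n : ℕ) (h2 : ∀ i < n, s i * s i = 1) (hc : ∀ i < n, ∀ j < n, i + 2 ≤ j → Commute (s i) (s j))
    (hb : ∀ i, i + 1 < n → s i * s (i + 1) * s i = s (i + 1) * s i * s (i + 1)) :
    (Subgroup.closure (s '' Set.Iio n) : Set W).Finite ∧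
      (Subgroup.closure (s '' Set.Iio n) : Set W).ncard ≤ (n + 1)! := by
  induction n with
  | zero => simp
  | succ m ih =>
    obtain ⟨hfin, hcard⟩ := ih (fun i hi => h2 i (by omega)) (fun i hi j hj => hc i (by omega) j (by omega))
      (fun i hi => hb i (by omega))
    set n := m + 1 with hn
    set H := Subgroup.closure (s '' Set.Iio m) with hH
    let r := desc s n
    have hcomm : ∀ k, k ≤ n → ∀ j, j + k + 2 ≤ n → Commute (r k) (s j) := by
      intro k
      induction k with
      | zero => exact fun _ j _ => Commute.one_left _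
      | succ k ih =>
        intro hk j hj
        exact (ih (by omega) j (by omega)).mul_left (hc j (by omega) (n - 1 - k) (by omega) (by omega)).symm
    have hhigh : ∀ k, k ≤ n → ∀ j, j < n → n < j + k → r k * s j = s (j - 1) * r k := by
      intro k
      induction k with
      | zero => intro _ j h1 h2; omega
      | succ k ih =>
        intro hk j hj hjk
        rcases Nat.lt_or_ge n (j + k) with h | h
        · show r k * s (n - 1 - k) * s j = s (j - 1) * (r k * s (n - 1 - k))
          rw [mul_assoc, (hc (n - 1 - k) (by omega) j hj (by omega)).eq, ← mul_assoc, ih (by omega) j hj h, mul_assoc]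
        · obtain ⟨k, rfl⟩ : ∃ k', k = k' + 1 := ⟨k - 1, by omega⟩
          show r k * s (n - 1 - k) * s (n - 1 - (k + 1)) * s j = s (j - 1) * (r k * s (n - 1 - k) * s (n - 1 - (k + 1)))
          have e1 : n - 1 - k = j := by omega
          have e2 : n - 1 - (k + 1) = j - 1 := by omega
          have hb' := hb (j - 1) (by omega)
          rw [Nat.sub_add_cancel (by omega)] at hb'
          rw [e1, e2]
          calc r k * s j * s (j - 1) * s j = r k * (s j * s (j - 1) * s j) := by simp only [mul_assoc]
            _ = r k * s (j - 1) * (s j * s (j - 1)) := by rw [← hb']; simp only [mul_assoc]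
            _ = _ := by rw [(hcomm k (by omega) (j - 1) (by omega)).eq]; simp only [mul_assoc]
    have step : ∀ k, k ≤ n → ∀ j, j < n → ∃ k', k' ≤ n ∧ ∃ h ∈ H, r k * s j = h * r k' := by
      intro k hk j hj
      rcases lt_trichotomy (j + k + 1) n with h | h | h
      · exact ⟨k, hk, s j, Subgroup.subset_closure ⟨j, by show j < m; omega, rfl⟩, (hcomm k hk j (by omega)).eq⟩
      · refine ⟨k + 1, by omega, 1, one_mem _, ?_⟩
        rw [one_mul]
        show r k * s j = r k * s (n - 1 - k)
        rw [show n - 1 - k = j by omega]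
      · rcases eq_or_lt_of_le (show n ≤ j + k by omega) with h' | h'
        · obtain ⟨k, rfl⟩ : ∃ k', k = k' + 1 := ⟨k - 1, by omega⟩
          refine ⟨k, by omega, 1, one_mem _, ?_⟩
          show r k * s (n - 1 - k) * s j = 1 * r k
          rw [show n - 1 - k = j by omega, mul_assoc, h2 j hj, mul_one, one_mul]
        · exact ⟨k, hk, s (j - 1), Subgroup.subset_closure ⟨j - 1, by show j - 1 < m; omega, rfl⟩, hhigh k hk j hj h'⟩
    have hsub : (Subgroup.closure (s '' Set.Iio n) : Set W) ⊆
        ⋃ k ∈ Finset.range (n + 1), (fun h => h * r k) '' (H : Set W) := by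
      intro x hx
      induction hx using Subgroup.closure_induction_right with
      | one => exact Set.mem_biUnion (show 0 ∈ Finset.range (n + 1) by simp) ⟨1, one_mem H, mul_one 1⟩
      | mul_right x hx y hy ih =>
        obtain ⟨j, hj, rfl⟩ := hy
        simp only [Set.mem_iUnion, Set.mem_image, Finset.mem_range] at ih ⊢
        obtain ⟨k, hk, h, hh, rfl⟩ := ih
        obtain ⟨k', hk', g, hg, e⟩ := step k (by omega) j hj
        exact ⟨k', by omega, h * g, H.mul_mem hh hg, by rw [mul_assoc, ← e, mul_assoc]⟩
      | mul_inv_cancel x hx y hy ih =>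
        obtain ⟨j, hj, rfl⟩ := hy
        rw [inv_eq_of_mul_eq_one_right (h2 j hj)]
        simp only [Set.mem_iUnion, Set.mem_image, Finset.mem_range] at ih ⊢
        obtain ⟨k, hk, h, hh, rfl⟩ := ih
        obtain ⟨k', hk', g, hg, e⟩ := step k (by omega) j hj
        exact ⟨k', by omega, h * g, H.mul_mem hh hg, by rw [mul_assoc, ← e, mul_assoc]⟩
    have hfin' : (⋃ k ∈ Finset.range (n + 1), (fun h => h * r k) '' (H : Set W)).Finite :=
      (Finset.range (n + 1)).finite_toSet.biUnion fun k _ => hfin.image _
    refine ⟨hfin'.subset hsub, (Set.ncard_le_ncard hsub hfin').trans ?_⟩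
    refine (Finset.set_ncard_biUnion_le _ _).trans ?_
    refine (Finset.sum_le_sum (g := fun _ => (m + 1)!) fun k _ => (Set.ncard_image_le hfin).trans hcard).trans ?_
    rw [Finset.sum_const, Finset.card_range, smul_eq_mul]
    exact le_of_eq (Nat.factorial_succ (m + 1)).symm

end Cfsg.Lib.CoxeterSymm
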