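import Cfsg.Agent.Known.FormNormal
import Cfsg.Agent.Classical.Misc.NegOne
import Cfsg.Agent.Classical.Misc.HyperbolicQuadric

/-! Nondegenerate forms as the standard plus and minus forms. -/

set_option autoImplicit false
set_option linter.unusedSectionVars false

open QuadraticMap Submodule

namespace Cfsg.Lib.FormNormal

open Cfsg.Lib.Classical

universe u v

variable {F : Type u} [Field F] [Finite F] {V : Type v} [AddCommGroup V] [Module F V] [FiniteDimensional F V]
  {Q : QuadraticForm F V}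

theorem plus_equiv (D : Decomp Q (⊤ : Submodule F V)) {k : ℕ} (hk : D.m = k) (h0 : Module.finrank F D.K = 0) :
    ∃ g : V ≃ₗ[F] (Fin k ⊕ Fin k → F), ∀ v, Q v = Cfsg.quadFormPlus k F (g v) := by
  classical
  subst hk
  obtain ⟨bs, hbs⟩ := D.basis rfl (κ := Fin 0) Fin.elim0 (fun k => k.elim0) linearIndependent_empty_type
    (by rw [h0]; rfl)
  let c := bs.reindex (Equiv.sumEmpty _ _)
  have hc : ⇑c = Sum.elim D.e D.f := by funext i; simp [c, hbs]
  refine ⟨c.equivFun, fun v => ?_⟩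
  rw [← HypQuad.plusForm_apply]
  have hcomp : ∀ x y, polar (⇑((HypQuad.plusForm D.m F).comp (c.equivFun : V →ₗ[F] (Fin D.m ⊕ Fin D.m → F)))) x y =
      polar (⇑(HypQuad.plusForm D.m F)) (c.equivFun x) (c.equivFun y) := fun x y => by simp [polar]
  have := eq_of_basis Q ((HypQuad.plusForm D.m F).comp (c.equivFun : V →ₗ[F] (Fin D.m ⊕ Fin D.m → F))) c ?_ ?_ v
  · exact this
  · intro i
    rw [QuadraticMap.comp_apply, LinearEquiv.coe_coe, hc]
    rcases i with i | i
    · rw [Sum.elim_inl, D.qe, ← Sum.elim_inl (γ := V) D.e D.f i, ← hc]; symm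
      simp [HypQuad.plusForm_apply, Cfsg.quadFormPlus, Finsupp.single_apply]
    · rw [Sum.elim_inr, D.qf, ← Sum.elim_inr (γ := V) D.e D.f i, ← hc]; symm
      simp [HypQuad.plusForm_apply, Cfsg.quadFormPlus, Finsupp.single_apply]
  · intro i j
    rw [hcomp]
    have sy : polar (⇑Q) (c i) (c j) = polar (⇑Q) (Sum.elim D.e D.f i) (Sum.elim D.e D.f j) := by rw [hc]
    rw [sy]
    rcases i with i | i <;> rcases j with j | j <;>
      simp only [Sum.elim_inl, Sum.elim_inr, D.ee, D.ff, D.ef, QuadraticMap.polar_comm _ (D.f i) (D.e _)] <;>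
      simp [polar, HypQuad.plusForm_apply, Cfsg.quadFormPlus, Finsupp.single_apply, add_mul, mul_add,
        Finset.sum_add_distrib, eq_comm]

theorem minus_equiv (D : Decomp Q (⊤ : Submodule F V)) {k : ℕ} (hk : D.m = k) (h2 : Module.finrank F D.K = 2)
    {ζ : F} (hζ : ∀ t : F, t ^ 2 + t + ζ ≠ 0) :
    ∃ g : V ≃ₗ[F] ((Fin k ⊕ Fin k) ⊕ Fin 2 → F), ∀ v, Q v = Cfsg.quadFormMinus k F 1 ζ (g v) := by
  classical
  subst hk
  obtain ⟨ζ', hζ', hex⟩ := exists_plane Q D.ndK D.aniso h2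
  obtain ⟨g, hg, hgi, h0, h01, h1⟩ := hex ζ hζ
  obtain ⟨c, hc⟩ := D.basis rfl g hg hgi (by simp [h2])
  refine ⟨c.equivFun, fun v => ?_⟩
  have hmc : ⇑(Refl.minusForm D.m F 1 ζ) = Cfsg.quadFormMinus D.m F 1 ζ := Refl.minusForm_coe _ _ _
  have hcomp : ∀ x y, polar (⇑((Refl.minusForm D.m F 1 ζ).comp (c.equivFun : V →ₗ[F] ((Fin D.m ⊕ Fin D.m) ⊕ Fin 2 → F)))) x y =
      polar (Cfsg.quadFormMinus D.m F 1 ζ) (c.equivFun x) (c.equivFun y) := fun x y => by simp [polar, hmc]
  have := eq_of_basis Q ((Refl.minusForm D.m F 1 ζ).comp (c.equivFun : V →ₗ[F] ((Fin D.m ⊕ Fin D.m) ⊕ Fin 2 → F))) c ?_ ?_ v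
  · exact this.trans (congrFun hmc _)
  · intro i
    rw [QuadraticMap.comp_apply, LinearEquiv.coe_coe, hmc, show Q (c i) = Q (Sum.elim (Sum.elim D.e D.f) g i) by rw [hc]]
    rcases i with (i | i) | i
    · rw [Sum.elim_inl, Sum.elim_inl, D.qe]; symm; simp [Cfsg.quadFormMinus, Finsupp.single_apply]
    · rw [Sum.elim_inl, Sum.elim_inr, D.qf]; symm; simp [Cfsg.quadFormMinus, Finsupp.single_apply]
    · fin_cases i
      · simp [Cfsg.quadFormMinus, Finsupp.single_apply, h0]
      · simp [Cfsg.quadFormMinus, Finsupp.single_apply, h1]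
  · intro i j
    rw [hcomp]
    have sy : polar (⇑Q) (c i) (c j) =
        polar (⇑Q) (Sum.elim (Sum.elim D.e D.f) g i) (Sum.elim (Sum.elim D.e D.f) g j) := by rw [hc]
    rw [sy]
    have g10 : polar (⇑Q) (g 1) (g 0) = 1 := by rw [QuadraticMap.polar_comm]; exact h01
    have gg : ∀ k, polar (⇑Q) (g k) (g k) = 2 * Q (g k) := fun k => polar_self' Q (g k)
    have eg : ∀ i k, polar (⇑Q) (g k) (D.e i) = 0 := fun i k => by rw [QuadraticMap.polar_comm]; exact D.ek i _ (hg k)
    have fg : ∀ i k, polar (⇑Q) (g k) (D.f i) = 0 := fun i k => by rw [QuadraticMap.polar_comm]; exact D.fk i _ (hg k)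
    rcases i with (i | i) | i <;> rcases j with (j | j) | j <;>
      simp only [Sum.elim_inl, Sum.elim_inr, D.ee, D.ff, D.ef, D.ek _ _ (hg _), D.fk _ _ (hg _), eg, fg,
        QuadraticMap.polar_comm _ (D.f _) (D.e _)]
    all_goals try fin_cases i
    all_goals try fin_cases j
    all_goals (try simp only [h01, g10, gg, h0, h1, Fin.isValue, Fin.zero_eta, Fin.mk_one, mul_one])
    all_goals simp [polar, Cfsg.quadFormMinus, Finsupp.single_apply, add_mul, mul_add, Finset.sum_add_distrib, eq_comm]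
    all_goals (try ring)

end Cfsg.Lib.FormNormal
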