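import Cfsg.Agent.Known.FormEquiv
import Cfsg.Agent.Classical.Orth.StdForms
import Cfsg.Agent.Classical.Misc.Witt

/-! The Witt index determines an even-dimensional form. -/

set_option autoImplicit false
set_option linter.unusedSectionVars false

open QuadraticMap Submodule

namespace Cfsg.Lib.FormNormal

open Cfsg.Lib.Classical

universe u v

variable {F : Type u} [Field F] [Finite F] {V : Type v} [AddCommGroup V] [Module F V] [FiniteDimensional F V]
  {Q : QuadraticForm F V}

theorem Decomp.e_indep (D : Decomp Q (⊤ : Submodule F V)) : LinearIndependent F D.e := by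
  have h := D.indep (κ := Fin 0) Fin.elim0 (fun k => k.elim0) linearIndependent_empty_type
  exact h.comp (fun i => Sum.inl (Sum.inl i)) (fun a b h => Sum.inl_injective (Sum.inl_injective h))

theorem Decomp.span_e_singular (D : Decomp Q (⊤ : Submodule F V)) : ∀ w ∈ span F (Set.range D.e), Q w = 0 := by
  intro w hw
  have hp : ∀ x ∈ span F (Set.range D.e), ∀ i, polar (⇑Q) (D.e i) x = 0 := fun x hx i => by
    have hle : span F (Set.range D.e) ≤ LinearMap.ker (polarBilin Q (D.e i)) :=
      span_le.2 (by rintro _ ⟨j, rfl⟩; exact D.ee i j)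
    exact hle hx
  induction hw using Submodule.span_induction with
  | mem x hx => obtain ⟨i, rfl⟩ := hx; exact D.qe i
  | zero => exact QuadraticMap.map_zero Q
  | add x y hx hy ihx ihy =>
    rw [QuadraticMap.map_add (f := Q), ihx, ihy]
    have hle : span F (Set.range D.e) ≤ LinearMap.ker (polarBilin Q y) :=
      span_le.2 (by
        rintro _ ⟨j, rfl⟩
        show polar (⇑Q) y (D.e j) = 0
        rw [QuadraticMap.polar_comm]; exact hp y hy j)
    have : polar (⇑Q) x y = 0 := by rw [QuadraticMap.polar_comm]; exact hle hx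
    rw [this]; simp
  | smul c x _ ih => rw [QuadraticMap.map_smul, ih, smul_zero]

theorem Decomp.e_max (D : Decomp Q (⊤ : Submodule F V)) (W : Submodule F V) (hle : span F (Set.range D.e) ≤ W)
    (hW : ∀ w ∈ W, Q w = 0) : W = span F (Set.range D.e) := by
  classical
  refine le_antisymm (fun w hw => ?_) hle
  have hpol : ∀ x ∈ W, ∀ y ∈ W, polar (⇑Q) x y = 0 := fun x hx y hy => by
    simp [polar, hW x hx, hW y hy, hW _ (W.add_mem hx hy)]
  obtain ⟨c, hc⟩ := D.basis rfl (fun i => ((Module.finBasis F D.K) i : V)) (fun i => ((Module.finBasis F D.K) i).2)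
    ((Module.finBasis F D.K).linearIndependent.map' D.K.subtype D.K.ker_subtype) (Fintype.card_fin _)
  set α := fun i => c.repr w (Sum.inl (Sum.inl i))
  set β := fun i => c.repr w (Sum.inl (Sum.inr i))
  set k := ∑ i, c.repr w (Sum.inr i) • ((Module.finBasis F D.K) i : V)
  have hk : k ∈ D.K := D.K.sum_mem fun i _ => D.K.smul_mem _ ((Module.finBasis F D.K) i).2
  have hwsum : w = (∑ i, α i • D.e i) + (∑ i, β i • D.f i) + k := by
    conv_lhs => rw [← c.sum_repr w, Fintype.sum_sum_type, Fintype.sum_sum_type, hc]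
    rfl
  have pol : ∀ (x : V) {ι : Type} [Fintype ι] (a : ι → F) (v : ι → V),
      polar (⇑Q) x (∑ i, a i • v i) = ∑ i, a i * polar (⇑Q) x (v i) := fun x ι _ a v => by
    show polarBilin Q x _ = _
    rw [map_sum]; simp
  have hβ : ∀ j, β j = 0 := fun j => by
    have h := hpol _ (hle (subset_span ⟨j, rfl⟩)) w hw
    rw [hwsum] at h
    simpa [QuadraticMap.polar_add_right, pol, D.ee, D.ef, D.ek j k hk] using h
  have hE : (∑ i, α i • D.e i) ∈ span F (Set.range D.e) :=
    sum_mem fun i _ => smul_mem _ _ (subset_span ⟨i, rfl⟩)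
  simp only [hβ, zero_smul, Finset.sum_const_zero, add_zero] at hwsum
  have hk0 : Q k = 0 := hW k (by
    rw [show k = w - ∑ i, α i • D.e i by rw [hwsum]; abel]
    exact W.sub_mem hw (hle hE))
  rw [hwsum, D.aniso k hk hk0, add_zero]
  exact hE

theorem index_eq (hQ : (polarBilin Q).Nondegenerate) (D : Decomp Q (⊤ : Submodule F V)) (W : Submodule F V)
    (hW : ∀ w ∈ W, Q w = 0) (hmax : ∀ W' : Submodule F V, W ≤ W' → (∀ w ∈ W', Q w = 0) → W' = W) :
    D.m = Module.finrank F W := by
  have h := (WittQuad.witt_index Q hQ (span F (Set.range D.e)) W D.span_e_singular hW D.e_max hmax).1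
  rwa [finrank_span_eq_card D.e_indep, Fintype.card_fin] at h

theorem half_max (hQ : (polarBilin Q).Nondegenerate) (W : Submodule F V) (hW : ∀ w ∈ W, Q w = 0)
    (hd : Module.finrank F V ≤ 2 * Module.finrank F W + 1) :
    ∀ W' : Submodule F V, W ≤ W' → (∀ w ∈ W', Q w = 0) → W' = W := by
  intro W' hle hW'
  refine (Submodule.eq_of_le_of_finrank_le hle ?_).symm
  have hle' : W' ≤ LinearMap.BilinForm.orthogonal (QuadraticMap.polarBilin Q) W' := fun w hw v hv => by
    show polar (⇑Q) v w = 0
    simp [polar, hW' w hw, hW' v hv, hW' _ (W'.add_mem hv hw)]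
  have h := Submodule.finrank_mono hle'
  rw [LinearMap.BilinForm.finrank_orthogonal hQ] at h
  omega

theorem equiv_of_index {V' : Type*} [AddCommGroup V'] [Module F V'] [FiniteDimensional F V'] {Q' : QuadraticForm F V'}
    (D : Decomp Q (⊤ : Submodule F V)) (D' : Decomp Q' (⊤ : Submodule F V')) (hm : D.m = D'.m)
    (hd : Module.finrank F V = Module.finrank F V') (he : Even (Module.finrank F V)) :
    ∃ g : V ≃ₗ[F] V', ∀ v, Q v = Q' (g v) := by
  have h1 := D.dim
  have h2 := D'.dim
  have h3 := D.small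
  rw [finrank_top] at h1 h2
  obtain ⟨r, hr⟩ := he
  by_cases h0 : Module.finrank F D.K = 0
  · obtain ⟨g, hg⟩ := plus_equiv D rfl h0
    obtain ⟨g', hg'⟩ := plus_equiv D' hm.symm (by omega)
    exact ⟨g.trans g'.symm, fun v => by rw [hg, hg']; simp⟩
  · obtain ⟨ζ, hζ, -⟩ := exists_plane Q D.ndK D.aniso (by omega)
    obtain ⟨g, hg⟩ := minus_equiv D rfl (by omega) hζ
    obtain ⟨g', hg'⟩ := minus_equiv D' hm.symm (by omega) hζ
    exact ⟨g.trans g'.symm, fun v => by rw [hg, hg']; simp⟩

/-- A representation preserving a form, transported to an isometric standard space. -/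
theorem exists_isometry_hom {G : Type*} [Group G] {ι : Type} [Fintype ι] [DecidableEq ι] (Q' : (ι → F) → F)
    (g : V ≃ₗ[F] (ι → F)) (hg : ∀ v, Q v = Q' (g v)) (ρ : G →* Module.End F V) (hρi : Function.Injective ρ)
    (hρ : ∀ a v, Q (ρ a v) = Q v) :
    ∃ φ : G →* ↥(Cfsg.isometryGroup F Q'), Function.Injective φ := by
  classical
  let conj : Module.End F V →* Matrix ι ι F :=
    { toFun := fun T => LinearMap.toMatrix' (g.conj T)
      map_one' := by simp [LinearEquiv.conj_apply, Module.End.one_eq_id]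
      map_mul' := fun S T => by
        rw [← LinearMap.toMatrix'_mul]; congr 1
        refine LinearMap.ext fun x => ?_
        simp [LinearEquiv.conj_apply] }
  let u : G →* Matrix.GeneralLinearGroup ι F := (conj.comp ρ).toHomUnits
  have hcoe : ∀ a, ((u a : Matrix.GeneralLinearGroup ι F) : Matrix ι ι F) = LinearMap.toMatrix' (g.conj (ρ a)) :=
    fun a => rfl
  have hmem : ∀ a, u a ∈ Cfsg.isometryGroup F Q' := by
    intro a
    have key : ∀ x, Q' (((u a : Matrix.GeneralLinearGroup ι F) : Matrix ι ι F).mulVec x) = Q' x := fun x => by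
      rw [hcoe, LinearMap.toMatrix'_mulVec]
      simp only [LinearEquiv.conj_apply, LinearMap.comp_apply, LinearEquiv.coe_coe]
      rw [← hg, hρ, hg, LinearEquiv.apply_symm_apply]
    exact fun x _ => key x
  refine ⟨u.codRestrict _ hmem, fun a b h => hρi ?_⟩
  have h1 : LinearMap.toMatrix' (g.conj (ρ a)) = LinearMap.toMatrix' (g.conj (ρ b)) := by
    rw [← hcoe, ← hcoe]
    exact congrArg (fun z : ↥(Cfsg.isometryGroup F Q') => ((z : Matrix.GeneralLinearGroup ι F) : Matrix ι ι F)) h
  exact g.conj.injective (LinearMap.toMatrix'.injective h1)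

end Cfsg.Lib.FormNormal
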