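import Cfsg.Agent.Known.FieldEmbed
import Cfsg.Agent.Known.FormIndex

/-! The trace forms of a hermitian form. -/

set_option autoImplicit false
set_option linter.unusedSectionVars false

open Cfsg.Lib.FieldEmbed

namespace Cfsg.Lib.GUForms

universe u v

variable {F : Type v} [Field F] [Fintype F] {K : Type u} [Field K] [Fintype K] [Algebra F K] {q : ℕ}

/-- `(u, v) ↦ r (h(u,v))`. -/
noncomputable def pairing (hF : Fintype.card F = q) (n : ℕ) (r : K →ₗ[F] F) : LinearMap.BilinForm F (Fin n → K) :=
  LinearMap.mk₂ F (fun u v => r (Cfsg.hermForm n K q u v))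
    (fun u u' v => by rw [herm_add_left, map_add]) (fun c u v => by rw [herm_smul_left hF, map_smul])
    (fun u v v' => by rw [herm_add_right hF, map_add]) (fun c u v => by rw [herm_smul_right hF, map_smul])

theorem pairing_apply (hF : Fintype.card F = q) (n : ℕ) (r : K →ₗ[F] F) (u v : Fin n → K) :
    pairing hF n r u v = r (Cfsg.hermForm n K q u v) := rfl

theorem eq_zero_of_trace (hF : Fintype.card F = q) (hK : Fintype.card K = q ^ 2) {n : ℕ} {d : K} (hd0 : d ≠ 0) (u : Fin n → K)
    (h : ∀ v, Algebra.trace F K (d * Cfsg.hermForm n K q u v) = 0) : u = 0 := by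
  funext i
  refine (mul_eq_zero.1 (trace_nondeg (F := F) fun k => ?_)).resolve_left hd0
  obtain ⟨z, rfl⟩ := pow_q_surjective hF hK k
  rw [mul_assoc, ← herm_single hF u i z]
  exact h _

/-- The norm form. -/
noncomputable def normForm (hF : Fintype.card F = q) (n : ℕ) (r : K →ₗ[F] F) : QuadraticForm F (Fin n → K) :=
  LinearMap.BilinMap.toQuadraticMap (pairing hF n r)

theorem normForm_apply (hF : Fintype.card F = q) (hd : Module.finrank F K = 2) {n : ℕ} {r : K →ₗ[F] F}
    (hr : ∀ c, r (algebraMap F K c) = c) (v : Fin n → K) : normForm hF n r v = ∑ i, Algebra.norm F (v i) := by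
  rw [normForm, LinearMap.BilinMap.toQuadraticMap_apply, pairing_apply, herm_self hF hd, hr]

theorem normForm_polar (hF : Fintype.card F = q) (hK : Fintype.card K = q ^ 2) (hd : Module.finrank F K = 2) {n : ℕ}
    {r : K →ₗ[F] F} (hr : ∀ c, r (algebraMap F K c) = c) (u v : Fin n → K) :
    QuadraticMap.polar (⇑(normForm hF n r)) u v = Algebra.trace F K (Cfsg.hermForm n K q u v) := by
  rw [normForm, LinearMap.BilinMap.polar_toQuadraticMap, pairing_apply, pairing_apply, ← map_add,
    herm_swap hF hK u v, ← algebraMap_trace hF hd, hr]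

theorem normForm_nondeg (hF : Fintype.card F = q) (hK : Fintype.card K = q ^ 2) (hd : Module.finrank F K = 2) {n : ℕ}
    {r : K →ₗ[F] F} (hr : ∀ c, r (algebraMap F K c) = c) :
    (QuadraticMap.polarBilin (normForm hF n r)).Nondegenerate := by
  have h1 : ∀ u, (∀ v, QuadraticMap.polar (⇑(normForm hF n r)) u v = 0) → u = 0 := fun u hu =>
    eq_zero_of_trace hF hK one_ne_zero u fun v => by rw [one_mul, ← normForm_polar hF hK hd hr]; exact hu v
  exact ⟨h1, fun u hu => h1 u fun v => by rw [QuadraticMap.polar_comm]; exact hu v⟩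

theorem exists_section : ∃ r : K →ₗ[F] F, ∀ c, r (algebraMap F K c) = c := by
  obtain ⟨r, hr⟩ := (Algebra.linearMap F K).exists_leftInverse_of_injective
    (LinearMap.ker_eq_bot.2 (algebraMap F K).injective)
  exact ⟨r, fun c => LinearMap.congr_fun hr c⟩

theorem finrank_pi (hd : Module.finrank F K = 2) (n : ℕ) : Module.finrank F (Fin n → K) = 2 * n := by
  rw [Module.finrank_pi_fintype]; simp [hd, mul_comm]

/-- A singular subspace pairing the coordinates two by two. -/
theorem exists_singular_pairs (hF : Fintype.card F = q) (hd : Module.finrank F K = 2) {n : ℕ} {r : K →ₗ[F] F}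
    (hr : ∀ c, r (algebraMap F K c) = c) (k : ℕ) (hk : 2 * k ≤ n) :
    ∃ W : Submodule F (Fin n → K), (∀ w ∈ W, normForm hF n r w = 0) ∧ Module.finrank F W = 2 * k ∧
      (∀ i : Fin n, 2 * k ≤ i.val → ∀ w ∈ W, w i = 0) ∧
      ∀ v : Fin n → K, (∀ w ∈ W, QuadraticMap.polar (⇑(normForm hF n r)) v w = 0) →
        normForm hF n r v = ∑ i : Fin n, if 2 * k ≤ i.val then Algebra.norm F (v i) else 0 := by
  classical
  obtain ⟨ε, hε⟩ := FiniteField.norm_surjective F K (-1)
  let L : (Fin k → K) →ₗ[F] (Fin n → K) :=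
    { toFun := fun x i => if h : i.val < 2 * k then
        (if i.val % 2 = 0 then x ⟨i.val / 2, by omega⟩ else ε * x ⟨i.val / 2, by omega⟩) else 0
      map_add' := fun x y => by funext i; simp only [Pi.add_apply]; split_ifs <;> simp [mul_add]
      map_smul' := fun c x => by funext i; simp only [Pi.smul_apply, RingHom.id_apply]; split_ifs <;> simp [mul_smul_comm] }
  let e0 : Fin k → Fin n := fun j => ⟨2 * j.val, by omega⟩
  let e1 : Fin k → Fin n := fun j => ⟨2 * j.val + 1, by omega⟩
  have hL0 : ∀ x j, L x (e0 j) = x j := fun x j => by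
    show (if h : (e0 j).val < 2 * k then _ else _) = _
    rw [dif_pos (by simp [e0]), if_pos (by simp [e0])]
    congr 1; ext; simp [e0]
  have hL1 : ∀ x j, L x (e1 j) = ε * x j := fun x j => by
    show (if h : (e1 j).val < 2 * k then _ else _) = _
    rw [dif_pos (by simp [e1]; omega), if_neg (by simp [e1])]
    congr 2; ext; simp [e1]; omega
  have hzero : ∀ x (i : Fin n), 2 * k ≤ i.val → L x i = 0 := fun x i hi => by
    show (if h : i.val < 2 * k then _ else _) = _
    rw [dif_neg (by omega)]
  have hsum : ∀ (f : Fin n → F), ∑ i, f i =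
      (∑ j, (f (e0 j) + f (e1 j))) + ∑ i : Fin n, if 2 * k ≤ i.val then f i else 0 := by
    intro f
    rw [← Finset.sum_filter_add_sum_filter_not Finset.univ (fun i : Fin n => 2 * k ≤ i.val) f, Finset.sum_filter, add_comm]
    congr 1
    rw [Finset.sum_add_distrib,
      ← Finset.sum_filter_add_sum_filter_not (Finset.univ.filter fun i : Fin n => ¬ 2 * k ≤ i.val) (fun i : Fin n => i.val % 2 = 0) f]
    congr 1
    · refine (Finset.sum_bij (fun j _ => e0 j) (fun j _ => by simp [e0]) (fun a _ b _ h => by
        simp [e0] at h; exact Fin.ext (by omega)) (fun i hi => ⟨⟨i.val / 2, by simp at hi; omega⟩, Finset.mem_univ _, by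
        simp at hi; ext; simp [e0]; omega⟩) (fun _ _ => rfl)).symm
    · refine (Finset.sum_bij (fun j _ => e1 j) (fun j _ => by simp [e1]; omega) (fun a _ b _ h => by
        simp [e1] at h; exact Fin.ext (by omega)) (fun i hi => ⟨⟨i.val / 2, by simp at hi; omega⟩, Finset.mem_univ _, by
        simp at hi; ext; simp [e1]; omega⟩) (fun _ _ => rfl)).symm
  refine ⟨LinearMap.range L, ?_, ?_, ?_, fun v hv => ?_⟩
  · rintro _ ⟨x, rfl⟩
    rw [normForm_apply hF hd hr, hsum]
    have h1 : ∀ j, Algebra.norm F (L x (e0 j)) + Algebra.norm F (L x (e1 j)) = 0 := fun j => by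
      rw [hL0, hL1, map_mul, hε]; ring
    simp only [h1, Finset.sum_const_zero, zero_add]
    exact Finset.sum_eq_zero fun i _ => by
      split_ifs with h
      · rw [hzero x i h, Algebra.norm_zero]
      · rfl
  · rw [LinearMap.finrank_range_of_inj (fun x y h => funext fun j => by rw [← hL0 x j, h, hL0]), Module.finrank_pi_fintype]
    simp [hd, mul_comm]
  · rintro i hi _ ⟨x, rfl⟩; exact hzero x i hi
  · rw [normForm_apply hF hd hr, hsum, add_eq_right]
    refine Finset.sum_eq_zero fun j _ => ?_
    have hkey : v (e0 j) + v (e1 j) * ε ^ q = 0 := by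
      refine trace_nondeg (F := F) fun z => ?_
      obtain ⟨w, rfl⟩ := pow_q_surjective hF (K := K) (by
        rw [Module.card_eq_pow_finrank (K := F) (V := K), hd, hF]) z
      have h := hv _ ⟨Pi.single j w, rfl⟩
      rw [normForm_polar hF (by rw [Module.card_eq_pow_finrank (K := F) (V := K), hd, hF]) hd hr] at h
      convert h using 2
      rw [Cfsg.hermForm]
      have hne : e0 j ≠ e1 j := fun h => by simp [e0, e1] at h
      rw [Finset.sum_eq_add (e0 j) (e1 j) hne (fun i _ hi => ?_) (by simp) (by simp)]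
      · rw [hL0, hL1]; simp; ring
      · refine mul_eq_zero_of_right _ (pow_eq_zero_iff (q_pos hF).ne' |>.2 ?_)
        show (if h : i.val < 2 * k then _ else _) = _
        split_ifs with ha hb
        · rw [Pi.single_eq_of_ne]
          intro e; exact hi.1 (Fin.ext (by simp [e0, ← e]; omega))
        · rw [Pi.single_eq_of_ne, mul_zero]
          intro e; exact hi.2 (Fin.ext (by simp [e1, ← e]; omega))
        · rfl
    have hv0 : v (e0 j) = v (e1 j) * -(ε ^ q) := by linear_combination hkey
    have hnq : Algebra.norm F (ε ^ q) = -1 := by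
      apply (algebraMap F K).injective
      rw [map_pow, hε, map_pow, map_neg, map_one]
      have := add_pow_q (F := F) (K := K) hF (-1) 1
      rw [neg_add_cancel, one_pow, zero_pow (q_pos hF).ne'] at this
      linear_combination -this
    rw [hv0, map_mul, ← neg_one_mul (ε ^ q), map_mul, hnq, show (-1 : K) = algebraMap F K (-1) by simp,
      Algebra.norm_algebraMap, hd]
    ring

end Cfsg.Lib.GUForms
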