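import Cfsg.Agent.Known.FormIndex
import Cfsg.Agent.Known.GUForms

/-! The minus form: its index, and its base change to a quadratic extension. -/

set_option autoImplicit false
set_option linter.unusedSectionVars false

open QuadraticMap Submodule Cfsg.Lib.Classical

namespace Cfsg.Lib.MinusExtend

universe u v

variable {F : Type v} [Field F] [Finite F]

theorem minus_nondeg (m : ℕ) {a b : F} (hd : 4 * b - a ^ 2 ≠ 0) :
    (QuadraticMap.polarBilin (Refl.minusForm m F a b)).Nondegenerate := by
  have h1 : ∀ x : (Fin m ⊕ Fin m) ⊕ Fin 2 → F,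
      (∀ y, QuadraticMap.polar (⇑(Refl.minusForm m F a b)) x y = 0) → x = 0 := by
    intro x hx
    have e0 := hx (Pi.single (Sum.inr 0) 1)
    have e1 := hx (Pi.single (Sum.inr 1) 1)
    simp [QuadraticMap.polar, Refl.minusForm_coe, Cfsg.quadFormMinus] at e0 e1
    have f0 : x (Sum.inr 0) = 0 := by
      have : (4 * b - a ^ 2) * x (Sum.inr 0) = 0 := by linear_combination (2 * b) * e0 - a * e1
      exact (mul_eq_zero.mp this).resolve_left hd
    have f1 : x (Sum.inr 1) = 0 := by
      have : (4 * b - a ^ 2) * x (Sum.inr 1) = 0 := by linear_combination -a * e0 + 2 * e1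
      exact (mul_eq_zero.mp this).resolve_left hd
    funext i
    rcases i with (j | j) | j
    · have := hx (Pi.single (Sum.inl (Sum.inr j)) 1)
      simp [QuadraticMap.polar, Refl.minusForm_coe, Cfsg.quadFormMinus, Pi.single_apply, mul_add, Finset.sum_add_distrib] at this
      exact this
    · have := hx (Pi.single (Sum.inl (Sum.inl j)) 1)
      simp [QuadraticMap.polar, Refl.minusForm_coe, Cfsg.quadFormMinus, Pi.single_apply, add_mul, Finset.sum_add_distrib] at this
      exact this
    · fin_cases j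
      · exact f0
      · exact f1
  exact ⟨h1, fun x hx => h1 x fun y => by rw [QuadraticMap.polar_comm]; exact hx y⟩

/-- The first half of the hyperbolic part. -/
def left (m : ℕ) (F : Type v) [Field F] : (Fin m → F) →ₗ[F] ((Fin m ⊕ Fin m) ⊕ Fin 2 → F) where
  toFun x := Sum.elim (Sum.elim x 0) 0
  map_add' x y := by funext i; rcases i with (i | i) | i <;> simp
  map_smul' c x := by funext i; rcases i with (i | i) | i <;> simp

theorem minus_index (m : ℕ) {a b : F}
    (hab : ∀ z₁ z₂ : F, z₁ ^ 2 + a * z₁ * z₂ + b * z₂ ^ 2 = 0 → z₁ = 0 ∧ z₂ = 0)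
    (D : Cfsg.Lib.FormNormal.Decomp (Refl.minusForm m F a b) ⊤) : D.m = m := by
  classical
  have h := Cfsg.Lib.FormNormal.index_eq (Refl.minusForm_nondegenerate' m hab) D (LinearMap.range (left m F)) ?_ ?_
  · rw [h, LinearMap.finrank_range_of_inj (fun x y h => funext fun i => congrFun h (Sum.inl (Sum.inl i))),
      Module.finrank_fin_fun]
  · rintro _ ⟨x, rfl⟩; simp [left, Refl.minusForm_coe, Cfsg.quadFormMinus]
  · intro W hle hW
    refine le_antisymm (fun w hw => ?_) hle
    have hR : ∀ i, w (Sum.inl (Sum.inr i)) = 0 := fun i => by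
      have h1 := hW _ (W.add_mem (hle ⟨Pi.single i 1, rfl⟩) hw)
      have h2 := hW w hw
      simp [left, Refl.minusForm_coe, Cfsg.quadFormMinus, add_mul, Finset.sum_add_distrib, Pi.single_apply] at h1 h2
      linear_combination h1 - h2
    have h2 := hW w hw
    simp [Refl.minusForm_coe, Cfsg.quadFormMinus, hR] at h2
    obtain ⟨z0, z1⟩ := hab _ _ h2
    refine ⟨fun i => w (Sum.inl (Sum.inl i)), ?_⟩
    funext i
    rcases i with (i | i) | i
    · rfl
    · exact (hR i).symm
    · fin_cases i
      · exact z0.symm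
      · exact z1.symm

variable {K : Type u} [Field K] [Finite K] [Algebra F K]

theorem exists_root (hd : Module.finrank F K = 2) {a c : F}
    (hac : ∀ z₁ z₂ : F, z₁ ^ 2 + a * z₁ * z₂ + c * z₂ ^ 2 = 0 → z₁ = 0 ∧ z₂ = 0) :
    ∃ r : K, r ^ 2 + algebraMap F K a * r + algebraMap F K c = 0 := by
  classical
  let f : Polynomial F := Polynomial.X ^ 2 + Polynomial.C a * Polynomial.X + Polynomial.C c
  have hf : f.natDegree = 2 := by
    show (Polynomial.X ^ 2 + Polynomial.C a * Polynomial.X + Polynomial.C c).natDegree = 2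
    compute_degree!
  have hirr : Irreducible f := by
    refine (Polynomial.irreducible_iff_roots_eq_zero_of_degree_le_three (by rw [hf]) (by rw [hf]; norm_num)).2 ?_
    refine Multiset.eq_zero_of_forall_notMem fun r hr => ?_
    have h := (Polynomial.mem_roots'.1 hr).2
    simp [f] at h
    exact one_ne_zero (hac r 1 (by linear_combination h)).2
  haveI := Fact.mk hirr
  have hfd : Module.finrank F (AdjoinRoot f) = 2 := by
    rw [(AdjoinRoot.powerBasis hirr.ne_zero).finrank, AdjoinRoot.powerBasis_dim, hf]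
  obtain ⟨φ⟩ := FiniteField.nonempty_algHom_of_finrank_dvd (F := F) (K := AdjoinRoot f) (L := K) (by rw [hfd, hd])
  refine ⟨φ (AdjoinRoot.root f), ?_⟩
  have h0 : Polynomial.aeval (AdjoinRoot.root f) f = 0 := by rw [AdjoinRoot.aeval_eq, AdjoinRoot.mk_self]
  have := congrArg φ h0
  rw [← Polynomial.aeval_algHom_apply, map_zero] at this
  simp only [f, map_add, map_pow, map_mul, Polynomial.aeval_X, Polynomial.aeval_C] at this
  exact this

theorem minus_to_plus (hd : Module.finrank F K = 2) (k : ℕ) {a c : F}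
    (hac : ∀ z₁ z₂ : F, z₁ ^ 2 + a * z₁ * z₂ + c * z₂ ^ 2 = 0 → z₁ = 0 ∧ z₂ = 0) :
    ∃ g : ((Fin k ⊕ Fin k) ⊕ Fin 2 → K) ≃ₗ[K] (Fin (k + 1) ⊕ Fin (k + 1) → K),
      ∀ v, Refl.minusForm k K (algebraMap F K a) (algebraMap F K c) v = Cfsg.quadFormPlus (k + 1) K (g v) := by
  classical
  have hdisc : 4 * algebraMap F K c - algebraMap F K a ^ 2 ≠ 0 := by
    have := Refl.disc_ne_zero hac
    intro h
    apply this
    apply (algebraMap F K).injective
    simpa [map_ofNat] using h
  set Q := Refl.minusForm k K (algebraMap F K a) (algebraMap F K c)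
  have hQ : (polarBilin Q).Nondegenerate := minus_nondeg k hdisc
  obtain ⟨r, hr⟩ := exists_root (K := K) hd hac
  let L : (Fin k → K) × K →ₗ[K] ((Fin k ⊕ Fin k) ⊕ Fin 2 → K) :=
    { toFun := fun p => Sum.elim (Sum.elim p.1 0) ![p.2 * r, p.2]
      map_add' := fun p p' => by
        funext i; rcases i with (i | i) | i
        · simp
        · simp
        · fin_cases i <;> simp [add_mul]
      map_smul' := fun t p => by
        funext i; rcases i with (i | i) | i
        · simp
        · simp
        · fin_cases i <;> simp [mul_assoc] }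
  have hW : ∀ w ∈ LinearMap.range L, Q w = 0 := by
    rintro _ ⟨p, rfl⟩
    simp [L, Q, Refl.minusForm_coe, Cfsg.quadFormMinus]
    linear_combination (p.2 ^ 2) * hr
  have hWd : Module.finrank K (LinearMap.range L) = k + 1 := by
    rw [LinearMap.finrank_range_of_inj (fun x y h => Prod.ext (funext fun i => congrFun h (Sum.inl (Sum.inl i)))
      (by simpa [L] using congrFun h (Sum.inr 1))), Module.finrank_prod, Module.finrank_fin_fun, Module.finrank_self]
  obtain ⟨D⟩ := Cfsg.Lib.FormNormal.exists_decomp Q _ ⊤ rfl (Cfsg.Lib.FormNormal.nd_top Q hQ)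
  have hdim : Module.finrank K ((Fin k ⊕ Fin k) ⊕ Fin 2 → K) = 2 * (k + 1) := by
    rw [Module.finrank_pi, Fintype.card_sum, Fintype.card_sum, Fintype.card_fin, Fintype.card_fin]; ring
  have hm := Cfsg.Lib.FormNormal.index_eq hQ D _ hW (Cfsg.Lib.FormNormal.half_max hQ _ hW (by rw [hdim, hWd]; omega))
  rw [hWd] at hm
  have h1 := D.dim
  rw [finrank_top, hdim] at h1
  exact Cfsg.Lib.FormNormal.plus_equiv D hm (by omega)

theorem map_preserves (k : ℕ) {a c : F} (g : Matrix ((Fin k ⊕ Fin k) ⊕ Fin 2) ((Fin k ⊕ Fin k) ⊕ Fin 2) F)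
    (hg : ∀ v, Cfsg.quadFormMinus k F a c (g.mulVec v) = Cfsg.quadFormMinus k F a c v)
    (v : (Fin k ⊕ Fin k) ⊕ Fin 2 → K) :
    Refl.minusForm k K (algebraMap F K a) (algebraMap F K c) ((g.map (algebraMap F K)).mulVec v) =
      Refl.minusForm k K (algebraMap F K a) (algebraMap F K c) v := by
  classical
  set Q := Refl.minusForm k K (algebraMap F K a) (algebraMap F K c) with hQ
  let ι := (Fin k ⊕ Fin k) ⊕ Fin 2
  have hQι : ∀ w : ι → F, Q (fun i => algebraMap F K (w i)) = algebraMap F K (Cfsg.quadFormMinus k F a c w) := fun w => by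
    simp [hQ, Refl.minusForm_coe, Cfsg.quadFormMinus]
  have hval : ∀ w : ι → F, Q ((g.map (algebraMap F K)).mulVec (fun i => algebraMap F K (w i))) =
      Q (fun i => algebraMap F K (w i)) := fun w => by
    have e : (g.map (algebraMap F K)).mulVec (fun i => algebraMap F K (w i)) = fun i => algebraMap F K (g.mulVec w i) := by
      funext i; simp [Matrix.mulVec, dotProduct]
    rw [e, hQι, hQι, hg]
  have hs : ∀ i : ι, (Pi.single i (1 : K) : ι → K) = fun j => algebraMap F K ((Pi.single i (1 : F) : ι → F) j) := fun i => by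
    funext j; by_cases h : j = i
    · subst h; simp
    · simp [h]
  have := Cfsg.Lib.FormNormal.eq_of_basis (Q.comp (Matrix.toLin' (g.map (algebraMap F K)))) Q (Pi.basisFun K ι) ?_ ?_ v
  · simpa using this
  · intro i
    rw [QuadraticMap.comp_apply, Matrix.toLin'_apply, Pi.basisFun_apply, hs]
    exact hval _
  · intro i j
    have e : ∀ x y, polar (⇑(Q.comp (Matrix.toLin' (g.map (algebraMap F K))))) x y =
        Q ((g.map (algebraMap F K)).mulVec (x + y)) - Q ((g.map (algebraMap F K)).mulVec x) -
          Q ((g.map (algebraMap F K)).mulVec y) := fun x y => by simp [polar]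
    rw [e, Pi.basisFun_apply, Pi.basisFun_apply, hs, hs]
    have e2 : ((fun l => algebraMap F K ((Pi.single i (1 : F) : ι → F) l)) + fun l => algebraMap F K ((Pi.single j (1 : F) : ι → F) l)) =
        fun l => algebraMap F K ((Pi.single i (1 : F) + Pi.single j (1 : F) : ι → F) l) := by funext l; simp
    rw [e2, hval, hval, hval, polar, e2]

end Cfsg.Lib.MinusExtend
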