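import Cfsg.Agent.Known.FormIndex
import Cfsg.Agent.Known.MinusExtend
import Cfsg.Agent.Classical.Orth.Orders
import Mathlib

/-! Fixed-point-free isometries of odd prime order determine the type of a quadratic form. -/

set_option autoImplicit false
set_option linter.style.haveILetI false
set_option linter.unusedSectionVars false

open QuadraticMap Submodule Cfsg.Lib.Classical

namespace Cfsg.Lib.OrthCount

open FormNormal

universe u v

variable {F : Type u} [Field F] [Fintype F] {V : Type v} [AddCommGroup V] [Module F V] [FiniteDimensional F V]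
  {Q : QuadraticForm F V}

theorem aniso_of_root_free {ζ : F} (hζ : ∀ t : F, t ^ 2 + t + ζ ≠ 0) :
    ∀ z₁ z₂ : F, z₁ ^ 2 + 1 * z₁ * z₂ + ζ * z₂ ^ 2 = 0 → z₁ = 0 ∧ z₂ = 0 := by
  intro z₁ z₂ h
  by_cases h2 : z₂ = 0
  · subst h2; simpa using h
  · exact absurd (by field_simp; linear_combination h) (hζ (z₁ / z₂))

/-- The number of singular vectors. -/
theorem card_zeros {w : ℕ} (hw : 1 ≤ w) (D : Decomp Q (⊤ : Submodule F V)) (hd : Module.finrank F V = 2 * w) :
    (Nat.card {v // Q v = 0} : ℤ) = (Fintype.card F : ℤ) ^ (2 * w - 1) +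
      (if Module.finrank F D.K = 0 then 1 else -1) * ((Fintype.card F : ℤ) ^ w - (Fintype.card F : ℤ) ^ (w - 1)) := by
  have h1 := D.dim
  have h2 := D.small
  rw [finrank_top, hd] at h1
  have hq : 1 ≤ Fintype.card F := Fintype.card_pos
  have hpow : ∀ a b : ℕ, a ≤ b → Fintype.card F ^ a ≤ Fintype.card F ^ b := fun a b h => Nat.pow_le_pow_right hq h
  split_ifs with h0
  · have hm : D.m = w := by omega
    obtain ⟨g, hg⟩ := plus_equiv D hm h0
    rw [Nat.card_congr (g.toEquiv.subtypeEquiv (q := fun x => Cfsg.quadFormPlus w F x = 0) fun v => by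
      rw [hg v]; exact Iff.rfl), OrthCard.count_plus w hw, Nat.card_eq_fintype_card,
      Nat.cast_sub (by have := hpow (w - 1) w (by omega); omega)]
    push_cast; ring
  · have hK : Module.finrank F D.K = 2 := by omega
    obtain ⟨ζ, hζ, -⟩ := exists_plane Q D.ndK D.aniso hK
    obtain ⟨g, hg⟩ := minus_equiv D (k := w - 1) (by omega) hK hζ
    rw [Nat.card_congr (g.toEquiv.subtypeEquiv (q := fun x => Cfsg.quadFormMinus (w - 1) F 1 ζ x = 0) fun v => by
      rw [hg v]; exact Iff.rfl), OrthCard.count_minus w hw (aniso_of_root_free hζ), Nat.card_eq_fintype_card,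
      Nat.cast_sub (by have := hpow w (2 * w - 1) (by omega); omega)]
    push_cast; ring

/-- The number of vectors of value one. -/
theorem card_one {w : ℕ} (hw : 1 ≤ w) (hQ : (polarBilin Q).Nondegenerate) (D : Decomp Q (⊤ : Submodule F V))
    (hd : Module.finrank F V = 2 * w) :
    (Nat.card {v // Q v = 1} : ℤ) = (Fintype.card F : ℤ) ^ (w - 1) *
      ((Fintype.card F : ℤ) ^ w - if Module.finrank F D.K = 0 then 1 else -1) := by
  classical
  haveI : Finite V := Module.finite_of_finite F
  haveI := Fintype.ofFinite V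
  choose g hg using fun c : Fˣ => similar_even (Q := Q) hd hQ (c := (c : F)) c.ne_zero
  let e : {v // ¬ Q v = 0} ≃ Fˣ × {v // Q v = 1} :=
    { toFun := fun v => (Units.mk0 _ v.2, ⟨(g (Units.mk0 _ v.2)).symm v.1, by
        have h := hg (Units.mk0 _ v.2) ((g (Units.mk0 _ v.2)).symm v.1)
        rw [LinearEquiv.apply_symm_apply, Units.val_mk0] at h
        exact mul_left_cancel₀ v.2 (h.symm.trans (mul_one _).symm)⟩)
      invFun := fun p => ⟨g p.1 p.2.1, by rw [hg, p.2.2, mul_one]; exact p.1.ne_zero⟩
      left_inv := fun v => Subtype.ext (by simp)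
      right_inv := fun p => by
        have hc : Units.mk0 (Q (g p.1 p.2.1)) (by rw [hg, p.2.2, mul_one]; exact p.1.ne_zero) = p.1 :=
          Units.ext (by rw [Units.val_mk0, hg, p.2.2, mul_one])
        refine Prod.ext hc (Subtype.ext ?_)
        simp [hc] }
  have htot : Nat.card {v // Q v = 0} + (Fintype.card F - 1) * Nat.card {v // Q v = 1} = Fintype.card F ^ (2 * w) := by
    rw [← hd, ← Module.card_eq_pow_finrank (K := F) (V := V), ← Fintype.card_congr (Equiv.sumCompl fun v => Q v = 0),
      Fintype.card_sum, Fintype.card_congr e, Fintype.card_prod, Fintype.card_units, Nat.card_eq_fintype_card,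
      Nat.card_eq_fintype_card]
  have hz := card_zeros hw D hd
  have hq : (1 : ℤ) < Fintype.card F := by exact_mod_cast Fintype.one_lt_card
  have htot' : (Nat.card {v // Q v = 0} : ℤ) + ((Fintype.card F : ℤ) - 1) * Nat.card {v // Q v = 1} =
      (Fintype.card F : ℤ) ^ (2 * w) := by
    have := congrArg (fun x : ℕ => (x : ℤ)) htot
    push_cast [Nat.cast_sub (Fintype.card_pos (α := F))] at this
    exact this
  refine mul_left_cancel₀ (sub_ne_zero.2 hq.ne') ?_
  have e1 : (Fintype.card F : ℤ) ^ (2 * w) = Fintype.card F * (Fintype.card F : ℤ) ^ (2 * w - 1) := by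
    rw [← pow_succ', show 2 * w - 1 + 1 = 2 * w by omega]
  have e2 : (Fintype.card F : ℤ) ^ w = Fintype.card F * (Fintype.card F : ℤ) ^ (w - 1) := by
    rw [← pow_succ', show w - 1 + 1 = w by omega]
  have e3 : (Fintype.card F : ℤ) ^ (2 * w - 1) = (Fintype.card F : ℤ) ^ (w - 1) * (Fintype.card F : ℤ) ^ w := by
    rw [← pow_add, show w - 1 + w = 2 * w - 1 by omega]
  linear_combination htot' - hz + e1 + ((Fintype.card F : ℤ) - 1) * e3 -
    (if Module.finrank F D.K = 0 then (1 : ℤ) else -1) * e2

/-- The type of a space with a fixed-point-free isometry of odd prime order. -/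
theorem free_sign {r : ℕ} [Fact r.Prime] {w : ℕ} (hQ : (polarBilin Q).Nondegenerate)
    (D : Decomp Q (⊤ : Submodule F V)) (hd : Module.finrank F V = 2 * w) (hq : (Fintype.card F : ZMod r) ≠ 0)
    (a : Module.End F V) (ha : ∀ v, Q (a v) = Q v) (har : a ^ r = 1) (hfree : ∀ v, a v = v → v = 0) :
    (Fintype.card F : ZMod r) ^ w = if Module.finrank F D.K = 0 then 1 else -1 := by
  classical
  rcases Nat.eq_zero_or_pos w with hw | hw
  · have h := D.dim
    rw [finrank_top, hd, hw] at h
    rw [if_pos (show Module.finrank F D.K = 0 by omega), hw, pow_zero]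
  haveI : Finite V := Module.finite_of_finite F
  haveI := Fintype.ofFinite V
  let f : Function.End {v // Q v = 1} := fun v => ⟨a v.1, by rw [ha]; exact v.2⟩
  have hf : ∀ k v, ((f ^ k) v).1 = (a ^ k) v.1 := fun k => by
    induction k with
    | zero => exact fun v => rfl
    | succ k ih => intro v; rw [pow_succ', pow_succ', Module.End.mul_apply, ← ih]; rfl
  have hfr : f ^ r ^ 1 = 1 := by
    funext v
    refine Subtype.ext ?_
    rw [pow_one, hf, har]
    rfl
  have h := Equiv.Perm.card_fixedPoints_modEq hfr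
  have h0 : Fintype.card (Function.fixedPoints f) = 0 := by
    rw [Fintype.card_eq_zero_iff]
    refine ⟨fun v => ?_⟩
    have := hfree v.1.1 (congrArg Subtype.val v.2)
    have h1 := v.1.2
    rw [this, QuadraticMap.map_zero] at h1
    exact zero_ne_one h1
  rw [h0, Nat.modEq_zero_iff_dvd, ← Nat.card_eq_fintype_card, ← ZMod.natCast_eq_zero_iff] at h
  have h1 := congrArg (fun x : ℤ => (x : ZMod r)) (card_one hw hQ D hd)
  simp only [Int.cast_natCast, h, Int.cast_mul, Int.cast_pow, Int.cast_sub] at h1
  have h2 := (mul_eq_zero.1 h1.symm).resolve_left (pow_ne_zero _ hq)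
  rw [sub_eq_zero] at h2
  rw [h2]
  split_ifs <;> simp

end Cfsg.Lib.OrthCount
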