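import Cfsg.Agent.Known.FormIndex
import Cfsg.Agent.Classical.Orth.StdForms
import Mathlib

/-! Orthogonal sums of quadratic spaces and their types. -/

set_option autoImplicit false
set_option linter.style.haveILetI false
set_option linter.unusedSectionVars false

open QuadraticMap Submodule Cfsg.Lib.Classical

namespace Cfsg.Lib.OrthGlue

open FormNormal

universe u v w

variable {F : Type u} [Field F] [Finite F] {V : Type v} [AddCommGroup V] [Module F V] [FiniteDimensional F V]
  {W : Type w} [AddCommGroup W] [Module F W] [FiniteDimensional F W] {Q : QuadraticForm F V} {R : QuadraticForm F W}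

theorem polar_prod (Q : QuadraticForm F V) (R : QuadraticForm F W) (x y : V × W) :
    polar (⇑(Q.prod R)) x y = polar (⇑Q) x.1 y.1 + polar (⇑R) x.2 y.2 := by
  simp only [polar, QuadraticMap.prod_apply, Prod.fst_add, Prod.snd_add]; ring

theorem prod_nondegenerate (hQ : (polarBilin Q).Nondegenerate) (hR : (polarBilin R).Nondegenerate) :
    (polarBilin (Q.prod R)).Nondegenerate := by
  have h1 : ∀ x, (∀ y, polar (⇑(Q.prod R)) x y = 0) → x = 0 := fun x h => by
    refine Prod.ext (hQ.1 x.1 fun y => ?_) (hR.1 x.2 fun y => ?_)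
    · have := h (y, 0); rw [polar_prod] at this; simpa using this
    · have := h (0, y); rw [polar_prod] at this; simpa using this
  exact ⟨h1, fun x hx => h1 x fun y => by rw [polar_comm]; exact hx y⟩

/-- The orthogonal sum of two decompositions, one of which is hyperbolic. -/
theorem exists_union (D : Decomp Q (⊤ : Submodule F V)) (E : Decomp R (⊤ : Submodule F W))
    (h : Module.finrank F D.K = 0 ∨ Module.finrank F E.K = 0) :
    ∃ U : Decomp (Q.prod R) (⊤ : Submodule F (V × W)),
      U.m = D.m + E.m ∧ Module.finrank F U.K = Module.finrank F D.K + Module.finrank F E.K := by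
  classical
  have hK : Module.finrank F ↥(D.K.prod E.K) = Module.finrank F D.K + Module.finrank F E.K := by
    let e : ↥(D.K.prod E.K) ≃ₗ[F] D.K × E.K :=
      { toFun := fun x => (⟨x.1.1, x.2.1⟩, ⟨x.1.2, x.2.2⟩)
        invFun := fun x => ⟨(x.1.1, x.2.1), x.1.2, x.2.2⟩
        left_inv := fun _ => rfl
        right_inv := fun _ => rfl
        map_add' := fun _ _ => rfl
        map_smul' := fun _ _ => rfl }
    rw [e.finrank_eq, Module.finrank_prod]
  refine ⟨{
    m := D.m + E.m
    e := Fin.append (fun i => (D.e i, 0)) (fun i => (0, E.e i))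
    f := Fin.append (fun i => (D.f i, 0)) (fun i => (0, E.f i))
    K := D.K.prod E.K
    hK := le_top
    ndK := fun x hx hy => Prod.ext (D.ndK x.1 hx.1 fun y hy' => by
        have := hy (y, 0) ⟨hy', E.K.zero_mem⟩; rw [polar_prod] at this; simpa using this)
      (E.ndK x.2 hx.2 fun y hy' => by
        have := hy (0, y) ⟨D.K.zero_mem, hy'⟩; rw [polar_prod] at this; simpa using this)
    aniso := fun x hx hx0 => by
      rw [QuadraticMap.prod_apply] at hx0
      rcases h with h | h
      · have h1 : x.1 = 0 := by have := Submodule.finrank_eq_zero.1 h ▸ hx.1; simpa using this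
        rw [h1, QuadraticMap.map_zero, zero_add] at hx0
        exact Prod.ext h1 (E.aniso x.2 hx.2 hx0)
      · have h1 : x.2 = 0 := by have := Submodule.finrank_eq_zero.1 h ▸ hx.2; simpa using this
        rw [h1, QuadraticMap.map_zero, add_zero] at hx0
        exact Prod.ext (D.aniso x.1 hx.1 hx0) h1
    he := fun _ => trivial
    hf := fun _ => trivial
    qe := fun i => by induction i using Fin.addCases <;> simp [D.qe, E.qe]
    qf := fun i => by induction i using Fin.addCases <;> simp [D.qf, E.qf]
    ef := fun i j => by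
      induction i using Fin.addCases <;> induction j using Fin.addCases <;>
        simp [polar_prod, D.ef, E.ef, Fin.ext_iff] <;> omega
    ee := fun i j => by
      induction i using Fin.addCases <;> induction j using Fin.addCases <;> simp [polar_prod, D.ee, E.ee]
    ff := fun i j => by
      induction i using Fin.addCases <;> induction j using Fin.addCases <;> simp [polar_prod, D.ff, E.ff]
    ek := fun i k hk => by
      induction i using Fin.addCases <;> simp [polar_prod, D.ek _ _ hk.1, E.ek _ _ hk.2]
    fk := fun i k hk => by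
      induction i using Fin.addCases <;> simp [polar_prod, D.fk _ _ hk.1, E.fk _ _ hk.2]
    dim := by
      rw [hK, finrank_top, Module.finrank_prod]
      have h1 := D.dim
      have h2 := E.dim
      rw [finrank_top] at h1 h2
      omega
    small := by
      rw [hK]
      have h1 := D.small
      have h2 := E.small
      rcases h with h | h <;> omega }, rfl, hK⟩

/-- The standard hyperbolic space. -/
theorem exists_plus_space (F : Type u) [Field F] [Finite F] (d : ℕ) :
    ∃ (D : Decomp (HypQuad.plusForm d F) (⊤ : Submodule F (Fin d ⊕ Fin d → F))),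
      D.m = d ∧ Module.finrank F D.K = 0 ∧ (polarBilin (HypQuad.plusForm d F)).Nondegenerate := by
  classical
  have hp : ∀ x y, polar (⇑(HypQuad.plusForm d F)) x y = ∑ i, (x (.inl i) * y (.inr i) + y (.inl i) * x (.inr i)) := by
    intro x y
    simp only [polar, HypQuad.plusForm_apply, Cfsg.quadFormPlus, Pi.add_apply, ← Finset.sum_sub_distrib]
    exact Finset.sum_congr rfl fun i _ => by ring
  have h1 : ∀ x, (∀ y, polar (⇑(HypQuad.plusForm d F)) x y = 0) → x = 0 := fun x h => by
    funext i
    rcases i with i | i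
    · simpa [hp, Pi.single_apply] using h (Pi.single (Sum.inr i) 1)
    · simpa [hp, Pi.single_apply] using h (Pi.single (Sum.inl i) 1)
  refine ⟨{
    m := d
    e := fun i => Pi.single (Sum.inl i) 1
    f := fun i => Pi.single (Sum.inr i) 1
    K := ⊥
    hK := le_top
    ndK := fun x hx _ => by simpa using hx
    aniso := fun x hx _ => by simpa using hx
    he := fun _ => trivial
    hf := fun _ => trivial
    qe := fun i => by simp [HypQuad.plusForm_apply, Cfsg.quadFormPlus, Pi.single_apply]
    qf := fun i => by simp [HypQuad.plusForm_apply, Cfsg.quadFormPlus, Pi.single_apply]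
    ef := fun i j => by simp [hp, Pi.single_apply, eq_comm]
    ee := fun i j => by simp [hp, Pi.single_apply]
    ff := fun i j => by simp [hp, Pi.single_apply]
    ek := fun i k hk => by
      rw [Submodule.mem_bot] at hk; subst hk; simp [hp]
    fk := fun i k hk => by
      rw [Submodule.mem_bot] at hk; subst hk; simp [hp]
    dim := by rw [finrank_bot, finrank_top, Module.finrank_fintype_fun_eq_card]; simp; ring
    small := by rw [finrank_bot]; omega }, rfl, finrank_bot F _, h1, fun x hx => h1 x fun y => by
      rw [polar_comm]; exact hx y⟩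

/-- Two anisotropic planes make a hyperbolic space. -/
theorem plus_of_two_planes (D : Decomp Q (⊤ : Submodule F V)) (E : Decomp R (⊤ : Submodule F W))
    (hQ : (polarBilin Q).Nondegenerate) (hR : (polarBilin R).Nondegenerate)
    (hD : Module.finrank F D.K = 2) (hE : Module.finrank F E.K = 2) (U : Decomp (Q.prod R) (⊤ : Submodule F (V × W))) :
    Module.finrank F U.K = 0 := by
  classical
  obtain ⟨ζ, hζ, -⟩ := exists_plane Q D.ndK D.aniso hD
  obtain ⟨g₁, hg₁⟩ := minus_equiv D rfl hD hζ
  obtain ⟨g₂, hg₂⟩ := minus_equiv E rfl hE hζ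
  -- a similitude of the plane with multiplier `-1`
  obtain ⟨DP, -, -, hPnd⟩ := exists_plus_space F 0
  have hζ' : ∀ z₁ z₂ : F, z₁ ^ 2 + 1 * z₁ * z₂ + ζ * z₂ ^ 2 = 0 → z₁ = 0 ∧ z₂ = 0 := fun z₁ z₂ h => by
    by_cases h2 : z₂ = 0
    · subst h2; simpa using h
    · exact absurd (by field_simp; linear_combination h) (hζ (z₁ / z₂))
  obtain ⟨σ, hσ⟩ := similar_even (Q := Refl.minusForm 0 F 1 ζ) (n := 1) (by simp)
    (Refl.minusForm_nondegenerate' 0 hζ') (c := (-1 : F)) (neg_ne_zero.2 one_ne_zero)
  simp only [Refl.minusForm_coe] at hσ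
  -- a totally singular subspace of half the dimension
  let i₁ : (Fin D.m → F) × ((Fin E.m → F) × ((Fin 0 ⊕ Fin 0) ⊕ Fin 2 → F)) →ₗ[F] V × W :=
    { toFun := fun p => (g₁.symm (Sum.elim (Sum.elim p.1 0) (fun j => p.2.2 (.inr j))),
        g₂.symm (Sum.elim (Sum.elim p.2.1 0) (fun j => σ p.2.2 (.inr j))))
      map_add' := fun p p' => by
        refine Prod.ext (g₁.injective ?_) (g₂.injective ?_) <;>
          (simp only [Prod.fst_add, Prod.snd_add, map_add, LinearEquiv.apply_symm_apply]
           funext i; rcases i with (i | i) | i <;> simp)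
      map_smul' := fun c p => by
        refine Prod.ext (g₁.injective ?_) (g₂.injective ?_) <;>
          (simp only [RingHom.id_apply, Prod.smul_fst, Prod.smul_snd, map_smul, LinearEquiv.apply_symm_apply]
           funext i; rcases i with (i | i) | i <;> simp) }
  have hi : Function.Injective i₁ := by
    intro p p' h
    have h1 := congrArg (fun x : V × W => g₁ x.1) h
    have h2 := congrArg (fun x : V × W => g₂ x.2) h
    simp only [i₁, LinearMap.coe_mk, AddHom.coe_mk, LinearEquiv.apply_symm_apply] at h1 h2
    refine Prod.ext (funext fun i => congrFun h1 (.inl (.inl i))) (Prod.ext (funext fun i => congrFun h2 (.inl (.inl i))) ?_)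
    funext i
    rcases i with (i | i) | i
    · exact i.elim0
    · exact i.elim0
    · exact congrFun h1 (.inr i)
  have hs : ∀ x ∈ LinearMap.range i₁, (Q.prod R) x = 0 := by
    rintro _ ⟨p, rfl⟩
    simp only [i₁, LinearMap.coe_mk, AddHom.coe_mk, QuadraticMap.prod_apply, hg₁, hg₂, LinearEquiv.apply_symm_apply]
    have h := hσ p.2.2
    simp only [Cfsg.quadFormMinus, Finset.univ_eq_empty, Finset.sum_empty, zero_add] at h
    simp only [Cfsg.quadFormMinus, Sum.elim_inl, Sum.elim_inr, Pi.zero_apply, mul_zero, Finset.sum_const_zero, zero_add]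
    linear_combination h
  have h1 := D.dim
  have h2 := E.dim
  have h3 := U.dim
  rw [finrank_top] at h1 h2 h3
  rw [Module.finrank_prod] at h3
  have hr : Module.finrank F (LinearMap.range i₁) = D.m + (E.m + 2) := by
    rw [LinearMap.finrank_range_of_inj hi]; simp
  have := index_eq (prod_nondegenerate hQ hR) U _ hs
    (half_max (prod_nondegenerate hQ hR) _ hs (by rw [hr, Module.finrank_prod]; omega))
  omega

/-- An odd-dimensional nondegenerate form is similar to the standard one. -/
theorem odd_equiv {m : ℕ} (hV : Module.finrank F V = 2 * m + 1) (hQ : (polarBilin Q).Nondegenerate) :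
    ∃ (g : (Unit ⊕ (Fin m ⊕ Fin m) → F) ≃ₗ[F] V) (c : F), c ≠ 0 ∧ ∀ x, Q (g x) = c * Cfsg.quadFormOdd m F x := by
  classical
  obtain ⟨D, z, hm, hz, hQz, hli, hK⟩ := odd_basis hV hQ
  subst hm
  obtain ⟨β, hβ⟩ := D.basis rfl (κ := Unit) (fun _ => z) (fun _ => hz)
    (LinearIndependent.of_subsingleton () (fun e => hQz (by rw [e, QuadraticMap.map_zero]))) (by rw [hK]; rfl)
  let sc : Unit ⊕ (Fin D.m ⊕ Fin D.m) → Fˣ := Sum.elim (fun _ => 1) (Sum.elim (fun _ => Units.mk0 _ hQz) fun _ => 1)
  let b := (β.reindex (Equiv.sumComm _ _)).unitsSMul sc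
  have hb : ∀ i, b i = sc i • Sum.elim (fun _ => z) (Sum.elim D.e D.f) i := fun i => by
    rcases i with i | i | i <;> simp [b, Module.Basis.unitsSMul_apply, hβ]
  refine ⟨b.equivFun.symm, Q z, hQz, fun x => ?_⟩
  have key := eq_of_basis (Q.comp b.equivFun.symm.toLinearMap) (Q z • Refl.oddForm D.m F) (Pi.basisFun F _) ?_ ?_ x
  · simpa [Refl.oddForm_coe] using key
  · intro i
    have e : b.equivFun.symm (Pi.single i 1) = b i := by simp [Module.Basis.equivFun_symm_apply, Pi.single_apply, ite_smul]
    rw [QuadraticMap.comp_apply, Pi.basisFun_apply, LinearEquiv.coe_coe, e, hb]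
    rcases i with i | i | i <;>
      simp [sc, Units.smul_def, Refl.oddForm_coe, Cfsg.quadFormOdd, Pi.single_apply, D.qe, D.qf, QuadraticMap.map_smul]
  · intro i j
    have e : ∀ i, b.equivFun.symm (Pi.single i 1) = b i := fun i => by
      simp [Module.Basis.equivFun_symm_apply, Pi.single_apply, ite_smul]
    have hL : polar (⇑(Q.comp b.equivFun.symm.toLinearMap)) (Pi.basisFun F _ i) (Pi.basisFun F _ j) =
        polar (⇑Q) (b i) (b j) := by
      simp only [polar, QuadraticMap.comp_apply, map_add, LinearEquiv.coe_coe, Pi.basisFun_apply, e]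
    rw [hL, hb, hb, Units.smul_def, Units.smul_def, polar_smul_left, polar_smul_right]
    have hzz : polar (⇑Q) z z = 2 * Q z := polar_self' Q z
    rcases i with i | i | i <;> rcases j with j | j | j <;>
      simp only [sc, Sum.elim_inl, Sum.elim_inr, hzz, D.ee, D.ff, D.ef, polar_comm (⇑Q) (D.f _) (D.e _),
        polar_comm (⇑Q) z (D.e _), polar_comm (⇑Q) z (D.f _), D.ek _ _ hz, D.fk _ _ hz] <;>
      simp [polar, Refl.oddForm_coe, Cfsg.quadFormOdd, Pi.single_apply, add_mul, mul_add, Finset.sum_add_distrib,
        eq_comm] <;>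
      (try ring1)

end Cfsg.Lib.OrthGlue
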