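import Cfsg.Agent.Known.UnitaryConj
import Cfsg.Agent.Classical.Unitary.Matrix
import Mathlib

/-! The prelude unitary groups: conjugacy of elements and unipotent types. -/

set_option autoImplicit false

open Matrix

namespace Cfsg.Lib.UnitaryConj

open Cfsg.Lib.Classical

variable {K : Type*} [Field K] [Fintype K] {q n : ℕ}

theorem invol (hK : Fintype.card K = q ^ 2) (a : K) : powConj hK (powConj hK a) = a :=
  (powConj_isConj hK).invol a

theorem exists_moved (hK : Fintype.card K = q ^ 2) : ∃ a, powConj hK a ≠ a := (powConj_isConj hK).ne_id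

theorem preserves_iff (hK : Fintype.card K = q ^ 2) (A : Matrix (Fin n) (Fin n) K) :
    (∀ u v, Cfsg.hermForm n K q (A *ᵥ u) (A *ᵥ v) = Cfsg.hermForm n K q u v) ↔ cst (powConj hK) A * A = 1 := by
  have hf : ∀ u v : Fin n → K, Cfsg.hermForm n K q u v = (powConj hK ∘ v) ⬝ᵥ u := by
    intro u v
    simp [Cfsg.hermForm, dotProduct, powConj_apply, mul_comm]
  have hm : ∀ v : Fin n → K, powConj hK ∘ (A *ᵥ v) = A.map (powConj hK) *ᵥ (powConj hK ∘ v) := by
    intro v; funext i
    simp [mulVec, dotProduct, map_sum]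
  have e : ∀ u v : Fin n → K, Cfsg.hermForm n K q (A *ᵥ u) (A *ᵥ v) =
      (powConj hK ∘ v) ⬝ᵥ ((cst (powConj hK) A * A) *ᵥ u) := by
    intro u v
    rw [hf, hm, ← mulVec_mulVec, dotProduct_mulVec (powConj hK ∘ v) (cst (powConj hK) A), cst, vecMul_transpose]
  constructor
  · intro h
    refine Matrix.ext_of_mulVec_single fun j => funext fun i => ?_
    have := h (Pi.single j 1) (Pi.single i 1)
    rw [e, hf] at this
    have hs : powConj hK ∘ (Pi.single i (1 : K) : Fin n → K) = Pi.single i 1 := by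
      funext k; by_cases hk : k = i <;> simp [hk]
    rw [hs, single_one_dotProduct, single_one_dotProduct] at this
    rw [one_mulVec]; exact this
  · intro h u v
    rw [e, h, one_mulVec, hf]

theorem mem_GU (hK : Fintype.card K = q ^ 2) (A : GL (Fin n) K) :
    A ∈ Cfsg.GU n K q ↔ cst (powConj hK) (A : Matrix (Fin n) (Fin n) K) * A = 1 :=
  (preserves_iff hK _)

theorem mem_SU (hK : Fintype.card K = q ^ 2) (A : Matrix.SpecialLinearGroup (Fin n) K) :
    A ∈ Cfsg.SU n K q ↔ cst (powConj hK) (A : Matrix (Fin n) (Fin n) K) * A = 1 :=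
  (preserves_iff hK _)

/-- A unitary matrix as an element of `GU`. -/
theorem exists_GU_of (hK : Fintype.card K = q ^ 2) (M : Matrix (Fin n) (Fin n) K) (h : cst (powConj hK) M * M = 1) :
    ∃ g : Cfsg.GU n K q, ((g : GL (Fin n) K) : Matrix (Fin n) (Fin n) K) = M := by
  have h' : M * cst (powConj hK) M = 1 := mul_eq_one_comm.1 h
  exact ⟨⟨⟨M, cst (powConj hK) M, h', h⟩, (mem_GU hK _).2 h⟩, rfl⟩

theorem conj_GU (hK : Fintype.card K = q ^ 2) (A B : Cfsg.GU n K q) (T : GL (Fin n) K)
    (h : (T : Matrix (Fin n) (Fin n) K) * ((A : GL (Fin n) K) : Matrix (Fin n) (Fin n) K) =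
      ((B : GL (Fin n) K) : Matrix (Fin n) (Fin n) K) * T) : IsConj A B := by
  obtain ⟨T', hT', hTA⟩ := exists_conj (invol hK) (exists_moved hK) _ _ _ ((mem_GU hK _).1 A.2) ((mem_GU hK _).1 B.2)
    (Matrix.GeneralLinearGroup.det_ne_zero T) h
  obtain ⟨g, hg⟩ := exists_GU_of hK T' hT'
  refine isConj_iff.2 ⟨g, mul_inv_eq_iff_eq_mul.2 (Subtype.ext (Units.ext ?_))⟩
  show ((g : GL (Fin n) K) : Matrix (Fin n) (Fin n) K) * _ = _ * ((g : GL (Fin n) K) : Matrix (Fin n) (Fin n) K)
  rw [hg]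
  exact hTA

theorem isConj_GU_of_type (hK : Fintype.card K = q ^ 2) (A B : Cfsg.GU n K q) {μ : Nat.Partition n}
    (hA : UnipClasses.HasType (((A : GL (Fin n) K) : Matrix (Fin n) (Fin n) K) - 1) μ)
    (hB : UnipClasses.HasType (((B : GL (Fin n) K) : Matrix (Fin n) (Fin n) K) - 1) μ) : IsConj A B := by
  obtain ⟨T, hT⟩ := UnipClasses.similar_of_type hA hB
  refine conj_GU hK A B T ?_
  rw [mul_sub, sub_mul, mul_one, one_mul, sub_left_inj] at hT
  exact hT

/-- Determinants reached by unitary matrices commuting with a unipotent one. -/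
theorem exists_commute_det (hK : Fintype.card K = q ^ 2) (A : Matrix (Fin n) (Fin n) K)
    (hA : cst (powConj hK) A * A = 1) {μ : Nat.Partition n} (hμ : UnipClasses.HasType (A - 1) μ)
    (z : Fin μ.parts.toList.length → K) (hz : ∀ i, powConj hK (z i) * z i = 1) :
    ∃ D : Matrix (Fin n) (Fin n) K, cst (powConj hK) D * D = 1 ∧ D * A = A * D ∧
      D.det = ∏ i, z i ^ UnipClasses.lens μ i := by
  obtain ⟨U, hU, hUμ, hD⟩ := exists_model _ (invol hK) (exists_moved hK) μ
  obtain ⟨D, hD1, hD2, hD3⟩ := hD z hz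
  obtain ⟨T, hT⟩ := UnipClasses.similar_of_type hUμ hμ
  rw [mul_sub, sub_mul, mul_one, one_mul, sub_left_inj] at hT
  obtain ⟨R, hR, hRU⟩ := exists_conj (invol hK) (exists_moved hK) U A _ hU hA
    (Matrix.GeneralLinearGroup.det_ne_zero T) hT
  have hR' : R * cst (powConj hK) R = 1 := mul_eq_one_comm.1 hR
  refine ⟨R * D * cst (powConj hK) R, ?_, ?_, ?_⟩
  · rw [cst_mul, cst_mul, cst_cst _ (invol hK)]
    calc R * (cst (powConj hK) D * cst (powConj hK) R) * (R * D * cst (powConj hK) R)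
        = R * (cst (powConj hK) D * (cst (powConj hK) R * R) * D) * cst (powConj hK) R := by simp only [mul_assoc]
      _ = 1 := by rw [hR, mul_one, hD1, mul_one, hR']
  · have e : A = R * U * cst (powConj hK) R := by rw [hRU, mul_assoc, hR', mul_one]
    rw [e]
    calc R * D * cst (powConj hK) R * (R * U * cst (powConj hK) R)
        = R * D * (cst (powConj hK) R * R) * U * cst (powConj hK) R := by simp only [mul_assoc]
      _ = R * (D * U) * cst (powConj hK) R := by rw [hR, mul_one, mul_assoc R D U]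
      _ = R * (U * (cst (powConj hK) R * R) * D) * cst (powConj hK) R := by rw [hD2, hR, mul_one]
      _ = R * U * cst (powConj hK) R * (R * D * cst (powConj hK) R) := by simp only [mul_assoc]
  · rw [det_mul_right_comm, det_mul, hR', det_one, one_mul, hD3]

/-- Special unitary conjugacy of two unipotent elements of one type, when the determinant can be corrected. -/
theorem isConj_SU_of_type (hK : Fintype.card K = q ^ 2) (s t : Cfsg.SU n K q) {μ : Nat.Partition n}
    (hs : UnipClasses.HasType (((s : Matrix.SpecialLinearGroup (Fin n) K) : Matrix (Fin n) (Fin n) K) - 1) μ)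
    (ht : UnipClasses.HasType (((t : Matrix.SpecialLinearGroup (Fin n) K) : Matrix (Fin n) (Fin n) K) - 1) μ)
    (hdet : ∀ d : K, powConj hK d * d = 1 → ∃ z : Fin μ.parts.toList.length → K,
      (∀ i, powConj hK (z i) * z i = 1) ∧ ∏ i, z i ^ UnipClasses.lens μ i = d) : IsConj s t := by
  obtain ⟨T, hT⟩ := UnipClasses.similar_of_type hs ht
  rw [mul_sub, sub_mul, mul_one, one_mul, sub_left_inj] at hT
  obtain ⟨R, hR, hRs⟩ := exists_conj (invol hK) (exists_moved hK) _ _ _ ((mem_SU hK _).1 s.2) ((mem_SU hK _).1 t.2)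
    (Matrix.GeneralLinearGroup.det_ne_zero T) hT
  have hd1 : powConj hK R.det * R.det = 1 := by rw [← det_cst, ← det_mul, hR, det_one]
  have hd0 : R.det ≠ 0 := fun h => by rw [h, mul_zero] at hd1; exact zero_ne_one hd1
  obtain ⟨z, hz, hzd⟩ := hdet R.det⁻¹ (by rw [map_inv₀, ← mul_inv, hd1, inv_one])
  obtain ⟨D, hD1, hD2, hD3⟩ := exists_commute_det hK _ ((mem_SU hK _).1 s.2) hs z hz
  have hdet1 : (R * D).det = 1 := by rw [det_mul, hD3, hzd, mul_inv_cancel₀ hd0]
  have hmem : cst (powConj hK) (R * D) * (R * D) = 1 := by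
    rw [cst_mul, mul_assoc, ← mul_assoc (cst (powConj hK) R), hR, one_mul, hD1]
  let g : Cfsg.SU n K q := ⟨⟨R * D, hdet1⟩, (mem_SU hK _).2 hmem⟩
  refine isConj_iff.2 ⟨g, mul_inv_eq_iff_eq_mul.2 (Subtype.ext (Subtype.ext ?_))⟩
  show R * D * _ = _ * (R * D)
  rw [mul_assoc, hD2, ← mul_assoc, hRs, mul_assoc]

end Cfsg.Lib.UnitaryConj
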