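import Cfsg.Agent.Known.FieldCosetMain
import Cfsg.Agent.Known.ChevAut.OutStruct
import Cfsg.Agent.Known.UnitaryGU

/-!
Centralisers and class splitting of field and graph-field automorphisms of prime order of `PSL_n`.
-/

set_option autoImplicit false
set_option linter.unusedSectionVars false

namespace Cfsg.Lib.Known.AutPSLn

open Matrix

variable {F : Type*} [Field F] [Fintype F] {n : ℕ}

local notation "GLn" => GL (Fin n) F
local notation "Pn" => Matrix.ProjectiveSpecialLinearGroup (Fin n) F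
local notation "Mn" => Matrix (Fin n) (Fin n) F

theorem conjP_eq_one_iff (hn : 2 ≤ n) (g : GLn) : (conjP g : MulAut Pn) = 1 ↔ g ∈ Subgroup.center GLn :=
  ⟨fun h => (conjP_fieldP_eq_one hn (A := g) (σ := 1) (by rw [h, map_one, one_mul])).1, conjP_scalar⟩

theorem aut_comm (σ τ : F ≃+* F) : σ * τ = τ * σ := by
  obtain ⟨p, hp⟩ := CharP.exists F
  obtain ⟨e, hpr, he⟩ := FiniteField.card F p
  have := Fact.mk hpr
  have hc : IsCyclic (F ≃+* F) := (Cfsg.Lib.Known.ChevAut.ringAut_facts (F := F) p e he).1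
  obtain ⟨g, hg⟩ := hc.exists_generator
  obtain ⟨i, rfl⟩ := Subgroup.mem_zpowers_iff.1 (hg σ)
  obtain ⟨j, rfl⟩ := Subgroup.mem_zpowers_iff.1 (hg τ)
  exact (Commute.zpow_zpow_self g i j).eq

theorem fieldP_comm (σ τ : F ≃+* F) : Commute (fieldP σ : MulAut Pn) (fieldP τ) := by
  show fieldP σ * fieldP τ = fieldP τ * fieldP σ
  rw [← map_mul, ← map_mul, aut_comm]

/-- Elements of the class of a field automorphism are inner-diagonal conjugates of the standard one. -/
theorem exists_conjP_field (hn : 2 ≤ n) {x α : MulAut Pn} {σ : F ≃+* F} (h : α * x * α⁻¹ = fieldP σ) :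
    ∃ a : GLn, x = conjP a * fieldP σ * (conjP a)⁻¹ := by
  obtain ⟨a, τ, γ, hγ, e⟩ := exists_decomp_all hn α⁻¹
  refine ⟨a, ?_⟩
  have hc : Commute (fieldP τ * γ) (fieldP σ : MulAut Pn) := by
    refine (fieldP_comm τ σ).mul_left ?_
    rcases hγ with rfl | rfl
    · exact Commute.one_left _
    · exact (fieldP_comm_graphP σ).symm
  calc x = α⁻¹ * fieldP σ * α⁻¹⁻¹ := by rw [← h]; group
    _ = conjP a * (fieldP τ * γ * fieldP σ) * (fieldP τ * γ)⁻¹ * (conjP a)⁻¹ := by rw [e]; group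
    _ = _ := by rw [hc.eq]; group

/-- Elements of the class of a graph-field automorphism are inner-diagonal conjugates of the standard one. -/
theorem exists_conjP_graphField (hn : 2 ≤ n) {x α : MulAut Pn} {σ : F ≃+* F}
    (h : α * x * α⁻¹ = fieldP σ * graphP) : ∃ a : GLn, x = conjP a * (fieldP σ * graphP) * (conjP a)⁻¹ := by
  obtain ⟨a, τ, γ, hγ, e⟩ := exists_decomp_all hn α⁻¹
  refine ⟨a, ?_⟩
  have hc : Commute (fieldP τ * γ) (fieldP σ * graphP : MulAut Pn) := by
    refine Commute.mul_left ((fieldP_comm τ σ).mul_right (fieldP_comm_graphP τ)) ?_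
    rcases hγ with rfl | rfl
    · exact Commute.one_left _
    · exact (fieldP_comm_graphP σ).symm.mul_right (Commute.refl _)
  calc x = α⁻¹ * (fieldP σ * graphP) * α⁻¹⁻¹ := by rw [← h]; group
    _ = conjP a * (fieldP τ * γ * (fieldP σ * graphP)) * (fieldP τ * γ)⁻¹ * (conjP a)⁻¹ := by rw [e]; group
    _ = _ := by rw [hc.eq]; group

/-- Commuting with the standard automorphism. -/
theorem comm_iff (hn : 2 ≤ n) {Θ : MulAut GLn} {φ : MulAut Pn} (hΘ : ∀ g, φ * conjP g = conjP (Θ g) * φ) (b : GLn) :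
    conjP b * φ = φ * conjP b ↔ ∃ u : Fˣ, Θ b = sc u * b := by
  rw [hΘ, mul_left_inj]
  constructor
  · intro h
    have h1 : (conjP (Θ b * b⁻¹) : MulAut Pn) = 1 := by rw [map_mul, map_inv, ← h, mul_inv_cancel]
    obtain ⟨u, hu⟩ := exists_sc ((conjP_eq_one_iff hn _).1 h1) (by omega)
    exact ⟨u, mul_inv_eq_iff_eq_mul.1 hu⟩
  · rintro ⟨u, hu⟩
    rw [hu, map_mul, conjP_scalar (sc_mem_center u), one_mul]

theorem mem_cent_iff (hn : 2 ≤ n) {Θ : MulAut GLn} {φ : MulAut Pn} (hΘ : ∀ g, φ * conjP g = conjP (Θ g) * φ)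
    (a g : GLn) {x : MulAut Pn} (hx : x = conjP a * φ * (conjP a)⁻¹) :
    conjP g ∈ Subgroup.centralizer {x} ↔ ∃ u : Fˣ, Θ (a⁻¹ * g * a) = sc u * (a⁻¹ * g * a) := by
  rw [← comm_iff hn hΘ, Subgroup.mem_centralizer_singleton_iff, hx, map_mul, map_mul, map_inv]
  constructor
  · intro h
    calc (conjP a)⁻¹ * conjP g * conjP a * φ = (conjP a)⁻¹ * (conjP g * (conjP a * φ * (conjP a)⁻¹)) * conjP a := by
          group
      _ = _ := by rw [h]; group
  · intro h
    calc conjP g * (conjP a * φ * (conjP a)⁻¹) = conjP a * ((conjP a)⁻¹ * conjP g * conjP a * φ) * (conjP a)⁻¹ := by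
          group
      _ = _ := by rw [h]; group

theorem inn_eq (g : MulAut Pn) : g ∈ Cfsg.Inn Pn ↔ ∃ s : Matrix.SpecialLinearGroup (Fin n) F,
    g = conjP (Matrix.SpecialLinearGroup.toGL s) := by
  constructor
  · rintro ⟨y, rfl⟩
    obtain ⟨s, rfl⟩ := QuotientGroup.mk_surjective y
    exact ⟨s, (conjP_toGL s).symm⟩
  · rintro ⟨s, rfl⟩
    exact ⟨π s, (conjP_toGL s).symm⟩

/-- The number of inner classes in an inner-diagonal class is an index of determinants. -/
theorem split_count (hn : 2 ≤ n) (x : MulAut Pn) :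
    Cfsg.splitClassCount (Cfsg.inndiagPSL n F) (Cfsg.Inn Pn) x =
      (((Subgroup.centralizer {x}).comap (conjP : GLn →* MulAut Pn)).map GeneralLinearGroup.det).index := by
  set C := (Subgroup.centralizer {x}).comap (conjP : GLn →* MulAut Pn) with hC
  set D := C.map GeneralLinearGroup.det with hD
  have : Nonempty (Fin n) := ⟨⟨0, by omega⟩⟩
  rw [← Subgroup.index_comap_of_surjective D (f := (GeneralLinearGroup.det : GLn →* Fˣ)) GeneralLinearGroup.det_surjective]
  set rel := fun y z : {y : MulAut Pn // Cfsg.IsConjUnder (Cfsg.inndiagPSL n F) x y} =>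
    Cfsg.IsConjUnder (Cfsg.Inn Pn) y.1 z.1
  have hequiv : Equivalence rel := by
    refine ⟨fun y => ⟨1, one_mem _, by group⟩, ?_, ?_⟩
    · rintro y z ⟨h, hh, e⟩
      exact ⟨h⁻¹, inv_mem hh, by rw [e]; group⟩
    · rintro y z w ⟨h, hh, e⟩ ⟨k, hk, e'⟩
      exact ⟨k * h, mul_mem hk hh, by rw [e', e]; group⟩
  have hmem : ∀ h : GLn, Cfsg.IsConjUnder (Cfsg.inndiagPSL n F) x (conjP h * x * (conjP h)⁻¹) := fun h =>
    ⟨conjP h, by rw [inndiag_eq]; exact ⟨h, rfl⟩, rfl⟩
  have key : ∀ h k : GLn, rel ⟨_, hmem h⟩ ⟨_, hmem k⟩ ↔ h⁻¹ * k ∈ D.comap GeneralLinearGroup.det := by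
    intro h k
    constructor
    · rintro ⟨t, ht, e⟩
      obtain ⟨s, rfl⟩ := (inn_eq t).1 ht
      suffices hc : (k⁻¹ * Matrix.SpecialLinearGroup.toGL s * h) ∈ C ∧
          GeneralLinearGroup.det (k⁻¹ * Matrix.SpecialLinearGroup.toGL s * h) = GeneralLinearGroup.det (k⁻¹ * h)
      · have hc' : (k⁻¹ * Matrix.SpecialLinearGroup.toGL s * h)⁻¹ ∈ C := inv_mem hc.1
        show GeneralLinearGroup.det (h⁻¹ * k) ∈ D
        refine ⟨_, hc', ?_⟩
        rw [map_inv, hc.2, ← map_inv, _root_.mul_inv_rev, inv_inv]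
      refine ⟨?_, ?_⟩
      · show conjP _ ∈ Subgroup.centralizer {x}
        rw [Subgroup.mem_centralizer_singleton_iff, map_mul, map_mul, map_inv]
        change conjP k * x * (conjP k)⁻¹ = _ at e
        calc (conjP k)⁻¹ * conjP (Matrix.SpecialLinearGroup.toGL s) * conjP h * x
            = (conjP k)⁻¹ * (conjP (Matrix.SpecialLinearGroup.toGL s) * (conjP h * x * (conjP h)⁻¹) *
                (conjP (Matrix.SpecialLinearGroup.toGL s))⁻¹) * conjP (Matrix.SpecialLinearGroup.toGL s) * conjP h := by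
              group
          _ = _ := by rw [← e]; group
      · have hs : GeneralLinearGroup.det (Matrix.SpecialLinearGroup.toGL s) = (1 : Fˣ) := Units.ext s.2
        rw [map_mul, map_mul, hs, mul_one, ← map_mul]
    · rintro ⟨c, hc, e⟩
      have hd : GeneralLinearGroup.det (k * c⁻¹ * h⁻¹) = (1 : Fˣ) := by
        rw [map_mul, map_mul, map_inv, map_inv, e, map_mul, map_inv, _root_.mul_inv_rev, inv_inv, ← mul_assoc,
          mul_inv_cancel, one_mul, mul_inv_cancel]
      let s : Matrix.SpecialLinearGroup (Fin n) F := ⟨((k * c⁻¹ * h⁻¹ : GLn) : Mn), congrArg Units.val hd⟩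
      have hs : Matrix.SpecialLinearGroup.toGL s = k * c⁻¹ * h⁻¹ := Units.ext rfl
      refine ⟨conjP (Matrix.SpecialLinearGroup.toGL s), (inn_eq _).2 ⟨s, rfl⟩, ?_⟩
      have hcx : conjP c⁻¹ * x = x * conjP c⁻¹ := Subgroup.mem_centralizer_singleton_iff.1 (inv_mem hc)
      show conjP k * x * (conjP k)⁻¹ = _
      rw [hs, map_mul, map_mul, map_inv]
      rw [map_inv] at hcx
      calc conjP k * x * (conjP k)⁻¹ = conjP k * (x * (conjP c)⁻¹) * conjP c * (conjP k)⁻¹ := by group
        _ = _ := by rw [← hcx, map_inv]; group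
  rw [Cfsg.splitClassCount, Subgroup.index_eq_card]
  refine (Nat.card_congr (Equiv.ofBijective (Quotient.lift (s := QuotientGroup.leftRel (D.comap GeneralLinearGroup.det))
    (fun h => Quot.mk rel ⟨_, hmem h⟩) ?_) ⟨?_, ?_⟩)).symm
  · intro h k hhk
    exact Quot.sound ((key h k).2 (QuotientGroup.leftRel_apply.1 hhk))
  · intro q q'
    induction q using Quotient.ind with
    | _ h =>
      induction q' using Quotient.ind with
      | _ k =>
        intro e
        exact Quotient.sound (QuotientGroup.leftRel_apply.2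
          ((key h k).1 ((hequiv.eqvGen_iff).1 (Quot.eqvGen_exact e))))
  · intro q
    induction q using Quot.ind with
    | _ y =>
      obtain ⟨y, t, ht, rfl⟩ := y
      obtain ⟨h, rfl⟩ : t ∈ (conjP : GLn →* MulAut Pn).range := inndiag_eq (F := F) (n := n) ▸ ht
      exact ⟨Quotient.mk _ h, rfl⟩

theorem det_sc (u : Fˣ) : GeneralLinearGroup.det (sc u : GLn) = u ^ n := by
  refine Units.ext ?_
  show ((sc u : GLn) : Mn).det = _
  rw [coe_sc, scalar_apply, det_diagonal, Finset.prod_const, Finset.card_univ, Fintype.card_fin]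
  rfl

theorem index_pow_sup (a b : ℕ) (hb : b ∣ Nat.card Fˣ) :
    ((powMonoidHom a : Fˣ →* Fˣ).range ⊔ (powMonoidHom b : Fˣ →* Fˣ).range).index = Nat.gcd a b := by
  have e : (powMonoidHom a : Fˣ →* Fˣ).range ⊔ (powMonoidHom b : Fˣ →* Fˣ).range =
      (powMonoidHom (Nat.gcd a b) : Fˣ →* Fˣ).range := by
    refine le_antisymm (sup_le ?_ ?_) ?_
    · rintro _ ⟨x, rfl⟩
      obtain ⟨c, hc⟩ := Nat.gcd_dvd_left a b
      exact ⟨x ^ c, by rw [powMonoidHom_apply, powMonoidHom_apply, ← pow_mul, mul_comm, ← hc]⟩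
    · rintro _ ⟨x, rfl⟩
      obtain ⟨c, hc⟩ := Nat.gcd_dvd_right a b
      exact ⟨x ^ c, by rw [powMonoidHom_apply, powMonoidHom_apply, ← pow_mul, mul_comm, ← hc]⟩
    · rintro _ ⟨x, rfl⟩
      have : powMonoidHom (Nat.gcd a b) x = (x ^ (Nat.gcdA a b)) ^ a * (x ^ (Nat.gcdB a b)) ^ b := by
        rw [powMonoidHom_apply, ← zpow_natCast x, Nat.gcd_eq_gcd_ab, ← zpow_natCast (x ^ Nat.gcdA a b),
          ← zpow_natCast (x ^ Nat.gcdB a b), ← _root_.zpow_mul, ← _root_.zpow_mul, ← _root_.zpow_add, mul_comm (a : ℤ), mul_comm (b : ℤ)]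
      rw [this]
      exact Subgroup.mul_mem_sup ⟨_, rfl⟩ ⟨_, rfl⟩
  have hd : Nat.gcd a b ∣ Nat.card Fˣ := (Nat.gcd_dvd_right a b).trans hb
  rw [e, ← Nat.mul_left_inj (Nat.card_pos (α := (powMonoidHom (Nat.gcd a b) : Fˣ →* Fˣ).range)).ne',
    Subgroup.index_mul_card, IsCyclic.card_powMonoidHom_range, Nat.gcd_eq_right hd, Nat.mul_div_cancel' hd]

theorem nonempty_equiv {A Y : Type*} [Group A] [Group Y] (Ψ : Y →* A) (N : Subgroup Y) [N.Normal] (S : Subgroup A)
    (hker : Ψ.ker = N) (hran : Ψ.range = S) : Nonempty (↥S ≃* Y ⧸ N) :=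
  ⟨((QuotientGroup.quotientMulEquivOfEq hker.symm).trans
    ((QuotientGroup.quotientKerEquivRange Ψ).trans (MulEquiv.subgroupCongr hran))).symm⟩

theorem order_dvd {p f : ℕ} [Fact p.Prime] (hF : Fintype.card F = p ^ f) (σ : F ≃+* F) : orderOf σ ∣ f := by
  obtain ⟨c, hc⟩ := CharP.exists F
  have hcp : c = p := by
    obtain ⟨e, hcp, he⟩ := FiniteField.card F c
    exact (Nat.prime_dvd_prime_iff_eq hcp Fact.out).1 (hcp.dvd_of_dvd_pow (hF ▸ he ▸ dvd_pow_self c e.ne_zero))
  subst hcp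
  exact (Cfsg.Lib.Known.ChevAut.ringAut_facts (F := F) c f hF).2 ▸ orderOf_dvd_natCard σ

/-- The fixed field of a prime order automorphism, as the image of any field of its order. -/
theorem exists_fixed_hom {p f r : ℕ} [Fact p.Prime] (hF : Fintype.card F = p ^ f) {σ : F ≃+* F}
    (hord : orderOf σ = r) (F₀ : Type*) [Field F₀] [Fintype F₀] (hF₀ : Fintype.card F₀ = p ^ (f / r)) :
    ∃ ι : F₀ →+* F, ∀ x, σ x = x ↔ x ∈ Set.range ι := by
  classical
  have : Finite (F ≃+* F) := Finite.of_injective (fun e => (e : F → F)) DFunLike.coe_injective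
  let H : Subgroup (F ≃+* F) := Subgroup.zpowers σ
  have : Fintype H := Fintype.ofFinite H
  let L := FixedPoints.subfield H F
  have hmem : ∀ x, x ∈ L ↔ σ x = x := by
    refine fun x => ⟨fun h => h ⟨σ, Subgroup.mem_zpowers σ⟩, fun h k => ?_⟩
    obtain ⟨i, hi⟩ := Subgroup.mem_zpowers_iff.1 k.2
    show (k : F ≃+* F) x = x
    rw [← hi]
    have hfix : σ ∈ MulAction.stabilizer (F ≃+* F) x := h
    exact Subgroup.zpow_mem _ hfix i
  have hr0 : 0 < r := hord ▸ orderOf_pos σ
  have hcard : Fintype.card F₀ = Fintype.card L := by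
    refine Nat.pow_left_injective hr0.ne' ?_
    show Fintype.card F₀ ^ r = Fintype.card L ^ r
    rw [hF₀, ← pow_mul, Nat.div_mul_cancel (hord ▸ order_dvd hF σ), ← hF, Module.card_eq_pow_finrank (K := L) (V := F),
      FixedPoints.finrank_eq_card H F]
    congr 1
    rw [← hord, ← Nat.card_zpowers σ, Nat.card_eq_fintype_card]
  refine ⟨L.subtype.comp (FiniteField.ringEquivOfCardEq (K := F₀) (K' := L) hcard).toRingHom, fun x => ?_⟩
  constructor
  · intro h
    exact ⟨(FiniteField.ringEquivOfCardEq (K := F₀) (K' := L) hcard).symm ⟨x, (hmem x).2 h⟩, by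
      show ((FiniteField.ringEquivOfCardEq (K := F₀) (K' := L) hcard)
        ((FiniteField.ringEquivOfCardEq (K := F₀) (K' := L) hcard).symm ⟨x, (hmem x).2 h⟩) : L).1 = x
      rw [RingEquiv.apply_symm_apply]⟩
  · rintro ⟨y, rfl⟩
    exact (hmem _).1 (Subtype.mem _)

/-- The data of a field automorphism of prime order. -/
theorem field_data (hn : 2 ≤ n) {p f r : ℕ} [Fact p.Prime] (hF : Fintype.card F = p ^ f) (hr : r.Prime)
    {x : MulAut Pn} (hx : Cfsg.IsFieldAutClassPSL x) (hxr : orderOf x = r) (F₀ : Type*) [Field F₀] [Fintype F₀]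
    (hF₀ : Fintype.card F₀ = p ^ (f / r)) :
    r ∣ f ∧ Nonempty (↥(Cfsg.inndiagPSL n F ⊓ Subgroup.centralizer {x}) ≃* Matrix.ProjGenLinGroup (Fin n) F₀) ∧
      Cfsg.splitClassCount (Cfsg.inndiagPSL n F) (Cfsg.Inn Pn) x = Nat.gcd n ((p ^ f - 1) / (p ^ (f / r) - 1)) := by
  classical
  obtain ⟨α, σ, hσ, hstd⟩ := hx
  obtain ⟨a, ha⟩ := exists_conjP_field hn (eq_fieldP hstd)
  have hord : orderOf σ = r := by
    have h1 : orderOf (fieldP σ : MulAut Pn) = r := by
      rw [← hxr, ha, ← MulAut.conj_apply, MulEquiv.orderOf_eq]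
    have : Fact r.Prime := ⟨hr⟩
    refine orderOf_eq_prime (conjP_fieldP_eq_one hn (A := 1) ?_).2 hσ
    rw [map_one, one_mul, map_pow, ← h1, pow_orderOf_eq_one]
  have hrf : r ∣ f := hord ▸ order_dvd hF σ
  obtain ⟨ι, hι⟩ := exists_fixed_hom hF hord F₀ hF₀
  let ι' : GL (Fin n) F₀ →* GLn := GeneralLinearGroup.map ι
  have hfix : ∀ b : GL (Fin n) F₀, glMap σ (ι' b) = ι' b := fun b => Units.ext (Matrix.ext fun i j =>
    (hι _).2 ⟨(b : Matrix (Fin n) (Fin n) F₀) i j, rfl⟩)
  have hdesc : ∀ b : GLn, (∃ u : Fˣ, glMap σ b = sc u * b) → ∃ (c : Fˣ) (b₀ : GL (Fin n) F₀), b = sc c * ι' b₀ := by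
    rintro b ⟨u, hu⟩
    obtain ⟨i, j, hij⟩ : ∃ i j, (b : Mn) i j ≠ 0 := by
      by_contra h
      push Not at h
      have h0 : (b : Mn) = 0 := Matrix.ext h
      have := b.mul_inv
      rw [h0, zero_mul] at this
      exact one_ne_zero (α := F) (by simpa using (congrFun (congrFun this ⟨0, by omega⟩) ⟨0, by omega⟩).symm)
    let c : Fˣ := Units.mk0 _ hij
    have hent : ∀ k l, σ ((b : Mn) k l) = u * (b : Mn) k l := fun k l => by
      have := congrFun (congrFun (congrArg (fun z : GLn => (z : Mn)) hu) k) l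
      simpa [coe_glMap, coe_sc, scalar_apply] using this
    have hfe : ∀ k l, ∃ y, ι y = ((b : Mn) i j)⁻¹ * (b : Mn) k l := fun k l => by
      refine (hι _).1 ?_
      rw [map_mul, map_inv₀, hent, hent]
      field_simp
    choose y hy using hfe
    have hM : (Matrix.of y).map ι = ((sc c⁻¹ * b : GLn) : Mn) := by
      rw [Units.val_mul, coe_sc, scalar_apply]
      ext k l
      rw [Matrix.map_apply, Matrix.of_apply, hy, diagonal_mul]
      simp [c]
    have hdet : (Matrix.of y).det ≠ 0 := fun h0 => by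
      have h1 := GeneralLinearGroup.det_ne_zero (sc c⁻¹ * b : GLn)
      rw [← hM, ← RingHom.mapMatrix_apply, ← RingHom.map_det, h0, map_zero] at h1
      exact h1 rfl
    refine ⟨c, GeneralLinearGroup.mkOfDetNeZero (Matrix.of y) hdet, ?_⟩
    have e : ι' (GeneralLinearGroup.mkOfDetNeZero (Matrix.of y) hdet) = sc c⁻¹ * b := Units.ext hM
    rw [e, ← mul_assoc, ← map_mul, mul_inv_cancel, map_one, one_mul]
  have hcent : ∀ g : GLn, conjP g ∈ Subgroup.centralizer {x} ↔
      ∃ (c : Fˣ) (b₀ : GL (Fin n) F₀), g = a * (sc c * ι' b₀) * a⁻¹ := by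
    intro g
    rw [mem_cent_iff hn (fieldP_mul_conjP σ) a g ha]
    constructor
    · intro h
      obtain ⟨c, b₀, e⟩ := hdesc _ h
      exact ⟨c, b₀, by rw [← e]; group⟩
    · rintro ⟨c, b₀, rfl⟩
      refine ⟨(Units.map σ.toRingHom.toMonoidHom c) * c⁻¹, ?_⟩
      rw [show a⁻¹ * (a * (sc c * ι' b₀) * a⁻¹) * a = sc c * ι' b₀ by group, map_mul, hfix, glMap_sc,
        ← mul_assoc, ← map_mul, inv_mul_cancel_right]
  refine ⟨hrf, ?_, ?_⟩
  · refine nonempty_equiv ((conjP : GLn →* MulAut Pn).comp ((MulAut.conj a).toMonoidHom.comp ι'))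
      (Subgroup.center (GL (Fin n) F₀)) _ ?_ ?_
    · ext b
      rw [MonoidHom.mem_ker]
      show conjP (a * ι' b * a⁻¹) = 1 ↔ _
      rw [map_mul, map_mul, map_inv, mul_inv_eq_one, mul_eq_left, conjP_eq_one_iff hn,
        GeneralLinearGroup.mem_center_iff_val_mem_range_scalar, GeneralLinearGroup.mem_center_iff_val_mem_range_scalar]
      constructor
      · rintro ⟨c, hc⟩
        refine ⟨(b : Matrix (Fin n) (Fin n) F₀) ⟨0, by omega⟩ ⟨0, by omega⟩, Matrix.ext fun k l => ι.injective ?_⟩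
        have e1 : scalar (Fin n) c k l = ι ((b : Matrix (Fin n) (Fin n) F₀) k l) := congrFun (congrFun hc k) l
        have e2 : scalar (Fin n) c ⟨0, by omega⟩ ⟨0, by omega⟩ =
            ι ((b : Matrix (Fin n) (Fin n) F₀) ⟨0, by omega⟩ ⟨0, by omega⟩) := congrFun (congrFun hc _) _
        rw [scalar_apply, diagonal_apply] at e1
        rw [scalar_apply, diagonal_apply_eq] at e2
        rw [scalar_apply, diagonal_apply, ← e1]
        split_ifs
        · exact e2.symm
        · exact map_zero ι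
      · rintro ⟨c, hc⟩
        refine ⟨ι c, ?_⟩
        show _ = ((b : Matrix (Fin n) (Fin n) F₀)).map ι
        rw [← hc, scalar_apply, scalar_apply, diagonal_map (map_zero ι)]
    · ext z
      rw [Subgroup.mem_inf, inndiag_eq]
      constructor
      · rintro ⟨b, rfl⟩
        exact ⟨⟨_, rfl⟩, (hcent (a * ι' b * a⁻¹)).2 ⟨1, b, by rw [map_one, one_mul]⟩⟩
      · rintro ⟨⟨g, rfl⟩, hg⟩
        obtain ⟨c, b, rfl⟩ := (hcent g).1 hg
        refine ⟨b, ?_⟩
        show conjP (a * ι' b * a⁻¹) = _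
        simp only [map_mul, conjP_scalar (sc_mem_center c), one_mul]
  · rw [split_count hn]
    set m := (p ^ f - 1) / (p ^ (f / r) - 1) with hm
    have hq0 : 2 ≤ p ^ (f / r) := hF₀ ▸ Fintype.one_lt_card
    have hdvd : p ^ (f / r) - 1 ∣ p ^ f - 1 := by
      conv_rhs => rw [← Nat.div_mul_cancel hrf, pow_mul]
      exact Nat.sub_one_dvd_pow_sub_one _ r
    have hmul : m * (p ^ (f / r) - 1) = p ^ f - 1 := Nat.div_mul_cancel hdvd
    have hcardU : Nat.card Fˣ = p ^ f - 1 := by rw [Nat.card_units, Nat.card_eq_fintype_card, hF]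
    have hrange : (Units.map ι.toMonoidHom).range = (powMonoidHom m : Fˣ →* Fˣ).range := by
      have hker : ∀ S : Subgroup Fˣ, Nat.card S = p ^ (f / r) - 1 →
          S = (powMonoidHom (p ^ (f / r) - 1) : Fˣ →* Fˣ).ker := fun S hS =>
        Subgroup.eq_of_le_of_card_ge (fun d hd => by
          rw [MonoidHom.mem_ker, powMonoidHom_apply, ← hS]
          exact congrArg Subtype.val (pow_card_eq_one' (x := (⟨d, hd⟩ : S))))
          (by rw [hS, IsCyclic.card_powMonoidHom_ker, hcardU, Nat.gcd_eq_right hdvd])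
      have hinj : Function.Injective (Units.map ι.toMonoidHom) := Units.map_injective ι.injective
      have hm0 : 0 < m := by
        rcases Nat.eq_zero_or_pos m with h0 | h0
        · rw [h0, zero_mul] at hmul
          have : 2 ≤ p ^ f := hF ▸ Fintype.one_lt_card
          omega
        · exact h0
      rw [hker (Units.map ι.toMonoidHom).range (by rw [← Nat.card_congr (MonoidHom.ofInjective hinj).toEquiv, Nat.card_units,
          Nat.card_eq_fintype_card, hF₀]),
        hker (powMonoidHom m : Fˣ →* Fˣ).range (by rw [IsCyclic.card_powMonoidHom_range, hcardU, ← hmul, Nat.gcd_mul_right_left,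
          Nat.mul_div_cancel_left _ hm0])]
    have hset : ((Subgroup.centralizer {x}).comap (conjP : GLn →* MulAut Pn)).map GeneralLinearGroup.det =
        (powMonoidHom n : Fˣ →* Fˣ).range ⊔ (powMonoidHom m : Fˣ →* Fˣ).range := by
      rw [← hrange]
      refine le_antisymm ?_ (sup_le ?_ ?_)
      · rintro _ ⟨g, hg, rfl⟩
        obtain ⟨c, b, rfl⟩ := (hcent g).1 hg
        rw [map_mul, map_mul, map_inv, mul_inv_cancel_comm, map_mul, det_sc]
        refine Subgroup.mul_mem_sup ⟨c, rfl⟩ ⟨GeneralLinearGroup.det b, Units.ext ?_⟩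
        exact RingHom.map_det ι _
      · rintro _ ⟨c, rfl⟩
        exact ⟨sc c, (hcent _).2 ⟨c, 1, by rw [map_one, mul_one, ← sc_comm, mul_inv_cancel_right]⟩, det_sc c⟩
      · rintro _ ⟨c, rfl⟩
        have : Nonempty (Fin n) := ⟨⟨0, by omega⟩⟩
        obtain ⟨b, hb⟩ := GeneralLinearGroup.det_surjective (n := Fin n) c
        refine ⟨a * ι' b * a⁻¹, (hcent _).2 ⟨1, b, by rw [map_one, one_mul]⟩, ?_⟩
        rw [map_mul, map_mul, map_inv, mul_inv_cancel_comm, ← hb]
        exact Units.ext (RingHom.map_det ι _).symm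
    rw [hset, index_pow_sup n m (hcardU ▸ ⟨_, hmul.symm⟩)]

theorem involution_eq_pow {q : ℕ} (hF : Fintype.card F = q ^ 2) {σ : F ≃+* F} (hσ : σ ≠ 1) (hσ2 : σ ^ 2 = 1) (x : F) :
    σ x = x ^ q := by
  classical
  let τ : F ≃+* F := RingEquiv.ofBijective (Classical.powConj hF)
    (Finite.injective_iff_bijective.1 (RingHom.injective _))
  have hτ2 : τ ^ 2 = 1 := RingEquiv.ext fun y => by
    rw [pow_two, RingAut.mul_apply]; exact (Classical.powConj_isConj hF).invol y
  have hτ : τ ≠ 1 := fun h => by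
    obtain ⟨y, hy⟩ := (Classical.powConj_isConj hF).ne_id
    exact hy (DFunLike.congr_fun h y)
  have : Finite (F ≃+* F) := Finite.of_injective (fun e => (e : F → F)) DFunLike.coe_injective
  have : Fintype (F ≃+* F) := Fintype.ofFinite _
  obtain ⟨p, hp⟩ := CharP.exists F
  obtain ⟨e, hpr, he⟩ := FiniteField.card F p
  have := Fact.mk hpr
  have hc : IsCyclic (F ≃+* F) := (Cfsg.Lib.Known.ChevAut.ringAut_facts (F := F) p e he).1
  have hle := hc.card_pow_eq_one_le (n := 2) two_pos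
  have hστ : σ = τ := by
    by_contra hne
    have h3 : ({1, σ, τ} : Finset (F ≃+* F)) ⊆ Finset.univ.filter fun a => a ^ 2 = 1 := by
      intro a ha
      simp only [Finset.mem_insert, Finset.mem_singleton] at ha
      simp only [Finset.mem_filter, Finset.mem_univ, true_and]
      rcases ha with rfl | rfl | rfl
      · exact one_pow 2
      · exact hσ2
      · exact hτ2
    have h4 : ({1, σ, τ} : Finset (F ≃+* F)).card = 3 := by
      rw [Finset.card_insert_of_notMem (by simp [Ne.symm hσ, Ne.symm hτ]), Finset.card_pair hne]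
    have := Finset.card_le_card h3
    omega
  rw [hστ]
  exact Classical.powConj_apply hF x

/-- The data of a graph-field automorphism of order two. -/
theorem graph_data (hn : 3 ≤ n) {p f : ℕ} [Fact p.Prime] (hF : Fintype.card F = p ^ f)
    {x : MulAut Pn} (hx : Cfsg.IsGraphFieldAutClassPSL x) (hx2 : orderOf x = 2) :
    Even f ∧ (∀ y : MulAut Pn, Cfsg.IsGraphFieldAutClassPSL y → orderOf y = 2 →
        Cfsg.IsConjUnder (Cfsg.inndiagPSL n F) x y) ∧
      Nonempty (↥(Cfsg.inndiagPSL n F ⊓ Subgroup.centralizer {x}) ≃* Cfsg.PGU n F (p ^ (f / 2))) ∧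
      Cfsg.splitClassCount (Cfsg.inndiagPSL n F) (Cfsg.Inn Pn) x = Nat.gcd n (p ^ (f / 2) - 1) := by
  classical
  have hn2 : 2 ≤ n := by omega
  have std : ∀ y : MulAut Pn, Cfsg.IsGraphFieldAutClassPSL y → orderOf y = 2 → ∃ (σ : F ≃+* F) (a : GLn),
      σ ≠ 1 ∧ σ ^ 2 = 1 ∧ y = conjP a * (fieldP σ * graphP) * (conjP a)⁻¹ := by
    rintro y ⟨-, α, φ, γ, σ, hσ, hstd, hγ, he⟩ hy2
    rw [eq_fieldP hstd, eq_graphP hγ] at he
    obtain ⟨a, ha⟩ := exists_conjP_graphField hn2 he
    refine ⟨σ, a, hσ, (graph_field_order hn Nat.prime_two ?_).2, ha⟩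
    have h1 : orderOf (fieldP σ * graphP : MulAut Pn) = 2 := by
      rw [← hy2, ha, ← MulAut.conj_apply, MulEquiv.orderOf_eq]
    rw [← h1, pow_orderOf_eq_one]
  obtain ⟨σ, a, hσ, hσ2, ha⟩ := std x hx hx2
  have : Fact (Nat.Prime 2) := ⟨Nat.prime_two⟩
  have hord : orderOf σ = 2 := orderOf_eq_prime hσ2 hσ
  have hf2 : 2 ∣ f := hord ▸ order_dvd hF σ
  set q := p ^ (f / 2) with hq
  have hFq : Fintype.card F = q ^ 2 := by rw [hq, ← pow_mul, Nat.div_mul_cancel hf2, hF]
  have hpow : ∀ z, σ z = z ^ q := fun z => involution_eq_pow hFq hσ hσ2 z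
  have hcst : ∀ M : Mn, UnitaryConj.cst (Classical.powConj hFq) M = (M.map σ)ᵀ := fun M => by
    ext i j
    simp [UnitaryConj.cst, Classical.powConj_apply, hpow]
  have hinv : ∀ z, σ (σ z) = z := fun z => by rw [← RingAut.mul_apply, ← pow_two, hσ2]; rfl
  let Θ : MulAut GLn := glMap σ * glInvT
  have hΘ : ∀ g : GLn, (fieldP σ * graphP : MulAut Pn) * conjP g = conjP (Θ g) * (fieldP σ * graphP) := fun g => by
    rw [mul_assoc, graphP_mul_conjP, ← mul_assoc, fieldP_mul_conjP, mul_assoc]; rfl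
  have hΘcoe : ∀ k : GLn, ((Θ k : GLn) : Mn) = ((((k⁻¹ : GLn) : Mn))ᵀ).map σ := fun k => rfl
  have hGU : ∀ b : GLn, b ∈ Cfsg.GU n F q ↔ Θ b = b := by
    intro b
    rw [UnitaryConj.mem_GU hFq, hcst]
    constructor
    · intro h
      have e : Θ b⁻¹ * b = 1 := Units.ext (by
        rw [Units.val_mul, hΘcoe, inv_inv, transpose_map, h, Units.val_one])
      rw [map_inv, inv_mul_eq_one] at e
      exact e
    · intro h
      have e : Θ b⁻¹ * b = 1 := by rw [map_inv, h, inv_mul_cancel]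
      have e' := congrArg (fun z : GLn => (z : Mn)) e
      rw [Units.val_mul, hΘcoe, inv_inv, transpose_map, Units.val_one] at e'
      exact e'
  have hΘsc : ∀ c : Fˣ, Θ (sc c) = sc (Units.map σ.toRingHom.toMonoidHom c⁻¹) := fun c => Units.ext (by
    rw [hΘcoe, ← map_inv, coe_sc, coe_sc, scalar_apply, scalar_apply, diagonal_transpose,
      diagonal_map (map_zero σ)]
    rfl)
  have hdesc : ∀ b : GLn, (∃ u : Fˣ, Θ b = sc u * b) → ∃ (c : Fˣ) (b₀ : GLn), b₀ ∈ Cfsg.GU n F q ∧ b = sc c * b₀ := by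
    rintro b ⟨u, hu⟩
    have h2 : Units.map σ.toRingHom.toMonoidHom u = u := by
      have h3 : Θ (Θ b) = b := Units.ext (by
        rw [hΘcoe, ← map_inv, hΘcoe, inv_inv]
        ext i j
        simp [hinv])
      rw [hu, map_mul, hu, hΘsc, ← mul_assoc, ← map_mul, mul_eq_right] at h3
      have h4 := sc_injective (by omega) (h3.trans (map_one (sc : Fˣ →* GLn)).symm)
      rw [map_inv, inv_mul_eq_one] at h4
      exact h4
    obtain ⟨w, hw⟩ := (Classical.powConj_isConj hFq).norm_surjective (a := (u : F)) (by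
      rw [Classical.powConj_apply, ← hpow]; exact congrArg Units.val h2)
    have hw0 : w ≠ 0 := fun h0 => u.ne_zero (by rw [← hw, h0, zero_mul])
    let c : Fˣ := Units.mk0 w hw0
    refine ⟨c⁻¹, sc c * b, (hGU _).2 ?_, by rw [← mul_assoc, ← map_mul, inv_mul_cancel, map_one, one_mul]⟩
    rw [map_mul, hΘsc, hu, ← mul_assoc, ← map_mul]
    congr 2
    refine Units.ext ?_
    rw [Units.val_mul]
    show σ ((w⁻¹ : F)) * (u : F) = w
    rw [← hw, Classical.powConj_apply, ← hpow, map_inv₀]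
    have : σ w ≠ 0 := (map_ne_zero σ).2 hw0
    field_simp
  have hcent : ∀ g : GLn, conjP g ∈ Subgroup.centralizer {x} ↔
      ∃ (c : Fˣ) (b₀ : GLn), b₀ ∈ Cfsg.GU n F q ∧ g = a * (sc c * b₀) * a⁻¹ := by
    intro g
    rw [mem_cent_iff hn2 hΘ a g ha]
    constructor
    · intro h
      obtain ⟨c, b₀, hb, e⟩ := hdesc _ h
      exact ⟨c, b₀, hb, by rw [← e]; group⟩
    · rintro ⟨c, b₀, hb, rfl⟩
      refine ⟨(Units.map σ.toRingHom.toMonoidHom c⁻¹) * c⁻¹, ?_⟩
      rw [show a⁻¹ * (a * (sc c * b₀) * a⁻¹) * a = sc c * b₀ by group, map_mul, (hGU _).1 hb, hΘsc, ← mul_assoc,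
        ← map_mul, inv_mul_cancel_right]
  refine ⟨even_iff_two_dvd.2 hf2, ?_, ?_, ?_⟩
  · intro y hy hy2
    obtain ⟨σ', a', hσ', hσ'2, ha'⟩ := std y hy hy2
    obtain rfl : σ' = σ := RingEquiv.ext fun z => (involution_eq_pow hFq hσ' hσ'2 z).trans (hpow z).symm
    refine ⟨conjP (a' * a⁻¹), by rw [inndiag_eq]; exact ⟨_, rfl⟩, ?_⟩
    rw [ha, ha', map_mul, map_inv]
    group
  · refine nonempty_equiv ((conjP : GLn →* MulAut Pn).comp ((MulAut.conj a).toMonoidHom.comp (Cfsg.GU n F q).subtype))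
      ((Cfsg.Geo.scalars (Fin n) F).subgroupOf (Cfsg.GU n F q)) _ ?_ ?_
    · ext b
      rw [MonoidHom.mem_ker, Subgroup.mem_subgroupOf]
      show conjP (a * (b : GLn) * a⁻¹) = 1 ↔ _
      rw [map_mul, map_mul, map_inv, mul_inv_eq_one, mul_eq_left, conjP_eq_one_iff hn2]
      constructor
      · intro h
        obtain ⟨c, hc⟩ := exists_sc h (by omega)
        exact ⟨c, hc.symm⟩
      · rintro ⟨c, hc⟩
        rw [← hc]
        exact sc_mem_center c
    · ext z
      rw [Subgroup.mem_inf, inndiag_eq]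
      constructor
      · rintro ⟨b, rfl⟩
        exact ⟨⟨_, rfl⟩, (hcent (a * (b : GLn) * a⁻¹)).2 ⟨1, b, b.2, by rw [map_one, one_mul]⟩⟩
      · rintro ⟨⟨g, rfl⟩, hg⟩
        obtain ⟨c, b, hb, rfl⟩ := (hcent g).1 hg
        refine ⟨⟨b, hb⟩, ?_⟩
        show conjP (a * b * a⁻¹) = _
        simp only [map_mul, conjP_scalar (sc_mem_center c), one_mul]
  · rw [split_count hn2]
    have hq2 : 2 ≤ q := by
      have h := Fintype.one_lt_card (α := F)
      rw [hFq] at h
      by_contra hc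
      interval_cases q <;> simp at h
    have hcardU : Nat.card Fˣ = (q + 1) * (q - 1) := by
      rw [Nat.card_units, Nat.card_eq_fintype_card, hFq, ← Nat.sq_sub_sq, one_pow]
    have hnorm : ∀ d : Fˣ, d ∈ (powMonoidHom (q - 1) : Fˣ →* Fˣ).range ↔ d ^ (q + 1) = 1 := by
      have hle : (powMonoidHom (q - 1) : Fˣ →* Fˣ).range ≤ (powMonoidHom (q + 1) : Fˣ →* Fˣ).ker := by
        rintro _ ⟨d, rfl⟩
        rw [MonoidHom.mem_ker, powMonoidHom_apply, powMonoidHom_apply, ← pow_mul, mul_comm, ← hcardU,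
          pow_card_eq_one']
      have he := Subgroup.eq_of_le_of_card_ge hle (by
        rw [IsCyclic.card_powMonoidHom_ker, IsCyclic.card_powMonoidHom_range, hcardU, Nat.gcd_mul_right_left,
          Nat.gcd_mul_left_left, Nat.mul_div_cancel _ (by omega)])
      intro d
      rw [he]; rfl
    have hset : ((Subgroup.centralizer {x}).comap (conjP : GLn →* MulAut Pn)).map GeneralLinearGroup.det =
        (powMonoidHom n : Fˣ →* Fˣ).range ⊔ (powMonoidHom (q - 1) : Fˣ →* Fˣ).range := by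
      refine le_antisymm ?_ (sup_le ?_ ?_)
      · rintro _ ⟨g, hg, rfl⟩
        obtain ⟨c, b, hb, rfl⟩ := (hcent g).1 hg
        rw [map_mul, map_mul, map_inv, mul_inv_cancel_comm, map_mul, det_sc]
        refine Subgroup.mul_mem_sup ⟨c, rfl⟩ ((hnorm _).2 ?_)
        rw [UnitaryConj.mem_GU hFq, hcst] at hb
        have h := congrArg Matrix.det hb
        rw [det_mul, det_transpose, det_one, show ((b : Mn).map σ).det = σ (b : Mn).det from
          (RingHom.map_det (σ : F →+* F) (b : Mn)).symm, hpow, ← pow_succ] at h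
        exact Units.ext (by rw [Units.val_pow_eq_pow_val, Units.val_one]; exact h)
      · rintro _ ⟨c, rfl⟩
        exact ⟨sc c, (hcent _).2 ⟨c, 1, one_mem _, by rw [mul_one, ← sc_comm, mul_inv_cancel_right]⟩, det_sc c⟩
      · intro d hd
        rw [hnorm] at hd
        have hd' : (d : F) ^ q * d = 1 := by
          rw [← pow_succ, ← Units.val_pow_eq_pow_val, hd, Units.val_one]
        let v : Fin n → F := Pi.mulSingle ⟨0, by omega⟩ (d : F)
        obtain ⟨b, hb⟩ := UnitaryConj.exists_GU_of hFq (Matrix.diagonal v) (by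
          rw [hcst, diagonal_map (map_zero σ), diagonal_transpose, diagonal_mul_diagonal, ← diagonal_one]
          refine congrArg Matrix.diagonal (funext fun i => ?_)
          show σ (v i) * v i = 1
          rw [hpow]
          by_cases hi : i = (⟨0, by omega⟩ : Fin n)
          · subst hi; simp only [v, Pi.mulSingle_eq_same]; exact hd'
          · simp [v, Pi.mulSingle_eq_of_ne hi])
        refine ⟨a * (b : GLn) * a⁻¹, (hcent _).2 ⟨1, b, b.2, by rw [map_one, one_mul]⟩, ?_⟩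
        rw [map_mul, map_mul, map_inv, mul_inv_cancel_comm]
        refine Units.ext ?_
        show ((b : GLn) : Mn).det = d
        rw [hb, det_diagonal, Finset.prod_pi_mulSingle']
        simp
    rw [hset, index_pow_sup n (q - 1) (hcardU ▸ dvd_mul_left _ _)]

end Cfsg.Lib.Known.AutPSLn
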