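import Cfsg.Agent.Known.AutPSLn.Out
import Cfsg.Agent.Classical.Unitary.Basic

/-!
Prime order cosets of field and graph-field automorphisms of `PSL_n`: twisted Hilbert 90 for `GL_n`.
-/

set_option autoImplicit false
set_option linter.unusedSectionVars false

namespace Cfsg.Lib.Known.AutPSLn

open Matrix

variable {F : Type*} [Field F] [Fintype F] {n : ℕ}

local notation "GLn" => GL (Fin n) F
local notation "SLn" => Matrix.SpecialLinearGroup (Fin n) F
local notation "Pn" => Matrix.ProjectiveSpecialLinearGroup (Fin n) F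
local notation "Mn" => Matrix (Fin n) (Fin n) F

/-- The twisted norm. -/
def tnorm {X : Type*} [Group X] (Θ : MulAut X) (g : X) : ℕ → X
  | 0 => 1
  | k + 1 => g * Θ (tnorm Θ g k)

theorem mul_twist_pow {X A : Type*} [Group X] [Group A] (c : X →* A) (Θ : MulAut X) (φ : A)
    (hΘ : ∀ g, φ * c g = c (Θ g) * φ) (g : X) : ∀ k : ℕ, (c g * φ) ^ k = c (tnorm Θ g k) * φ ^ k
  | 0 => by simp [tnorm]
  | k + 1 => by
    rw [pow_succ', mul_twist_pow c Θ φ hΘ g k, tnorm, map_mul, pow_succ' φ, mul_assoc (c g), ← mul_assoc φ, hΘ,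
      mul_assoc, mul_assoc]

/-- The entrywise field automorphism of `GL`. -/
noncomputable def glMap : (F ≃+* F) →* MulAut GLn where
  toFun σ :=
    { toFun := Matrix.GeneralLinearGroup.map σ.toRingHom
      invFun := Matrix.GeneralLinearGroup.map σ.symm.toRingHom
      left_inv := fun g => Units.ext (Matrix.ext fun i j => σ.symm_apply_apply _)
      right_inv := fun g => Units.ext (Matrix.ext fun i j => σ.apply_symm_apply _)
      map_mul' := map_mul _ }
  map_one' := MulEquiv.ext fun g => Units.ext (Matrix.ext fun i j => rfl)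
  map_mul' _ _ := MulEquiv.ext fun g => Units.ext (Matrix.ext fun i j => rfl)

theorem coe_glMap (σ : F ≃+* F) (g : GLn) : ((glMap σ g : GLn) : Mn) = (g : Mn).map σ := rfl

/-- The inverse transpose on `GL`. -/
def glInvT : MulAut GLn where
  toFun g := ⟨((g⁻¹ : GLn) : Mn)ᵀ, (g : Mn)ᵀ, by rw [← transpose_mul, g.mul_inv, transpose_one],
    by rw [← transpose_mul, g.inv_mul, transpose_one]⟩
  invFun g := ⟨((g⁻¹ : GLn) : Mn)ᵀ, (g : Mn)ᵀ, by rw [← transpose_mul, g.mul_inv, transpose_one],
    by rw [← transpose_mul, g.inv_mul, transpose_one]⟩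
  left_inv g := Units.ext (transpose_transpose _)
  right_inv g := Units.ext (transpose_transpose _)
  map_mul' g h := Units.ext (by
    show (((g * h)⁻¹ : GLn) : Mn)ᵀ = ((g⁻¹ : GLn) : Mn)ᵀ * ((h⁻¹ : GLn) : Mn)ᵀ
    rw [_root_.mul_inv_rev, Units.val_mul, transpose_mul])

theorem coe_glInvT (g : GLn) : ((glInvT g : GLn) : Mn) = ((g⁻¹ : GLn) : Mn)ᵀ := rfl

theorem fieldP_mul_conjP (σ : F ≃+* F) (g : GLn) :
    (fieldP σ : MulAut Pn) * conjP g = conjP (glMap σ g) * fieldP σ := by
  refine MulEquiv.ext fun x => QuotientGroup.induction_on x fun M => ?_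
  show fieldP σ (conjP g (π M)) = conjP (glMap σ g) (fieldP σ (π M))
  rw [conjP_apply, fieldP_apply, fieldP_apply, conjP_apply]
  refine congrArg π (Subtype.ext ?_)
  rw [coe_fieldSL, coe_conjSL, coe_conjSL, coe_fieldSL, ← map_inv (glMap σ) g, coe_glMap, coe_glMap]
  rw [Matrix.map_mul, Matrix.map_mul]

theorem graphP_mul_conjP (g : GLn) : (graphP : MulAut Pn) * conjP g = conjP (glInvT g) * graphP := by
  refine MulEquiv.ext fun x => QuotientGroup.induction_on x fun M => ?_
  show graphP (conjP g (π M)) = conjP (glInvT g) (graphP (π M))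
  rw [conjP_apply, graphP_apply, graphP_apply, conjP_apply]
  refine congrArg π (Subtype.ext ?_)
  have e : (conjSL g M)⁻¹ = conjSL g M⁻¹ := (map_inv (conjSL g) M).symm
  rw [coe_graphSL, e, coe_conjSL, coe_conjSL, coe_graphSL, ← map_inv (glInvT : MulAut GLn) g, coe_glInvT,
    coe_glInvT, inv_inv, transpose_mul, transpose_mul, mul_assoc]

/-- The inner-diagonal group is the image of `GL`. -/
theorem inndiag_eq : Cfsg.inndiagPSL n F = (conjP : GLn →* MulAut Pn).range := by
  refine le_antisymm ((Subgroup.closure_le _).2 ?_) ?_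
  · rintro β ⟨g, hg⟩
    refine ⟨g, MulEquiv.ext fun x => QuotientGroup.induction_on x fun M => ?_⟩
    exact ((hg M (conjSL g M) (by simp [coe_conjSL])).trans (conjP_apply g M).symm).symm
  · rintro _ ⟨g, rfl⟩
    exact Subgroup.subset_closure (isInnerDiagonal_conjP g)

theorem eq_fieldP {σ : F ≃+* F} {φ : MulAut Pn} (h : Cfsg.IsStdFieldAutPSL σ φ) : φ = fieldP σ :=
  MulEquiv.ext fun x => QuotientGroup.induction_on x fun M => h M (fieldSL σ M) (coe_fieldSL σ M)

theorem eq_graphP {φ : MulAut Pn} (h : Cfsg.IsInverseTransposeAutPSL φ) : φ = graphP :=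
  MulEquiv.ext fun x => QuotientGroup.induction_on x fun M => h M (graphSL M) (coe_graphSL M)

theorem inndiag_normal (hn : 2 ≤ n) {α δ : MulAut Pn} (hδ : δ ∈ Cfsg.inndiagPSL n F) :
    α * δ * α⁻¹ ∈ Cfsg.inndiagPSL n F := by
  obtain ⟨a, τ, γ, hγ, rfl⟩ := exists_decomp_all hn α
  rw [inndiag_eq] at hδ ⊢
  obtain ⟨g, rfl⟩ := hδ
  obtain ⟨g', hg'⟩ : ∃ g', γ * conjP g = conjP g' * γ := by
    rcases hγ with rfl | rfl
    · exact ⟨g, by rw [one_mul, mul_one]⟩
    · exact ⟨_, graphP_mul_conjP g⟩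
  refine ⟨a * glMap τ g' * a⁻¹, ?_⟩
  rw [map_mul, map_mul, map_inv]
  calc conjP a * conjP (glMap τ g') * (conjP a)⁻¹
      = conjP a * (conjP (glMap τ g') * fieldP τ) * γ * (conjP a * fieldP τ * γ)⁻¹ := by group
    _ = conjP a * fieldP τ * (conjP g' * γ) * (conjP a * fieldP τ * γ)⁻¹ := by
      rw [← fieldP_mul_conjP]; group
    _ = _ := by rw [← hg']; group

theorem conjP_scalar {g : GLn} (hg : g ∈ Subgroup.center GLn) : (conjP g : MulAut Pn) = 1 := by
  refine MulEquiv.ext fun x => QuotientGroup.induction_on x fun M => ?_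
  refine (conjP_apply g M).trans (congrArg π (Subtype.ext ?_))
  have h : Matrix.SpecialLinearGroup.toGL M * g = g * Matrix.SpecialLinearGroup.toGL M :=
    Subgroup.mem_center_iff.1 hg _
  have h' : (M : Mn) * (g : Mn) = (g : Mn) * M := congrArg Units.val h
  rw [coe_conjSL, ← h', mul_assoc, g.mul_inv, mul_one]

/-- The kernel of the semilinear action. -/
theorem conjP_fieldP_eq_one (hn : 2 ≤ n) {A : GLn} {σ : F ≃+* F} (h : (conjP A : MulAut Pn) * fieldP σ = 1) :
    A ∈ Subgroup.center GLn ∧ σ = 1 := by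
  have key : ∀ (i j : Fin n), i ≠ j → ∀ x : F, x ≠ 0 →
      (A : Mn) * single i j (σ x) = single i j x * (A : Mn) := by
    intro i j hij x hx
    let u : SLn := SpecialLinearGroup.transvection hij x
    have hu : (u : Mn) = 1 + single i j x := rfl
    have he : π (conjSL A (fieldSL σ u)) = π u := DFunLike.congr_fun h (π u)
    obtain ⟨c, hc⟩ := π_eq he
    rw [coe_conjSL, coe_fieldSL, hu, Matrix.map_add σ (map_add σ), Matrix.map_one σ (map_zero σ) (map_one σ),
      Matrix.map_single i j x σ, mul_add, mul_one, add_mul, A.mul_inv] at hc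
    set N : Mn := (A : Mn) * single i j (σ x) * ((A⁻¹ : GLn) : Mn) with hN
    have hx2 : single i j x * single i j x = (0 : Mn) := single_mul_single_of_ne (h := hij.symm) ..
    have hN2 : N * N = 0 := by
      have hs : single i j (σ x) * single i j (σ x) = (0 : Mn) := single_mul_single_of_ne (h := hij.symm) ..
      rw [hN, show (A : Mn) * single i j (σ x) * ((A⁻¹ : GLn) : Mn) *
          ((A : Mn) * single i j (σ x) * ((A⁻¹ : GLn) : Mn)) =
          (A : Mn) * single i j (σ x) * (((A⁻¹ : GLn) : Mn) * (A : Mn)) * single i j (σ x) * ((A⁻¹ : GLn) : Mn) by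
            simp only [mul_assoc], A.inv_mul, mul_one, mul_assoc (A : Mn), hs, mul_zero, zero_mul]
    have hc1 : c = 1 := by
      have e0 : single i j x = c • N + (c - 1) • (1 : Mn) := by
        rw [smul_add] at hc
        rw [sub_smul, one_smul, ← add_sub_assoc, add_comm (c • N), ← hc]
        abel
      have e1 := congrArg (fun X : Mn => X * X) e0
      simp only [hx2, add_mul, mul_add, smul_mul_smul, hN2, smul_zero, zero_add, mul_one, one_mul] at e1
      have e2 := congrArg (fun X : Mn => X * N) e1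
      simp only [zero_mul, add_mul, smul_mul_assoc, hN2, smul_zero, zero_add, one_mul] at e2
      rcases smul_eq_zero.1 e2.symm with hz | hz
      · exact sub_eq_zero.1 (mul_self_eq_zero.1 hz)
      · exfalso
        have := congrArg (fun X : Mn => ((A⁻¹ : GLn) : Mn) * X * (A : Mn)) hz
        simp only [hN, mul_zero, zero_mul] at this
        rw [show ((A⁻¹ : GLn) : Mn) * ((A : Mn) * single i j (σ x) * ((A⁻¹ : GLn) : Mn)) * (A : Mn) =
          ((A⁻¹ : GLn) : Mn) * (A : Mn) * single i j (σ x) * (((A⁻¹ : GLn) : Mn) * (A : Mn)) by simp only [mul_assoc],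
          A.inv_mul, one_mul, mul_one] at this
        exact hx ((map_eq_zero σ).1 (by simpa using congrFun (congrFun this i) j))
    subst hc1
    rw [one_smul, add_right_inj] at hc
    rw [hc, hN, mul_assoc ((A : Mn) * _), A.inv_mul, mul_one]
  have hone : ∀ i j, i ≠ j → Commute (single i j 1) (A : Mn) := fun i j hij => by
    have := key i j hij 1 one_ne_zero
    rw [map_one] at this
    exact this.symm
  obtain ⟨a, ha⟩ := mem_range_scalar_of_commute_single hone
  have hz : A ∈ Subgroup.center GLn := GeneralLinearGroup.mem_center_iff_val_mem_range_scalar.2 ⟨a, ha⟩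
  refine ⟨hz, RingEquiv.ext fun x => ?_⟩
  rcases eq_or_ne x 0 with rfl | hx
  · simp
  let i0 : Fin n := ⟨0, by omega⟩
  let i1 : Fin n := ⟨1, by omega⟩
  have h01 : i0 ≠ i1 := by simp [i0, i1, Fin.ext_iff]
  have ha0 : a ≠ 0 := by
    rintro rfl
    have h0 := A.mul_inv
    rw [← ha, map_zero, zero_mul] at h0
    exact one_ne_zero (α := F) (by simpa using (congrFun (congrFun h0 i0) i0).symm)
  have := congrFun (congrFun (key i0 i1 h01 x hx) i0) i1
  rw [← ha] at this
  simp [scalar_apply, h01] at this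
  show σ x = x
  exact mul_left_cancel₀ ha0 (by linear_combination this)

/-- Hilbert 90 for `GL`. -/
theorem hilbert90 {σ : F ≃+* F} {r : ℕ} (hord : orderOf σ = r) (hr : 0 < r) (g : GLn)
    (hg : tnorm (glMap σ) g r = 1) : ∃ h : GLn, g * glMap σ h = h := by
  classical
  let P : (Fin n → F) → (Fin n → F) := fun v => ∑ i ∈ Finset.range r, ((tnorm (glMap σ) g i : GLn) : Mn) *ᵥ ((σ ^ i) ∘ v)
  let Φ : (Fin n → F) → (Fin n → F) := fun v => (g : Mn) *ᵥ (σ ∘ v)
  have hfix : ∀ v, Φ (P v) = P v := by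
    intro v
    have e1 : Φ (P v) = ∑ i ∈ Finset.range r, ((tnorm (glMap σ) g (i + 1) : GLn) : Mn) *ᵥ ((σ ^ (i + 1)) ∘ v) := by
      show (g : Mn) *ᵥ (σ ∘ P v) = _
      have e : σ ∘ P v = ∑ i ∈ Finset.range r,
          (((tnorm (glMap σ) g i : GLn) : Mn).map σ) *ᵥ ((σ ^ (i + 1)) ∘ v) := by
        funext a
        simp only [P, Function.comp_apply, Finset.sum_apply, map_sum]
        refine Finset.sum_congr rfl fun i _ => ?_
        rw [pow_succ' σ i]
        simp [mulVec, dotProduct, RingAut.mul_apply]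
      rw [e, mulVec_sum]
      refine Finset.sum_congr rfl fun i _ => ?_
      rw [mulVec_mulVec, tnorm, Units.val_mul, coe_glMap]
    rw [e1]
    have h1 := Finset.sum_range_succ' (fun i => ((tnorm (glMap σ) g i : GLn) : Mn) *ᵥ ((σ ^ i) ∘ v)) r
    have h2 := Finset.sum_range_succ (fun i => ((tnorm (glMap σ) g i : GLn) : Mn) *ᵥ ((σ ^ i) ∘ v)) r
    rw [h2, hg] at h1
    have h3 : σ ^ r = 1 := hord ▸ pow_orderOf_eq_one σ
    have h4 : tnorm (glMap σ) g 0 = 1 := rfl
    rw [h4, pow_zero, h3] at h1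
    exact (add_right_cancel h1).symm
  have hspan : Submodule.span F {v : Fin n → F | Φ v = v} = ⊤ := by
    by_contra hne
    obtain ⟨ψ, hψ, hψW⟩ := Submodule.exists_le_ker_of_lt_top _ (lt_top_iff_ne_top.2 hne)
    refine hψ (LinearMap.ext fun v => ?_)
    have hz : ∀ c : F, ∑ i : Fin r, ψ (((tnorm (glMap σ) g i : GLn) : Mn) *ᵥ ((σ ^ (i : ℕ)) ∘ v)) * (σ ^ (i : ℕ)) c = 0 := by
      intro c
      have h0 : ψ (P (c • v)) = 0 := hψW (Submodule.subset_span (hfix _))
      simp only [P, map_sum] at h0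
      rw [Finset.sum_range] at h0
      refine Eq.trans (Finset.sum_congr rfl fun i _ => ?_) h0
      have e : ((σ ^ (i : ℕ)) ∘ (c • v)) = (σ ^ (i : ℕ)) c • ((σ ^ (i : ℕ)) ∘ v) := by
        funext a; simp
      rw [e, mulVec_smul, map_smul, smul_eq_mul, mul_comm]
    have hinj : Function.Injective fun i : Fin r => (((σ ^ (i : ℕ) : F ≃+* F) : F →+* F) : F →* F) := by
      intro i j e
      have : σ ^ (i : ℕ) = σ ^ (j : ℕ) := RingEquiv.ext fun x => DFunLike.congr_fun e x
      exact Fin.ext (pow_injOn_Iio_orderOf (hord.symm ▸ i.2 : (i : ℕ) < orderOf σ)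
        (hord.symm ▸ j.2 : (j : ℕ) < orderOf σ) this)
    have hli := (linearIndependent_monoidHom F F).comp _ hinj
    have h0 := Fintype.linearIndependent_iff.1 hli _ (funext fun c => by
      simp only [Finset.sum_apply, Pi.smul_apply, smul_eq_mul, Function.comp_apply, Pi.zero_apply]
      exact hz c) ⟨0, hr⟩
    simpa [tnorm, Function.comp_def] using h0
  obtain ⟨b, hbS, hbspan, hbli⟩ := exists_linearIndependent F {v : Fin n → F | Φ v = v}
  let bas : Module.Basis b F (Fin n → F) := Module.Basis.mk hbli (by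
    rw [Subtype.range_coe_subtype, Set.setOf_mem_eq, hbspan, hspan])
  have : Fintype b := FiniteDimensional.fintypeBasisIndex bas
  have hcard : Fintype.card b = n := by rw [← Module.finrank_eq_card_basis bas, Module.finrank_fin_fun]
  let e := Fintype.equivFinOfCardEq hcard
  let B : Mn := Matrix.of fun i j => (e.symm j : Fin n → F) i
  have hB : IsUnit B := by
    rw [← Matrix.linearIndependent_cols_iff_isUnit]
    exact hbli.comp _ e.symm.injective
  refine ⟨hB.unit, Units.ext ?_⟩
  rw [Units.val_mul, coe_glMap, IsUnit.unit_spec]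
  ext i j
  have := congrFun (hbS (e.symm j).2 : Φ _ = _) i
  exact this

theorem prod_pow_fixed {σ : F ≃+* F} {r : ℕ} (hord : orderOf σ = r) (hr : 0 < r) (a : F) :
    σ (∏ i ∈ Finset.range r, (σ ^ i) a) = ∏ i ∈ Finset.range r, (σ ^ i) a := by
  obtain ⟨t, rfl⟩ : ∃ t, r = t + 1 := ⟨r - 1, by omega⟩
  rw [map_prod, Finset.prod_range_succ' (fun i => (σ ^ i) a) t, Finset.prod_range_succ _ t]
  have h : σ ((σ ^ t) a) = a := by
    rw [← RingAut.mul_apply, ← pow_succ', ← hord, pow_orderOf_eq_one]; rfl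
  rw [h, pow_zero]
  refine congrArg₂ (· * ·) (Finset.prod_congr rfl fun i _ => ?_) rfl
  rw [← RingAut.mul_apply, ← pow_succ']

/-- The norm to the fixed field is surjective. -/
theorem exists_pow_norm {σ : F ≃+* F} {r : ℕ} (hord : orderOf σ = r) (hr : 0 < r) {x : F} (hx : σ x = x) :
    ∃ a : F, ∏ i ∈ Finset.range r, (σ ^ i) a = x := by
  classical
  have : Finite (F ≃+* F) := Finite.of_injective (fun e => (e : F → F)) DFunLike.coe_injective
  let H : Subgroup (F ≃+* F) := Subgroup.zpowers σ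
  have : Fintype H := Fintype.ofFinite H
  let L := FixedPoints.subfield H F
  have hxL : x ∈ L := fun h => by
    obtain ⟨k, hk⟩ := Subgroup.mem_zpowers_iff.1 h.2
    show (h : F ≃+* F) x = x
    rw [← hk]
    have hfix : σ ∈ MulAction.stabilizer (F ≃+* F) x := hx
    exact Subgroup.zpow_mem _ hfix k
  obtain ⟨a, ha⟩ := FiniteField.norm_surjective L F ⟨x, hxL⟩
  refine ⟨a, ?_⟩
  have h2 : algebraMap L F (Algebra.norm L a) = ∏ g : F ≃ₐ[L] F, g a := Algebra.norm_eq_prod_automorphisms L a
  rw [ha] at h2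
  have hbij : Function.Bijective (MulSemiringAction.toAlgAut H L F) := FixedPoints.toAlgAut_bijective H F
  have h3 : x = ∏ h : H, (h : F ≃+* F) a := by
    rw [show x = algebraMap L F ⟨x, hxL⟩ from rfl, h2]
    exact (Fintype.prod_bijective _ hbij _ _ fun h => rfl).symm
  rw [h3, ← Fin.prod_univ_eq_prod_range (fun i => (σ ^ i) a) r]
  refine Fintype.prod_bijective (fun i : Fin r => (⟨σ ^ (i : ℕ), Subgroup.npow_mem_zpowers σ i⟩ : H)) ?_ _ _ fun i => rfl
  have hfo : IsOfFinOrder σ := isOfFinOrder_of_finite σ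
  subst hord
  exact (finEquivZPowers hfo).bijective

end Cfsg.Lib.Known.AutPSLn
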