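import Cfsg.Agent.Chev.Types

/-!
Centralizers of highest-root elements in characteristic two, from the Bruhat normal form.
-/

set_option autoImplicit false

open Cfsg.Lie Cfsg.Lib.Chev

namespace Cfsg.Lib.Known.RootCent

variable {D : ChevalleyDatum} {C : Cert} {F : Type*} [Field F]

/-- Root elements at `r` and `s` commute in characteristic two. -/
def okEven (D : ChevalleyDatum) (r s : ℕ) : Bool :=
  r == s || (s != D.neg r && (D.commTerms r s).all fun c => c.2.1 % 2 == 0)

theorem commute_of_even (S : Struct D C) [CharP F 2] {r s : ℕ} (hr : r < D.nroots) (hs : s < D.nroots)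
    (h : okEven D r s = true) (t u : F) : Commute (S.ok.xG r t) (S.ok.xG s u) := by
  simp only [okEven, Bool.or_eq_true, Bool.and_eq_true, beq_iff_eq, bne_iff_ne, List.all_eq_true] at h
  rcases h with rfl | ⟨hne, hall⟩
  · show _ = _
    rw [S.ok.xG_mul, S.ok.xG_mul, add_comm]
  · by_cases hsr : s = r
    · subst hsr
      show _ = _
      rw [S.ok.xG_mul, S.ok.xG_mul, add_comm]
    · have e := S.ok.commRel (F := F) S.chain S.base hr hs hsr hne t u
      have hw : S.ok.wG (D.commWord F r s t u) = 1 := by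
        refine List.prod_eq_one fun g hg => ?_
        obtain ⟨p, hp, rfl⟩ := List.mem_map.1 hg
        obtain ⟨c, hc, rfl⟩ := List.mem_map.1 hp
        have h0 : ((c.2.1 : ℤ) : F) = 0 := by
          rw [CharP.intCast_eq_zero_iff F 2]
          exact Int.dvd_of_emod_eq_zero (by exact_mod_cast hall c hc)
        simp [h0, S.xG_zero]
      rw [hw, mul_one] at e
      exact e.symm

/-- A positive root element determines its root and its parameter. -/
theorem xG_inj_pos (S : Struct D C) (hN : okNeg D = true) {a r : ℕ} (ha : a < D.nroots)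
    (hr : r < D.nroots) (hrp : D.nroots / 2 ≤ r) {c t : F} (ht : t ≠ 0)
    (e : S.ok.xG a c = S.ok.xG r t) : a = r ∧ c = t := by
  have hap : D.nroots / 2 ≤ a := by
    by_contra hne
    have h1 : S.ok.xG a c ∈ D.borelSubgroup F ⊓ D.negUnipotent F :=
      Subgroup.mem_inf.2 ⟨e ▸ S.B_le_of (S.xG_mem_U hrp hr t),
        Subgroup.subset_closure ⟨a, c, S.isNeg_iff.2 (by omega), S.ok.val_xG _ _⟩⟩
    rw [S.B_inf_V hN, Subgroup.mem_bot, e] at h1
    exact ht (S.xG_eq_one hr h1)
  rcases lt_trichotomy a r with hlt | heq | hgt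
  · have h1 : c = 0 := S.xG_inf_Ugen ha hap (e ▸ S.xG_mem_Ugen (Nat.succ_le_of_lt hlt) hr t)
    rw [h1, S.xG_zero, eq_comm] at e
    exact absurd (S.xG_eq_one hr e) ht
  · subst heq
    refine ⟨rfl, sub_eq_zero.1 (S.xG_eq_one ha ?_)⟩
    rw [sub_eq_add_neg, ← S.ok.xG_mul, ← S.ok.xG_inv, e, mul_inv_cancel]
  · exact absurd (S.xG_inf_Ugen hr hrp (e ▸ S.xG_mem_Ugen (Nat.succ_le_of_lt hgt) ha c)) ht

/-- The unipotent group extended by the listed root subgroups. -/
noncomputable def target (D : ChevalleyDatum) (F : Type*) [Field F] (L : List ℕ) : Subgroup (GL D.Idx F) :=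
  D.posUnipotent F ⊔
    Subgroup.closure {g : GL D.Idx F | ∃ s ∈ L, ∃ c : F, (g : Matrix D.Idx D.Idx F) = D.x F s c}

/-- The combinatorial hypotheses: targets `R`, simple reflections `J`, extra root subgroups `L`. -/
def okRoots (D : ChevalleyDatum) (R L : List ℕ) : Bool :=
  R.all (fun r => decide (D.nroots / 2 ≤ r) && decide (r < D.nroots) &&
    ((List.range D.nroots).all fun s => decide (s < D.nroots / 2) || okEven D r s) &&
    (L.all fun s => decide (s < D.nroots) && okEven D r s))

/-- The simple reflections fixing all of `R` are those of `J`; the other ones are detected by `R`. -/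
noncomputable def okJ (D : ChevalleyDatum) (C : Cert) (R J L : List ℕ) : Bool :=
  J.all (fun j => decide (C.neg (C.sr j) ∈ L)) &&
  (List.range D.rank).all (fun i =>
    if R.all (fun r => C.w i r == r) then decide (i ∈ J)
    else R.any fun r => (List.range D.rank).all fun k => D.cartan k r == if k = i then 1 else 0)

variable (S : Struct D C)

theorem xG_mem_target_of_list {L : List ℕ} {s : ℕ} (hs : s ∈ L) (c : F) : S.ok.xG s c ∈ target D F L :=
  Subgroup.mem_sup_right (Subgroup.subset_closure ⟨s, hs, c, S.ok.val_xG s c⟩)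

theorem target_le [CharP F 2] {R L : List ℕ} (hR : okRoots D R L = true) {r : ℕ} (hr : r ∈ R) (t : F) :
    target D F L ≤ Subgroup.centralizer {S.ok.xG r t} := by
  simp only [okRoots, List.all_eq_true, Bool.and_eq_true, decide_eq_true_eq] at hR
  obtain ⟨⟨⟨-, hrn⟩, hpos⟩, hlist⟩ := hR r hr
  refine sup_le ((Subgroup.closure_le _).2 ?_) ((Subgroup.closure_le _).2 ?_)
  · rintro g ⟨s, u, hs, hg⟩
    obtain ⟨a, b⟩ := S.isPos_iff.1 hs
    rw [S.ok.eq_xG hg, SetLike.mem_coe, Subgroup.mem_centralizer_singleton_iff]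
    have h1 := hpos s (List.mem_range.2 b)
    simp only [Bool.or_eq_true, decide_eq_true_eq] at h1
    exact (commute_of_even S hrn b (h1.resolve_left (by omega)) t u).symm
  · rintro g ⟨s, hs, u, hg⟩
    rw [S.ok.eq_xG hg, SetLike.mem_coe, Subgroup.mem_centralizer_singleton_iff]
    exact (commute_of_even S hrn (hlist s hs).1 (hlist s hs).2 t u).symm

include S in
theorem target_le_group (L : List ℕ) : target D F L ≤ D.group F := by
  refine sup_le (fun g hg => S.borel_le_group (S.B_le_of hg)) ((Subgroup.closure_le _).2 ?_)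
  rintro g ⟨s, -, c, hg⟩
  rw [S.ok.eq_xG hg]
  exact S.ok.xG_mem_group s c

variable {R J L : List ℕ}

theorem nG_mem_target (hJ : okJ D C R J L = true) {j : Fin D.rank} (hj : j.val ∈ J) (t : F) :
    S.ok.nG (D.simple j) t ∈ target D F L := by
  simp only [okJ, Bool.and_eq_true, List.all_eq_true, decide_eq_true_eq] at hJ
  have hlt := S.ok.sr_lt j.isLt
  have hneg : D.neg (D.simple j) ∈ L := by
    rw [← S.ok.sr_eq j.isLt, ← S.ok.neg_eq hlt]; exact hJ.1 _ hj
  have hpos : ∀ u : F, S.ok.xG (D.simple j) u ∈ target D F L := fun u =>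
    Subgroup.mem_sup_left (S.ok.sr_eq j.isLt ▸ S.xG_mem_U (S.sr_pos j.isLt) hlt u)
  exact mul_mem (mul_mem (hpos t) (xG_mem_target_of_list S hneg _)) (hpos t)

theorem nL_mem_target (hJ : okJ D C R J L = true) {W : List (Fin D.rank)} (hW : ∀ j ∈ W, j.val ∈ J) :
    S.nL F W ∈ target D F L := by
  refine list_prod_mem fun g hg => ?_
  obtain ⟨j, hj, rfl⟩ := List.mem_map.1 hg
  exact nG_mem_target S hJ (hW j hj) 1

/-- A word fixing the targets can be replaced by a word in `J`. -/
theorem exists_word_J [CharP F 2] (hN : okNeg D = true) (hR : okRoots D R L = true)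
    (hJ : okJ D C R J L = true) : ∀ (m : ℕ) (W : List (Fin D.rank)), W.length = m →
    (∀ r ∈ R, ∀ h : r < D.nroots, (S.wpL W ⟨r, h⟩).val = r) →
    ∃ W' : List (Fin D.rank), (∀ j ∈ W', j.val ∈ J) ∧ S.wpL W' = S.wpL W := by
  intro m
  induction m using Nat.strong_induction_on with
  | _ m ih =>
    intro W hm hfix
    rcases eq_or_ne W [] with rfl | hne
    · exact ⟨[], by simp, rfl⟩
    obtain ⟨M, i, rfl⟩ : ∃ M i, W = M ++ [i] :=
      ⟨W.dropLast, W.getLast hne, (List.dropLast_append_getLast hne).symm⟩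
    simp only [List.length_append, List.length_cons, List.length_nil] at hm
    have hW : S.wpL (M ++ [i]) = S.wpL M * S.wp i := by simp [Struct.wpL]
    by_cases hdesc : (S.wpL (M ++ [i]) (S.sp i)).val < D.nroots / 2
    · -- `i` fixes every target
      have hi : ∀ r ∈ R, ∀ h : r < D.nroots, S.wp i ⟨r, h⟩ = ⟨r, h⟩ := by
        intro r hr h
        have hR' := hR
        simp only [okRoots, List.all_eq_true, Bool.and_eq_true, decide_eq_true_eq] at hR'
        obtain ⟨⟨⟨hrp, -⟩, -⟩, -⟩ := hR' r hr
        set n := S.nL F (M ++ [i]) with hn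
        have hact : Act S.ok n (S.wpL (M ++ [i])) := S.act_nL _
        have hlt := S.ok.sr_lt i.isLt
        have hnl : D.neg (C.sr i) < D.nroots := by
          have := S.neg_lt_half hlt (S.sr_pos i.isLt); omega
        have hβ : D.nroots / 2 ≤ (S.wpL (M ++ [i]) ⟨D.neg (C.sr i), hnl⟩).val := by
          rw [show (⟨D.neg (C.sr i), hnl⟩ : Fin D.nroots) = ⟨D.neg (S.sp i).val, hnl⟩ from rfl,
            S.wp_neg _ (S.sp i) hnl]
          exact (S.neg_pos hdesc).1
        have hcomm : ∀ u : F, Commute (S.ok.xG (D.neg (C.sr i)) u) (S.ok.xG r 1) := by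
          intro u
          obtain ⟨-, c, -, e⟩ := hact ⟨D.neg (C.sr i), hnl⟩
          obtain ⟨-, c', -, e'⟩ := hact ⟨r, h⟩
          have h1 : Commute (n * S.ok.xG (D.neg (C.sr i)) u * n⁻¹) (n * S.ok.xG r 1 * n⁻¹) := by
            rw [(e u).1, (e' 1).1, hfix r hr h]
            exact Subgroup.mem_centralizer_singleton_iff.1 (target_le S hR hr _
              (Subgroup.mem_sup_left (S.xG_mem_U hβ (Fin.isLt _) _)))
          exact (Commute.conj_iff n).1 h1
        have hnc : Commute (S.ok.nG (D.simple i) (1 : F)) (S.ok.xG r 1) := by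
          have hp : ∀ u : F, Commute (S.ok.xG (D.simple i) u) (S.ok.xG r 1) := fun u =>
            Subgroup.mem_centralizer_singleton_iff.1 (target_le S hR hr _
              (Subgroup.mem_sup_left (S.ok.sr_eq i.isLt ▸ S.xG_mem_U (S.sr_pos i.isLt) hlt u)))
          have hq : Commute (S.ok.xG (D.neg (D.simple i)) (-(1 : F)⁻¹)) (S.ok.xG r 1) := by
            rw [← S.ok.sr_eq i.isLt]; exact hcomm _
          exact ((hp 1).mul_left hq).mul_left (hp 1)
        obtain ⟨-, c, -, e⟩ := S.act_nG (F := F) i ⟨r, h⟩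
        have e1 := (e 1).1
        rw [hnc.eq, mul_inv_cancel_right] at e1
        exact Fin.ext (xG_inj_pos S hN (Fin.isLt _) h hrp one_ne_zero e1.symm).1
      have hiJ : i.val ∈ J := by
        have hJ' := hJ
        simp only [okJ, Bool.and_eq_true, List.all_eq_true] at hJ'
        have h1 := hJ'.2 i.val (List.mem_range.2 i.isLt)
        have h2 : (R.all fun r => C.w i.val r == r) = true := by
          refine List.all_eq_true.2 fun r hr => ?_
          have hr' := hR
          simp only [okRoots, List.all_eq_true, Bool.and_eq_true, decide_eq_true_eq] at hr'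
          have h : r < D.nroots := (hr' r hr).1.1.2
          simpa [Struct.wp_val] using congrArg Fin.val (hi r hr h)
        rw [if_pos (List.all_eq_true.1 h2)] at h1
        exact of_decide_eq_true h1
      obtain ⟨W', hW', e⟩ := ih M.length (by omega) M rfl (fun r hr h => by
        have := hfix r hr h
        rwa [hW, Equiv.Perm.mul_apply, hi r hr h] at this)
      refine ⟨W' ++ [i], ?_, ?_⟩
      · intro j hj
        rcases List.mem_append.1 hj with hj | hj
        · exact hW' j hj
        · rw [List.mem_singleton.1 hj]; exact hiJ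
      · rw [hW, ← e]; simp [Struct.wpL]
    · -- the word is not minimal
      have hneg : (S.wpL M (S.sp i)).val < D.nroots / 2 := by
        have hlt := S.ok.sr_lt i.isLt
        have hnl : D.neg (S.sp i).val < D.nroots := by
          have := S.neg_lt_half hlt (S.sr_pos i.isLt); show D.neg (C.sr i) < _; omega
        have hsw : S.wp i (S.sp i) = ⟨D.neg (S.sp i).val, hnl⟩ := by
          refine Fin.ext ?_
          rw [S.wp_val]
          show C.w i.val (C.sr i.val) = D.neg (C.sr i.val)
          rw [(S.ok.refl_simple i.isLt).1, S.ok.neg_eq hlt]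
        have h1 : (S.wpL (M ++ [i]) (S.sp i)).val = D.neg (S.wpL M (S.sp i)).val := by
          rw [hW, Equiv.Perm.mul_apply, hsw, S.wp_neg M (S.sp i) hnl]
        by_contra hp
        have := S.neg_lt_half (Fin.isLt (S.wpL M (S.sp i))) (by omega)
        omega
      obtain ⟨M', h', hh', hlen, e⟩ := S.exchange (F := F) i M hneg
      have hperm : S.wpL M' = S.wpL (M ++ [i]) := by
        have h1 := S.act_mul (S.act_diag hh') (S.act_nL (F := F) M')
        have h2 := S.act_mul (S.act_nL (F := F) M) (S.act_nG i)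
        rw [e] at h2
        have := S.act_unique h1 h2
        rwa [one_mul, ← hW] at this
      obtain ⟨W', hW', e'⟩ := ih M'.length (by omega) M' rfl (fun r hr h => by rw [hperm]; exact hfix r hr h)
      exact ⟨W', hW', e'.trans hperm⟩

/-- The centralizer of a product of highest root elements. -/
theorem centralizer_eq [CharP F 2] (hN : okNeg D = true) (hR : okRoots D R L = true)
    (hJ : okJ D C R J L = true) {τ : GL D.Idx F}
    (hτ : target D F L ≤ Subgroup.centralizer {τ})
    (hfix : ∀ (n : GL D.Idx F) (W : List (Fin D.rank)), Act S.ok n (S.wpL W) → Commute n τ →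
      ∀ r ∈ R, ∀ h : r < D.nroots, (S.wpL W ⟨r, h⟩).val = r ∧ Commute n (S.ok.xG r 1)) :
    D.group F ⊓ Subgroup.centralizer {τ} = target D F L := by
  refine le_antisymm ?_ (le_inf (target_le_group S L) hτ)
  rintro g ⟨hg, hgc⟩
  obtain ⟨b, hb, n, hn, W, hW, u, hu, rfl⟩ := S.normal_form hN hg
  obtain ⟨u0, hu0, d, hd, rfl⟩ := S.borel_decomp hb
  have hU : ∀ v ∈ D.posUnipotent F, v ∈ target D F L := fun v hv => Subgroup.mem_sup_left hv
  have hu' := hU u (S.UPsi_le _ hu)
  have hu0' := hU u0 hu0
  have hgc' : Commute (u0 * d * n * u) τ := Subgroup.mem_centralizer_singleton_iff.1 hgc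
  have hdn : Commute (d * n) τ := by
    have h1 : Commute u τ := Subgroup.mem_centralizer_singleton_iff.1 (hτ hu')
    have h2 : Commute u0 τ := Subgroup.mem_centralizer_singleton_iff.1 (hτ hu0')
    have := (h2.inv_left.mul_left hgc').mul_left h1.inv_left
    rwa [show u0⁻¹ * (u0 * d * n * u) * u⁻¹ = d * n by group] at this
  have hact : Act S.ok (d * n) (S.wpL W) := by simpa using S.act_mul (S.act_diag hd) hW
  have hf := hfix _ W hact hdn
  obtain ⟨W', hW', eW⟩ := exists_word_J (F := F) S hN hR hJ _ W rfl (fun r hr h => (hf r hr h).1)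
  have hn' := nL_mem_target (F := F) S hJ hW'
  set d' := d * n * (S.nL F W')⁻¹ with hd'def
  have hd'm : d' ∈ D.monomialSubgroup F := by
    refine mul_mem (mul_mem ?_ hn) (inv_mem (S.nL_mem_mono W'))
    rw [S.ok.monomialSubgroup_eq]; exact Subgroup.mem_sup_left hd
  have hd' : d' ∈ D.diagonalSubgroup F := by
    obtain ⟨M, hM, hiff⟩ := S.exists_act hd'm
    refine hiff.1 (mul_eq_right.1 (?_ : S.wpL M * S.wpL W' = S.wpL W'))
    refine S.act_unique (S.act_mul hM (S.act_nL W')) ?_
    rw [hd'def, inv_mul_cancel_right, eW]; exact hact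
  have hd'c : ∀ r ∈ R, Commute d' (S.ok.xG r 1) := by
    intro r hr
    have hR' := hR
    simp only [okRoots, List.all_eq_true, Bool.and_eq_true, decide_eq_true_eq] at hR'
    have h1 : Commute (S.nL F W') (S.ok.xG r 1) :=
      Subgroup.mem_centralizer_singleton_iff.1 (target_le S hR hr 1 hn')
    exact (hf r hr (hR' r hr).1.1.2).2.mul_left h1.inv_left
  have hd'K : d' ∈ target D F L := by
    rw [S.ok.diagonalSubgroup_eq] at hd'
    obtain ⟨c, hc⟩ := hd'
    rw [← hc] at hd'c ⊢
    have hJ' := hJ
    simp only [okJ, Bool.and_eq_true, List.all_eq_true] at hJ'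
    have hc1 : ∀ i : Fin D.rank, i.val ∈ J ∨ c i = 1 := by
      intro i
      have h1 := hJ'.2 i.val (List.mem_range.2 i.isLt)
      split_ifs at h1 with hall
      · exact Or.inl (of_decide_eq_true h1)
      · obtain ⟨r, hr, hcart⟩ := List.any_eq_true.1 h1
        simp only [List.all_eq_true, beq_iff_eq, List.mem_range] at hcart
        have hR' := hR
        simp only [okRoots, List.all_eq_true, Bool.and_eq_true, decide_eq_true_eq] at hR'
        have hrn := (hR' r hr).1.1.2
        have e := S.tG_conj_xG (F := F) hrn c 1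
        rw [(hd'c r hr).eq, mul_inv_cancel_right, mul_one] at e
        have e2 := (xG_inj_pos S hN hrn hrn (hR' r hr).1.1.1 (Units.ne_zero _) e).2
        rw [Fintype.prod_eq_single i (fun k hk => by
          rw [hcart k.val k.isLt, if_neg (fun he => hk (Fin.ext he)), zpow_zero]),
          hcart i.val i.isLt, if_pos rfl, zpow_one] at e2
        exact Or.inr (Units.ext e2.symm)
    suffices h : c ∈ (target D F L).comap (Ok.tG D F) from h
    rw [← Finset.univ_prod_mulSingle c]
    refine Subgroup.prod_mem _ fun i _ => ?_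
    rw [Subgroup.mem_comap]
    rcases hc1 i with hi | hi
    · rw [← S.ok.hG_simple_eq_tG]
      exact mul_mem (nG_mem_target S hJ hi _) (nG_mem_target S hJ hi _)
    · rw [hi, Pi.mulSingle_one, map_one]; exact one_mem _
  rw [show u0 * d * n * u = u0 * (d' * S.nL F W') * u by rw [hd'def]; group]
  exact mul_mem (mul_mem hu0' (mul_mem hd'K hn')) hu'

/-- The single-root case of the fixing hypothesis. -/
theorem fix_single (hN : okNeg D = true) {r : ℕ} (hrp : D.nroots / 2 ≤ r) (n : GL D.Idx F)
    (W : List (Fin D.rank)) (hact : Act S.ok n (S.wpL W)) (hc : Commute n (S.ok.xG r 1)) :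
    ∀ a ∈ [r], ∀ h : a < D.nroots, (S.wpL W ⟨a, h⟩).val = a ∧ Commute n (S.ok.xG a 1) := by
  intro a ha h
  rw [List.mem_singleton] at ha
  subst ha
  obtain ⟨-, c, -, e⟩ := hact ⟨a, h⟩
  have e1 := (e 1).1
  rw [hc.eq, mul_inv_cancel_right] at e1
  exact ⟨(xG_inj_pos S hN (Fin.isLt _) h hrp one_ne_zero e1.symm).1, hc⟩

theorem centralizer_root [CharP F 2] {r : ℕ} (hN : okNeg D = true) (hR : okRoots D [r] L = true)
    (hJ : okJ D C [r] J L = true) :
    D.group F ⊓ Subgroup.centralizer {S.ok.xG r (1 : F)} = target D F L := by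
  have hrp : D.nroots / 2 ≤ r := by
    simp only [okRoots, List.all_eq_true, Bool.and_eq_true, decide_eq_true_eq] at hR
    exact (hR r (by simp)).1.1.1
  exact centralizer_eq S hN hR hJ (target_le S hR (by simp) 1) (fix_single S hN hrp)

include S in
theorem target_three (a b c : ℕ) :
    target D F [a, b, c] =
      D.posUnipotent F ⊔ D.rootSubgroup F a ⊔ D.rootSubgroup F b ⊔ D.rootSubgroup F c := by
  refine le_antisymm (sup_le (le_sup_left.trans (le_sup_left.trans le_sup_left)) ((Subgroup.closure_le _).2 ?_))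
    (sup_le (sup_le (sup_le le_sup_left ?_) ?_) ?_)
  · rintro g ⟨s, hs, t, hg⟩
    simp only [List.mem_cons, List.not_mem_nil, or_false] at hs
    have hm : g ∈ D.rootSubgroup F s := Subgroup.subset_closure ⟨t, hg⟩
    rcases hs with rfl | rfl | rfl
    · exact Subgroup.mem_sup_left (Subgroup.mem_sup_left (Subgroup.mem_sup_right hm))
    · exact Subgroup.mem_sup_left (Subgroup.mem_sup_right hm)
    · exact Subgroup.mem_sup_right hm
  all_goals exact S.rootSubgroup_le _ fun t => xG_mem_target_of_list S (by simp) t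

end Cfsg.Lib.Known.RootCent
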