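import Cfsg.Agent.Known.TitsEval

/-! Odd selections have nontrivial squares. -/

set_option autoImplicit false
set_option maxRecDepth 100000
set_option Elab.async false

namespace Cfsg.Lib.TitsInvol

theorem split (z : List ℕ × Bool) (Y : List (List ℕ × Bool)) (pre : List ℕ) (p : Bool) (v : ℕ)
    (h0 : chk Y pre p v = true) (h1 : chk Y (pre ++ z.1) (xor p z.2) (runR z.1 v) = true) :
    chk (z :: Y) pre p v = true := by
  rw [chk, h0, h1]; rfl

theorem c000 : chk (WZ.drop 3) ([] : List ℕ) false (2 ^ 48) = true := by decide +kernel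

theorem c001 : chk (WZ.drop 3) (([] : List ℕ) ++ [34, 26, 36]) (xor false true) (runR [34, 26, 36] (2 ^ 48)) = true := by decide +kernel

theorem c010 : chk (WZ.drop 3) (([] : List ℕ) ++ [33, 24]) (xor false false) (runR [33, 24] (2 ^ 48)) = true := by decide +kernel

theorem c011 : chk (WZ.drop 3) ((([] : List ℕ) ++ [33, 24]) ++ [34, 26, 36]) (xor (xor false false) true) (runR [34, 26, 36] (runR [33, 24] (2 ^ 48))) = true := by decide +kernel

theorem c100 : chk (WZ.drop 3) (([] : List ℕ) ++ [27, 25, 28]) (xor false true) (runR [27, 25, 28] (2 ^ 48)) = true := by decide +kernel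

theorem c101 : chk (WZ.drop 3) ((([] : List ℕ) ++ [27, 25, 28]) ++ [34, 26, 36]) (xor (xor false true) true) (runR [34, 26, 36] (runR [27, 25, 28] (2 ^ 48))) = true := by decide +kernel

theorem c110 : chk (WZ.drop 3) ((([] : List ℕ) ++ [27, 25, 28]) ++ [33, 24]) (xor (xor false true) false) (runR [33, 24] (runR [27, 25, 28] (2 ^ 48))) = true := by decide +kernel

theorem c111 : chk (WZ.drop 3) (((([] : List ℕ) ++ [27, 25, 28]) ++ [33, 24]) ++ [34, 26, 36]) (xor (xor (xor false true) false) true) (runR [34, 26, 36] (runR [33, 24] (runR [27, 25, 28] (2 ^ 48)))) = true := by decide +kernel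

theorem chk_ok : chk WZ [] false (2 ^ 48) = true :=
  (split _ _ _ _ _ (split _ _ _ _ _ (split _ _ _ _ _ c000 c001) (split _ _ _ _ _ c010 c011)) (split _ _ _ _ _ (split _ _ _ _ _ c100 c101) (split _ _ _ _ _ c110 c111)))

end Cfsg.Lib.TitsInvol
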