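import Cfsg.Agent.Chev.Ree.F4.Simple
import Cfsg.Agent.Known.TitsSquares
import Mathlib

/-! Every involution of `²F₄(2)` lies in the derived subgroup. -/

set_option autoImplicit false
set_option linter.style.haveILetI false
set_option linter.unusedSectionVars false
set_option maxRecDepth 20000
set_option maxHeartbeats 400000

open Cfsg.Lie
open Cfsg.Lib.Chev Cfsg.Lib.Chev.ReeF

namespace Cfsg.Lib.TitsInvol

/-- A product of root elements with parameter one. -/
noncomputable def wG (w : List ℕ) : GL chevF4.Idx (ZMod 2) := (w.map fun r => SF.ok.xG r (1 : ZMod 2)).prod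

theorem wG_append (v w : List ℕ) : wG (v ++ w) = wG v * wG w := by simp [wG]

theorem wG_val : ∀ w : List ℕ, (wG w : Matrix chevF4.Idx chevF4.Idx (ZMod 2)) =
    chevF4.wordMat (ZMod 2) (w.map fun r => (r, 1))
  | [] => by simp [wG, ChevalleyDatum.wordMat]
  | r :: w => by
    have h := wG_val w
    simp only [wG, ChevalleyDatum.wordMat] at h ⊢
    simp [h]

theorem wG_eq {v w : List ℕ} (hv : ∀ r ∈ v, r < chevF4.nroots) (hw : ∀ r ∈ w, r < chevF4.nroots)
    (h : ∀ n < 52, Word.runB v (2 ^ n) = Word.runB w (2 ^ n)) : wG v = wG w :=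
  Units.ext ((wG_val v).trans ((Word.wordMat_eq hv hw h).trans (wG_val w).symm))

theorem wG_ne_one {w : List ℕ} (hw : ∀ r ∈ w, r < chevF4.nroots)
    (h : Word.runB w (2 ^ 48) % 2 ^ 52 ≠ 2 ^ 48) : wG w ≠ 1 := by
  intro e
  have hg : ∀ x, (Pi.single (Sum.inr ⟨44, by decide +kernel⟩) (1 : ZMod 2) : chevF4.Idx → ZMod 2) x =
      Word.bitV (2 ^ 48) (enc chevF4.rank chevF4.nroots x) := fun x => by
    rw [show (48 : ℕ) = enc chevF4.rank chevF4.nroots (Sum.inr ⟨44, by decide +kernel⟩) from rfl]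
    simp [Word.bitV, Pi.single_apply, Nat.testBit_two_pow, (enc_injective _ _).eq_iff, eq_comm]
  have e1 := fun b => Word.runB_eq w _ _ hw hg b
  rw [← wG_val, e, Units.val_one] at e1
  refine h (Nat.eq_of_testBit_eq fun i => ?_)
  rw [Nat.testBit_mod_two_pow]
  by_cases hi : i < 52
  · have hc : chevF4.rank + chevF4.nroots = 52 := by decide +kernel
    obtain ⟨b, hb⟩ := exists_enc chevF4.rank chevF4.nroots (show i < chevF4.rank + chevF4.nroots by rw [hc]; exact hi)
    have h1 := e1 b
    rw [Matrix.vecMul_one, hg, hb] at h1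
    unfold Word.bitV at h1
    simp only [hi, decide_true, Bool.true_and]
    generalize (2 ^ 48 : ℕ).testBit i = p at h1 ⊢
    generalize (Word.runB w (2 ^ 48)).testBit i = q at h1 ⊢
    cases p <;> cases q <;> simp at h1 ⊢
  · simp only [hi, decide_false, Bool.false_and, Nat.testBit_two_pow]
    simp; omega

/-- The fixed representatives at the twelve pairs, with their classes. -/
def Z : List ((ℕ × ℕ) × List ℕ × Bool) :=
  [((27, 25), [27, 25, 28], true), ((33, 24), [33, 24], false), ((34, 26), [34, 26, 36], true),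
    ((28, 30), [28, 30], false), ((35, 31), [35, 31, 40], true), ((29, 41), [29, 41, 44], true),
    ((37, 32), [37, 32], false), ((36, 42), [36, 42], false), ((38, 43), [38, 43], false),
    ((39, 45), [39, 45], false), ((40, 46), [40, 46], false), ((44, 47), [44, 47], false)]

/-- The roots of a product of representatives. -/
def flatW (S : List ((ℕ × ℕ) × List ℕ × Bool)) : List ℕ := (S.map fun z => z.2.1).flatten

/-- The class of a product of representatives. -/
def par (S : List ((ℕ × ℕ) × List ℕ × Bool)) : Bool := (S.map fun z => z.2.2).foldr xor false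

theorem words_lt : ∀ z ∈ Z, ∀ r ∈ z.2.1, r < chevF4.nroots := by decide +kernel

/-- The representatives of the Weyl group. -/
def nw : Bool → List ℕ
  | false => [33, 24, 14, 23, 33, 24]
  | true => [28, 30, 20, 22, 17, 27, 25, 28]

/-- The representatives as translates of base representatives. -/
def src : List (List Bool × List ℕ × Bool) :=
  [([], [27, 25, 28], true), ([], [33, 24], false), ([false], [27, 25, 28], true), ([], [28, 30], false),
    ([true, false], [27, 25, 28], true), ([false, true, false], [27, 25, 28], true), ([true], [33, 24], false),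
    ([false], [28, 30], false), ([false, true], [33, 24], false), ([true, false, true], [33, 24], false),
    ([true, false], [28, 30], false), ([false, true, false], [28, 30], false)]

theorem src_ok : ∀ i < 12, ∀ n < 52,
    Word.runB ((Z.getD i default).2.1 ++ ((src.getD i default).1.map nw).flatten) (2 ^ n) =
      Word.runB (((src.getD i default).1.map nw).flatten ++ (src.getD i default).2.1) (2 ^ n) := by decide +kernel

theorem src_lt : ∀ i < 12, (∀ r ∈ (Z.getD i default).2.1, r < chevF4.nroots) ∧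
    (∀ r ∈ ((src.getD i default).1.map nw).flatten, r < chevF4.nroots) ∧
    (∀ r ∈ (src.getD i default).2.1, r < chevF4.nroots) ∧
    (Z.getD i default).2.2 = (src.getD i default).2.2 := by decide +kernel

theorem comm_six : ∀ n < 52, Word.runB ([27, 25, 28] ++ [35, 31, 40]) (2 ^ n) =
    Word.runB ([35, 31, 40] ++ [27, 25, 28] ++ [37, 32]) (2 ^ n) := by decide +kernel

theorem comm_seven : ∀ n < 52, Word.runB ([33, 24] ++ [29, 41, 44]) (2 ^ n) =
    Word.runB ([29, 41, 44] ++ [33, 24] ++ [36, 42]) (2 ^ n) := by decide +kernel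

theorem conj_six : ∀ n < 52, Word.runB ([37, 32] ++ nw true) (2 ^ n) = Word.runB (nw true ++ [33, 24]) (2 ^ n) := by
  decide +kernel

theorem conj_seven : ∀ n < 52, Word.runB ([36, 42] ++ nw false) (2 ^ n) = Word.runB (nw false ++ [28, 30]) (2 ^ n) := by
  decide +kernel

theorem sq_base : ∀ n < 52, Word.runB ([27, 25, 28] ++ [27, 25, 28]) (2 ^ n) = Word.runB [28, 30] (2 ^ n) := by
  decide +kernel

/-- Elements of fixed unipotent subgroups as products of representatives. -/
theorem decomp (X : RF (ZMod 2)) : ∀ (Y : List ((ℕ × ℕ) × List ℕ × Bool)), Good (ZMod 2) (Y.map Prod.fst) →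
    (∀ S : List ((ℕ × ℕ) × List ℕ × Bool), S.Sublist Y → ∀ z ∈ S, ∀ r ∈ z.2.1, r < chevF4.nroots) →
    (∀ i < Y.length, ∃ ex, (Y.getD i default).2.1 = (Y.getD i default).1.1 :: (Y.getD i default).1.2 :: ex ∧
      ∀ r ∈ ex, r ∈ rts ((Y.map Prod.fst).drop (i + 1))) →
    (∀ z ∈ Y, wG z.2.1 ∈ X.Gs) →
    ∀ x ∈ UL (ZMod 2) (Y.map Prod.fst) ⊓ X.Gs, ∃ S : List ((ℕ × ℕ) × List ℕ × Bool), S.Sublist Y ∧ x = wG (flatW S)
  | [], _, _, _, _, x, hx => by
    rw [List.map_nil, UL_nil] at hx
    exact ⟨[], List.Sublist.refl _, (Subgroup.mem_bot.1 hx.1).trans (by simp [wG, flatW])⟩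
  | z :: Y, h, hlt, hex, hG, x, hx => by
    have hrec : ∀ y ∈ UL (ZMod 2) (Y.map Prod.fst) ⊓ X.Gs, ∃ S : List ((ℕ × ℕ) × List ℕ × Bool), S.Sublist Y ∧ y = wG (flatW S) :=
      decomp X Y h.tail (fun S hS => hlt S (hS.trans (List.sublist_cons_self z Y)))
        (fun i hi => by simpa using hex (i + 1) (by simpa using hi))
        (fun u hu => hG u (List.mem_cons_of_mem _ hu))
    obtain ⟨t, ht⟩ := X.fixed_lead h hx
    rcases (by decide : ∀ a : ZMod 2, a = 0 ∨ a = 1) t with rfl | rfl
    · rw [zero_pow X.e_pos.ne'] at ht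
      obtain ⟨S, hS, e⟩ := hrec x ⟨ht.tail, hx.2⟩
      exact ⟨S, hS.trans (List.sublist_cons_self z Y), e⟩
    · rw [one_pow] at ht
      obtain ⟨ex, hex1, hex2⟩ := hex 0 (by simp)
      simp only [List.getD_cons_zero, List.map_cons, List.drop_succ_cons, List.drop_zero] at hex1 hex2
      have hz : Mem z.1 (Y.map Prod.fst) (wG z.2.1) 1 1 := by
        refine ⟨wG ex, ?_, ?_⟩
        · exact Subgroup.list_prod_mem _ fun g hg => by
            obtain ⟨r, hr, rfl⟩ := List.mem_map.1 hg
            exact xG_mem_UL (hex2 r hr) _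
        · rw [hex1]; simp [wG, mul_assoc]
      have h1 := (hz.inv h.ok).mul h.ok ht
      rw [neg_add_cancel] at h1
      obtain ⟨S, hS, e⟩ := hrec ((wG z.2.1)⁻¹ * x) ⟨h1.tail, X.Gs.mul_mem (X.Gs.inv_mem (hG z List.mem_cons_self)) hx.2⟩
      refine ⟨z :: S, hS.cons_cons z, ?_⟩
      rw [show flatW (z :: S) = z.2.1 ++ flatW S by simp [flatW], wG_append, ← e, mul_inv_cancel_left]

theorem Z_map : Z.map (fun z => (z.2.1, z.2.2)) = WZ := rfl

theorem flat_lt {S : List ((ℕ × ℕ) × List ℕ × Bool)} (hS : S.Sublist Z) : ∀ r ∈ flatW S, r < chevF4.nroots := by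
  intro r hr
  obtain ⟨l, hl, hrl⟩ := List.mem_flatten.1 hr
  obtain ⟨z, hz, rfl⟩ := List.mem_map.1 hl
  exact words_lt z (hS.subset hz) r hrl

theorem odd_moves {S : List ((ℕ × ℕ) × List ℕ × Bool)} (hS : S.Sublist Z) (hp : par S = true) :
    Word.runB (flatW S ++ flatW S) (2 ^ 48) % 2 ^ 52 ≠ 2 ^ 48 := by
  have hsub : (S.map fun z => (z.2.1, z.2.2)).Sublist WZ := Z_map ▸ hS.map _
  have h := chk_sound WZ [] false (2 ^ 48) (2 ^ 48) (fun w => rfl) chk_ok _ hsub
    (by simpa [par, List.map_map, Function.comp_def] using hp)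
  simp only [List.map_map, Function.comp_def, List.nil_append] at h
  change Word.runB (flatW S ++ flatW S) (2 ^ 48) % 2 ^ 52 ≠ 2 ^ 48
  change runR (flatW S ++ flatW S) (2 ^ 48) % 2 ^ 52 ≠ 2 ^ 48 at h
  rwa [runR_eq _ _ fun r hr => (List.mem_append.1 hr).elim (flat_lt hS r) (flat_lt hS r)] at h

theorem mem_of_conj {G : Type*} [Group G] (H : Subgroup G) {z n b : G} (h : z * n = n * b) (hn : n ∈ H) (hb : b ∈ H) :
    z ∈ H := by
  rw [eq_mul_inv_of_mul_eq h]
  exact mul_mem (mul_mem hn hb) (inv_mem hn)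

theorem invol_mem (X : RF (ZMod 2)) (g : ↥X.G1) (hg : orderOf g = 2) : g ∈ commutator ↥X.G1 := by
  classical
  haveI : Fact (Nat.Prime 2) := ⟨Nat.prime_two⟩
  haveI : Finite ↥X.G1 := Subtype.finite
  -- generators
  have hA : wG [33, 24] ∈ X.G1 := by simpa [wG, RF.yP] using X.yA_mem (1 : ZMod 2)
  have hB : wG [27, 25, 28] ∈ X.G1 := by
    have h := X.yB_mem (1 : ZMod 2) 0
    simp only [RF.y4, one_pow, zero_pow (Nat.mul_ne_zero two_ne_zero X.e_pos.ne'), SF.xG_zero, add_zero, mul_one] at h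
    simpa [wG, mul_assoc] using h
  have hnA : wG (nw false) ∈ X.G1 := by
    have h := mul_mem (mul_mem (X.yA_mem (1 : ZMod 2)) (X.yA'_mem (1 : ZMod 2))) (X.yA_mem (1 : ZMod 2))
    simpa [wG, nw, RF.yP, mul_assoc] using h
  have hnB : wG (nw true) ∈ X.G1 := by
    have h := mul_mem (mul_mem (X.yB_mem (0 : ZMod 2) 1) (X.yB'_mem (1 : ZMod 2) 1)) (X.yB_mem (1 : ZMod 2) 0)
    simp only [RF.y4, one_pow, zero_pow X.e_pos.ne', zero_pow (Nat.succ_ne_zero X.e),
      zero_pow (Nat.mul_ne_zero two_ne_zero X.e_pos.ne'), SF.xG_zero, add_zero, zero_add, mul_one, one_mul,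
      show (1 : ZMod 2) + 1 = 0 from rfl] at h
    simpa [wG, nw, mul_assoc] using h
  have hC : wG [28, 30] ∈ X.G1 := by
    rw [← wG_eq (by decide +kernel) (by decide +kernel) sq_base, wG_append]
    exact mul_mem hB hB
  have hW : ∀ W : List Bool, wG (W.map nw).flatten ∈ X.G1 := by
    intro W
    induction W with
    | nil => exact one_mem _
    | cons b W ih =>
      rw [List.map_cons, List.flatten_cons, wG_append]
      cases b
      exacts [mul_mem hnA ih, mul_mem hnB ih]
  have hsrc : ∀ i < 12, wG (src.getD i default).2.1 ∈ X.G1 := by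
    intro i hi
    have : ∀ i < 12, (src.getD i default).2.1 = [27, 25, 28] ∨ (src.getD i default).2.1 = [33, 24] ∨
        (src.getD i default).2.1 = [28, 30] := by decide +kernel
    rcases this i hi with e | e | e
    · rw [e]; exact hB
    · rw [e]; exact hA
    · rw [e]; exact hC
  have hid : ∀ i < 12, wG (Z.getD i default).2.1 * wG ((src.getD i default).1.map nw).flatten =
      wG ((src.getD i default).1.map nw).flatten * wG (src.getD i default).2.1 := by
    intro i hi
    obtain ⟨l1, l2, l3, -⟩ := src_lt i hi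
    rw [← wG_append, ← wG_append]
    exact wG_eq (fun r hr => (List.mem_append.1 hr).elim (l1 r) (l2 r))
      (fun r hr => (List.mem_append.1 hr).elim (l2 r) (l3 r)) (src_ok i hi)
  have hZ : ∀ i < 12, wG (Z.getD i default).2.1 ∈ X.G1 := by
    intro i hi
    exact mem_of_conj X.G1 (hid i hi) (hW _) (hsrc i hi)
  -- classes
  let P : GL chevF4.Idx (ZMod 2) → Abelianization ↥X.G1 := fun w => if h : w ∈ X.G1 then Abelianization.of ⟨w, h⟩ else 1
  have hPmul : ∀ v w, v ∈ X.G1 → w ∈ X.G1 → P (v * w) = P v * P w := fun v w hv hw => by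
    simp only [P, dif_pos hv, dif_pos hw, dif_pos (mul_mem hv hw), ← map_mul]
    rfl
  have h6 : P (wG [37, 32]) = 1 := by
    have h := congrArg P (wG_eq (by decide +kernel) (by decide +kernel) comm_six)
    have m4 : wG [35, 31, 40] ∈ X.G1 := hZ 4 (by norm_num)
    have m6 : wG [37, 32] ∈ X.G1 := hZ 6 (by norm_num)
    rw [wG_append, wG_append, wG_append, hPmul _ _ hB m4, hPmul _ _ (mul_mem m4 hB) m6, hPmul _ _ m4 hB,
      mul_comm (P (wG [35, 31, 40]))] at h
    exact left_eq_mul.1 h
  have h7 : P (wG [36, 42]) = 1 := by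
    have h := congrArg P (wG_eq (by decide +kernel) (by decide +kernel) comm_seven)
    have m5 : wG [29, 41, 44] ∈ X.G1 := hZ 5 (by norm_num)
    have m7 : wG [36, 42] ∈ X.G1 := hZ 7 (by norm_num)
    rw [wG_append, wG_append, wG_append, hPmul _ _ hA m5, hPmul _ _ (mul_mem m5 hA) m7, hPmul _ _ m5 hA,
      mul_comm (P (wG [29, 41, 44]))] at h
    exact left_eq_mul.1 h
  have pA : P (wG [33, 24]) = 1 := by
    have h := congrArg P (wG_eq (by decide +kernel) (by decide +kernel) conj_six)
    have m6 : wG [37, 32] ∈ X.G1 := hZ 6 (by norm_num)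
    rw [wG_append, wG_append, hPmul _ _ m6 hnB, hPmul _ _ hnB hA, h6,
      one_mul] at h
    exact left_eq_mul.1 h
  have pC : P (wG [28, 30]) = 1 := by
    have h := congrArg P (wG_eq (by decide +kernel) (by decide +kernel) conj_seven)
    have m7 : wG [36, 42] ∈ X.G1 := hZ 7 (by norm_num)
    rw [wG_append, wG_append, hPmul _ _ m7 hnA, hPmul _ _ hnA hC, h7,
      one_mul] at h
    exact left_eq_mul.1 h
  have pB : P (wG [27, 25, 28]) * P (wG [27, 25, 28]) = 1 := by
    rw [← hPmul _ _ hB hB, ← wG_append, wG_eq (by decide +kernel) (by decide +kernel) sq_base, pC]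
  have pZ : ∀ z ∈ Z, wG z.2.1 ∈ X.G1 ∧ P (wG z.2.1) = if z.2.2 then P (wG [27, 25, 28]) else 1 := by
    intro z hz
    obtain ⟨i, hi, rfl⟩ := List.getElem_of_mem hz
    rw [← List.getD_eq_getElem Z default hi]
    change i < 12 at hi
    refine ⟨hZ i hi, ?_⟩
    have h := congrArg P (hid i hi)
    rw [hPmul _ _ (hZ i hi) (hW _), hPmul _ _ (hW _) (hsrc i hi),
      mul_comm (P (wG ((src.getD i default).1.map nw).flatten))] at h
    rw [mul_right_cancel h, (src_lt i hi).2.2.2]
    have : ∀ i < 12, ((src.getD i default).2.2 = true ∧ (src.getD i default).2.1 = [27, 25, 28]) ∨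
        ((src.getD i default).2.2 = false ∧ (src.getD i default).2.1 = [33, 24]) ∨
        ((src.getD i default).2.2 = false ∧ (src.getD i default).2.1 = [28, 30]) := by decide +kernel
    rcases this i hi with ⟨e1, e2⟩ | ⟨e1, e2⟩ | ⟨e1, e2⟩ <;> rw [e1, e2] <;> simp [pA, pC]
  have pS : ∀ S : List ((ℕ × ℕ) × List ℕ × Bool), (∀ z ∈ S, z ∈ Z) →
      wG (flatW S) ∈ X.G1 ∧ P (wG (flatW S)) = if par S then P (wG [27, 25, 28]) else 1 := by
    intro S
    induction S with
    | nil =>
      intro _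
      refine ⟨by simp [flatW, wG, one_mem], ?_⟩
      have : wG (flatW []) = 1 := by simp [flatW, wG]
      rw [this]
      simp only [P, dif_pos (one_mem X.G1), par, List.map_nil, List.foldr_nil, Bool.false_eq_true, if_false]
      exact map_one _
    | cons z S ih =>
      intro hS
      obtain ⟨m1, p1⟩ := pZ z (hS z List.mem_cons_self)
      obtain ⟨m2, p2⟩ := ih fun u hu => hS u (List.mem_cons_of_mem _ hu)
      have e : flatW (z :: S) = z.2.1 ++ flatW S := by simp [flatW]
      rw [e, wG_append]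
      refine ⟨mul_mem m1 m2, ?_⟩
      rw [hPmul _ _ m1 m2, p1, p2, show par (z :: S) = xor z.2.2 (par S) from rfl]
      cases z.2.2 <;> cases par S <;> simp [pB]
  -- Sylow
  have hU : Nat.card ↥((chevF4.posUnipotent (ZMod 2) ⊓ X.G1).subgroupOf X.G1) =
      2 ^ (Nat.card ↥X.G1).factorization 2 := by
    rw [Nat.card_congr (Subgroup.subgroupOfEquivOfLe inf_le_right).toEquiv, X.card_U1, X.order, ZMod.card]
    rw [show (2 : ℕ) ^ 12 * (2 - 1) * (2 ^ 3 + 1) * (2 ^ 4 - 1) * (2 ^ 6 + 1) = 2 ^ 12 * 8775 by norm_num,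
      Nat.factorization_mul_apply_of_coprime (by norm_num), Nat.prime_two.factorization_pow, Finsupp.single_eq_same,
      Nat.factorization_eq_zero_of_not_dvd (by norm_num)]
  let PU : Sylow 2 ↥X.G1 := Sylow.ofCard _ hU
  obtain ⟨Q, hQ⟩ := (show IsPGroup 2 (Subgroup.zpowers g) from
    IsPGroup.of_card (n := 1) (by rw [Nat.card_zpowers, hg, pow_one])).exists_le_sylow
  obtain ⟨c, rfl⟩ := MulAction.exists_smul_eq ↥X.G1 PU Q
  obtain ⟨u, huP, hue⟩ := hQ (Subgroup.mem_zpowers g)
  have huU : (u : GL chevF4.Idx (ZMod 2)) ∈ chevF4.posUnipotent (ZMod 2) ⊓ X.G1 := Subgroup.mem_subgroupOf.1 huP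
  have hu2 : u * u = 1 := by
    have h : g * g = 1 := by have := pow_orderOf_eq_one g; rwa [hg, sq] at this
    rw [← hue] at h
    change MulAut.conj c u * MulAut.conj c u = 1 at h
    rw [← map_mul] at h
    exact (MulAut.conj c).injective (h.trans (map_one _).symm)
  rw [X.U1_eq] at huU
  obtain ⟨S, hS, e⟩ := decomp X Z (by simpa [Z, OP] using (good_OP (K := ZMod 2)))
    (fun S hS z hz => words_lt z (hS.subset hz))
    (fun i hi => by
      change i < 12 at hi
      have : ∀ i < 12, (Z.getD i default).2.1 = (Z.getD i default).1.1 :: (Z.getD i default).1.2 ::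
          (Z.getD i default).2.1.drop 2 ∧
          ∀ r ∈ (Z.getD i default).2.1.drop 2, r ∈ rts ((Z.map Prod.fst).drop (i + 1)) := by decide +kernel
      exact ⟨_, this i hi⟩)
    (fun z hz => X.G1_le (pZ z hz).1) (u : GL chevF4.Idx (ZMod 2)) ⟨by
      have := huU.1
      rw [← UL_OP] at this
      exact this, huU.2⟩
  obtain ⟨-, pu⟩ := pS S fun z hz => hS.subset hz
  have hpar : par S = false := by
    by_contra hodd
    refine wG_ne_one (fun r hr => (List.mem_append.1 hr).elim (flat_lt hS r) (flat_lt hS r))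
      (odd_moves hS (by simpa using hodd)) ?_
    rw [wG_append, ← e, ← Subgroup.coe_mul, hu2, Subgroup.coe_one]
  rw [← e, hpar, if_neg Bool.false_ne_true] at pu
  simp only [P, dif_pos u.2] at pu
  have hu : u ∈ commutator ↥X.G1 := (QuotientGroup.eq_one_iff _).1 pu
  rw [← hue]
  exact Subgroup.Normal.conj_mem (by rw [commutator_def]; infer_instance) u hu c

theorem tits_invol_mem (g : ↥(Cfsg.Lie.twistedF4 (ZMod 2) 1)) (hg : orderOf g = 2) :
    g ∈ commutator ↥(Cfsg.Lie.twistedF4 (ZMod 2) 1) := by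
  obtain ⟨X, hX⟩ := exists_rf (K := ZMod 2) (m := 0) (ZMod.card 2)
  have key : ∀ e, X.e = e → ∀ g : ↥(Cfsg.Lie.twistedF4 (ZMod 2) e), orderOf g = 2 →
      g ∈ commutator ↥(Cfsg.Lie.twistedF4 (ZMod 2) e) := by
    intro e he
    subst he
    exact invol_mem X
  exact key 1 (by simp [RF.e, hX]) g hg

end Cfsg.Lib.TitsInvol
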