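import Cfsg.Agent.Chev.Order
import Cfsg.Prelude.Def_ChevAutomorphisms

/-! Conjugation of root elements by the diagonal matrix of a character of the root lattice. -/

set_option autoImplicit false

open Cfsg.Lie Cfsg.Lib.Chev

namespace Cfsg.Lib.Known

/-- Each member of the list is the previous one plus `r`. -/
def okStep (D : ChevalleyDatum) (r : ℕ) : ℕ → List (ℕ × ℤ) → Bool
  | _, [] => true
  | prev, q :: L => decide (D.chainRoot r prev 1 = some q.1) && (decide (q.1 < D.nroots) && okStep D r q.1 L)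

/-- The chain table only contains successive sums. -/
def okChar (D : ChevalleyDatum) : Bool :=
  (List.range D.nroots).all fun r => (D.chain.getD r #[]).toList.all fun e =>
    decide (e.1 < D.nroots) && okStep D r e.1 e.2.toList

theorem okChar_of_mem {D : ChevalleyDatum}
    (hD : D ∈ [chevG2, chevB2, chevD4, chevF4, chevE6, chevE7, chevE8]) : okChar D = true := by
  simp only [List.mem_cons, List.not_mem_nil, or_false] at hD
  rcases hD with rfl | rfl | rfl | rfl | rfl | rfl | rfl <;> decide +kernel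

variable {D : ChevalleyDatum} {C : Cert} {F : Type*} [Field F]

/-- The value of a character on a coordinate. -/
def coordVal (D : ChevalleyDatum) (χ : ℕ → Fˣ) (a : ℕ) : Fˣ := if a < D.rank then 1 else χ (a - D.rank)

theorem step_val {χ : ℕ → Fˣ} (hχ : D.IsRootCharacter χ) {r : ℕ} (hr : r < D.nroots) :
    ∀ (L : List (ℕ × ℤ)) (prev : ℕ), prev < D.nroots → okStep D r prev L = true →
      ∀ q ∈ L.zipIdx, χ q.1.1 = χ r ^ (q.2 + 1) * χ prev := by
  intro L
  induction L with
  | nil => intro prev _ _ q hq; simp at hq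
  | cons q0 L ih =>
    intro prev hp hok q hq
    simp only [okStep, Bool.and_eq_true, decide_eq_true_eq] at hok
    obtain ⟨h1, h2, h3⟩ := hok
    have hq0 := hχ.2 r prev q0.1 hr hp h1
    rw [List.zipIdx_cons] at hq
    rcases List.mem_cons.1 hq with rfl | hq
    · simp [hq0]
    · rw [List.zipIdx_succ, List.mem_map] at hq
      obtain ⟨⟨a, b⟩, hab, rfl⟩ := hq
      have := ih q0.1 h2 h3 (a, b) hab
      simp only at this ⊢
      rw [this, hq0, pow_succ (χ r) (b + 1), mul_assoc]

/-- The terms of a root element are homogeneous for every character. -/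
theorem row_weight (h : Ok D C) (hc : okChar D = true) {χ : ℕ → Fˣ} (hχ : D.IsRootCharacter χ) {r : ℕ}
    (hr : r < D.nroots) : ∀ e ∈ C.row r, coordVal D χ e.r = χ r ^ e.j * coordVal D χ e.c := by
  rw [h.row_eq hr]
  intro e he
  simp only [rowTerms, List.mem_filter, List.mem_append, List.mem_map, List.mem_singleton,
    List.mem_flatMap] at he
  have hneg : χ (D.negIdx.getD r 0) = (χ r)⁻¹ := hχ.1 r hr
  simp only [Array.getD_eq_getD_getElem?] at hneg
  rcases he.1 with ((⟨a, ha, rfl⟩ | ⟨a, ha, rfl⟩) | rfl) | ⟨a, ha, hae⟩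
  · rw [List.mem_range] at ha
    simp [mkT, coordVal, ha]
  · rw [List.mem_range] at ha
    simp [mkT, coordVal, ha, hneg]
  · simp [mkT, coordVal, hneg, pow_two]
  · split_ifs at hae
    · simp at hae
    · obtain ⟨q, hq, rfl⟩ := List.mem_map.1 hae
      simp only [okChar, List.all_eq_true, List.mem_range, Bool.and_eq_true, decide_eq_true_eq] at hc
      obtain ⟨h1, h2⟩ := hc r hr a ha
      simp [mkT, coordVal, step_val hχ hr _ _ h1 h2 q hq]

/-- `diag(χ) x_r(t) = x_r(χ r t) diag(χ)`. -/
theorem charDiag_mul_x (h : Ok D C) (hc : okChar D = true) {χ : ℕ → Fˣ} (hχ : D.IsRootCharacter χ) {r : ℕ}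
    (hr : r < D.nroots) (t : F) :
    D.charDiag F χ * D.x F r t = D.x F r ((χ r : F) * t) * D.charDiag F χ := by
  have hd : D.charDiag F χ = Matrix.diagonal fun x : D.Idx => (fun a => ((coordVal D χ a : Fˣ) : F)) (enc D.rank D.nroots x) := by
    unfold ChevalleyDatum.charDiag
    congr 1
    funext x
    rcases x with a | s <;> simp [enc, coordVal]
  rw [hd, h.x_eq hr, h.x_eq hr, h.xR_eq hr, h.xR_eq hr, mul_add, add_mul, mul_one, one_mul, ev, ev,
    mul_sum_left', sum_mul_right']
  congr 1
  congr 1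
  refine List.map_congr_left fun e he => ?_
  have hw := congrArg (fun u : Fˣ => (u : F)) (row_weight h hc hχ hr e he)
  simp only [Units.val_mul, Units.val_pow_eq_pow_val] at hw
  simp only [evT, h.row_i_zero hr e he, pow_zero, one_mul, mul_smul_comm, smul_mul_assoc,
    Ok.diag_mul_unit (fun a => ((coordVal D χ a : Fˣ) : F)), Ok.unit_mul_diag (fun a => ((coordVal D χ a : Fˣ) : F)), smul_smul]
  congr 1
  rw [hw, mul_pow]
  ring

theorem charDiag_mul_inv (χ : ℕ → Fˣ) : D.charDiag F χ * D.charDiag F (fun s => (χ s)⁻¹) = 1 := by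
  unfold ChevalleyDatum.charDiag
  rw [Matrix.diagonal_mul_diagonal, ← Matrix.diagonal_one]
  congr 1
  funext x
  rcases x with a | s <;> simp

theorem charDiag_conj_x (h : Ok D C) (hc : okChar D = true) {χ : ℕ → Fˣ} (hχ : D.IsRootCharacter χ) {r : ℕ}
    (hr : r < D.nroots) (t : F) :
    D.charDiag F χ * D.x F r t * D.charDiag F (fun s => (χ s)⁻¹) = D.x F r ((χ r : F) * t) := by
  rw [charDiag_mul_x h hc hχ hr, mul_assoc, charDiag_mul_inv, mul_one]

end Cfsg.Lib.Known
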