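import Mathlib
import Cfsg.Agent.Classical.Orth.OmegaGen

/-! Normal forms of nondegenerate quadratic forms over finite fields. -/

set_option autoImplicit false
set_option linter.unusedSectionVars false

open QuadraticMap Submodule

namespace Cfsg.Lib.FormNormal

universe u v

variable {F : Type u} [Field F] [Finite F] {V : Type v} [AddCommGroup V] [Module F V] [FiniteDimensional F V]
  (Q : QuadraticForm F V)

/-- The restriction to `W` has nondegenerate polar form. -/
def ND (W : Submodule F V) : Prop := ∀ x ∈ W, (∀ y ∈ W, polar (⇑Q) x y = 0) → x = 0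

/-- No nonzero singular vectors in `W`. -/
def Aniso (W : Submodule F V) : Prop := ∀ x ∈ W, Q x = 0 → x = 0

theorem nd_top (hQ : (polarBilin Q).Nondegenerate) : ND Q ⊤ := fun x _ h => hQ.1 x fun y => h y trivial

theorem exists_singular (W : Submodule F V) (h : 3 ≤ Module.finrank F W) : ∃ w ∈ W, w ≠ 0 ∧ Q w = 0 := by
  classical
  let b := Module.finBasis F W
  let L : (Fin (Module.finrank F W) → F) →ₗ[F] V := W.subtype.comp b.equivFun.symm.toLinearMap
  obtain ⟨z, -, hz0, hz⟩ := Cfsg.Lib.Classical.Refl.exists_singular (Q.comp L) ⊤ (by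
    rw [finrank_top, Module.finrank_fin_fun]; exact h)
  refine ⟨L z, (b.equivFun.symm z).2, fun e => hz0 ?_, hz⟩
  have e' : b.equivFun.symm z = 0 := Subtype.ext e
  simpa only [LinearEquiv.apply_symm_apply, map_zero] using congrArg b.equivFun e'

theorem polar_self' (x : V) : polar (⇑Q) x x = 2 * Q x := by
  rw [QuadraticMap.polar_self, nsmul_eq_mul]; norm_num

/-- Nondegenerate spaces of dimension at least two represent every value. -/
theorem exists_value (W : Submodule F V) (hW : ND Q W) (hd : 2 ≤ Module.finrank F W) (c : F) (hc : c ≠ 0) :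
    ∃ x ∈ W, Q x = c := by
  classical
  let Q' : QuadraticForm F (V × F) :=
    Q.comp (LinearMap.fst F V F) - c • (QuadraticMap.linMulLin (LinearMap.snd F V F) (LinearMap.snd F V F))
  have hfin : 3 ≤ Module.finrank F (W.prod (⊤ : Submodule F F)) := by
    have e : Module.finrank F (W.prod (⊤ : Submodule F F)) = Module.finrank F (W × (⊤ : Submodule F F)) :=
      (LinearEquiv.finrank_eq
        { toFun := fun x => (⟨x.1.1, x.2.1⟩, ⟨x.1.2, trivial⟩)
          invFun := fun x => ⟨(x.1.1, x.2.1), x.1.2, trivial⟩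
          map_add' := fun _ _ => rfl
          map_smul' := fun _ _ => rfl
          left_inv := fun _ => rfl
          right_inv := fun _ => rfl })
    rw [e, Module.finrank_prod, finrank_top, Module.finrank_self]; omega
  obtain ⟨⟨x, z⟩, ⟨hx, -⟩, hne, hq⟩ := exists_singular Q' _ hfin
  simp only [Q', QuadraticMap.sub_apply, QuadraticMap.comp_apply, QuadraticMap.smul_apply, LinearMap.fst_apply,
    QuadraticMap.linMulLin_apply, LinearMap.snd_apply, smul_eq_mul] at hq
  by_cases hz : z = 0
  · subst hz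
    have hx0 : x ≠ 0 := fun e => hne (by rw [e]; rfl)
    have hQx : Q x = 0 := by linear_combination hq
    obtain ⟨y, hy, hxy⟩ : ∃ y ∈ W, polar (⇑Q) x y ≠ 0 := by
      by_contra hh
      push Not at hh
      exact hx0 (hW x hx hh)
    refine ⟨((c - Q y) / polar (⇑Q) x y) • x + y, W.add_mem (W.smul_mem _ hx) hy, ?_⟩
    rw [QuadraticMap.map_add (f := Q), QuadraticMap.map_smul, hQx, smul_zero, QuadraticMap.polar_smul_left, smul_eq_mul,
      div_mul_cancel₀ _ hxy]
    ring
  · refine ⟨z⁻¹ • x, W.smul_mem _ hx, ?_⟩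
    rw [QuadraticMap.map_smul, smul_eq_mul]
    field_simp
    linear_combination hq

/-- Orthogonal of a hyperbolic pair inside `W`. -/
theorem split_pair {W : Submodule F V} (hW : ND Q W) {v u : V} (hv : v ∈ W) (hu : u ∈ W) (hvv : Q v = 0)
    (huu : Q u = 0) (hvu : polar (⇑Q) v u = 1) :
    ND Q (W ⊓ LinearMap.ker (polarBilin Q v) ⊓ LinearMap.ker (polarBilin Q u)) ∧
      Module.finrank F ↥(W ⊓ LinearMap.ker (polarBilin Q v) ⊓ LinearMap.ker (polarBilin Q u)) + 2 = Module.finrank F W := by
  set W' := W ⊓ LinearMap.ker (polarBilin Q v) ⊓ LinearMap.ker (polarBilin Q u) with hW'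
  have hvv' : polar (⇑Q) v v = 0 := by rw [polar_self', hvv, mul_zero]
  have huu' : polar (⇑Q) u u = 0 := by rw [polar_self', huu, mul_zero]
  have huv : polar (⇑Q) u v = 1 := by rw [QuadraticMap.polar_comm]; exact hvu
  have hdec : ∀ y ∈ W, y - polar (⇑Q) u y • v - polar (⇑Q) v y • u ∈ W' := fun y hy =>
    ⟨⟨W.sub_mem (W.sub_mem hy (W.smul_mem _ hv)) (W.smul_mem _ hu), by
      simp [hvv', hvu]⟩, by simp [huu', huv]⟩
  refine ⟨fun x hx h => hW x hx.1.1 fun y hy => ?_, ?_⟩
  · have h1 := h _ (hdec y hy)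
    have h2 : polar (⇑Q) x v = 0 := by rw [QuadraticMap.polar_comm]; exact hx.1.2
    have h3 : polar (⇑Q) x u = 0 := by rw [QuadraticMap.polar_comm]; exact hx.2
    simpa [QuadraticMap.polar_sub_right, QuadraticMap.polar_smul_right, h2, h3] using h1
  · have hli : LinearIndependent F ![v, u] := by
      rw [LinearIndependent.pair_iff]
      intro s t hst
      have a := congrArg (fun z => polar (⇑Q) v z) hst
      have b := congrArg (fun z => polar (⇑Q) u z) hst
      simp [QuadraticMap.polar_add_right, QuadraticMap.polar_smul_right, hvv', hvu, huu', huv] at a b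
      exact ⟨b, a⟩
    have hs : Module.finrank F (span F (Set.range ![v, u])) = 2 := by rw [finrank_span_eq_card hli]; rfl
    have h1 : span F (Set.range ![v, u]) ⊔ W' = W := by
      refine le_antisymm (sup_le (span_le.2 ?_) (inf_le_left.trans inf_le_left)) fun y hy => ?_
      · rintro _ ⟨i, rfl⟩; fin_cases i <;> simp [hv, hu]
      · rw [show y = (polar (⇑Q) u y • v + polar (⇑Q) v y • u) +
          (y - polar (⇑Q) u y • v - polar (⇑Q) v y • u) by abel]
        exact add_mem_sup (add_mem (smul_mem _ _ (subset_span ⟨0, rfl⟩)) (smul_mem _ _ (subset_span ⟨1, rfl⟩))) (hdec y hy)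
    have h2 : span F (Set.range ![v, u]) ⊓ W' = ⊥ := by
      rw [eq_bot_iff]
      rintro y ⟨hy, hy'⟩
      obtain ⟨c, rfl⟩ := (mem_span_range_iff_exists_fun F).1 hy
      have a : polar (⇑Q) v (∑ i, c i • (![v, u]) i) = 0 := hy'.1.2
      have b : polar (⇑Q) u (∑ i, c i • (![v, u]) i) = 0 := hy'.2
      simp [Fin.sum_univ_two, QuadraticMap.polar_add_right, QuadraticMap.polar_smul_right, hvv', hvu, huu', huv] at a b
      simp [Fin.sum_univ_two, a, b]
    have h3 := finrank_sup_add_finrank_inf_eq (span F (Set.range ![v, u])) W'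
    rw [h1, h2, finrank_bot, hs] at h3
    omega

/-- Hyperbolic pairs and an anisotropic remainder. -/
structure Decomp (W : Submodule F V) where
  m : ℕ
  e : Fin m → V
  f : Fin m → V
  K : Submodule F V
  hK : K ≤ W
  ndK : ND Q K
  aniso : Aniso Q K
  he : ∀ i, e i ∈ W
  hf : ∀ i, f i ∈ W
  qe : ∀ i, Q (e i) = 0
  qf : ∀ i, Q (f i) = 0
  ef : ∀ i j, polar (⇑Q) (e i) (f j) = if i = j then 1 else 0
  ee : ∀ i j, polar (⇑Q) (e i) (e j) = 0
  ff : ∀ i j, polar (⇑Q) (f i) (f j) = 0
  ek : ∀ i, ∀ k ∈ K, polar (⇑Q) (e i) k = 0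
  fk : ∀ i, ∀ k ∈ K, polar (⇑Q) (f i) k = 0
  dim : 2 * m + Module.finrank F K = Module.finrank F W
  small : Module.finrank F K ≤ 2

theorem exists_decomp : ∀ (n : ℕ) (W : Submodule F V), Module.finrank F W = n → ND Q W → Nonempty (Decomp Q W) := by
  intro n
  induction n using Nat.strong_induction_on with
  | _ n ih =>
  intro W hn hW
  by_cases han : Aniso Q W
  · refine ⟨⟨0, Fin.elim0, Fin.elim0, W, le_rfl, hW, han, fun i => i.elim0, fun i => i.elim0, fun i => i.elim0,
      fun i => i.elim0, fun i => i.elim0, fun i => i.elim0, fun i => i.elim0, fun i => i.elim0, fun i => i.elim0,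
      by simp, ?_⟩⟩
    by_contra h3
    obtain ⟨w, hw, hw0, hww⟩ := exists_singular Q W (by omega)
    exact hw0 (han w hw hww)
  simp only [Aniso, not_forall] at han
  obtain ⟨v, hv, hvv, hv0⟩ := han
  obtain ⟨y, hy, hvy⟩ : ∃ y ∈ W, polar (⇑Q) v y ≠ 0 := by
    by_contra hh
    push Not at hh
    exact hv0 (hW v hv hh)
  obtain ⟨y', hy'⟩ : ∃ z : V, z = (polar (⇑Q) v y)⁻¹ • y := ⟨_, rfl⟩
  have hy'W : y' ∈ W := hy' ▸ W.smul_mem _ hy
  have hvy' : polar (⇑Q) v y' = 1 := by
    rw [hy', QuadraticMap.polar_smul_right, smul_eq_mul, inv_mul_cancel₀ hvy]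
  obtain ⟨u, hu'⟩ : ∃ z : V, z = y' - Q y' • v := ⟨_, rfl⟩
  have huW : u ∈ W := hu' ▸ W.sub_mem hy'W (W.smul_mem _ hv)
  have hvv' : polar (⇑Q) v v = 0 := by rw [polar_self', hvv, mul_zero]
  have hvu : polar (⇑Q) v u = 1 := by
    rw [hu', QuadraticMap.polar_sub_right, QuadraticMap.polar_smul_right, hvv', hvy', smul_zero, sub_zero]
  have huu : Q u = 0 := by
    rw [hu', sub_eq_add_neg, ← neg_smul, QuadraticMap.map_add (f := Q), QuadraticMap.map_smul,
      QuadraticMap.polar_smul_right, QuadraticMap.polar_comm, hvy', hvv, smul_zero, smul_eq_mul]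
    ring
  obtain ⟨hnd', hdim'⟩ := split_pair Q hW hv huW hvv huu hvu
  obtain ⟨D⟩ := ih _ (by omega) _ rfl hnd'
  have hD := D.dim
  have hev : ∀ i, polar (⇑Q) v (D.e i) = 0 := fun i => (D.he i).1.2
  have heu : ∀ i, polar (⇑Q) u (D.e i) = 0 := fun i => (D.he i).2
  have hfv : ∀ i, polar (⇑Q) v (D.f i) = 0 := fun i => (D.hf i).1.2
  have hfu : ∀ i, polar (⇑Q) u (D.f i) = 0 := fun i => (D.hf i).2
  have huv : polar (⇑Q) u v = 1 := by rw [QuadraticMap.polar_comm]; exact hvu
  have huu' : polar (⇑Q) u u = 0 := by rw [polar_self', huu, mul_zero]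
  refine ⟨⟨D.m + 1, Fin.cons v D.e, Fin.cons u D.f, D.K, D.hK.trans (inf_le_left.trans inf_le_left), D.ndK, D.aniso,
    Fin.cases hv fun i => (D.he i).1.1, Fin.cases huW fun i => (D.hf i).1.1, Fin.cases hvv D.qe, Fin.cases huu D.qf,
    ?_, ?_, ?_, Fin.cases (fun k hk => (D.hK hk).1.2) D.ek, Fin.cases (fun k hk => (D.hK hk).2) D.fk, by omega, D.small⟩⟩
  · intro i j
    induction i using Fin.cases with
    | zero => induction j using Fin.cases with
      | zero => simpa using hvu
      | succ j => simpa [(Fin.succ_ne_zero j).symm] using hfv j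
    | succ i => induction j using Fin.cases with
      | zero => simpa [QuadraticMap.polar_comm _ (D.e i)] using heu i
      | succ j => simpa using D.ef i j
  · intro i j
    induction i using Fin.cases with
    | zero => induction j using Fin.cases with
      | zero => simpa using hvv'
      | succ j => simpa using hev j
    | succ i => induction j using Fin.cases with
      | zero => simpa [QuadraticMap.polar_comm _ (D.e i)] using hev i
      | succ j => simpa using D.ee i j
  · intro i j
    induction i using Fin.cases with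
    | zero => induction j using Fin.cases with
      | zero => simpa using huu'
      | succ j => simpa using hfu j
    | succ i => induction j using Fin.cases with
      | zero => simpa [QuadraticMap.polar_comm _ (D.f i)] using hfu i
      | succ j => simpa using D.ff i j

variable {Q}

theorem Decomp.indep {W : Submodule F V} (D : Decomp Q W) {κ : Type} [Fintype κ] (g : κ → V) (hg : ∀ k, g k ∈ D.K)
    (hgi : LinearIndependent F g) : LinearIndependent F (Sum.elim (Sum.elim D.e D.f) g) := by
  classical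
  rw [Fintype.linearIndependent_iff]
  intro c hc
  rw [Fintype.sum_sum_type, Fintype.sum_sum_type] at hc
  simp only [Sum.elim_inl, Sum.elim_inr] at hc
  have pol : ∀ (x : V) {α : Type} [Fintype α] (a : α → F) (w : α → V),
      polar (⇑Q) x (∑ i, a i • w i) = ∑ i, a i * polar (⇑Q) x (w i) := fun x α _ a w => by
    show polarBilin Q x _ = _
    rw [map_sum]; simp
  have hf : ∀ j, c (Sum.inl (Sum.inl j)) = 0 := fun j => by
    have := congrArg (fun z => polar (⇑Q) (D.f j) z) hc
    simp only [QuadraticMap.polar_add_right, pol, QuadraticMap.polar_zero_right, QuadraticMap.polar_comm _ (D.f j) (D.e _),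
      D.ef, D.ff, D.fk j _ (hg _), mul_zero, Finset.sum_const_zero, add_zero, mul_ite, mul_one, Finset.sum_ite_eq',
      Finset.mem_univ, if_true] at this
    exact this
  have he : ∀ j, c (Sum.inl (Sum.inr j)) = 0 := fun j => by
    have := congrArg (fun z => polar (⇑Q) (D.e j) z) hc
    simp only [QuadraticMap.polar_add_right, pol, QuadraticMap.polar_zero_right,
      D.ef, D.ee, D.ek j _ (hg _), mul_zero, Finset.sum_const_zero, add_zero, zero_add, mul_ite, mul_one, Finset.sum_ite_eq,
      Finset.mem_univ, if_true] at this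
    exact this
  simp only [hf, he, zero_smul, Finset.sum_const_zero, zero_add] at hc
  rintro ((i | i) | i)
  · exact hf i
  · exact he i
  · exact Fintype.linearIndependent_iff.1 hgi _ hc i

/-- The quadratic equation of Artin–Schreier type behind the equivalence of anisotropic planes. -/
theorem exists_shift {ζ ζ' : F} (h : ∀ t : F, t ^ 2 + t + ζ ≠ 0) (h' : ∀ t : F, t ^ 2 + t + ζ' ≠ 0) :
    4 * ζ - 1 ≠ 0 ∧ ∃ s : F, (4 * ζ - 1) * (s ^ 2 - s) = ζ' - ζ := by
  classical
  haveI := Fintype.ofFinite F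
  by_cases h2 : (2 : F) = 0
  · have h4 : (4 : F) = 0 := by linear_combination 2 * h2
    refine ⟨by rw [h4]; simp, ?_⟩
    haveI : CharP F 2 := CharTwo.of_one_ne_zero_of_two_eq_zero one_ne_zero h2
    let φ : F →+ F := AddMonoidHom.mk' (fun t => t ^ 2 + t) fun a b => by linear_combination (a * b) * h2
    have hk : Nat.card φ.ker = 2 := by
      rw [Nat.card_eq_two_iff]
      refine ⟨0, ⟨1, by show (1 : F) ^ 2 + 1 = 0; linear_combination h2⟩, fun e => zero_ne_one (congrArg Subtype.val e), ?_⟩
      ext ⟨t, ht⟩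
      simp only [Set.mem_insert_iff, Set.mem_singleton_iff, Set.mem_univ, iff_true, Subtype.ext_iff]
      have : t * (t + 1) = 0 := by have ht' : t ^ 2 + t = 0 := ht; linear_combination ht'
      rcases mul_eq_zero.1 this with e | e
      · exact .inl e
      · exact .inr (by linear_combination e - h2)
    have hidx : φ.range.index = 2 := by
      have h1 := φ.ker.card_mul_index
      rw [hk, AddSubgroup.index_ker] at h1
      have h3 := φ.range.card_mul_index
      have h5 : 0 < Nat.card φ.range := Nat.card_pos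
      nlinarith
    have hn : ∀ {z : F}, (∀ t : F, t ^ 2 + t + z ≠ 0) → z ∉ φ.range := fun {z} hz ⟨t, ht⟩ => hz t (by
      have ht' : t ^ 2 + t = z := ht
      linear_combination ht' + z * h2)
    obtain ⟨t, ht⟩ := (AddSubgroup.add_mem_iff_of_index_two hidx).2 (iff_of_false (hn h') (hn h))
    exact ⟨t, by
      have ht' : t ^ 2 + t = ζ' + ζ := ht
      linear_combination ht' - (t ^ 2 - ζ) * h2 + ((t ^ 2 - t) * ζ) * h4⟩
  · have key : ∀ z : F, (∀ t : F, t ^ 2 + t + z ≠ 0) → ¬ IsSquare (1 - 4 * z) := by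
      rintro z hz ⟨r, hr⟩
      exact hz ((r - 1) / 2) (by field_simp; linear_combination -hr)
    have hne : 4 * ζ - 1 ≠ 0 := fun e => key ζ h ⟨0, by linear_combination -e⟩
    refine ⟨hne, ?_⟩
    have hsq : IsSquare ((1 - 4 * ζ') / (1 - 4 * ζ)) := by
      have e1 := quadraticChar_neg_one_iff_not_isSquare.2 (key ζ h)
      have e2 := quadraticChar_neg_one_iff_not_isSquare.2 (key ζ' h')
      have h1 : (1 - 4 * ζ') * (1 - 4 * ζ) ≠ 0 := mul_ne_zero
        (fun e => key ζ' h' ⟨0, by rw [e]; ring⟩) (fun e => hne (by linear_combination -e))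
      rw [show (1 - 4 * ζ') / (1 - 4 * ζ) = (1 - 4 * ζ') * (1 - 4 * ζ) * ((1 - 4 * ζ)⁻¹ * (1 - 4 * ζ)⁻¹) by
        have := right_ne_zero_of_mul h1; field_simp]
      refine IsSquare.mul ((quadraticChar_one_iff_isSquare h1).1 ?_) ⟨_, rfl⟩
      rw [map_mul, e1, e2]; norm_num
    obtain ⟨r, hr⟩ := hsq
    refine ⟨(r + 1) / 2, ?_⟩
    rw [div_eq_iff (show 1 - 4 * ζ ≠ 0 from fun e => hne (by linear_combination -e))] at hr
    field_simp
    linear_combination hr

variable (Q)

/-- A basis of an anisotropic plane with a prescribed value at the second vector. -/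
theorem exists_plane {K : Submodule F V} (hnd : ND Q K) (han : Aniso Q K) (hd : Module.finrank F K = 2) :
    ∃ ζ : F, (∀ t : F, t ^ 2 + t + ζ ≠ 0) ∧ ∀ ζ' : F, (∀ t : F, t ^ 2 + t + ζ' ≠ 0) →
      ∃ g : Fin 2 → V, (∀ k, g k ∈ K) ∧ LinearIndependent F g ∧ Q (g 0) = 1 ∧ polar (⇑Q) (g 0) (g 1) = 1 ∧
        Q (g 1) = ζ' := by
  classical
  obtain ⟨a, ha, hQa⟩ := exists_value Q K hnd hd.ge 1 one_ne_zero
  have ha0 : a ≠ 0 := by rintro rfl; simp at hQa
  obtain ⟨y, hy, hay⟩ : ∃ y ∈ K, polar (⇑Q) a y ≠ 0 := by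
    by_contra hh
    push Not at hh
    exact ha0 (hnd a ha hh)
  have hne : ∀ (x : V), x ∈ K → (∀ t : F, x ≠ t • a) → ∀ t : F, Q (x + t • a) ≠ 0 := fun x hx hxa t e => by
    have := han _ (K.add_mem hx (K.smul_mem t ha)) e
    exact hxa (-t) (by rw [neg_smul]; exact eq_neg_of_add_eq_zero_left this)
  -- a partner outside the line
  obtain ⟨b, hb, hab, hbl⟩ : ∃ b ∈ K, polar (⇑Q) a b = 1 ∧ ∀ t : F, b ≠ t • a := by
    set b0 := (polar (⇑Q) a y)⁻¹ • y
    have hab0 : polar (⇑Q) a b0 = 1 := by rw [QuadraticMap.polar_smul_right, smul_eq_mul, inv_mul_cancel₀ hay]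
    by_cases hl : ∀ t : F, b0 ≠ t • a
    · exact ⟨b0, K.smul_mem _ hy, hab0, hl⟩
    push Not at hl
    obtain ⟨c, hc⟩ := hl
    have h2c : c * 2 = 1 := by
      rw [hc, QuadraticMap.polar_smul_right, polar_self', hQa, smul_eq_mul] at hab0
      linear_combination hab0
    obtain ⟨z, hz, hzl⟩ : ∃ z ∈ K, ∀ t : F, z ≠ t • a := by
      by_contra hh
      push Not at hh
      have : K ≤ span F {a} := fun z hz => by
        obtain ⟨t, rfl⟩ := hh z hz
        exact smul_mem _ t (mem_span_singleton_self a)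
      have := Submodule.finrank_mono this
      rw [hd, finrank_span_singleton ha0] at this
      omega
    refine ⟨b0 + (z - (polar (⇑Q) a z * c) • a), K.add_mem (K.smul_mem _ hy) (K.sub_mem hz (K.smul_mem _ ha)), ?_, fun t e => ?_⟩
    · simp [QuadraticMap.polar_add_right, QuadraticMap.polar_sub_right, QuadraticMap.polar_smul_right, hab0, polar_self',
        hQa, mul_assoc, h2c]
    · refine hzl (t - c + polar (⇑Q) a z * c) ?_
      rw [hc] at e
      rw [add_smul, sub_smul, ← e]
      abel
  have hroot : ∀ t : F, t ^ 2 + t + Q b ≠ 0 := fun t e => hne b hb hbl t (by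
    rw [QuadraticMap.map_add (f := Q), QuadraticMap.map_smul, QuadraticMap.polar_smul_right, QuadraticMap.polar_comm,
      hab, hQa, smul_eq_mul, smul_eq_mul]
    linear_combination e)
  refine ⟨Q b, hroot, fun ζ' hζ' => ?_⟩
  obtain ⟨hD, s, hs⟩ := exists_shift hroot hζ'
  set w := a - (2 : F) • b with hw
  set b' := b + s • w with hb'
  have hQw : Q w = 4 * Q b - 1 := by
    rw [hw, sub_eq_add_neg, ← neg_smul, QuadraticMap.map_add (f := Q), QuadraticMap.map_smul,
      QuadraticMap.polar_smul_right, hab, hQa, smul_eq_mul, smul_eq_mul]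
    ring
  have haw : polar (⇑Q) a w = 0 := by
    rw [hw, QuadraticMap.polar_sub_right, QuadraticMap.polar_smul_right, polar_self', hab, hQa, smul_eq_mul]; ring
  have hbw : polar (⇑Q) b w = 1 - 4 * Q b := by
    rw [hw, QuadraticMap.polar_sub_right, QuadraticMap.polar_smul_right, polar_self', QuadraticMap.polar_comm,
      hab, smul_eq_mul]; ring
  have hab' : polar (⇑Q) a b' = 1 := by
    rw [hb', QuadraticMap.polar_add_right, QuadraticMap.polar_smul_right, hab, haw, smul_zero, add_zero]
  have hQb' : Q b' = ζ' := by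
    rw [hb', QuadraticMap.map_add (f := Q), QuadraticMap.map_smul, QuadraticMap.polar_smul_right, hQw, hbw, smul_eq_mul,
      smul_eq_mul]
    linear_combination hs
  have hb'K : b' ∈ K := K.add_mem hb (K.smul_mem _ (K.sub_mem ha (K.smul_mem _ hb)))
  refine ⟨![a, b'], fun k => by fin_cases k <;> simp [ha, hb'K], ?_, hQa, hab', hQb'⟩
  rw [LinearIndependent.pair_iff]
  intro x y hxy
  by_cases hy0 : y = 0
  · subst hy0
    rw [zero_smul, add_zero, smul_eq_zero] at hxy
    exact ⟨hxy.resolve_right ha0, rfl⟩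
  · exfalso
    have hb'a : b' = (-(y⁻¹ * x)) • a := by
      rw [neg_smul, mul_smul, eq_neg_of_add_eq_zero_left hxy, smul_neg, neg_neg, smul_smul, inv_mul_cancel₀ hy0, one_smul]
    set c := -(y⁻¹ * x) with hc
    rw [hb'a, QuadraticMap.polar_smul_right, polar_self', hQa, smul_eq_mul] at hab'
    rw [hb'a, QuadraticMap.map_smul, hQa, smul_eq_mul] at hQb'
    refine hζ' (-c) ?_
    linear_combination c * hab' - hQb'

/-- Two quadratic forms agreeing on a basis and with the same polar values there are equal. -/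
theorem eq_of_basis {κ : Type*} [Fintype κ] {V' : Type*} [AddCommGroup V'] [Module F V'] (Q₁ Q₂ : QuadraticForm F V')
    (b : Module.Basis κ F V') (h1 : ∀ i, Q₁ (b i) = Q₂ (b i))
    (h2 : ∀ i j, polar (⇑Q₁) (b i) (b j) = polar (⇑Q₂) (b i) (b j)) (v : V') : Q₁ v = Q₂ v := by
  have hB : polarBilin Q₁ = polarBilin Q₂ := LinearMap.ext_basis b b fun i j => h2 i j
  have hp : ∀ x y, polar (⇑Q₁) x y = polar (⇑Q₂) x y := fun x y => congrArg (fun B => B x y) hB
  rw [← b.sum_repr v]
  have key : ∀ s : Finset κ, Q₁ (∑ i ∈ s, b.repr v i • b i) = Q₂ (∑ i ∈ s, b.repr v i • b i) := by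
    classical
    intro s
    induction s using Finset.induction_on with
    | empty => simp
    | insert i s hi ih =>
      rw [Finset.sum_insert hi, QuadraticMap.map_add (f := Q₁), QuadraticMap.map_add (f := Q₂), QuadraticMap.map_smul,
        QuadraticMap.map_smul, h1, ih, hp]
  exact key _

/-- Even dimension: the two standard bases. -/
theorem even_basis {m : ℕ} (hV : Module.finrank F V = 2 * m) (hQ : (polarBilin Q).Nondegenerate) :
    (∃ (D : Decomp Q (⊤ : Submodule F V)), D.m = m) ∨
    (∃ (D : Decomp Q (⊤ : Submodule F V)), D.m + 1 = m ∧ Module.finrank F D.K = 2) := by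
  obtain ⟨D⟩ := exists_decomp Q _ ⊤ rfl (nd_top Q hQ)
  have h1 := D.dim
  have h2 := D.small
  rw [finrank_top, hV] at h1
  by_cases h : Module.finrank F D.K = 0
  · exact .inl ⟨D, by omega⟩
  · exact .inr ⟨D, by omega, by omega⟩

end Cfsg.Lib.FormNormal

namespace Cfsg.Lib.FormNormal

open QuadraticMap Submodule

universe u v

variable {F : Type u} [Field F] [Finite F] {V : Type v} [AddCommGroup V] [Module F V] [FiniteDimensional F V]
  {Q : QuadraticForm F V}

theorem Decomp.basis {W : Submodule F V} (hW : W = ⊤) (D : Decomp Q W) {κ : Type} [Fintype κ] (g : κ → V)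
    (hg : ∀ k, g k ∈ D.K) (hgi : LinearIndependent F g) (hc : Fintype.card κ = Module.finrank F D.K) :
    ∃ b : Module.Basis ((Fin D.m ⊕ Fin D.m) ⊕ κ) F V, ⇑b = Sum.elim (Sum.elim D.e D.f) g := by
  classical
  have hd := D.dim
  subst hW
  rw [finrank_top] at hd
  rcases isEmpty_or_nonempty ((Fin D.m ⊕ Fin D.m) ⊕ κ) with hE | hE
  · have h0 : Module.finrank F V = 0 := by
      have := Fintype.card_eq_zero (α := (Fin D.m ⊕ Fin D.m) ⊕ κ)
      simp only [Fintype.card_sum, Fintype.card_fin] at this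
      omega
    haveI := Module.finrank_zero_iff.1 h0
    exact ⟨Module.Basis.empty V, funext fun i => (hE.false i).elim⟩
  exact ⟨basisOfLinearIndependentOfCardEqFinrank (D.indep g hg hgi) (by simp; omega),
    coe_basisOfLinearIndependentOfCardEqFinrank _ _⟩

theorem polar_smul_form (c : F) (R : QuadraticForm F V) (x y : V) :
    polar (⇑(c • R)) x y = c * polar (⇑R) x y := by simp [QuadraticMap.polar]; ring

/-- Scaling a decomposition. -/
def Decomp.scale {W : Submodule F V} (D : Decomp Q W) (c : F) (hc : c ≠ 0) : Decomp (c • Q) W where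
  m := D.m
  e := D.e
  f i := c⁻¹ • D.f i
  K := D.K
  hK := D.hK
  ndK x hx h := D.ndK x hx fun y hy => by
    have := h y hy
    rw [polar_smul_form] at this
    exact (mul_eq_zero.1 this).resolve_left hc
  aniso x hx h := D.aniso x hx (by
    rw [QuadraticMap.smul_apply, smul_eq_mul] at h
    exact (mul_eq_zero.1 h).resolve_left hc)
  he := D.he
  hf i := W.smul_mem _ (D.hf i)
  qe i := by simp [D.qe i]
  qf i := by simp [QuadraticMap.map_smul, D.qf i]
  ef i j := by
    rw [polar_smul_form, QuadraticMap.polar_smul_right, D.ef, smul_eq_mul]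
    split_ifs <;> simp [mul_inv_cancel₀ hc]
  ee i j := by rw [polar_smul_form, D.ee, mul_zero]
  ff i j := by
    rw [polar_smul_form, QuadraticMap.polar_smul_right, QuadraticMap.polar_smul_left, D.ff]
    simp
  ek i k hk := by rw [polar_smul_form, D.ek i k hk, mul_zero]
  fk i k hk := by
    rw [polar_smul_form, QuadraticMap.polar_smul_left, D.fk i k hk]
    simp
  dim := D.dim
  small := D.small

theorem odd_basis {m : ℕ} (hV : Module.finrank F V = 2 * m + 1) (hQ : (polarBilin Q).Nondegenerate) :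
    ∃ (D : Decomp Q (⊤ : Submodule F V)) (z : V), D.m = m ∧ z ∈ D.K ∧ Q z ≠ 0 ∧ LinearIndependent F ![z] ∧
      Module.finrank F D.K = 1 := by
  obtain ⟨D⟩ := exists_decomp Q _ ⊤ rfl (nd_top Q hQ)
  have h1 := D.dim
  have h2 := D.small
  rw [finrank_top, hV] at h1
  have hr : Module.finrank F D.K = 1 := by omega
  obtain ⟨z, hz, hz0⟩ := Submodule.exists_mem_ne_zero_of_ne_bot (p := D.K) (fun h => by rw [h, finrank_bot] at hr; omega)
  exact ⟨D, z, by omega, hz, fun h => hz0 (D.aniso z hz h),
    Fintype.linearIndependent_iff.2 (fun g hg i => by fin_cases i; simpa [hz0] using hg), hr⟩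

/-- Scalar multiples of an even-dimensional form are isometric to it. -/
theorem similar_even {n : ℕ} (hV : Module.finrank F V = 2 * n) (hQ : (polarBilin Q).Nondegenerate) {c : F} (hc : c ≠ 0) :
    ∃ g : V ≃ₗ[F] V, ∀ v, Q (g v) = c * Q v := by
  classical
  obtain ⟨D⟩ := exists_decomp Q _ ⊤ rfl (nd_top Q hQ)
  have hd := D.dim
  rw [finrank_top, hV] at hd
  let D' := D.scale c hc
  obtain ⟨g, hgK, hgi, g', hgK', hgi', hcard, hval, hpol⟩ : ∃ (g : Fin (Module.finrank F D.K) → V) (_ : ∀ k, g k ∈ D.K)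
      (_ : LinearIndependent F g) (g' : Fin (Module.finrank F D.K) → V) (_ : ∀ k, g' k ∈ D'.K)
      (_ : LinearIndependent F g') (_ : Fintype.card (Fin (Module.finrank F D.K)) = Module.finrank F D.K),
      (∀ k, (c • Q) (g' k) = Q (g k)) ∧ ∀ k l, polar (⇑(c • Q)) (g' k) (g' l) = polar (⇑Q) (g k) (g l) := by
    by_cases h0 : Module.finrank F D.K = 0
    · rw [h0]
      exact ⟨Fin.elim0, fun k => k.elim0, linearIndependent_empty_type, Fin.elim0, fun k => k.elim0,
        linearIndependent_empty_type, rfl, fun k => k.elim0, fun k => k.elim0⟩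
    · have h2 : Module.finrank F D.K = 2 := by have := D.small; omega
      obtain ⟨ζ, hζ, hex⟩ := exists_plane Q D.ndK D.aniso h2
      obtain ⟨-, -, hex'⟩ := exists_plane (c • Q) D'.ndK D'.aniso h2
      obtain ⟨g, hg1, hg2, hg3, hg4, hg5⟩ := hex ζ hζ
      obtain ⟨g', hg1', hg2', hg3', hg4', hg5'⟩ := hex' ζ hζ
      rw [h2]
      have hv : ∀ k, (c • Q) (g' k) = Q (g k) := by
        refine Fin.forall_fin_two.2 ⟨?_, ?_⟩
        · rw [hg3, hg3']
        · rw [hg5, hg5']
      refine ⟨g, hg1, hg2, g', hg1', hg2', rfl, hv, Fin.forall_fin_two.2 ⟨Fin.forall_fin_two.2 ⟨?_, ?_⟩, Fin.forall_fin_two.2 ⟨?_, ?_⟩⟩⟩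
      · rw [polar_self', polar_self', hv]
      · rw [hg4, hg4']
      · rw [QuadraticMap.polar_comm, hg4', QuadraticMap.polar_comm, hg4]
      · rw [polar_self', polar_self', hv]
  obtain ⟨b, hb⟩ := D.basis rfl g hgK hgi hcard
  obtain ⟨b', hb'⟩ := D'.basis rfl g' hgK' hgi' hcard
  let φ : V ≃ₗ[F] V := b'.equiv b (Equiv.refl _)
  refine ⟨φ, fun v => ?_⟩
  have hφ : ∀ i, φ (b' i) = b i := fun i => Module.Basis.equiv_apply _ _ _ _
  have hpc : ∀ x y, polar (⇑(Q.comp (φ : V →ₗ[F] V))) x y = polar (⇑Q) (φ x) (φ y) := fun x y => by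
    simp [QuadraticMap.polar]
  have := eq_of_basis (c • Q) (Q.comp (φ : V →ₗ[F] V)) b' ?_ ?_ v
  · simpa using this.symm
  · intro i
    rw [QuadraticMap.comp_apply, LinearEquiv.coe_coe, hφ, hb, hb']
    rcases i with (i | i) | i
    · exact (D'.qe i).trans (D.qe i).symm
    · exact (D'.qf i).trans (D.qf i).symm
    · exact hval i
  · intro i j
    rw [hpc, hφ, hφ, hb, hb']
    have sy : ∀ (R : QuadraticForm F V) (x y : V), polar (⇑R) y x = polar (⇑R) x y := fun R x y => QuadraticMap.polar_comm _ _ _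
    rcases i with (i | i) | i <;> rcases j with (j | j) | j <;> simp only [Sum.elim_inl, Sum.elim_inr]
    · exact (D'.ee i j).trans (D.ee i j).symm
    · exact (D'.ef i j).trans (D.ef i j).symm
    · exact (D'.ek i _ (hgK' j)).trans (D.ek i _ (hgK j)).symm
    · rw [sy (c • Q), sy Q]; exact (D'.ef j i).trans (D.ef j i).symm
    · exact (D'.ff i j).trans (D.ff i j).symm
    · exact (D'.fk i _ (hgK' j)).trans (D.fk i _ (hgK j)).symm
    · rw [sy (c • Q), sy Q]; exact (D'.ek j _ (hgK' i)).trans (D.ek j _ (hgK i)).symm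
    · rw [sy (c • Q), sy Q]; exact (D'.fk j _ (hgK' i)).trans (D.fk j _ (hgK i)).symm
    · exact hpol i j

variable (Q)

/-- Diagonal normal form in odd characteristic. -/
theorem exists_diag (h2 : (2 : F) ≠ 0) : ∀ (n : ℕ) (W : Submodule F V), Module.finrank F W = n + 1 → ND Q W →
    ∃ f : Fin (n + 1) → V, (∀ i, f i ∈ W) ∧ (∀ i, i ≠ Fin.last n → Q (f i) = 1) ∧ Q (f (Fin.last n)) ≠ 0 ∧
      ∀ i j, i ≠ j → polar (⇑Q) (f i) (f j) = 0 := by
  intro n
  induction n with
  | zero =>
    intro W hW hnd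
    obtain ⟨z, hz, hz0⟩ := Submodule.exists_mem_ne_zero_of_ne_bot (p := W) (fun h => by rw [h, finrank_bot] at hW; omega)
    refine ⟨fun _ => z, fun _ => hz, fun i hi => absurd (Fin.ext (by simp) : i = Fin.last 0) hi, fun h => hz0 (hnd z hz fun y hy => ?_),
      fun i j hij => absurd (Fin.ext (by omega) : i = j) hij⟩
    obtain ⟨t, ht⟩ := exists_smul_eq_of_finrank_eq_one hW (x := (⟨z, hz⟩ : W)) (by simpa using hz0) ⟨y, hy⟩
    have e : t • z = y := congrArg Subtype.val ht
    rw [← e, QuadraticMap.polar_smul_right, polar_self', h, mul_zero, smul_zero]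
  | succ n ih =>
    intro W hW hnd
    obtain ⟨a, ha, hQa⟩ := exists_value Q W hnd (by omega) 1 one_ne_zero
    have haa : polar (⇑Q) a a = 2 := by rw [polar_self', hQa, mul_one]
    have hdec : ∀ y ∈ W, y - (polar (⇑Q) a y / 2) • a ∈ W ⊓ LinearMap.ker (polarBilin Q a) := fun y hy =>
      ⟨W.sub_mem hy (W.smul_mem _ ha), by simp [haa, div_mul_cancel₀ _ h2]⟩
    have hnd' : ND Q (W ⊓ LinearMap.ker (polarBilin Q a)) := fun x hx h => hnd x hx.1 fun y hy => by
      have h1 := h _ (hdec y hy)
      have h0 : polar (⇑Q) x a = 0 := by rw [QuadraticMap.polar_comm]; exact hx.2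
      simpa [QuadraticMap.polar_sub_right, QuadraticMap.polar_smul_right, h0] using h1
    have hdim : Module.finrank F ↥(W ⊓ LinearMap.ker (polarBilin Q a)) = n + 1 := by
      have h1 : span F {a} ⊔ (W ⊓ LinearMap.ker (polarBilin Q a)) = W := by
        refine le_antisymm (sup_le ((span_singleton_le_iff_mem _ _).2 ha) inf_le_left) fun y hy => ?_
        rw [show y = (polar (⇑Q) a y / 2) • a + (y - (polar (⇑Q) a y / 2) • a) by abel]
        exact add_mem_sup (smul_mem _ _ (mem_span_singleton_self a)) (hdec y hy)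
      have h3 : span F {a} ⊓ (W ⊓ LinearMap.ker (polarBilin Q a)) = ⊥ := by
        rw [eq_bot_iff]
        intro y hy
        obtain ⟨t, rfl⟩ := mem_span_singleton.1 hy.1
        have e : polar (⇑Q) a (t • a) = 0 := hy.2.2
        rw [QuadraticMap.polar_smul_right, haa, smul_eq_mul] at e
        simp [(mul_eq_zero.1 e).resolve_right h2]
      have h4 := finrank_sup_add_finrank_inf_eq (span F {a}) (W ⊓ LinearMap.ker (polarBilin Q a))
      rw [h1, h3, finrank_bot, finrank_span_singleton (show a ≠ 0 by rintro rfl; simp at hQa)] at h4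
      omega
    obtain ⟨f, hf, hf1, hfl, hfo⟩ := ih _ hdim hnd'
    refine ⟨Fin.cons a f, Fin.cases ha fun i => (hf i).1, Fin.cases (fun _ => hQa) fun i hi => hf1 i fun e => hi (by rw [e, Fin.succ_last]), ?_, fun i j hij => ?_⟩
    · rw [← Fin.succ_last, Fin.cons_succ]; exact hfl
    · induction i using Fin.cases with
      | zero => induction j using Fin.cases with
        | zero => exact absurd rfl hij
        | succ j => exact (hf j).2
      | succ i => induction j using Fin.cases with
        | zero => rw [QuadraticMap.polar_comm]; exact (hf i).2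
        | succ j => simpa using hfo i j (fun e => hij (by rw [e]))

end Cfsg.Lib.FormNormal
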