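import Cfsg.Agent.Known.SemisimpleSimilar
import Mathlib

/-! Semisimple classes of general and special linear groups correspond to characteristic polynomials. -/

set_option autoImplicit false
set_option linter.style.haveILetI false

open Polynomial Matrix

namespace Cfsg.Lib.SemisimpleCharpoly

variable {F : Type*} [Field F] [Finite F] (p : ℕ) [Fact p.Prime] [CharP F p]

theorem exists_model (d : ℕ) : ∀ f : F[X], f.Monic → f.natDegree = d → f.coeff 0 ≠ 0 →
    ∃ (A : Matrix (Fin d) (Fin d) F) (N : ℕ), A.charpoly = f ∧ N.Coprime p ∧ A ^ N = 1 := by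
  classical
  induction d using Nat.strong_induction_on with
  | _ d ih =>
  intro f hf hd h0
  rcases Nat.eq_zero_or_pos d with hd0 | hd0
  · subst hd0
    refine ⟨1, 1, ?_, Nat.coprime_one_left p, pow_one 1⟩
    rw [hf.natDegree_eq_zero.1 hd, Matrix.charpoly, Matrix.det_isEmpty]
  have hu : ¬ IsUnit f := fun h => by
    have := Polynomial.natDegree_eq_zero_of_isUnit h; omega
  obtain ⟨g₀, hg₀, hg₀f⟩ := WfDvdMonoid.exists_irreducible_factor hu hf.ne_zero
  set g := g₀ * C g₀.leadingCoeff⁻¹ with hgdef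
  have hg : g.Monic := monic_mul_leadingCoeff_inv hg₀.ne_zero
  have hassoc : Associated g₀ g :=
    ⟨(Polynomial.isUnit_C.2 (isUnit_iff_ne_zero.2 (inv_ne_zero (leadingCoeff_ne_zero.2 hg₀.ne_zero)))).unit,
      by simp [hgdef]⟩
  have hgi : Irreducible g := hassoc.irreducible hg₀
  obtain ⟨h, hfh⟩ : g ∣ f := hassoc.dvd_iff_dvd_left.1 hg₀f
  have hh : h.Monic := hg.of_mul_monic_left (hfh ▸ hf)
  have hdeg : d = g.natDegree + h.natDegree := by
    rw [← hd, hfh, hg.natDegree_mul hh]
  have hgpos : 0 < g.natDegree := hgi.natDegree_pos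
  have hh0 : h.coeff 0 ≠ 0 := by
    intro e; apply h0; rw [hfh, mul_coeff_zero, e, mul_zero]
  have hg0 : g.coeff 0 ≠ 0 := by
    intro e; apply h0; rw [hfh, mul_coeff_zero, e, zero_mul]
  obtain ⟨D, M, hDc, hM, hDM⟩ := ih h.natDegree (by omega) h hh rfl hh0
  haveI := Fact.mk hgi
  haveI : Module.Finite F (AdjoinRoot g) := hg.finite_adjoinRoot
  haveI : Finite (AdjoinRoot g) := Module.finite_of_finite F
  haveI := Fintype.ofFinite (AdjoinRoot g)
  let pb := AdjoinRoot.powerBasis hg.ne_zero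
  let A := Algebra.leftMulMatrix pb.basis pb.gen
  have hAc : A.charpoly = g := by
    rw [charpoly_leftMulMatrix, AdjoinRoot.minpoly_powerBasis_gen_of_monic hg]
  have hgen : pb.gen ≠ 0 := by
    intro e
    have e' : (AdjoinRoot.mk g) X = 0 := by
      rw [AdjoinRoot.mk_X]; exact e
    rw [AdjoinRoot.mk_eq_zero] at e'
    obtain ⟨c, hc⟩ := e'
    rcases Polynomial.irreducible_X.isUnit_or_isUnit hc with hu' | hu'
    · exact hgi.not_isUnit hu'
    · have := Associated.symm (⟨hu'.unit, by rw [IsUnit.unit_spec]; exact hc.symm⟩ : Associated g X)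
      have := eq_of_monic_of_associated monic_X hg this
      rw [← this] at hg0
      simp at hg0
  set M' := Fintype.card (AdjoinRoot g) - 1 with hM'
  have hA : A ^ M' = 1 := by
    rw [← map_pow, FiniteField.pow_card_sub_one_eq_one _ hgen, map_one]
  have hM'p : M'.Coprime p := by
    rw [Nat.coprime_comm, (Fact.out : p.Prime).coprime_iff_not_dvd]
    intro hdv
    haveI : CharP (AdjoinRoot g) p := charP_of_injective_algebraMap (algebraMap F (AdjoinRoot g)).injective p
    obtain ⟨k, -, hk⟩ := FiniteField.card (AdjoinRoot g) p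
    have h3 : p ∣ Fintype.card (AdjoinRoot g) := hk ▸ dvd_pow_self p k.pos.ne'
    have h4 := Nat.dvd_sub h3 hdv
    rw [hM', Nat.sub_sub_self Fintype.card_pos] at h4
    exact (Fact.out : p.Prime).not_dvd_one h4
  let e : Fin pb.dim ⊕ Fin h.natDegree ≃ Fin d := finSumFinEquiv.trans (finCongr (by rw [hdeg]; rfl))
  refine ⟨Matrix.reindexAlgEquiv F F e (Matrix.fromBlocks A 0 0 D), M' * M, ?_, Nat.Coprime.mul_left hM'p hM, ?_⟩
  · rw [Matrix.reindexAlgEquiv_apply, Matrix.charpoly_reindex, Matrix.charpoly_fromBlocks_zero₁₂, hAc, hDc, hfh]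
  · rw [← map_pow, Matrix.fromBlocks_diagonal_pow, pow_mul, hA, one_pow, mul_comm M', pow_mul, hDM, one_pow,
      Matrix.fromBlocks_one, map_one]

/-- A semisimple element of `GL` with prescribed characteristic polynomial. -/
theorem exists_GL {n : ℕ} (f : F[X]) (hf : f.Monic) (hd : f.natDegree = n) (h0 : f.coeff 0 ≠ 0) :
    ∃ g : GL (Fin n) F, (orderOf g).Coprime p ∧ (g : Matrix (Fin n) (Fin n) F).charpoly = f := by
  obtain ⟨A, N, hA, hN, hAN⟩ := exists_model p n f hf hd h0
  have hdet : A.det ≠ 0 := by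
    rw [Matrix.det_eq_sign_charpoly_coeff, hA]
    exact mul_ne_zero (pow_ne_zero _ (neg_ne_zero.2 one_ne_zero)) h0
  refine ⟨Matrix.GeneralLinearGroup.mkOfDetNeZero A hdet, ?_, hA⟩
  refine Nat.Coprime.coprime_dvd_left ?_ hN
  rw [orderOf_dvd_iff_pow_eq_one]
  refine Units.ext ?_
  rw [Units.val_pow_eq_pow_val]
  exact hAN

theorem isConj_GL_of_charpoly {n : ℕ} (a b : GL (Fin n) F) (ha : (orderOf a).Coprime p) (hb : (orderOf b).Coprime p)
    (hc : (a : Matrix (Fin n) (Fin n) F).charpoly = (b : Matrix (Fin n) (Fin n) F).charpoly) : IsConj a b := by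
  obtain ⟨e, he⟩ := SemisimpleSimilar.similar (F := F) n (Fin n → F) (Fin n → F)
    (Matrix.toLin' (a : Matrix (Fin n) (Fin n) F)) (Matrix.toLin' (b : Matrix (Fin n) (Fin n) F))
    (SemisimpleSimilar.semisimple_of_coprime ha _ (SemisimpleSimilar.pow_orderOf_GL a))
    (SemisimpleSimilar.semisimple_of_coprime hb _ (SemisimpleSimilar.pow_orderOf_GL b))
    (by rw [Matrix.charpoly_toLin', Matrix.charpoly_toLin']; exact hc) (Module.finrank_fin_fun F)
  let P : GL (Fin n) F := Matrix.GeneralLinearGroup.mkOfDetNeZero (LinearMap.toMatrix' (e : (Fin n → F) →ₗ[F] (Fin n → F)))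
    (by rw [LinearMap.det_toMatrix']; exact (LinearEquiv.isUnit_det' e).ne_zero)
  refine isConj_iff.2 ⟨P, ?_⟩
  rw [mul_inv_eq_iff_eq_mul]
  refine Units.ext ?_
  show LinearMap.toMatrix' (e : (Fin n → F) →ₗ[F] (Fin n → F)) * (a : Matrix (Fin n) (Fin n) F) =
    (b : Matrix (Fin n) (Fin n) F) * LinearMap.toMatrix' (e : (Fin n → F) →ₗ[F] (Fin n → F))
  refine Matrix.toLin'.injective ?_
  rw [Matrix.toLin'_mul, Matrix.toLin'_mul, Matrix.toLin'_toMatrix']
  exact LinearMap.ext he

omit [Finite F] in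
/-- Monic polynomials of given degree with constrained constant term. -/
theorem card_monic (m : ℕ) (P : F → Prop) :
    Nat.card {f : F[X] // f.Monic ∧ f.natDegree = m + 1 ∧ P (f.coeff 0)} =
      Nat.card {a : F // P a} * Nat.card F ^ m := by
  classical
  have e1 : {f : F[X] // f.Monic ∧ f.natDegree = m + 1 ∧ P (f.coeff 0)} ≃ {g : degreeLT F (m + 1) // P (degreeLTEquiv F (m + 1) g 0)} :=
    { toFun := fun f => ⟨⟨f.1 - X ^ (m + 1), by
          rw [mem_degreeLT]
          have h1 : f.1.degree = ((m + 1 : ℕ) : WithBot ℕ) := by rw [degree_eq_natDegree f.2.1.ne_zero, f.2.2.1]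
          have h2 := degree_sub_lt (h1.trans (degree_X_pow (m + 1)).symm) f.2.1.ne_zero
            (by rw [f.2.1.leadingCoeff, (monic_X_pow (m + 1)).leadingCoeff])
          rwa [h1] at h2⟩, by
          show P ((f.1 - X ^ (m + 1)).coeff 0)
          rw [coeff_sub, coeff_X_pow, if_neg (by omega), sub_zero]; exact f.2.2.2⟩
      invFun := fun g => ⟨X ^ (m + 1) + g.1.1, by
          have h := mem_degreeLT.1 g.1.2
          exact ⟨monic_X_pow_add h, natDegree_eq_of_degree_eq_some (by
            rw [degree_add_eq_left_of_degree_lt (by rw [degree_X_pow]; exact h), degree_X_pow]),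
            by rw [coeff_add, coeff_X_pow, if_neg (by omega), zero_add]; exact g.2⟩⟩
      left_inv := fun f => by simp
      right_inv := fun g => by simp }
  have e2 : {c : Fin (m + 1) → F // P (c 0)} ≃ {a : F // P a} × (Fin m → F) :=
    { toFun := fun c => (⟨c.1 0, c.2⟩, fun i => c.1 i.succ)
      invFun := fun q => ⟨Fin.cons q.1.1 q.2, by simpa using q.1.2⟩
      left_inv := fun c => Subtype.ext (Fin.cons_self_tail c.1)
      right_inv := fun q => by simp }
  rw [Nat.card_congr (e1.trans ((((degreeLTEquiv F (m + 1)).toEquiv).subtypeEquiv (fun g => Iff.rfl)).trans e2)),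
    Nat.card_prod, Nat.card_fun, Nat.card_fin]

end Cfsg.Lib.SemisimpleCharpoly
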