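import Mathlib
import Cfsg.Agent.Classical.Misc.PrimeOrderLinear

/-! Semisimple endomorphisms: similarity from the characteristic polynomial, full determinant on the centralizer. -/

set_option autoImplicit false
set_option linter.unusedSectionVars false

open Polynomial Submodule
open Cfsg.Lib.Classical

namespace Cfsg.Lib.SemisimpleSimilar

universe u v

variable {F : Type u} [Field F] {V : Type v} [AddCommGroup V] [Module F V] [FiniteDimensional F V]

/-- Evaluation at a vector, through `AdjoinRoot f`. -/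
noncomputable def evalAt (y : Module.End F V) (f : F[X]) (w : V) (hw : aeval y f w = 0) : AdjoinRoot f →ₗ[F] V :=
  (Submodule.liftQ ((Ideal.span {f}).restrictScalars F)
    ((LinearMap.applyₗ w : (V →ₗ[F] V) →ₗ[F] V).comp (aeval y).toLinearMap)
    (fun a ha => by
      obtain ⟨b, rfl⟩ := Ideal.mem_span_singleton.1 ha
      rw [LinearMap.mem_ker, LinearMap.comp_apply, AlgHom.toLinearMap_apply, mul_comm, map_mul]
      simp [hw])).comp (Submodule.Quotient.restrictScalarsEquiv F (Ideal.span {f})).symm.toLinearMap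

theorem evalAt_mk (y : Module.End F V) (f : F[X]) (w : V) (hw : aeval y f w = 0) (a : F[X]) :
    evalAt y f w hw (AdjoinRoot.mk f a) = aeval y a w := rfl

theorem evalAt_root_mul (y : Module.End F V) (f : F[X]) (w : V) (hw : aeval y f w = 0) (a : AdjoinRoot f) :
    evalAt y f w hw (AdjoinRoot.root f * a) = y (evalAt y f w hw a) := by
  obtain ⟨b, rfl⟩ := AdjoinRoot.mk_surjective a
  rw [← AdjoinRoot.mk_X, ← map_mul, evalAt_mk, evalAt_mk, map_mul, aeval_X]
  rfl

theorem evalAt_injective (y : Module.End F V) (f : F[X]) (hf : Irreducible f) (w : V) (hw : aeval y f w = 0)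
    (hw0 : w ≠ 0) : Function.Injective (evalAt y f w hw) := by
  haveI := Fact.mk hf
  rw [← LinearMap.ker_eq_bot, LinearMap.ker_eq_bot']
  intro a ha
  by_contra ha0
  obtain ⟨b, rfl⟩ := AdjoinRoot.mk_surjective a
  obtain ⟨c, hc⟩ := AdjoinRoot.mk_surjective (AdjoinRoot.mk f b)⁻¹
  have e : AdjoinRoot.mk f (c * b) = AdjoinRoot.mk f 1 := by rw [map_mul, hc, inv_mul_cancel₀ ha0, map_one]
  have := congrArg (evalAt y f w hw) e
  rw [evalAt_mk, evalAt_mk, map_mul, map_one] at this
  rw [evalAt_mk] at ha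
  exact hw0 (this.symm.trans (by simp [ha]))

/-- Minimal invariant subspaces are simple modules: their minimal polynomial is irreducible. -/
theorem irreducible_minpoly {W : Type v} [AddCommGroup W] [Module F W] [FiniteDimensional F W] [Nontrivial W]
    (y : Module.End F W) (h : ∀ T : Submodule F W, PrimeOrd.Inv y T → T = ⊥ ∨ T = ⊤) : Irreducible (minpoly F y) := by
  refine ⟨minpoly.not_isUnit F y, fun a b hab => ?_⟩
  have hint : IsIntegral F y := Algebra.IsIntegral.isIntegral y
  have h0 : minpoly F y ≠ 0 := minpoly.ne_zero hint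
  have hinv : PrimeOrd.Inv y (LinearMap.ker (aeval y a)) := fun w hw => by
    rw [LinearMap.mem_ker] at hw ⊢
    rw [← Module.End.mul_apply, show aeval y a * y = y * aeval y a by
      simpa [map_mul] using congrArg (aeval y) (mul_comm a X), Module.End.mul_apply]
    simp [hw]
  rcases h _ hinv with hb | ht
  · have hz : aeval y b = 0 := by
      refine LinearMap.ext fun w => ?_
      have : aeval y b w ∈ LinearMap.ker (aeval y a) := by
        rw [LinearMap.mem_ker, ← Module.End.mul_apply, ← map_mul, ← hab, minpoly.aeval]; simp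
      rw [hb, Submodule.mem_bot] at this
      simpa using this
    have hdvd := minpoly.dvd F y hz
    left
    obtain ⟨c, hc⟩ := hdvd
    have hb0 : b ≠ 0 := fun e => h0 (by rw [hab, e, mul_zero])
    refine IsUnit.of_mul_eq_one c (mul_left_cancel₀ hb0 ?_)
    rw [mul_one]; nth_rw 2 [hc]; rw [hab]; ring
  · have hz : aeval y a = 0 := LinearMap.ker_eq_top.1 ht
    obtain ⟨c, hc⟩ := minpoly.dvd F y hz
    right
    have ha0 : a ≠ 0 := fun e => h0 (by rw [hab, e, zero_mul])
    refine IsUnit.of_mul_eq_one c (mul_left_cancel₀ ha0 ?_)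
    rw [mul_one]; nth_rw 2 [hc]; rw [hab]; ring

theorem charpoly_eq_of_isCompl (x : Module.End F V) {W U : Submodule F V} (hW : PrimeOrd.Inv x W)
    (hU : PrimeOrd.Inv x U) (hc : IsCompl W U) :
    x.charpoly = (PrimeOrd.res x hW).charpoly * (PrimeOrd.res x hU).charpoly := by
  rw [← LinearMap.charpoly_prodMap, ← (Submodule.prodEquivOfIsCompl W U hc).charpoly_conj]
  congr 1
  refine LinearMap.ext fun v => ?_
  obtain ⟨⟨a, b⟩, rfl⟩ := (Submodule.prodEquivOfIsCompl W U hc).surjective v
  rw [LinearEquiv.conj_apply_apply, LinearEquiv.symm_apply_apply]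
  simp [PrimeOrd.res]
  rfl

/-- An irreducible factor of the characteristic polynomial kills a vector. -/
theorem exists_ker (x : Module.End F V) {f : F[X]} (hf : Irreducible f) (hd : f ∣ x.charpoly) :
    ∃ w : V, w ≠ 0 ∧ aeval x f w = 0 := by
  by_contra hno
  push Not at hno
  have hker : LinearMap.ker (aeval x f) = ⊥ := LinearMap.ker_eq_bot'.2 fun w hw => by_contra fun h => hno w h hw
  have hfm : f ∣ minpoly F x := by
    haveI := Fact.mk hf
    let xL : Module.End (AdjoinRoot f) (TensorProduct F (AdjoinRoot f) V) := x.baseChange (AdjoinRoot f)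
    have h2 : xL.charpoly.IsRoot (AdjoinRoot.root f) := by
      rw [LinearMap.charpoly_baseChange, IsRoot, eval_map, ← aeval_def, AdjoinRoot.aeval_eq, AdjoinRoot.mk_eq_zero]
      exact hd
    have h3 : (minpoly (AdjoinRoot f) xL).IsRoot (AdjoinRoot.root f) :=
      Module.End.hasEigenvalue_iff_isRoot.1 (Module.End.hasEigenvalue_iff_isRoot_charpoly _ _ |>.2 h2)
    have h4 : aeval xL ((minpoly F x).map (algebraMap F (AdjoinRoot f))) = 0 := by
      rw [aeval_map_algebraMap, show xL = Module.End.baseChangeHom F (AdjoinRoot f) V x from rfl,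
        aeval_algHom_apply, minpoly.aeval, map_zero]
    have h5 := h3.dvd (minpoly.dvd _ _ h4)
    rwa [IsRoot, eval_map, ← aeval_def, AdjoinRoot.aeval_eq, AdjoinRoot.mk_eq_zero] at h5
  obtain ⟨g, hg⟩ := hfm
  have hz : aeval x g = 0 := LinearMap.ext fun w => by
    have : aeval x f (aeval x g w) = 0 := by
      rw [← Module.End.mul_apply, ← map_mul, ← hg, minpoly.aeval]; rfl
    simpa using (LinearMap.ker_eq_bot'.1 hker _ this)
  obtain ⟨c, hc⟩ := minpoly.dvd F x hz
  have hg0 : g ≠ 0 := fun e => minpoly.ne_zero (Algebra.IsIntegral.isIntegral x) (by rw [hg, e, mul_zero])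
  refine hf.not_isUnit (IsUnit.of_mul_eq_one c (mul_left_cancel₀ hg0 ?_))
  rw [mul_one]; nth_rw 2 [hc]; rw [hg]; ring


/-- A minimal invariant subspace is a copy of a field. -/
theorem exists_field_model {W : Type v} [AddCommGroup W] [Module F W] [FiniteDimensional F W] [Nontrivial W]
    (y : Module.End F W) (h : ∀ T : Submodule F W, PrimeOrd.Inv y T → T = ⊥ ∨ T = ⊤) :
    ∃ e : AdjoinRoot (minpoly F y) ≃ₗ[F] W, ∀ a, e (AdjoinRoot.root (minpoly F y) * a) = y (e a) := by
  obtain ⟨w, hw0⟩ := exists_ne (0 : W)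
  have hw : aeval y (minpoly F y) w = 0 := by rw [minpoly.aeval]; rfl
  have hinj := evalAt_injective y _ (irreducible_minpoly y h) w hw hw0
  have hinv : PrimeOrd.Inv y (LinearMap.range (evalAt y (minpoly F y) w hw)) := by
    rintro _ ⟨a, rfl⟩
    exact ⟨AdjoinRoot.root (minpoly F y) * a, evalAt_root_mul y _ w hw a⟩
  have hsurj : Function.Surjective (evalAt y (minpoly F y) w hw) := by
    rw [← LinearMap.range_eq_top]
    refine (h _ hinv).resolve_left fun e => hw0 ?_
    have : w ∈ LinearMap.range (evalAt y (minpoly F y) w hw) := ⟨AdjoinRoot.mk _ 1, by rw [evalAt_mk]; simp⟩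
    rwa [e, Submodule.mem_bot] at this
  exact ⟨LinearEquiv.ofBijective _ ⟨hinj, hsurj⟩, evalAt_root_mul y _ w hw⟩

theorem res_simple (x : Module.End F V) {W : Submodule F V} (hW : PrimeOrd.Inv x W)
    (hmin : ∀ T ≤ W, PrimeOrd.Inv x T → T ≠ ⊥ → T = W) :
    ∀ T : Submodule F W, PrimeOrd.Inv (PrimeOrd.res x hW) T → T = ⊥ ∨ T = ⊤ := by
  intro T hT
  by_cases h0 : T = ⊥
  · exact .inl h0
  refine .inr ?_
  have hinj := Submodule.map_injective_of_injective (f := W.subtype) W.injective_subtype
  apply hinj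
  rw [Submodule.map_subtype_top]
  refine hmin _ (Submodule.map_subtype_le _ _) ?_ fun e => h0 (hinj (by rw [e, Submodule.map_bot]))
  rintro _ ⟨w, hw, rfl⟩
  exact ⟨PrimeOrd.res x hW w, hT w hw, rfl⟩

/-- Semisimple endomorphisms with equal characteristic polynomial are similar. -/
theorem similar (d : ℕ) : ∀ (V V' : Type v) [AddCommGroup V] [Module F V] [FiniteDimensional F V]
    [AddCommGroup V'] [Module F V'] [FiniteDimensional F V'] (g : Module.End F V) (h : Module.End F V'),
    g.IsSemisimple → h.IsSemisimple → g.charpoly = h.charpoly → Module.finrank F V = d →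
    ∃ e : V ≃ₗ[F] V', ∀ a, e (g a) = h (e a) := by
  induction d using Nat.strong_induction_on with
  | _ d ih =>
  intro V V' _ _ _ _ _ _ g h hg hh hc hd
  have hd' : Module.finrank F V' = d := by
    rw [← hd, ← g.charpoly_natDegree, hc, h.charpoly_natDegree]
  rcases subsingleton_or_nontrivial V with hV | hV
  · haveI : Subsingleton V' := by
      rw [← Module.finrank_zero_iff (R := F), hd', ← hd, Module.finrank_zero_iff]; exact hV
    exact ⟨LinearEquiv.ofSubsingleton V V', fun a => Subsingleton.elim _ _⟩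
  obtain ⟨W, -, hW, hW0, hmin⟩ := PrimeOrd.exists_minimal (x := g) (W := ⊤) (fun w _ => trivial) top_ne_bot
  haveI : Nontrivial W := Submodule.nontrivial_iff_ne_bot.2 hW0
  have hs := res_simple g hW hmin
  set f := minpoly F (PrimeOrd.res g hW)
  have hf : Irreducible f := irreducible_minpoly _ hs
  obtain ⟨eW, heW⟩ := exists_field_model _ hs
  obtain ⟨U, hU, hWU⟩ := PrimeOrd.exists_compl hg hW
  have hfd : f ∣ h.charpoly := by
    rw [← hc, charpoly_eq_of_isCompl g hW hU hWU]
    exact Dvd.dvd.mul_right (minpoly.dvd _ _ (LinearMap.aeval_self_charpoly _)) _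
  obtain ⟨w, hw0, hw⟩ := exists_ker h hf hfd
  let φ := evalAt h f w hw
  have hφ : Function.Injective φ := evalAt_injective h f hf w hw hw0
  have hW' : PrimeOrd.Inv h (LinearMap.range φ) := by
    rintro _ ⟨a, rfl⟩
    exact ⟨AdjoinRoot.root f * a, evalAt_root_mul h f w hw a⟩
  obtain ⟨U', hU', hWU'⟩ := PrimeOrd.exists_compl hh hW'
  let eWW : W ≃ₗ[F] LinearMap.range φ := eW.symm.trans (LinearEquiv.ofInjective φ hφ)
  have heWW : ∀ a, eWW (PrimeOrd.res g hW a) = PrimeOrd.res h hW' (eWW a) := by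
    intro a
    obtain ⟨b, rfl⟩ := eW.surjective a
    refine Subtype.ext ?_
    show φ (eW.symm (PrimeOrd.res g hW (eW b))) = h (φ (eW.symm (eW b)))
    rw [← heW, LinearEquiv.symm_apply_apply, LinearEquiv.symm_apply_apply]
    exact evalAt_root_mul h f w hw b
  have hcU : (PrimeOrd.res g hU).charpoly = (PrimeOrd.res h hU').charpoly := by
    have e1 := charpoly_eq_of_isCompl g hW hU hWU
    rw [hc, charpoly_eq_of_isCompl h hW' hU' hWU'] at e1
    have e2 : (PrimeOrd.res g hW).charpoly = (PrimeOrd.res h hW').charpoly := by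
      rw [← eWW.charpoly_conj]
      congr 1
      refine LinearMap.ext fun a => ?_
      obtain ⟨b, rfl⟩ := eWW.surjective a
      rw [LinearEquiv.conj_apply_apply, LinearEquiv.symm_apply_apply]
      exact heWW b
    rw [e2] at e1
    exact (mul_left_cancel₀ (LinearMap.charpoly_monic _).ne_zero e1).symm
  have hlt : Module.finrank F U < d := by
    have h1 := Submodule.finrank_add_eq_of_isCompl hWU
    have h2 : 0 < Module.finrank F W := Module.finrank_pos
    omega
  obtain ⟨eU, heU⟩ := ih _ hlt U U' (PrimeOrd.res g hU) (PrimeOrd.res h hU')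
    (hg.restrict fun w hw => hU w hw) (hh.restrict fun w hw => hU' w hw) hcU rfl
  refine ⟨(Submodule.prodEquivOfIsCompl W U hWU).symm.trans
    ((eWW.prodCongr eU).trans (Submodule.prodEquivOfIsCompl _ _ hWU')), fun a => ?_⟩
  obtain ⟨⟨b, c⟩, rfl⟩ := (Submodule.prodEquivOfIsCompl W U hWU).surjective a
  have e : g (Submodule.prodEquivOfIsCompl W U hWU (b, c)) =
      Submodule.prodEquivOfIsCompl W U hWU (PrimeOrd.res g hW b, PrimeOrd.res g hU c) := by
    simp [PrimeOrd.res]
    rfl
  rw [e]
  simp only [LinearEquiv.trans_apply, LinearEquiv.symm_apply_apply, LinearEquiv.prodCongr_apply]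
  rw [heWW, heU]
  simp [PrimeOrd.res]
  rfl

/-- The determinant is onto on the centralizer of a semisimple endomorphism. -/
theorem exists_commute_det [Finite F] [Nontrivial V] (x : Module.End F V) (hx : x.IsSemisimple) {c : F} (hc : c ≠ 0) :
    ∃ y : Module.End F V, y * x = x * y ∧ LinearMap.det y = c := by
  classical
  obtain ⟨W, -, hW, hW0, hmin⟩ := PrimeOrd.exists_minimal (x := x) (W := ⊤) (fun w _ => trivial) top_ne_bot
  haveI : Nontrivial W := Submodule.nontrivial_iff_ne_bot.2 hW0
  have hs := res_simple x hW hmin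
  set f := minpoly F (PrimeOrd.res x hW)
  have hf : Irreducible f := irreducible_minpoly _ hs
  haveI := Fact.mk hf
  haveI : Module.Finite F (AdjoinRoot f) := (minpoly.monic (Algebra.IsIntegral.isIntegral _)).finite_adjoinRoot
  haveI : Finite (AdjoinRoot f) := Module.finite_of_finite F
  obtain ⟨a, ha⟩ := FiniteField.norm_surjective F (AdjoinRoot f) c
  obtain ⟨eW, heW⟩ := exists_field_model _ hs
  obtain ⟨U, hU, hWU⟩ := PrimeOrd.exists_compl hx hW
  let E := Submodule.prodEquivOfIsCompl W U hWU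
  let yW : Module.End F W := eW.conj (Algebra.lmul F (AdjoinRoot f) a)
  refine ⟨E.conj (yW.prodMap LinearMap.id), LinearMap.ext fun v => ?_, ?_⟩
  · obtain ⟨⟨b, d⟩, rfl⟩ := E.surjective v
    obtain ⟨b', rfl⟩ := eW.surjective b
    have e : ∀ b d, x (E (b, d)) = E (PrimeOrd.res x hW b, PrimeOrd.res x hU d) := fun b d => by
      simp [E, PrimeOrd.res]
      rfl
    rw [Module.End.mul_apply, Module.End.mul_apply, e, LinearEquiv.conj_apply_apply, LinearEquiv.conj_apply_apply,
      LinearEquiv.symm_apply_apply, LinearEquiv.symm_apply_apply, LinearMap.prodMap_apply, LinearMap.prodMap_apply, e]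
    congr 2
    simp only [yW, ← heW, LinearEquiv.conj_apply_apply, LinearEquiv.symm_apply_apply]
    show eW (a * _) = eW (_ * (a * b'))
    rw [mul_left_comm]
  · rw [LinearEquiv.conj_apply, LinearMap.comp_assoc, LinearMap.det_conj, LinearMap.det_prodMap, LinearMap.det_id, mul_one]
    show LinearMap.det (eW.conj _) = c
    rw [LinearEquiv.conj_apply, LinearMap.comp_assoc, LinearMap.det_conj, ← ha, Algebra.norm_apply]

/-! ### Matrices -/

variable {n : ℕ}

theorem semisimple_of_coprime {p : ℕ} [Fact p.Prime] [CharP F p] {N : ℕ} (hN : N.Coprime p)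
    (A : Matrix (Fin n) (Fin n) F) (hA : A ^ N = 1) : Module.End.IsSemisimple (Matrix.toLin' A) := by
  refine PrimeOrd.semisimple (r := N) (fun h => ?_) one_ne_zero ?_
  · exact (Fact.out : p.Prime).not_dvd_one (hN ▸ Nat.dvd_gcd ((CharP.cast_eq_zero_iff F p N).1 h) dvd_rfl)
  · rw [← Matrix.toLin'_pow, hA, Matrix.toLin'_one, one_smul]; rfl

theorem pow_orderOf_GL (g : GL (Fin n) F) : (g : Matrix (Fin n) (Fin n) F) ^ orderOf g = 1 := by
  rw [← Units.val_pow_eq_pow_val, pow_orderOf_eq_one, Units.val_one]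

/-- GL-conjugate semisimple elements are SL-conjugate. -/
theorem exists_det_one [Finite F] {p : ℕ} [Fact p.Prime] [CharP F p] (x g : GL (Fin n) F)
    (hx : (orderOf x).Coprime p) :
    ∃ h : GL (Fin n) F, (h : Matrix (Fin n) (Fin n) F).det = 1 ∧ h * x * h⁻¹ = g * x * g⁻¹ := by
  rcases Nat.eq_zero_or_pos n with rfl | hn
  · exact ⟨g, Matrix.det_isEmpty, rfl⟩
  haveI : Nonempty (Fin n) := ⟨⟨0, hn⟩⟩
  have hd := Matrix.GeneralLinearGroup.det_ne_zero g
  obtain ⟨y, hy, hyd⟩ := exists_commute_det (Matrix.toLin' (x : Matrix (Fin n) (Fin n) F))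
    (semisimple_of_coprime hx _ (pow_orderOf_GL x)) (inv_ne_zero hd)
  have hyd' : (LinearMap.toMatrix' y).det = ((g : Matrix (Fin n) (Fin n) F).det)⁻¹ := by
    rw [LinearMap.det_toMatrix', hyd]
  let c : GL (Fin n) F := Matrix.GeneralLinearGroup.mkOfDetNeZero (LinearMap.toMatrix' y)
    (by rw [hyd']; exact inv_ne_zero hd)
  have hc : c * x = x * c := Units.ext (by
    show LinearMap.toMatrix' y * (x : Matrix (Fin n) (Fin n) F) = (x : Matrix (Fin n) (Fin n) F) * LinearMap.toMatrix' y
    have := congrArg LinearMap.toMatrix' hy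
    rwa [LinearMap.toMatrix'_mul, LinearMap.toMatrix'_mul, LinearMap.toMatrix'_toLin'] at this)
  refine ⟨g * c, ?_, ?_⟩
  · rw [Units.val_mul, Matrix.det_mul]
    show _ * (LinearMap.toMatrix' y).det = 1
    rw [hyd', mul_inv_cancel₀ hd]
  · calc g * c * x * (g * c)⁻¹ = g * (c * x) * c⁻¹ * g⁻¹ := by group
      _ = _ := by rw [hc]; group

theorem isConj_SL_of_charpoly [Finite F] {p : ℕ} [Fact p.Prime] [CharP F p]
    (g h : Matrix.SpecialLinearGroup (Fin n) F) (hg : (orderOf g).Coprime p) (hh : (orderOf h).Coprime p)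
    (hc : (g : Matrix (Fin n) (Fin n) F).charpoly = (h : Matrix (Fin n) (Fin n) F).charpoly) : IsConj g h := by
  have hord : ∀ g : Matrix.SpecialLinearGroup (Fin n) F, orderOf (Matrix.SpecialLinearGroup.toGL g) = orderOf g :=
    fun g => orderOf_injective _ Matrix.SpecialLinearGroup.toGL_injective g
  set a := Matrix.SpecialLinearGroup.toGL g with hadef
  set b := Matrix.SpecialLinearGroup.toGL h with hbdef
  obtain ⟨e, he⟩ := similar (F := F) n (Fin n → F) (Fin n → F) (Matrix.toLin' (a : Matrix (Fin n) (Fin n) F))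
    (Matrix.toLin' (b : Matrix (Fin n) (Fin n) F)) (semisimple_of_coprime (by rw [hord]; exact hg) _ (pow_orderOf_GL a))
    (semisimple_of_coprime (by rw [hord]; exact hh) _ (pow_orderOf_GL b))
    (by rw [Matrix.charpoly_toLin', Matrix.charpoly_toLin']; exact hc) (Module.finrank_fin_fun F)
  let P : GL (Fin n) F := Matrix.GeneralLinearGroup.mkOfDetNeZero (LinearMap.toMatrix' (e : (Fin n → F) →ₗ[F] (Fin n → F)))
    (by rw [LinearMap.det_toMatrix']; exact (LinearEquiv.isUnit_det' e).ne_zero)
  have hP : P * a * P⁻¹ = b := by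
    rw [mul_inv_eq_iff_eq_mul]
    refine Units.ext ?_
    show LinearMap.toMatrix' (e : (Fin n → F) →ₗ[F] (Fin n → F)) * (a : Matrix (Fin n) (Fin n) F) =
      (b : Matrix (Fin n) (Fin n) F) * LinearMap.toMatrix' (e : (Fin n → F) →ₗ[F] (Fin n → F))
    refine Matrix.toLin'.injective ?_
    rw [Matrix.toLin'_mul, Matrix.toLin'_mul, Matrix.toLin'_toMatrix']
    exact LinearMap.ext he
  obtain ⟨c, hc1, hc2⟩ := exists_det_one a P (p := p) (by rw [hord]; exact hg)
  obtain ⟨t, ht⟩ : ∃ t : Matrix.SpecialLinearGroup (Fin n) F, Matrix.SpecialLinearGroup.toGL t = c :=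
    ⟨⟨(c : Matrix (Fin n) (Fin n) F), hc1⟩, Units.ext rfl⟩
  refine isConj_iff.2 ⟨t, Matrix.SpecialLinearGroup.toGL_injective ?_⟩
  rw [map_mul, map_mul, map_inv, ht, ← hadef, ← hbdef, hc2, hP]

end Cfsg.Lib.SemisimpleSimilar
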