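import Cfsg.Agent.Known.DualPoly
import Cfsg.Agent.Known.SemisimpleCharpoly
import Cfsg.Agent.Known.SemisimpleSimilar
import Mathlib

/-! Counting classes of elements of prime order in groups preserving a sesquilinear form. -/

set_option autoImplicit false
set_option linter.style.haveILetI false
set_option linter.unusedSectionVars false

open Polynomial UniqueFactorizationMonoid

namespace Cfsg.Lib.DualCount

open PrimeOrderPoly DualPoly

variable {F : Type*} [Field F] {ν : Type*}

/-- The characteristic polynomial of the conjugated inverse. -/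
theorem dual_charpoly [Fintype ν] [DecidableEq ν] (σ : F →+* F) (M : Matrix ν ν F) (h : IsUnit M) : dual σ M.charpoly = ((M.map σ)⁻¹).charpoly := by
  have hd : (M.map σ).det ≠ 0 := by
    rw [← RingHom.mapMatrix_apply, ← RingHom.map_det]
    exact (((Matrix.isUnit_iff_isUnit_det M).1 h).map σ).ne_zero
  rw [Matrix.charpoly_inv _ ((Matrix.isUnit_iff_isUnit_det _).2 (isUnit_iff_ne_zero.2 hd)),
    ← Matrix.reverse_charpoly, Ring.inverse_eq_inv, dual, ← Matrix.charpoly_map]
  congr 1
  rw [← coeff_map, ← Matrix.charpoly_map, Matrix.det_eq_sign_charpoly_coeff (M.map σ), mul_inv, map_mul, ← mul_assoc]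
  have e : ((-1 : F[X]) ^ Fintype.card ν) = C ((-1 : F) ^ Fintype.card ν) := by simp
  rw [e, ← map_mul C ((-1 : F) ^ Fintype.card ν), mul_inv_cancel₀ (pow_ne_zero _ (neg_ne_zero.2 one_ne_zero)),
    map_one, one_mul]


theorem dvd_pow_of_factors {r : ℕ} {f : F[X]} (hf : f.Monic)
    (hfac : ∀ g, g.Monic → Irreducible g → g ∣ f → g ∣ X ^ r - 1) : f ∣ (X ^ r - 1) ^ f.natDegree := by
  classical
  have hM : ∀ g ∈ normalizedFactors f, g ∣ X ^ r - 1 ∧ 0 < g.natDegree ∧ g.Monic := by
    intro g hg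
    have hgi := irreducible_of_normalized_factor g hg
    have hgm : g.Monic := by rw [← normalize_normalized_factor g hg]; exact Polynomial.monic_normalize hgi.ne_zero
    exact ⟨hfac g hgm hgi (dvd_of_mem_normalizedFactors hg), hgi.natDegree_pos, hgm⟩
  have hprod : (normalizedFactors f).prod = f := by
    rw [prod_normalizedFactors_eq hf.ne_zero, hf.normalize_eq_self]
  have hlen : (normalizedFactors f).card ≤ f.natDegree := by
    rw [← congrArg Polynomial.natDegree hprod,
      Polynomial.natDegree_multiset_prod_of_monic _ (fun a ha => (hM a ha).2.2)]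
    calc (normalizedFactors f).card
        = ((normalizedFactors f).map fun _ => 1).sum := by simp
      _ ≤ _ := Multiset.sum_map_le_sum_map _ _ (fun a ha => (hM a ha).2.1)
  conv_lhs => rw [← hprod]
  refine dvd_trans ?_ (pow_dvd_pow _ hlen)
  revert hM
  generalize normalizedFactors f = M
  induction M using Multiset.induction with
  | empty => simp
  | cons a M ih =>
    intro hM
    rw [Multiset.prod_cons, Multiset.card_cons, pow_succ']
    exact mul_dvd_mul (hM a (Multiset.mem_cons_self a M)).1 (ih fun g hg => hM g (Multiset.mem_cons_of_mem hg))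

theorem factors_of_pow_eq_one [Fintype ν] [DecidableEq ν] {r : ℕ} (M : Matrix ν ν F) (h : M ^ r = 1) :
    ∀ f, f.Monic → Irreducible f → f ∣ M.charpoly → f ∣ X ^ r - 1 := by
  intro f _ hfi hfd
  rw [← Matrix.charpoly_toLin'] at hfd
  obtain ⟨w, hw0, hw⟩ := SemisimpleSimilar.exists_ker _ hfi hfd
  by_contra hnd
  obtain ⟨a, b, hab⟩ := hfi.coprime_iff_not_dvd.2 hnd
  refine hw0 ?_
  have h1 : aeval (Matrix.toLin' M) (X ^ r - 1 : F[X]) = 0 := by
    rw [map_sub, map_pow, aeval_X, map_one, ← Matrix.toLin'_pow, h, Matrix.toLin'_one]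
    exact sub_self _
  have e := congrArg (fun P => aeval (Matrix.toLin' M) P w) hab
  simp only [map_add, map_mul, h1, mul_zero, add_zero, map_one, Module.End.mul_apply, hw, map_zero,
    Module.End.one_apply] at e
  exact e.symm

/-- A semisimple matrix with all eigenvalues `r`-th roots of unity has order dividing `r`. -/
theorem pow_eq_one [Fintype ν] [DecidableEq ν] {p r N k : ℕ} [Fact p.Prime] [CharP F p] (M : Matrix ν ν F) (hN : N.Coprime p)
    (hM : M ^ N = 1) (hd : M.charpoly ∣ (X ^ r - 1) ^ k) : M ^ r = 1 := by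
  rcases isEmpty_or_nonempty ν with hn | hn
  · exact Subsingleton.elim _ _
  obtain ⟨c, hc⟩ := hd
  have h1 : (M ^ r - 1) ^ k = 0 := by
    have e := congrArg (aeval M) hc
    rw [map_pow, map_sub, map_pow, aeval_X, map_one, map_mul, Matrix.aeval_self_charpoly, zero_mul] at e
    exact e
  have h2 : (M ^ r) ^ p ^ k = 1 := by
    have h3 := pow_eq_zero_of_le (Nat.lt_pow_self (Fact.out : p.Prime).one_lt).le h1
    rwa [sub_pow_char_pow_of_commute p _ (Commute.one_right _), one_pow, sub_eq_zero] at h3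
  have h4 : (M ^ r) ^ N = 1 := by rw [← pow_mul, mul_comm, pow_mul, hM, one_pow]
  exact orderOf_eq_one_iff.1 (Nat.eq_one_of_dvd_coprimes (Nat.Coprime.pow_right k hN) (orderOf_dvd_of_pow_eq_one h4)
    (orderOf_dvd_of_pow_eq_one h2))

/-- A self-reciprocal polynomial with odd order roots and even degree is palindromic. -/
theorem reverse_eq_self [Finite F] {p r k : ℕ} [Fact p.Prime] [CharP F p] [Fact r.Prime] (hr2 : r ≠ 2) {f : F[X]}
    (hf : f.Monic) (hd : f.natDegree = 2 * k) (h : dual (RingHom.id F) f = f) (hdvd : f ∣ (X ^ r - 1) ^ (2 * k)) :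
    f.reverse = f := by
  classical
  have h0 : f.coeff 0 ≠ 0 := fun h0 => by
    obtain ⟨c, hc⟩ := hdvd
    have e := congrArg (fun g => g.eval 0) hc
    simp only [eval_pow, eval_sub, eval_X, eval_one, zero_pow (Fact.out : r.Prime).ne_zero, eval_mul,
      ← coeff_zero_eq_eval_zero, h0, zero_mul] at e
    exact pow_ne_zero _ (by simp) e
  obtain ⟨A, N, hA, hN, hAN⟩ := SemisimpleCharpoly.exists_model p (2 * k) f hf hd h0
  have hAr := pow_eq_one (r := r) A hN hAN (hA ▸ hdvd)
  have hdet : A.det = f.coeff 0 := by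
    rw [Matrix.det_eq_sign_charpoly_coeff, hA, Fintype.card_fin, (even_two_mul k).neg_one_pow, one_mul]
  have h1 : (f.coeff 0) ^ r = 1 := by rw [← hdet, ← Matrix.det_pow, hAr, Matrix.det_one]
  have h2 : (f.coeff 0) ^ 2 = 1 := by
    have e := congrArg (fun g => g.coeff 0) h
    simp only [dual_coeff_zero hf, RingHom.id_apply] at e
    rw [sq]
    conv_lhs => arg 1; rw [← e]
    exact inv_mul_cancel₀ h0
  have h3 : f.coeff 0 = 1 := by
    have hcop : Nat.Coprime r 2 := (Nat.coprime_primes (Fact.out : r.Prime) Nat.prime_two).2 hr2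
    have := orderOf_dvd_of_pow_eq_one h1
    exact orderOf_eq_one_iff.1 (Nat.eq_one_of_dvd_coprimes hcop this (orderOf_dvd_of_pow_eq_one h2))
  conv_rhs => rw [← h]
  rw [dual, RingHom.id_apply, h3, inv_one, C_1, one_mul, Polynomial.map_id]

variable [Fintype F] [Fintype ν] [DecidableEq ν] {p r : ℕ} [Fact p.Prime] [CharP F p] [Fact r.Prime]

open scoped _root_.Classical in
/-- The class count. -/
theorem card_classes {σ : F →+* F} {G : Type*} [Group G] (ι : G →* Matrix ν ν F) (hι : Function.Injective ι)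
    (hσ : ∀ a, σ (σ a) = a) {k : ℕ} (hk : ∀ a, σ a = a ^ p ^ k) (hrp : r ≠ p) {i : ℕ}
    (hi : i = orderOf (Fintype.card F : ZMod r)) (hi0 : 0 < i) {t : ℕ} (ht : t * i = r - 1)
    (hdual : ∀ g : G, dual σ (ι g).charpoly = (ι g).charpoly)
    (hconj : ∀ a b : G, (orderOf a).Coprime p → (orderOf b).Coprime p → (ι a).charpoly = (ι b).charpoly → IsConj a b)
    (hmodel : ∀ f : F[X], f.Monic → f.natDegree = Fintype.card ν → dual σ f = f →
      f ∣ (X ^ r - 1) ^ Fintype.card ν → ∃ g : G, (orderOf g).Coprime p ∧ (ι g).charpoly = f) :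
    Nat.card {C : ConjClasses G // ∃ g : G, ConjClasses.mk g = C ∧ orderOf g = r} =
      (if ∃ j : ℕ, r ∣ Fintype.card F ^ j + p ^ k then Nat.choose (Fintype.card ν / i + t) t
      else Nat.choose (Fintype.card ν / (2 * i) + t / 2) (t / 2)) - 1 := by
  have hr : r.Prime := Fact.out
  have hrcop : r.Coprime p := (Nat.coprime_primes hr Fact.out).2 hrp
  have hS : (factorSet F r).card = t := by
    have hcard := card_factorSet (F := F) (p := p) (r := r) hrp
    rw [← hi, ← ht] at hcard
    exact Nat.eq_of_mul_eq_mul_right hi0 hcard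
  let T := {f : F[X] // f.Monic ∧ f.natDegree = Fintype.card ν ∧
    (∀ g, g.Monic → Irreducible g → g ∣ f → g ∣ X ^ r - 1) ∧ dual σ f = f}
  have hT : Nat.card T = if ∃ j : ℕ, r ∣ Fintype.card F ^ j + p ^ k then Nat.choose (Fintype.card ν / i + t) t
      else Nat.choose (Fintype.card ν / (2 * i) + t / 2) (t / 2) := by
    rw [← hS]; exact card_self_dual hσ hk hrp hi hi0 _
  have hmem : ∀ g : G, g ^ r = 1 → (ι g).charpoly.Monic ∧ (ι g).charpoly.natDegree = Fintype.card ν ∧
      (∀ f, f.Monic → Irreducible f → f ∣ (ι g).charpoly → f ∣ X ^ r - 1) ∧ dual σ (ι g).charpoly = (ι g).charpoly :=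
    fun g hg => ⟨Matrix.charpoly_monic _, Matrix.charpoly_natDegree_eq_dim _,
      factors_of_pow_eq_one _ (by rw [← map_pow, hg, map_one]), hdual g⟩
  let f1 : T := ⟨_, hmem 1 (one_pow r)⟩
  have hr' : ∀ g : G, orderOf g = r → g ^ r = 1 := fun g h => h ▸ pow_orderOf_eq_one g
  let φ : {C : ConjClasses G // ∃ g : G, ConjClasses.mk g = C ∧ orderOf g = r} → {f : T // f ≠ f1} :=
    fun C => ⟨⟨_, hmem C.2.choose (hr' _ C.2.choose_spec.2)⟩, fun h => by
      have hc := congrArg Subtype.val h
      have h' := C.2.choose_spec.2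
      have := hconj C.2.choose 1 (by rw [h']; exact hrcop) (by rw [orderOf_one]; exact Nat.coprime_one_left p) hc
      rw [isConj_one_left.1 this, orderOf_one] at h'
      exact hr.ne_one h'.symm⟩
  have hφ : Function.Bijective φ := by
    constructor
    · intro C D e
      apply Subtype.ext
      rw [← C.2.choose_spec.1, ← D.2.choose_spec.1, ConjClasses.mk_eq_mk_iff_isConj]
      exact hconj _ _ (by rw [C.2.choose_spec.2]; exact hrcop)
        (by rw [D.2.choose_spec.2]; exact hrcop) (congrArg (fun x : {f : T // f ≠ f1} => x.1.1) e)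
    · rintro ⟨⟨f, hf, hd, hfac, hfd⟩, hne⟩
      obtain ⟨g, hgo, hgf⟩ := hmodel f hf hd hfd (hd ▸ dvd_pow_of_factors hf hfac)
      have hg : g ^ r = 1 := hι (by
        rw [map_pow, map_one]
        exact pow_eq_one (ι g) hgo (by rw [← map_pow, pow_orderOf_eq_one, map_one])
          (hgf ▸ dvd_pow_of_factors hf hfac))
      have hgr : orderOf g = r := orderOf_eq_prime hg (fun h => hne (Subtype.ext (by
        show f = (ι 1).charpoly
        rw [← hgf, h])))
      refine ⟨⟨ConjClasses.mk g, g, rfl, hgr⟩, Subtype.ext (Subtype.ext ?_)⟩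
      have hex : ∃ g' : G, ConjClasses.mk g' = ConjClasses.mk g ∧ orderOf g' = r := ⟨g, rfl, hgr⟩
      show (ι hex.choose).charpoly = f
      obtain ⟨u, hu⟩ := isConj_iff.1 (ConjClasses.mk_eq_mk_iff_isConj.1 hex.choose_spec.1)
      have e : (ι (u * hex.choose * u⁻¹)).charpoly = (ι hex.choose).charpoly := by
        rw [map_mul, Matrix.charpoly_mul_comm, ← map_mul, ← mul_assoc, inv_mul_cancel, one_mul]
      exact e.symm.trans ((congrArg (fun z => (ι z).charpoly) hu).trans hgf)
  haveI : Finite T := Nat.finite_of_card_ne_zero (by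
    rw [hT]; split_ifs <;> exact (Nat.choose_pos (Nat.le_add_left _ _)).ne')
  haveI := Fintype.ofFinite T
  rw [Nat.card_eq_of_bijective φ hφ, Nat.card_eq_fintype_card, Fintype.card_subtype_compl, Fintype.card_subtype_eq,
    ← Nat.card_eq_fintype_card, hT]

end Cfsg.Lib.DualCount

namespace Cfsg.Lib.DualCount

/-- When `-1` is a power. -/
theorem exists_neg_one_iff {r : ℕ} [Fact r.Prime] (hr2 : r ≠ 2) {q : ℕ} {i : ℕ} (hi : i = orderOf (q : ZMod r))
    (hi0 : 0 < i) : (∃ j : ℕ, r ∣ q ^ j + 1) ↔ Even i := by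
  have hne : (-1 : ZMod r) ≠ 1 := fun h => by
    have h2 : ((2 : ℕ) : ZMod r) = 0 := by push_cast; linear_combination -h
    rw [ZMod.natCast_eq_zero_iff] at h2
    exact hr2 ((Nat.prime_dvd_prime_iff_eq Fact.out Nat.prime_two).1 h2)
  have key : ∀ j : ℕ, r ∣ q ^ j + 1 ↔ (q : ZMod r) ^ j = -1 := fun j => by
    rw [← ZMod.natCast_eq_zero_iff]; push_cast; rw [eq_neg_iff_add_eq_zero]
  simp only [key]
  constructor
  · rintro ⟨j, hj⟩
    by_contra hodd
    rw [Nat.not_even_iff_odd] at hodd
    have h2 : i ∣ 2 * j := by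
      rw [hi, orderOf_dvd_iff_pow_eq_one, mul_comm, pow_mul, hj, neg_one_sq]
    have h3 : i ∣ j := (Nat.Coprime.dvd_mul_left hodd.coprime_two_right).1 h2
    rw [hi, orderOf_dvd_iff_pow_eq_one, hj] at h3
    exact hne h3
  · rintro ⟨c, hc⟩
    refine ⟨c, ?_⟩
    have h1 : ((q : ZMod r) ^ c) * (q : ZMod r) ^ c = 1 := by rw [← pow_add, ← hc, hi, pow_orderOf_eq_one]
    refine (mul_self_eq_one_iff.1 h1).resolve_left fun h => ?_
    have := Nat.le_of_dvd (by omega) (hi ▸ orderOf_dvd_of_pow_eq_one h : i ∣ c)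
    omega

end Cfsg.Lib.DualCount
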