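import Cfsg.Agent.Known.UnitaryGU
import Mathlib

/-! Norm one units are ratios; invariant sesquilinear forms yield invariant hermitian ones. -/

set_option autoImplicit false
set_option linter.style.haveILetI false

open Matrix

namespace Cfsg.Lib.UnitaryDescent

theorem exists_ratio {S : Type*} [CommRing S] [Finite S] (τ : S →+* S) (hτ : ∀ x, τ (τ x) = x) (ω : S)
    (hω : IsUnit (ω - τ ω)) (m : S) (hm : m * τ m = 1) : ∃ y : Sˣ, τ (y : S) * m = y := by
  let T : Sˣ →* Sˣ := Units.map τ.toMonoidHom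
  have hT : ∀ u : Sˣ, T (T u) = u := fun u => Units.ext (hτ _)
  let f : Sˣ →* Sˣ := MonoidHom.id Sˣ * T⁻¹
  let N : Sˣ →* Sˣ := MonoidHom.id Sˣ * T
  have hf : ∀ u, f u = u * (T u)⁻¹ := fun u => rfl
  have hN : ∀ u, N u = u * T u := fun u => rfl
  have h1 : f.ker = N.range := by
    ext u
    constructor
    · intro hu
      rw [MonoidHom.mem_ker, hf, mul_inv_eq_one] at hu
      obtain ⟨x, hx⟩ := NormEngine.exists_norm τ hτ ω hω (u : S) (congrArg Units.val hu).symm u.isUnit
      obtain ⟨v, rfl⟩ : IsUnit x := isUnit_of_dvd_unit ⟨τ x, hx.symm⟩ u.isUnit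
      exact ⟨v, Units.ext hx⟩
    · rintro ⟨v, rfl⟩
      rw [MonoidHom.mem_ker, hf, mul_inv_eq_one, hN, map_mul, hT, mul_comm]
  have h2 : f.range ≤ N.ker := by
    rintro _ ⟨v, rfl⟩
    rw [MonoidHom.mem_ker, hN, hf, map_mul, map_inv, hT]
    rw [← mul_assoc, inv_mul_cancel_right, mul_inv_cancel]
  have h3 : Nat.card N.ker ≤ Nat.card f.range := by
    have a := Subgroup.card_mul_index N.ker
    rw [Subgroup.index_ker] at a
    have b := Subgroup.card_mul_index f.ker
    rw [Subgroup.index_ker, h1] at b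
    have hpos : 0 < Nat.card N.range := Nat.card_pos
    refine le_of_eq (Nat.eq_of_mul_eq_mul_left hpos ?_)
    rw [b, mul_comm]
    exact a
  have h4 := Subgroup.eq_of_le_of_card_ge h2 h3
  obtain ⟨u, rfl⟩ : IsUnit m := IsUnit.of_mul_eq_one _ hm
  obtain ⟨y, hy⟩ : u ∈ f.range := by
    rw [h4, MonoidHom.mem_ker, hN]; exact Units.ext hm
  refine ⟨y, ?_⟩
  rw [← hy, hf]
  exact congrArg Units.val (show T y * (y * (T y)⁻¹) = y by rw [mul_left_comm, mul_inv_cancel, mul_one])

open UnitaryConj

/-- An invertible sesquilinear form gives an invertible hermitian form with at least its symmetries. -/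
theorem exists_hermitian_forall {K : Type*} [Field K] [Finite K] {σ : K →+* K} (hσ : ∀ a, σ (σ a) = a)
    (hne : ∃ a, σ a ≠ a) {ι : Type*} [Fintype ι] [DecidableEq ι] [Nonempty ι] (c : Matrix ι ι K) (hc : c.det ≠ 0) :
    ∃ H : Matrix ι ι K, cst σ H = H ∧ H.det ≠ 0 ∧ ∀ A, cst σ A * c * A = c → cst σ A * H * A = H := by
  classical
  have hcu : IsUnit c.det := isUnit_iff_ne_zero.2 hc
  set M := c⁻¹ * cst σ c with hMdef
  have hcM : c * M = cst σ c := by rw [hMdef, ← mul_assoc, mul_nonsing_inv c hcu, one_mul]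
  have hMc : cst σ M * c * M = c := by
    have : cst σ (c * M) = c := by rw [hcM, cst_cst σ hσ]
    rw [cst_mul, ← hcM, ← mul_assoc] at this
    exact this
  have hMdet : M.det ≠ 0 := by
    rw [hMdef, det_mul, det_cst]
    refine mul_ne_zero ?_ (by simpa using hc)
    rw [det_nonsing_inv, Ring.inverse_eq_inv']; exact inv_ne_zero hc
  have hMu : IsUnit M.det := isUnit_iff_ne_zero.2 hMdet
  let S := Algebra.adjoin K ({M} : Set (Matrix ι ι K))
  have hcomm : ∀ x ∈ S, ∀ B, Commute B M → Commute B x := fun x hx B hB => by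
    induction hx using Algebra.adjoin_induction with
    | mem y hy => rw [Set.mem_singleton_iff] at hy; exact hy ▸ hB
    | algebraMap r => exact (Algebra.commute_algebraMap_left r B).symm
    | add x y _ _ hx hy => exact hx.add_right hy
    | mul x y _ _ hx hy => exact hx.mul_right hy
  have hSc : ∀ x y : S, x * y = y * x := fun x y =>
    Subtype.ext ((hcomm x x.2 y (hcomm y y.2 M (Commute.refl M)).symm).symm.eq)
  letI : CommRing S := { (inferInstance : Ring S) with mul_comm := hSc }
  haveI : Finite S := inferInstance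
  let M' : S := ⟨M, Algebra.subset_adjoin rfl⟩
  have hMi : M⁻¹ ∈ S := by
    have hinj : Function.Injective fun x : S => M' * x := fun x y hxy =>
      Subtype.ext (((Matrix.isUnit_iff_isUnit_det M).2 hMu).mul_left_cancel (congrArg Subtype.val hxy))
    obtain ⟨x, hx⟩ := Finite.surjective_of_injective hinj 1
    have hx' : M * (x : Matrix ι ι K) = 1 := congrArg Subtype.val hx
    rw [Matrix.inv_eq_right_inv hx']
    exact x.2
  have hbase : c⁻¹ * cst σ M * c = M⁻¹ := by
    refine (Matrix.inv_eq_left_inv ?_).symm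
    rw [mul_assoc c⁻¹, mul_assoc c⁻¹, hMc, nonsing_inv_mul c hcu]
  have hmul : ∀ x y : Matrix ι ι K, c⁻¹ * cst σ (x * y) * c = c⁻¹ * cst σ y * c * (c⁻¹ * cst σ x * c) := fun x y => by
    calc c⁻¹ * cst σ (x * y) * c = c⁻¹ * cst σ y * (c * c⁻¹) * cst σ x * c := by
          rw [mul_nonsing_inv c hcu, mul_one, cst_mul]; simp only [mul_assoc]
      _ = _ := by simp only [mul_assoc]
  have halg : ∀ r : K, c⁻¹ * cst σ (algebraMap K (Matrix ι ι K) r) * c = algebraMap K (Matrix ι ι K) (σ r) := fun r => by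
    rw [Algebra.algebraMap_eq_smul_one, Algebra.algebraMap_eq_smul_one, cst_smul, cst_one, Matrix.mul_smul,
      Matrix.smul_mul, mul_one, nonsing_inv_mul c hcu]
  have hstar : ∀ x ∈ S, c⁻¹ * cst σ x * c ∈ S := fun x hx => by
    induction hx using Algebra.adjoin_induction with
    | mem y hy => rw [Set.mem_singleton_iff] at hy; rw [hy, hbase]; exact hMi
    | algebraMap r => rw [halg]; exact S.algebraMap_mem _
    | add x y _ _ hx hy => rw [cst_add, mul_add, add_mul]; exact S.add_mem hx hy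
    | mul x y _ _ hx hy => rw [hmul]; exact S.mul_mem hy hx
  let τ : S →+* S :=
    { toFun := fun x => ⟨c⁻¹ * cst σ x * c, hstar x x.2⟩
      map_one' := Subtype.ext (show c⁻¹ * cst σ (1 : Matrix ι ι K) * c = 1 by
        rw [cst_one, mul_one, nonsing_inv_mul c hcu])
      map_mul' := fun x y => (Subtype.ext (hmul (x : Matrix ι ι K) y)).trans (hSc _ _)
      map_zero' := Subtype.ext (show c⁻¹ * cst σ (0 : Matrix ι ι K) * c = 0 by
        rw [show cst σ (0 : Matrix ι ι K) = 0 by ext i j; simp [cst], mul_zero, zero_mul])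
      map_add' := fun x y => Subtype.ext (show c⁻¹ * cst σ ((x : Matrix ι ι K) + (y : Matrix ι ι K)) * c =
          c⁻¹ * cst σ (x : Matrix ι ι K) * c + c⁻¹ * cst σ (y : Matrix ι ι K) * c by rw [cst_add, mul_add, add_mul]) }
  have hci : cst σ c⁻¹ * cst σ c = 1 := by rw [← cst_mul, mul_nonsing_inv c hcu, cst_one]
  have hττ : ∀ x : S, τ (τ x) = x := fun x => by
    refine Subtype.ext ?_
    show c⁻¹ * cst σ (c⁻¹ * cst σ (x : Matrix ι ι K) * c) * c = x
    rw [cst_mul, cst_mul, cst_cst σ hσ]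
    refine ((Matrix.isUnit_iff_isUnit_det c).2 hcu).mul_left_cancel ?_
    calc c * (c⁻¹ * (cst σ c * ((x : Matrix ι ι K) * cst σ c⁻¹)) * c)
        = (c * c⁻¹) * cst σ c * (x : Matrix ι ι K) * cst σ c⁻¹ * c := by simp only [mul_assoc]
      _ = c * ((x : Matrix ι ι K) * M) * cst σ c⁻¹ * c := by
          rw [mul_nonsing_inv c hcu, one_mul, ← hcM, (hcomm x x.2 M (Commute.refl M)).symm.eq]; simp only [mul_assoc]
      _ = c * (x : Matrix ι ι K) * (M * cst σ c⁻¹ * c) := by simp only [mul_assoc]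
      _ = c * (x : Matrix ι ι K) := by
          have e : cst σ c⁻¹ * c = M⁻¹ := by
            refine (Matrix.inv_eq_left_inv ?_).symm
            rw [mul_assoc, hcM, hci]
          rw [mul_assoc M, e, mul_nonsing_inv M hMu, mul_one]
  have hm : M' * τ M' = 1 := Subtype.ext (show M * (c⁻¹ * cst σ M * c) = 1 by rw [hbase, mul_nonsing_inv M hMu])
  obtain ⟨ω, hω⟩ := hne
  have hωu : IsUnit (algebraMap K S ω - τ (algebraMap K S ω)) := by
    have e : τ (algebraMap K S ω) = algebraMap K S (σ ω) := Subtype.ext (halg ω)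
    rw [e, ← map_sub]
    exact (isUnit_iff_ne_zero.2 (sub_ne_zero.2 (Ne.symm hω))).map _
  obtain ⟨y, hy⟩ := exists_ratio τ hττ _ hωu M' hm
  set Y : Matrix ι ι K := ((y : S) : Matrix ι ι K) with hY
  have hy' : c⁻¹ * cst σ Y * c * M = Y := congrArg Subtype.val hy
  have hYd : Y.det ≠ 0 := by
    have h1 : Y * (((y⁻¹ : Sˣ) : S) : Matrix ι ι K) = 1 := congrArg Subtype.val y.mul_inv
    intro h0
    have := congrArg Matrix.det h1
    rw [det_mul, h0, zero_mul, det_one] at this
    exact zero_ne_one this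
  refine ⟨c * Y, ?_, by rw [det_mul]; exact mul_ne_zero hc hYd, ?_⟩
  · have e : cst σ Y * (c * M) = c * (c⁻¹ * cst σ Y * c * M) := by
      calc cst σ Y * (c * M) = (c * c⁻¹) * cst σ Y * c * M := by rw [mul_nonsing_inv c hcu, one_mul, mul_assoc (cst σ Y) c M]
        _ = _ := by simp only [mul_assoc]
    rw [cst_mul, ← hcM, e, hy']
  · intro A h
    have hcA : cst σ A * cst σ c * A = cst σ c := by
      have := congrArg (cst σ) h
      rw [cst_mul, cst_mul, cst_cst σ hσ, ← mul_assoc] at this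
      exact this
    have hAM : Commute A M := by
      have hAu : IsUnit A.det := by
        refine isUnit_iff_ne_zero.2 fun h0 => hc ?_
        have := congrArg Matrix.det h
        rw [det_mul, h0, mul_zero] at this
        exact this.symm
      have e : cst σ A * c = c * A⁻¹ := by
        conv_rhs => rw [← h, mul_assoc (cst σ A * c), mul_nonsing_inv A hAu, mul_one]
      have e2 : c * (A⁻¹ * M * A) = c * M := by
        rw [← mul_assoc, ← mul_assoc, ← e, mul_assoc (cst σ A) c M, hcM]; exact hcA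
      have e3 := ((Matrix.isUnit_iff_isUnit_det c).2 hcu).mul_left_cancel e2
      show A * M = M * A
      conv_lhs => rw [← e3, ← mul_assoc, ← mul_assoc, mul_nonsing_inv A hAu, one_mul]
    calc cst σ A * (c * Y) * A = cst σ A * c * (Y * A) := by simp only [mul_assoc]
      _ = cst σ A * c * (A * Y) := by rw [(hcomm _ (y : S).2 A hAM).eq]
      _ = c * Y := by rw [← mul_assoc, h]

/-- An invertible invariant sesquilinear form gives an invertible invariant hermitian form. -/
theorem exists_hermitian {K : Type*} [Field K] [Finite K] {σ : K →+* K} (hσ : ∀ a, σ (σ a) = a)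
    (hne : ∃ a, σ a ≠ a) {ι : Type*} [Fintype ι] [DecidableEq ι] [Nonempty ι] (A c : Matrix ι ι K) (hc : c.det ≠ 0)
    (h : cst σ A * c * A = c) : ∃ H : Matrix ι ι K, cst σ H = H ∧ H.det ≠ 0 ∧ cst σ A * H * A = H := by
  obtain ⟨H, h1, h2, h3⟩ := exists_hermitian_forall hσ hne c hc
  exact ⟨H, h1, h2, h3 A h⟩

end Cfsg.Lib.UnitaryDescent
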