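import Cfsg.Agent.Known.SympSemisimple
import Cfsg.Agent.Known.SemisimpleCharpoly
import Cfsg.Agent.Known.UnitaryDescent
import Mathlib

/-! Palindromic polynomials are characteristic polynomials of semisimple symplectic matrices. -/

set_option autoImplicit false
set_option linter.style.haveILetI false

open Polynomial Cfsg.Lib.Classical

namespace Cfsg.Lib.SympModel

universe u v

variable {F : Type u} [Field F] [Finite F]

/-- A regular semisimple map similar to its dual preserves a nondegenerate alternating form. -/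
theorem exists_alt_form {V : Type v} [AddCommGroup V] [Module F V] [FiniteDimensional F V]
    (c : LinearMap.BilinForm F V) (hc : c.Nondegenerate) (a : Module.End F V) (ha : ∀ u w, c (a u) (a w) = c u w)
    (hreg : Function.Injective (fun u => a (a u) - u)) :
    ∃ B : LinearMap.BilinForm F V, B.IsAlt ∧ B.Nondegenerate ∧ ∀ u w, B (a u) (a w) = B u w := by
  classical
  haveI : Finite V := Module.finite_of_finite F
  haveI : Finite (Module.End F V) := Finite.of_injective (fun f : Module.End F V => (f : V → V)) DFunLike.coe_injective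
  obtain ⟨M, hM⟩ : ∃ M : Module.End F V, ∀ u w, c u w = c w (M u) := by
    refine ⟨(c.flip.toDual hc.flip).symm.toLinearMap.comp c, fun u w => ?_⟩
    have h := LinearMap.BilinForm.apply_toDual_symm_apply (hB := hc.flip) (c u) w
    exact h.symm
  have hMinj : Function.Injective M := (injective_iff_map_eq_zero M).2 fun u hu => hc.1 u fun w => by
    rw [hM, hu, map_zero]
  have hMiso : ∀ u w, c (M u) (M w) = c u w := fun u w => by rw [← hM w (M u), ← hM]
  have hainj : Function.Injective a := (injective_iff_map_eq_zero a).2 fun u hu => hc.1 u fun w => by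
    rw [← ha u w, hu]; simp
  have haM : a * M = M * a := by
    refine LinearMap.ext fun u => sub_eq_zero.1 (hc.2 _ fun w => ?_)
    obtain ⟨w, rfl⟩ := LinearMap.surjective_of_injective hainj w
    rw [map_sub, Module.End.mul_apply, Module.End.mul_apply, ha, ← hM, ← hM, ha, sub_self]
  let S := Algebra.adjoin F ({a, M} : Set (Module.End F V))
  have hcomm : ∀ x ∈ S, Commute a x ∧ Commute M x := fun x hx => by
    induction hx using Algebra.adjoin_induction with
    | mem y hy =>
      rcases hy with rfl | rfl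
      · exact ⟨Commute.refl _, haM.symm⟩
      · exact ⟨haM, Commute.refl _⟩
    | algebraMap r => exact ⟨(Algebra.commute_algebraMap_left r a).symm, (Algebra.commute_algebraMap_left r M).symm⟩
    | add x y _ _ hx hy => exact ⟨hx.1.add_right hy.1, hx.2.add_right hy.2⟩
    | mul x y _ _ hx hy => exact ⟨hx.1.mul_right hy.1, hx.2.mul_right hy.2⟩
  have hSc : ∀ x y : S, x * y = y * x := fun x y => by
    refine Subtype.ext ?_
    obtain ⟨x, hx⟩ := x
    show Commute x (y : Module.End F V)
    induction hx using Algebra.adjoin_induction with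
    | mem z hz =>
      rcases hz with rfl | rfl
      · exact (hcomm y y.2).1
      · exact (hcomm y y.2).2
    | algebraMap r => exact Algebra.commute_algebraMap_left r _
    | add z w _ _ hz hw => exact hz.add_left hw
    | mul z w _ _ hz hw => exact hz.mul_left hw
  letI : CommRing S := { (inferInstance : Ring S) with mul_comm := hSc }
  haveI : Finite S := inferInstance
  have hunit : ∀ z : S, Function.Injective (z : Module.End F V) → IsUnit z := fun z hz => by
    have hinj : Function.Injective fun x : S => z * x := fun x y hxy =>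
      Subtype.ext (LinearMap.ext fun u => hz (LinearMap.congr_fun (congrArg Subtype.val hxy) u))
    obtain ⟨x, hx⟩ := Finite.surjective_of_injective hinj 1
    exact IsUnit.of_mul_eq_one x hx
  let a' : S := ⟨a, Algebra.subset_adjoin (Or.inl rfl)⟩
  let M' : S := ⟨M, Algebra.subset_adjoin (Or.inr rfl)⟩
  obtain ⟨au, hau⟩ := hunit a' hainj
  obtain ⟨Mu, hMu⟩ := hunit M' hMinj
  have iso_adj : ∀ (g : Module.End F V) (gi : S), g * (gi : Module.End F V) = 1 → (∀ u w, c (g u) (g w) = c u w) →
      ∀ u w, c (g u) w = c u ((gi : Module.End F V) w) := fun g gi hgi hg u w => by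
    conv_lhs => rw [show w = g ((gi : Module.End F V) w) from (LinearMap.congr_fun hgi w).symm]
    exact hg _ _
  have hai : a * ((↑au⁻¹ : S) : Module.End F V) = 1 := by
    have := congrArg Subtype.val au.mul_inv
    rw [hau] at this
    exact this
  have hMi : M * ((↑Mu⁻¹ : S) : Module.End F V) = 1 := by
    have := congrArg Subtype.val Mu.mul_inv
    rw [hMu] at this
    exact this
  have hadj : ∀ x ∈ S, ∃ y : S, ∀ u w, c (x u) w = c u ((y : Module.End F V) w) := fun x hx => by
    induction hx using Algebra.adjoin_induction with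
    | mem y hy =>
      rcases hy with hy | hy <;> subst y
      · exact ⟨↑au⁻¹, iso_adj a _ hai ha⟩
      · exact ⟨↑Mu⁻¹, iso_adj M _ hMi hMiso⟩
    | algebraMap r => exact ⟨algebraMap F S r, fun u w => by simp⟩
    | add x y _ _ hx hy =>
      obtain ⟨x', hx⟩ := hx
      obtain ⟨y', hy⟩ := hy
      exact ⟨x' + y', fun u w => by simp [hx, hy]⟩
    | mul x y _ _ hx hy =>
      obtain ⟨x', hx⟩ := hx
      obtain ⟨y', hy⟩ := hy
      exact ⟨y' * x', fun u w => by simp [hx, hy, Module.End.mul_apply]⟩
  choose τ₀ hτ₀ using hadj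
  have uniq : ∀ y z : S, (∀ u w, c u ((y : Module.End F V) w) = c u ((z : Module.End F V) w)) → y = z := fun y z h =>
    Subtype.ext (LinearMap.ext fun w => sub_eq_zero.1 (hc.2 _ fun u => by rw [map_sub, h, sub_self]))
  let τ : S →+* S :=
    { toFun := fun x => τ₀ x x.2
      map_one' := uniq _ _ fun u w => by rw [← hτ₀]; simp
      map_mul' := fun x y => by
        rw [hSc (τ₀ x x.2) (τ₀ y y.2)]
        refine uniq _ _ fun u w => ?_
        rw [← hτ₀]
        simp only [Subalgebra.coe_mul, Module.End.mul_apply, ← hτ₀]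
      map_zero' := uniq _ _ fun u w => by rw [← hτ₀]; simp
      map_add' := fun x y => uniq _ _ fun u w => by
        rw [← hτ₀]
        simp only [Subalgebra.coe_add, LinearMap.add_apply, map_add, ← hτ₀] }
  have hτ : ∀ (x : S) u w, c ((x : Module.End F V) u) w = c u ((τ x : Module.End F V) w) := fun x => hτ₀ x x.2
  have hττ : ∀ x, τ (τ x) = x := fun x => uniq _ _ fun u w => by
    have e : M ((τ x : Module.End F V) u) = (τ x : Module.End F V) (M u) := LinearMap.congr_fun (hcomm _ (τ x).2).2.eq u
    rw [← hτ, hM, e, ← hτ, ← hM]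
  have hτa : τ a' = ↑au⁻¹ := uniq _ _ fun u w => by rw [← hτ]; exact iso_adj a _ hai ha u w
  have hτM : τ M' = ↑Mu⁻¹ := uniq _ _ fun u w => by rw [← hτ]; exact iso_adj M _ hMi hMiso u w
  have hω : IsUnit (a' - τ a') := by
    have e : a' - τ a' = (↑au⁻¹ : S) * (a' * a' - 1) := by
      rw [hτa, mul_sub, mul_one, ← mul_assoc, ← hau, Units.inv_mul, one_mul]
    rw [e]
    exact (Units.isUnit _).mul (hunit _ hreg)
  obtain ⟨y, hy⟩ := UnitaryDescent.exists_ratio τ hττ a' hω (-M') (by
    rw [map_neg, neg_mul_neg, hτM, ← hMu, Units.mul_inv])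
  let B : LinearMap.BilinForm F V := c.compl₂ ((y : S) : Module.End F V)
  have hB : ∀ u w, B u w = c u (((y : S) : Module.End F V) w) := fun u w => rfl
  have hskew : ∀ u w, B w u = -B u w := fun u w => by
    rw [hB, hB]
    conv_lhs => rw [show (y : S) = τ (τ y) from (hττ _).symm, ← hτ, hM, ← Module.End.mul_apply,
      show M * ((τ (y : S) : S) : Module.End F V) = ((M' * τ (y : S) : S) : Module.End F V) from rfl]
    rw [show M' * τ (y : S) = -(y : S) by linear_combination -hy]
    simp
  have hyinj : Function.Injective ((y : S) : Module.End F V) := fun u w h => by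
    have := congrArg (fun z => (((y⁻¹ : Sˣ) : S) : Module.End F V) z) h
    simp only [← Module.End.mul_apply, ← Subalgebra.coe_mul, Units.inv_mul, Subalgebra.coe_one, Module.End.one_apply] at this
    exact this
  have hBa : ∀ u w, B (a u) (a w) = B u w := fun u w => by
    rw [hB, hB, ← Module.End.mul_apply, ← (hcomm _ (y : S).2).1.eq, Module.End.mul_apply, ha]
  refine ⟨B, ?_, ⟨fun u h => hc.1 u fun w => ?_, fun w h => hyinj ?_⟩, hBa⟩
  · intro u
    by_cases h2 : (2 : F) = 0
    · -- the diagonal is additive, semilinear and invariant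
      haveI : CharP F 2 := CharTwo.of_one_ne_zero_of_two_eq_zero one_ne_zero h2
      have hadd : ∀ u w, B (u + w) (u + w) = B u u + B w w := fun u w => by
        simp only [map_add, LinearMap.add_apply, hskew u w]; ring
      have hsurj : Function.Surjective (fun u => a u - u) := by
        have hinj : Function.Injective (fun u => a u - u) := fun u w h => hreg (by
          show a (a u) - u = a (a w) - w
          have e : ∀ t, a (a t) - t = a (a t - t) + (a t - t) := fun t => by rw [map_sub]; abel
          rw [e, e, show a u - u = a w - w from h])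
        exact Finite.surjective_of_injective hinj
      obtain ⟨t, rfl⟩ := hsurj u
      show B (a t - t) (a t - t) = 0
      rw [show a t - t = a t + (-1 : F) • t by module, hadd, hBa, map_smul, LinearMap.map_smul₂, smul_smul,
        neg_mul_neg, one_mul, one_smul, ← two_mul, h2, zero_mul]
    · have h := hskew u u
      have : (2 : F) * B u u = 0 := by linear_combination h
      exact (mul_eq_zero.1 this).resolve_left h2
  · obtain ⟨z, rfl⟩ := LinearMap.surjective_of_injective hyinj w
    exact h z
  · rw [map_zero]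
    exact hc.2 _ h

variable (p : ℕ) [Fact p.Prime] [CharP F p]

theorem exists_regular (g : F[X]) (hg : g.Monic) (h0 : g.coeff 0 = 1) (hrev : g.reverse = g) (h1 : g.eval 1 ≠ 0)
    (h2 : g.eval (-1) ≠ 0) :
    ∃ (a : Module.End F (Fin g.natDegree → F)) (B : LinearMap.BilinForm F (Fin g.natDegree → F)) (N : ℕ),
      N.Coprime p ∧ a ^ N = 1 ∧ a.charpoly = g ∧ B.IsAlt ∧ B.Nondegenerate ∧ ∀ u w, B (a u) (a w) = B u w := by
  classical
  set d := g.natDegree with hd
  obtain ⟨A, N, hA, hN, hAN⟩ := SemisimpleCharpoly.exists_model p d g hg rfl (by rw [h0]; exact one_ne_zero)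
  have hdet : A.det = (-1) ^ d := by rw [Matrix.det_eq_sign_charpoly_coeff, hA, h0, mul_one, Fintype.card_fin]
  have hAu : IsUnit A.det := by rw [hdet]; exact (isUnit_one.neg).pow d
  have hATu : IsUnit (Matrix.transpose A).det := by rw [Matrix.det_transpose]; exact hAu
  set D := (Matrix.transpose A)⁻¹ with hD
  have hDN : D ^ N = 1 := by rw [hD, Matrix.inv_pow', ← Matrix.transpose_pow, hAN, Matrix.transpose_one, inv_one]
  have hss : ∀ M : Matrix (Fin d) (Fin d) F, M ^ N = 1 → Module.End.IsSemisimple (Matrix.toLin' M) := fun M hM =>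
    SemisimpleSimilar.semisimple_of_coprime hN M hM
  obtain ⟨e, he⟩ := SemisimpleSimilar.similar (F := F) _ (Fin d → F) (Fin d → F) (Matrix.toLin' A) (Matrix.toLin' D)
    (hss A hAN) (hss D hDN) (by
      rw [Matrix.charpoly_toLin', Matrix.charpoly_toLin', hD, Matrix.charpoly_inv _ ((Matrix.isUnit_iff_isUnit_det _).2 hATu),
        ← Matrix.reverse_charpoly, Matrix.charpoly_transpose, hA, hrev, Matrix.det_transpose, hdet, Fintype.card_fin]
      rw [show Ring.inverse ((-1 : F) ^ d) = (-1) ^ d by
        rw [Ring.inverse_eq_inv', ← inv_pow, inv_neg, inv_one]]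
      rw [map_pow, map_neg, map_one, ← mul_pow]; simp) rfl
  let E := LinearMap.toMatrix' e.toLinearMap
  have hE : Matrix.toLin' E = e.toLinearMap := Matrix.toLin'_toMatrix' _
  have hED : E * A = D * E := Matrix.toLin'.injective (by
    rw [Matrix.toLin'_mul, Matrix.toLin'_mul, hE]; exact LinearMap.ext he)
  have hAEA : Matrix.transpose A * E * A = E := by
    rw [Matrix.mul_assoc, hED, ← Matrix.mul_assoc, hD, Matrix.mul_nonsing_inv _ hATu, Matrix.one_mul]
  have hEdet : E.det ≠ 0 := by
    rw [LinearMap.det_toMatrix']; exact (LinearEquiv.isUnit_det' e).ne_zero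
  have hc := LinearMap.BilinForm.nondegenerate_toBilin'_of_det_ne_zero' _ hEdet
  have haN : Matrix.toLin' A ^ N = 1 := by rw [← Matrix.toLin'_pow, hAN, Matrix.toLin'_one]; rfl
  have hac : (Matrix.toLin' A).charpoly = g := by rw [Matrix.charpoly_toLin', hA]
  have hreg : Function.Injective (fun u : Fin d → F => Matrix.toLin' A (Matrix.toLin' A u) - u) := by
    have hev : ∀ c : F, g.eval c ≠ 0 → Function.Injective (Matrix.toLin' (Matrix.scalar (Fin d) c - A)) := fun c hcc => by
      have : (Matrix.scalar (Fin d) c - A).det ≠ 0 := by rw [← Matrix.eval_charpoly, hA]; exact hcc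
      exact Matrix.mulVec_injective_iff_isUnit.2 ((Matrix.isUnit_iff_isUnit_det _).2 (isUnit_iff_ne_zero.2 this))
    intro u w huw
    have e1 : ∀ t, Matrix.toLin' A (Matrix.toLin' A t) - t =
        Matrix.toLin' (Matrix.scalar (Fin d) (1 : F) - A) (Matrix.toLin' (Matrix.scalar (Fin d) (-1 : F) - A) t) := fun t => by
      simp only [map_sub, LinearMap.sub_apply, map_neg, map_one, Matrix.toLin'_one, LinearMap.neg_apply, LinearMap.id_apply]
      abel
    simp only [e1] at huw
    exact hev _ h2 (hev _ h1 huw)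
  obtain ⟨B, hB1, hB2, hB3⟩ := exists_alt_form (Matrix.toBilin' E) hc (Matrix.toLin' A) (fun u w => by
    rw [Matrix.toBilin'_apply', Matrix.toBilin'_apply', Matrix.toLin'_apply, Matrix.toLin'_apply,
      Matrix.dotProduct_mulVec, Matrix.vecMul_mulVec, ← Matrix.dotProduct_mulVec, Matrix.mulVec_mulVec, hAEA]) hreg
  exact ⟨_, B, N, hN, haN, hac, hB1, hB2, hB3⟩

omit [Finite F] in
theorem charpoly_smul_one (c : F) (k : ℕ) :
    (c • (1 : Module.End F (Fin k ⊕ Fin k → F))).charpoly = (X - C c) ^ (2 * k) := by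
  have : c • (1 : Module.End F (Fin k ⊕ Fin k → F)) = Matrix.toLin' (Matrix.diagonal fun _ => c) := by
    refine LinearMap.ext fun x => funext fun i => ?_
    simp [Matrix.mulVec_diagonal]
  rw [this, Matrix.charpoly_toLin', Matrix.charpoly_diagonal, Finset.prod_const, Finset.card_univ, Fintype.card_sum,
    Fintype.card_fin, two_mul]

/-- The realisation. -/
theorem exists_model (n : ℕ) (f : F[X]) (hf : f.Monic) (hd : f.natDegree = 2 * n) (hrev : f.reverse = f) :
    ∃ A : Matrix.symplecticGroup (Fin n) F, (orderOf A).Coprime p ∧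
      (A : Matrix (Fin n ⊕ Fin n) (Fin n ⊕ Fin n) F).charpoly = f := by
  classical
  have hp := (Fact.out : p.Prime)
  have h0 : f.coeff 0 = 1 := by
    conv_lhs => rw [← hrev]
    rw [Polynomial.coeff_reverse, Polynomial.revAt_le (Nat.zero_le _), Nat.sub_zero]
    exact hf.coeff_natDegree
  obtain ⟨q1, hq1, hq1r⟩ := exists_eq_pow_rootMultiplicity_mul_and_not_dvd f hf.ne_zero 1
  set i := f.rootMultiplicity 1 with hi
  have hq1m : q1.Monic := ((monic_X_sub_C (1 : F)).pow i).of_mul_monic_left (hq1 ▸ hf)
  obtain ⟨g, hg, hgr⟩ := exists_eq_pow_rootMultiplicity_mul_and_not_dvd q1 hq1m.ne_zero (-1)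
  set j := q1.rootMultiplicity (-1) with hj
  have hgm : g.Monic := ((monic_X_sub_C (-1 : F)).pow j).of_mul_monic_left (hg ▸ hq1m)
  rw [dvd_iff_isRoot, IsRoot.def] at hq1r hgr
  have hg1 : g.eval 1 ≠ 0 := fun h => hq1r (by rw [hg, eval_mul, h, mul_zero])
  have hfg : f = (X - C 1) ^ i * ((X - C (-1)) ^ j * g) := by rw [hq1, hg]
  have hrev1 : ∀ c : F, c * c = 1 → (X - C c).reverse = C (-c) * (X - C c) := fun c hc => by
    ext k
    rw [coeff_reverse, natDegree_X_sub_C, coeff_C_mul]
    rcases k with _ | _ | k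
    · rw [revAt_le (by omega)]; simp [coeff_X, hc]
    · rw [revAt_le le_rfl]; simp [coeff_X, coeff_C]
    · rw [revAt_eq_self_of_lt (by omega)]; simp [coeff_X, coeff_C]
  have hrevpow : ∀ (c : F) (k : ℕ), c * c = 1 → ((X - C c) ^ k).reverse = C ((-c) ^ k) * (X - C c) ^ k := fun c k hc => by
    induction k with
    | zero => simp [Polynomial.reverse]
    | succ k ih => rw [pow_succ, reverse_mul_of_domain, ih, hrev1 c hc, pow_succ (-c), map_mul]; ring
  have hne : ∀ (c : F) (k : ℕ), (X - C c) ^ k ≠ 0 := fun c k => pow_ne_zero _ (X_sub_C_ne_zero c)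
  have hgrev : g.reverse = C ((-1 : F) ^ i) * g := by
    have h := hrev
    rw [hfg, reverse_mul_of_domain, reverse_mul_of_domain, hrevpow 1 i (one_mul 1), hrevpow (-1) j (by ring), neg_neg,
      one_pow, map_one, one_mul] at h
    have h' : (X - C 1) ^ i * ((X - C (-1)) ^ j * (C ((-1 : F) ^ i) * g.reverse)) =
        (X - C 1) ^ i * ((X - C (-1)) ^ j * g) := by
      simp only [map_one] at h ⊢
      rw [← h]; ring
    have h'' := mul_left_cancel₀ (hne _ _) (mul_left_cancel₀ (hne _ _) h')
    rw [← h'', ← mul_assoc, ← map_mul, ← mul_pow, neg_mul_neg, one_mul, one_pow, map_one, one_mul, h'']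
  have hiev : ((-1 : F) ^ i) = 1 := by
    have h := congrArg (Polynomial.eval 1) hgrev
    rw [eval_C_mul] at h
    have e : g.reverse.eval 1 = g.eval 1 := by
      rw [Polynomial.reverse, Polynomial.eval_eq_sum_range' (n := g.natDegree + 1) (Nat.lt_succ_of_le
        (le_trans (natDegree_reflect_le) (by simp))), Polynomial.eval_eq_sum_range' (n := g.natDegree + 1) (Nat.lt_succ_self _)]
      simp only [one_pow, mul_one, coeff_reflect]
      rw [← Finset.sum_range_reflect]
      refine Finset.sum_congr rfl fun k hk => ?_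
      rw [Finset.mem_range] at hk
      rw [revAt_le (by omega)]
      congr 1; omega
    rw [e] at h
    exact (mul_right_cancel₀ hg1 (h.symm.trans (one_mul _).symm))
  rw [hiev, map_one, one_mul] at hgrev
  have hg0 : g.coeff 0 = 1 := by
    conv_lhs => rw [← hgrev]
    rw [Polynomial.coeff_reverse, Polynomial.revAt_le (Nat.zero_le _), Nat.sub_zero]
    exact hgm.coeff_natDegree
  obtain ⟨a, B, N, hN, haN, hac, hA, hB, ha⟩ := exists_regular p g hgm hg0 hgrev hg1 hgr
  obtain ⟨r, hr⟩ := Classical.even_finrank_of_symplectic hA hB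
  rw [Module.finrank_fin_fun] at hr
  have hdeg : i + (j + g.natDegree) = 2 * n := by
    rw [← hd, hfg, natDegree_mul (hne _ _) (mul_ne_zero (hne _ _) hgm.ne_zero), natDegree_mul (hne _ _) hgm.ne_zero,
      natDegree_pow, natDegree_pow, natDegree_X_sub_C, natDegree_X_sub_C, mul_one, mul_one]
  -- the two scalar parts
  obtain ⟨s, t, M, hM, hM1, hsplit⟩ : ∃ s t M : ℕ, M.Coprime p ∧ (-1 : F) ^ M = 1 ∧
      (X - C (1 : F)) ^ i * (X - C (-1)) ^ j = (X - C 1) ^ (2 * s) * (X - C (-1)) ^ (2 * t) := by
    by_cases h2 : p = 2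
    · subst h2
      have hneg : (-1 : F) = 1 := CharTwo.neg_eq 1
      refine ⟨n - r, 0, 1, Nat.coprime_one_left _, by rw [pow_one, hneg], ?_⟩
      rw [hneg, ← pow_add, ← pow_add]
      congr 1
      omega
    · have h2' : (2 : F) ≠ 0 := fun h => h2 ((Nat.prime_dvd_prime_iff_eq hp Nat.prime_two).1
        ((CharP.cast_eq_zero_iff F p 2).1 (by exact_mod_cast h)))
      obtain ⟨s, hs⟩ : Even i := by
        by_contra hodd
        rw [Nat.not_even_iff_odd] at hodd
        rw [hodd.neg_one_pow] at hiev
        exact h2' (by linear_combination -hiev)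
      refine ⟨s, n - r - s, 2, (Nat.coprime_primes Nat.prime_two hp).2 (Ne.symm h2), by ring, ?_⟩
      congr 1 <;> congr 1 <;> omega
  let W := ((Fin g.natDegree → F) × (Fin s ⊕ Fin s → F)) × (Fin t ⊕ Fin t → F)
  let aW : Module.End F W := (a.prodMap ((1 : F) • 1)).prodMap ((-1 : F) • 1)
  let π1 : W →ₗ[F] (Fin g.natDegree → F) := (LinearMap.fst _ _ _).comp (LinearMap.fst _ _ _)
  let π2 : W →ₗ[F] (Fin s ⊕ Fin s → F) := (LinearMap.snd _ _ _).comp (LinearMap.fst _ _ _)
  let π3 : W →ₗ[F] (Fin t ⊕ Fin t → F) := LinearMap.snd _ _ _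
  let BW : LinearMap.BilinForm F W :=
    B.compl₁₂ π1 π1 + (sympBilin s F).compl₁₂ π2 π2 + (sympBilin t F).compl₁₂ π3 π3
  have hBW : ∀ u w : W, BW u w = B u.1.1 w.1.1 + sympBilin s F u.1.2 w.1.2 + sympBilin t F u.2 w.2 := fun u w => rfl
  have hWA : BW.IsAlt := fun u => by rw [hBW, hA, sympBilin_isAlt, sympBilin_isAlt]; simp
  have hWd : BW.Nondegenerate := by
    constructor
    · intro u h
      refine Prod.ext (Prod.ext (hB.1 _ fun w => ?_) ((sympBilin_nondegenerate s F).1 _ fun w => ?_))
        ((sympBilin_nondegenerate t F).1 _ fun w => ?_)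
      · simpa [hBW] using h ((w, 0), 0)
      · simpa [hBW] using h ((0, w), 0)
      · simpa [hBW] using h ((0, 0), w)
    · intro u h
      refine Prod.ext (Prod.ext (hB.2 _ fun w => ?_) ((sympBilin_nondegenerate s F).2 _ fun w => ?_))
        ((sympBilin_nondegenerate t F).2 _ fun w => ?_)
      · simpa [hBW] using h ((w, 0), 0)
      · simpa [hBW] using h ((0, w), 0)
      · simpa [hBW] using h ((0, 0), w)
  have hWa : ∀ u w, BW (aW u) (aW w) = BW u w := fun u w => by
    rw [hBW, hBW]
    show B (a u.1.1) (a w.1.1) + sympBilin s F ((1 : F) • u.1.2) ((1 : F) • w.1.2) +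
      sympBilin t F ((-1 : F) • u.2) ((-1 : F) • w.2) = _
    simp [ha]
  have hWc : aW.charpoly = f := by
    rw [show aW = (a.prodMap ((1 : F) • 1)).prodMap ((-1 : F) • 1) from rfl, LinearMap.charpoly_prodMap,
      LinearMap.charpoly_prodMap, hac, charpoly_smul_one, charpoly_smul_one, hfg, ← mul_assoc ((X - C 1) ^ i), hsplit]
    ring
  have hWdim : Module.finrank F W = 2 * n := by
    rw [← hd, ← hWc, LinearMap.charpoly_natDegree]
  obtain ⟨e, he⟩ := Classical.exists_isometry_sympBilin hWA hWd hWdim
  have hWN : aW ^ (N * M) = 1 := by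
    have e1 : ∀ k : ℕ, aW ^ k = ((a ^ k).prodMap (((1 : F) ^ k) • 1)).prodMap (((-1 : F) ^ k) • 1) := fun k => by
      induction k with
      | zero => refine LinearMap.ext fun u => ?_; simp
      | succ k ih =>
        rw [pow_succ, ih, pow_succ, pow_succ (1 : F), pow_succ (-1 : F)]
        refine LinearMap.ext fun u => Prod.ext (Prod.ext rfl ?_) ?_
        · show ((1 : F) ^ k) • ((1 : F) • u.1.2) = ((1 : F) ^ k * 1) • u.1.2
          rw [smul_smul]
        · show ((-1 : F) ^ k) • ((-1 : F) • u.2) = ((-1 : F) ^ k * -1) • u.2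
          rw [smul_smul]
    rw [e1, pow_mul a, haN, one_pow, mul_comm N M, pow_mul (-1 : F), hM1, one_pow, one_pow, one_smul, one_smul]
    exact LinearMap.ext fun u => rfl
  set φ : Module.End F (Fin n ⊕ Fin n → F) := e.conj aW with hφ
  have hφc : φ.charpoly = f := by rw [hφ, LinearEquiv.charpoly_conj, hWc]
  refine ⟨⟨LinearMap.toMatrix' φ, (mem_symplectic_iff_form _).2 fun x y => ?_⟩, ?_, ?_⟩
  · rw [LinearMap.toMatrix'_mulVec, LinearMap.toMatrix'_mulVec, hφ, LinearEquiv.conj_apply_apply,
      LinearEquiv.conj_apply_apply, he, hWa, ← he, e.apply_symm_apply, e.apply_symm_apply]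
  · refine Nat.Coprime.coprime_dvd_left (orderOf_dvd_of_pow_eq_one ?_) (Nat.Coprime.mul_left hN hM)
    refine Subtype.ext ?_
    rw [SubmonoidClass.coe_pow, Submonoid.coe_one]
    refine Matrix.toLin'.injective ?_
    rw [Matrix.toLin'_pow, Matrix.toLin'_toMatrix', Matrix.toLin'_one]
    have e2 : ∀ k : ℕ, φ ^ k = e.conj (aW ^ k) := fun k => by
      induction k with
      | zero => refine LinearMap.ext fun u => ?_; simp
      | succ k ih =>
        rw [pow_succ, ih, pow_succ, hφ]
        exact (LinearEquiv.conj_comp e _ _).symm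
    rw [e2, hWN]
    exact LinearMap.ext fun u => by simp
  · rw [← Matrix.charpoly_toLin', Matrix.toLin'_toMatrix', hφc]

end Cfsg.Lib.SympModel
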