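import Cfsg.Agent.Known.FormSemisimple
import Mathlib

/-! Semisimple classes of symplectic groups. -/

set_option autoImplicit false

open Matrix Cfsg.Lib.Classical

namespace Cfsg.Lib.SympSemisimple

variable {F : Type*} [Field F] [Finite F] {p : ℕ} [Fact p.Prime] [CharP F p] {m : ℕ}

omit [Finite F] [CharP F p] in
theorem cast_ne_zero [CharP F p] {N : ℕ} (hN : N.Coprime p) : (N : F) ≠ 0 := fun h =>
  (Fact.out : p.Prime).not_dvd_one (hN ▸ Nat.dvd_gcd ((CharP.cast_eq_zero_iff F p N).1 h) dvd_rfl)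

omit [Finite F] in
theorem toLin_pow (A : symplecticGroup (Fin m) F) :
    Matrix.toLin' (A : Matrix (Fin m ⊕ Fin m) (Fin m ⊕ Fin m) F) ^ orderOf A = 1 := by
  rw [← Matrix.toLin'_pow, ← SubmonoidClass.coe_pow, pow_orderOf_eq_one, Submonoid.coe_one, Matrix.toLin'_one]
  rfl

theorem isConj_of_linear (A B : symplecticGroup (Fin m) F) (hA : (orderOf A).Coprime p)
    (T : (Fin m ⊕ Fin m → F) ≃ₗ[F] (Fin m ⊕ Fin m → F))
    (hT : ∀ v, T (Matrix.toLin' (A : Matrix (Fin m ⊕ Fin m) (Fin m ⊕ Fin m) F) v) =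
      Matrix.toLin' (B : Matrix (Fin m ⊕ Fin m) (Fin m ⊕ Fin m) F) (T v)) : IsConj A B := by
  obtain ⟨R, hR, hRA⟩ := FormSemisimple.exists_conj_alt (sympBilin m F) (sympBilin_isAlt m F)
    (sympBilin_nondegenerate m F) (Matrix.toLin' (A : Matrix (Fin m ⊕ Fin m) (Fin m ⊕ Fin m) F))
    (Matrix.toLin' (B : Matrix (Fin m ⊕ Fin m) (Fin m ⊕ Fin m) F))
    (fun u w => by rw [Matrix.toLin'_apply, Matrix.toLin'_apply]; exact (mem_symplectic_iff_form _).1 A.2 u w)
    (fun u w => by rw [Matrix.toLin'_apply, Matrix.toLin'_apply]; exact (mem_symplectic_iff_form _).1 B.2 u w)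
    (cast_ne_zero hA) (toLin_pow A) T hT
  refine (isConj_map_iff (sympEquiv m F)).1 (isConj_iff.2 ⟨⟨R, hR⟩, ?_⟩)
  rw [mul_inv_eq_iff_eq_mul]
  exact BilinIsom.ext' fun x => by
    rw [BilinIsom.mul_apply', BilinIsom.mul_apply', sympEquiv_apply, sympEquiv_apply]
    exact hRA x
where
  isConj_map_iff {G H : Type _} [Group G] [Group H] (e : G ≃* H) {a b : G} : IsConj (e a) (e b) ↔ IsConj a b :=
    ⟨fun h => by simpa using e.symm.toMonoidHom.map_isConj h, fun h => e.toMonoidHom.map_isConj h⟩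

theorem isConj_of_charpoly (A B : symplecticGroup (Fin m) F) (hA : (orderOf A).Coprime p) (hB : (orderOf B).Coprime p)
    (hc : (A : Matrix (Fin m ⊕ Fin m) (Fin m ⊕ Fin m) F).charpoly = (B : Matrix (Fin m ⊕ Fin m) (Fin m ⊕ Fin m) F).charpoly) :
    IsConj A B := by
  have hss : ∀ C : symplecticGroup (Fin m) F, (orderOf C).Coprime p →
      Module.End.IsSemisimple (Matrix.toLin' (C : Matrix (Fin m ⊕ Fin m) (Fin m ⊕ Fin m) F)) := fun C hC =>
    PrimeOrd.semisimple (r := orderOf C) (cast_ne_zero hC) one_ne_zero (by rw [toLin_pow, one_smul])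
  obtain ⟨T, hT⟩ := SemisimpleSimilar.similar (F := F) _ (Fin m ⊕ Fin m → F) (Fin m ⊕ Fin m → F)
    (Matrix.toLin' (A : Matrix (Fin m ⊕ Fin m) (Fin m ⊕ Fin m) F))
    (Matrix.toLin' (B : Matrix (Fin m ⊕ Fin m) (Fin m ⊕ Fin m) F)) (hss A hA) (hss B hB)
    (by rw [Matrix.charpoly_toLin', Matrix.charpoly_toLin']; exact hc) rfl
  exact isConj_of_linear A B hA T hT

end Cfsg.Lib.SympSemisimple
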