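import Mathlib

/-! Polynomials whose roots are `r`-th roots of unity, `r` prime. -/

set_option autoImplicit false
set_option linter.style.haveILetI false

open Polynomial UniqueFactorizationMonoid

namespace Cfsg.Lib.PrimeOrderPoly

variable {F : Type*} [Field F] [Fintype F] {p r : ℕ} [Fact p.Prime] [CharP F p] [Fact r.Prime]

/-- The irreducible factors of the cyclotomic polynomial. -/
noncomputable def factorSet (F : Type*) [Field F] (r : ℕ) : Finset F[X] := by
  classical exact (normalizedFactors (cyclotomic r F)).toFinset

theorem mem_factorSet (g : F[X]) (hg : g ∈ factorSet F r) : g.Monic ∧ Irreducible g ∧ g ∣ cyclotomic r F := by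
  classical
  rw [factorSet, Multiset.mem_toFinset] at hg
  refine ⟨?_, irreducible_of_normalized_factor g hg, dvd_of_mem_normalizedFactors hg⟩
  rw [← normalize_normalized_factor g hg]
  exact Polynomial.monic_normalize (irreducible_of_normalized_factor g hg).ne_zero

omit [Fintype F] [Fact r.Prime] in
theorem cast_prime_ne_zero (hr : r.Prime) (hrp : r ≠ p) : (r : F) ≠ 0 := fun h =>
  hrp ((Nat.prime_dvd_prime_iff_eq (Fact.out : p.Prime) hr).1 ((CharP.cast_eq_zero_iff F p r).1 h)).symm

theorem natDegree_factorSet (hrp : r ≠ p) (g : F[X]) (hg : g ∈ factorSet F r) :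
    g.natDegree = orderOf (Fintype.card F : ZMod r) := by
  classical
  obtain ⟨k, -, hk⟩ := FiniteField.card F p
  have hcop : p.Coprime r := (Nat.coprime_primes (Fact.out : p.Prime) (Fact.out : r.Prime)).2 (Ne.symm hrp)
  rw [Polynomial.natDegree_of_dvd_cyclotomic_of_irreducible (f := k) hk hcop
    (mem_factorSet g hg).2.2 (mem_factorSet g hg).2.1, ← orderOf_units, ZMod.coe_unitOfCoprime, hk]

theorem card_factorSet (hrp : r ≠ p) :
    (factorSet F r).card * orderOf (Fintype.card F : ZMod r) = r - 1 := by
  classical
  obtain ⟨k, -, hk⟩ := FiniteField.card F p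
  have hcop : p.Coprime r := (Nat.coprime_primes (Fact.out : p.Prime) (Fact.out : r.Prime)).2 (Ne.symm hrp)
  rw [factorSet, Polynomial.normalizedFactors_cyclotomic_card (f := k) hk hcop,
    ← orderOf_units, ZMod.coe_unitOfCoprime, ← hk, Nat.totient_prime (Fact.out : r.Prime), Nat.div_mul_cancel]
  rw [← Nat.totient_prime (Fact.out : r.Prime), hk, ← ZMod.coe_unitOfCoprime _ (hcop.pow_left (k : ℕ)), orderOf_units]
  calc orderOf (ZMod.unitOfCoprime _ (hcop.pow_left (k : ℕ))) ∣ Fintype.card (ZMod r)ˣ := orderOf_dvd_card
    _ = Nat.totient r := ZMod.card_units_eq_totient r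

theorem one_notMem (hrp : r ≠ p) : X - C (1 : F) ∉ factorSet F r := fun h => by
  obtain ⟨-, -, hd⟩ := mem_factorSet _ h
  rw [dvd_iff_isRoot, IsRoot, eval_one_cyclotomic_prime] at hd
  exact cast_prime_ne_zero (Fact.out : r.Prime) hrp hd

/-- Irreducible divisors of `X ^ r - 1`. -/
theorem irreducible_dvd (g : F[X]) (hg : g.Monic) (hgi : Irreducible g) :
    g ∣ X ^ r - 1 ↔ g = X - C 1 ∨ g ∈ factorSet F r := by
  classical
  rw [← cyclotomic_prime_mul_X_sub_one F r, hgi.prime.dvd_mul, map_one]
  constructor
  · rintro (h | h)
    · right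
      rw [factorSet, Multiset.mem_toFinset]
      obtain ⟨g', hg', ha⟩ := exists_mem_normalizedFactors_of_dvd (cyclotomic_ne_zero r F) hgi h
      rwa [eq_of_monic_of_associated hg (mem_factorSet (r := r) g' (by rw [factorSet, Multiset.mem_toFinset]; exact hg')).1 ha]
    · left
      rw [← C_1] at h ⊢
      exact eq_of_monic_of_associated hg (monic_X_sub_C 1) (hgi.associated_of_dvd (irreducible_X_sub_C 1) h)
  · rintro (rfl | h)
    · exact Or.inr dvd_rfl
    · exact Or.inl (mem_factorSet g h).2.2

/-- Counting polynomials with all roots `r`-th roots of unity. -/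
theorem card_polys (hrp : r ≠ p) {i : ℕ} (hi : i = orderOf (Fintype.card F : ZMod r)) (hi0 : 0 < i) (n : ℕ) :
    Nat.card {f : F[X] // f.Monic ∧ f.natDegree = n ∧ ∀ g, g.Monic → Irreducible g → g ∣ f → g ∣ X ^ r - 1} =
      Nat.choose (n / i + (factorSet F r).card) (factorSet F r).card := by
  classical
  set N := n / i with hN
  set S := factorSet F r with hS
  have hle : i * N ≤ n := Nat.mul_div_le n i
  let L : Sym (Option {g // g ∈ S}) N → Multiset F[X] := fun s =>
    Multiset.replicate (n - i * N) (X - C 1) +
      (s : Multiset (Option {g // g ∈ S})).bind fun o => o.elim (Multiset.replicate i (X - C 1)) fun g => {g.1}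
  have hmem : ∀ s g, g ∈ L s → g.Monic ∧ Irreducible g ∧ (g = X - C 1 ∨ g ∈ S) := fun s g hg => by
    have key : g = X - C 1 ∨ g ∈ S := by
      rcases Multiset.mem_add.1 hg with h | h
      · exact Or.inl (Multiset.eq_of_mem_replicate h)
      · obtain ⟨o, -, ho⟩ := Multiset.mem_bind.1 h
        rcases o with _ | g'
        · exact Or.inl (Multiset.eq_of_mem_replicate ho)
        · simp only [Option.elim_some, Multiset.mem_singleton] at ho
          exact Or.inr (ho ▸ g'.2)
    rcases key with rfl | h
    · exact ⟨monic_X_sub_C 1, irreducible_X_sub_C 1, Or.inl rfl⟩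
    · exact ⟨(mem_factorSet g h).1, (mem_factorSet g h).2.1, Or.inr h⟩
  have hdeg : ∀ s, ((L s).map natDegree).sum = n := fun s => by
    simp only [L, Multiset.map_add, Multiset.map_bind, Multiset.sum_add, Multiset.sum_bind, Multiset.map_replicate,
      natDegree_X_sub_C, Multiset.sum_replicate, smul_eq_mul, mul_one]
    rw [Multiset.map_congr rfl (g := fun _ => i) (fun o _ => by
      rcases o with _ | g
      · simp only [Option.elim_none, Multiset.map_replicate, natDegree_X_sub_C, Multiset.sum_replicate, smul_eq_mul, mul_one]
      · simp [natDegree_factorSet hrp g.1 g.2, hi]), Multiset.map_const', Multiset.sum_replicate, Sym.card_coe, smul_eq_mul,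
      mul_comm N i]
    omega
  have hnorm : ∀ s, normalizedFactors (L s).prod = L s := fun s => by
    rw [normalizedFactors_prod_eq _ (fun a ha => (hmem s a ha).2.1)]
    conv_rhs => rw [← Multiset.map_id (L s)]
    exact Multiset.map_congr rfl fun a ha => (hmem s a ha).1.normalize_eq_self
  have hmon : ∀ s, (L s).prod.Monic := fun s => by
    have := monic_multiset_prod_of_monic (L s) id (fun a ha => (hmem s a ha).1)
    rwa [Multiset.map_id] at this
  let Φ : Sym (Option {g // g ∈ S}) N → {f : F[X] // f.Monic ∧ f.natDegree = n ∧
      ∀ g, g.Monic → Irreducible g → g ∣ f → g ∣ X ^ r - 1} := fun s => by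
    refine ⟨(L s).prod, hmon s, ?_, ?_⟩
    · rw [natDegree_multiset_prod_of_monic _ (fun a ha => (hmem s a ha).1), hdeg]
    · intro g hg hgi hd
      obtain ⟨g', hg', ha⟩ := exists_mem_normalizedFactors_of_dvd
        (hmon s).ne_zero hgi hd
      rw [hnorm] at hg'
      rw [eq_of_monic_of_associated hg (hmem s g' hg').1 ha, irreducible_dvd _ (hmem s g' hg').1 (hmem s g' hg').2.1]
      exact (hmem s g' hg').2.2
  have hcount : ∀ s (g : {g // g ∈ S}), (L s).count g.1 = Multiset.count (some g) (s : Multiset (Option {g // g ∈ S})) := by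
    intro s g
    have hne : g.1 ≠ X - C 1 := fun e => one_notMem hrp (e ▸ g.2)
    simp only [L, Multiset.count_add, Multiset.count_replicate, if_neg (Ne.symm hne), zero_add]
    induction (s : Multiset (Option {g // g ∈ S})) using Multiset.induction with
    | empty => simp
    | cons o m ih =>
      rw [Multiset.cons_bind, Multiset.count_add, ih, Multiset.count_cons]
      rcases o with _ | o
      · rw [Option.elim_none, Multiset.count_replicate, if_neg (Ne.symm hne), zero_add, if_neg (by simp)]
        rfl
      · rw [Option.elim_some, Multiset.count_singleton, add_comm]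
        congr 1
        by_cases h : g = o
        · rw [if_pos (congrArg Subtype.val h), if_pos (congrArg some h)]
        · rw [if_neg (fun e => h (Subtype.ext e)), if_neg (fun e => h (Option.some.inj e))]
  have hinj : Function.Injective Φ := fun s s' h => by
    have h' : L s = L s' := by rw [← hnorm s, ← hnorm s']; exact congrArg normalizedFactors (congrArg Subtype.val h)
    have hsome : ∀ g, Multiset.count (some g) (s : Multiset (Option {g // g ∈ S})) =
        Multiset.count (some g) (s' : Multiset (Option {g // g ∈ S})) := fun g => by rw [← hcount, ← hcount, h']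
    refine Sym.coe_injective (Multiset.ext.2 fun o => ?_)
    rcases o with _ | g
    · have key : ∀ t : Sym (Option {g // g ∈ S}) N, Multiset.count none (t : Multiset (Option {g // g ∈ S})) +
          ∑ g : {g // g ∈ S}, Multiset.count (some g) (t : Multiset (Option {g // g ∈ S})) = N := fun t => by
        rw [← Fintype.sum_option (fun o => Multiset.count o (t : Multiset (Option {g // g ∈ S}))),
          Multiset.sum_count_eq_card (fun o _ => Finset.mem_univ o), Sym.card_coe]
      have k1 := key s
      have k2 := key s'
      rw [Finset.sum_congr rfl (fun g _ => hsome g)] at k1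
      omega
    · exact hsome g
  have hsurj : Function.Surjective Φ := by
    rintro ⟨f, hf, hd, hfac⟩
    set M := normalizedFactors f with hM
    have hM1 : ∀ g ∈ M, g.Monic ∧ (g = X - C 1 ∨ g ∈ S) := fun g hg => by
      have hgi := irreducible_of_normalized_factor g hg
      have hgm : g.Monic := by rw [← normalize_normalized_factor g hg]; exact Polynomial.monic_normalize hgi.ne_zero
      exact ⟨hgm, (irreducible_dvd g hgm hgi).1 (hfac g hgm hgi (dvd_of_mem_normalizedFactors hg))⟩
    have hprod : M.prod = f := by rw [prod_normalizedFactors_eq hf.ne_zero, hf.normalize_eq_self]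
    let G := (M.filter (fun g => g ∈ S)).attach.map fun g => (⟨g.1, (Multiset.mem_filter.1 g.2).2⟩ : {g // g ∈ S})
    have hG : G.map Subtype.val = M.filter (fun g => g ∈ S) := by
      simp only [G, Multiset.map_map, Function.comp_def]
      exact Multiset.attach_map_val _
    have hrest : M.filter (fun g => ¬ g ∈ S) = Multiset.replicate (M.filter (fun g => ¬ g ∈ S)).card (X - C 1) :=
      Multiset.eq_replicate_card.2 fun g hg =>
        (hM1 g (Multiset.mem_filter.1 hg).1).2.resolve_right (Multiset.mem_filter.1 hg).2
    have hdM : n = (M.filter (fun g => ¬ g ∈ S)).card + i * G.card := by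
      rw [← hd, ← hprod, natDegree_multiset_prod_of_monic _ (fun a ha => (hM1 a ha).1)]
      conv_lhs => rw [← Multiset.filter_add_not (fun g => g ∈ S) M, Multiset.map_add, Multiset.sum_add, hrest,
        Multiset.map_replicate, Multiset.sum_replicate, natDegree_X_sub_C, smul_eq_mul, mul_one]
      rw [← hG, Multiset.map_map, Multiset.map_congr rfl (g := fun _ => i) (fun g _ => by
        simp [natDegree_factorSet hrp g.1 g.2, hi]), Multiset.map_const', Multiset.sum_replicate, smul_eq_mul]
      ring
    have hGN : G.card ≤ N := (Nat.le_div_iff_mul_le hi0).2 (by rw [mul_comm]; omega)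
    refine ⟨⟨Multiset.replicate (N - G.card) none + G.map some, by simp; omega⟩, Subtype.ext ?_⟩
    show (L _).prod = f
    refine Eq.trans ?_ hprod
    congr 1
    simp only [L, Sym.coe_mk, Multiset.add_bind, Multiset.bind_map, Option.elim_some]
    rw [Multiset.bind_singleton, hG,
      show (Multiset.replicate (N - G.card) (none : Option {g // g ∈ S})).bind
          (fun o => o.elim (Multiset.replicate i (X - C (1 : F))) fun g => {g.1}) =
        Multiset.replicate ((N - G.card) * i) (X - C 1) by
      induction (N - G.card) with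
      | zero => simp
      | succ k ih => rw [Multiset.replicate_succ, Multiset.cons_bind, ih, Option.elim_none, ← Multiset.replicate_add]; congr 1; ring]
    rw [← add_assoc, ← Multiset.replicate_add]
    conv_rhs => rw [← Multiset.filter_add_not (fun g => g ∈ S) M, hrest, add_comm]
    congr 2
    obtain ⟨d, hd'⟩ := Nat.exists_eq_add_of_le hGN
    rw [hd', mul_add] at hle
    rw [hd', Nat.add_sub_cancel_left, mul_add, mul_comm d i]
    omega
  rw [← Nat.card_eq_of_bijective Φ ⟨hinj, hsurj⟩, Nat.card_eq_fintype_card, Sym.card_sym_eq_choose,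
    Fintype.card_option, Fintype.card_coe, show S.card + 1 + N = N + S.card + 1 by ring, Nat.add_sub_cancel, Nat.choose_symm_add]

end Cfsg.Lib.PrimeOrderPoly
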