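import Cfsg.Agent.Known.OmegaClasses
import Cfsg.Agent.Classical.Orth.StdForms
import Mathlib

/-! The Dickson invariant as the parity of `rank (g - 1)`. -/

set_option autoImplicit false
set_option linter.style.haveILetI false
set_option linter.unusedSectionVars false

namespace Cfsg.Lib.OmegaCls

open Cfsg.Lib.Classical Cfsg.Lib.Classical.Refl

universe u

variable {F : Type u} [Field F] {ι : Type} [Fintype ι] [DecidableEq ι] {Q : QuadraticForm F (ι → F)}

theorem gap_one (g : Cfsg.isometryGroup F (⇑Q)) :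
    gap Q g 1 = (((g : Matrix.GeneralLinearGroup ι F) : Matrix ι ι F) - 1).rank := by
  have h := LinearMap.finrank_range_add_finrank_ker
    (Matrix.toLin' (((g : Matrix.GeneralLinearGroup ι F) : Matrix ι ι F) - 1))
  rw [Module.finrank_fintype_fun_eq_card] at h
  rw [Matrix.rank, ← Matrix.toLin'_apply', gap, ← map_sub,
    show mat Q g - mat Q 1 = ((g : Matrix.GeneralLinearGroup ι F) : Matrix ι ι F) - 1 from rfl]
  omega

theorem dickson_rank (hQ : (QuadraticMap.polarBilin Q).Nondegenerate) (g : Cfsg.isometryGroup F (⇑Q)) :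
    dickson Q hQ g = 1 ↔ Even (((g : Matrix.GeneralLinearGroup ι F) : Matrix ι ι F) - 1).rank := by
  rw [← gap_one]
  show (-1 : ℤˣ) ^ gap Q g 1 = 1 ↔ _
  exact neg_one_pow_eq_one_iff_even (by decide)

theorem omega_iff_rank_even [Fintype F] [CharP F 2] (hQ : (QuadraticMap.polarBilin Q).Nondegenerate)
    (hn : 1 ≤ Fintype.card ι) (h : Fintype.card F ≠ 2 ∨ Fintype.card ι ≠ 4) (g : Cfsg.isometryGroup F (⇑Q)) :
    g ∈ Cfsg.Omega F (⇑Q) ↔ Even (((g : Matrix.GeneralLinearGroup ι F) : Matrix ι ι F) - 1).rank := by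
  rw [dickson_iff hQ hn h g, dickson_rank hQ g]

/-- Transport along an equality of forms. -/
theorem omega_iff_rank_even' [Fintype F] [CharP F 2] {f : (ι → F) → F} (hf : ⇑Q = f)
    (hQ : (QuadraticMap.polarBilin Q).Nondegenerate)
    (hn : 1 ≤ Fintype.card ι) (h : Fintype.card F ≠ 2 ∨ Fintype.card ι ≠ 4) (g : Cfsg.isometryGroup F f) :
    g ∈ Cfsg.Omega F f ↔ Even (((g : Matrix.GeneralLinearGroup ι F) : Matrix ι ι F) - 1).rank := by
  subst hf; exact omega_iff_rank_even hQ hn h g

end Cfsg.Lib.OmegaCls
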