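import Cfsg.Agent.Known.UnitaryDescent
import Cfsg.Agent.Known.SemisimpleCharpoly
import Mathlib

/-! Semisimple unitary matrices: every norm one determinant occurs in the unitary centraliser. -/

set_option autoImplicit false
set_option linter.style.haveILetI false

open Matrix Polynomial

namespace Cfsg.Lib.UnitarySemisimple

open UnitaryConj

variable {K : Type*} [Field K]

/-- Two diagonal blocks. -/
def bd {a b : ℕ} (A : Matrix (Fin a) (Fin a) K) (D : Matrix (Fin b) (Fin b) K) : Matrix (Fin (a + b)) (Fin (a + b)) K :=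
  Matrix.reindexAlgEquiv K K finSumFinEquiv (Matrix.fromBlocks A 0 0 D)

variable {a b : ℕ}

theorem bd_mul (A A' : Matrix (Fin a) (Fin a) K) (D D' : Matrix (Fin b) (Fin b) K) :
    bd A D * bd A' D' = bd (A * A') (D * D') := by
  rw [bd, bd, bd, ← map_mul, Matrix.fromBlocks_multiply]; simp

theorem bd_one : bd (1 : Matrix (Fin a) (Fin a) K) (1 : Matrix (Fin b) (Fin b) K) = 1 := by
  rw [bd, Matrix.fromBlocks_one, map_one]

theorem bd_pow (A : Matrix (Fin a) (Fin a) K) (D : Matrix (Fin b) (Fin b) K) (k : ℕ) :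
    bd A D ^ k = bd (A ^ k) (D ^ k) := by
  induction k with
  | zero => simp [bd_one]
  | succ k ih => rw [pow_succ, ih, bd_mul, ← pow_succ, ← pow_succ]

theorem charpoly_bd (A : Matrix (Fin a) (Fin a) K) (D : Matrix (Fin b) (Fin b) K) :
    (bd A D).charpoly = A.charpoly * D.charpoly := by
  rw [bd, Matrix.reindexAlgEquiv_apply, Matrix.charpoly_reindex, Matrix.charpoly_fromBlocks_zero₁₂]

theorem det_bd (A : Matrix (Fin a) (Fin a) K) (D : Matrix (Fin b) (Fin b) K) :
    (bd A D).det = A.det * D.det := by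
  rw [bd, Matrix.reindexAlgEquiv_apply, Matrix.det_reindex_self, Matrix.det_fromBlocks_zero₁₂]

theorem cst_bd (σ : K →+* K) (A : Matrix (Fin a) (Fin a) K) (D : Matrix (Fin b) (Fin b) K) :
    cst σ (bd A D) = bd (cst σ A) (cst σ D) := by
  rw [bd, bd, Matrix.reindexAlgEquiv_apply, Matrix.reindexAlgEquiv_apply]
  ext x y
  simp only [cst, Matrix.transpose_apply, Matrix.map_apply, Matrix.reindex_apply, Matrix.submatrix_apply]
  rcases finSumFinEquiv.symm x with i | i <;> rcases finSumFinEquiv.symm y with j | j <;> simp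

/-- Semisimple of finite order prime to `p`. -/
def SS (p : ℕ) {n : ℕ} (A : Matrix (Fin n) (Fin n) K) : Prop := ∃ N : ℕ, N.Coprime p ∧ A ^ N = 1

variable {p : ℕ}

theorem SS.isUnit_det [Fact p.Prime] {n : ℕ} {A : Matrix (Fin n) (Fin n) K} (h : SS p A) : IsUnit A.det := by
  obtain ⟨N, hN, hA⟩ := h
  have hN0 : N ≠ 0 := by
    rintro rfl
    rw [Nat.coprime_zero_left] at hN
    exact (Fact.out : p.Prime).ne_one hN
  refine isUnit_of_dvd_one ⟨A.det ^ (N - 1), ?_⟩
  rw [← pow_succ', Nat.sub_add_cancel (by omega), ← det_pow, hA, det_one]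

theorem SS.bd {A : Matrix (Fin a) (Fin a) K} {D : Matrix (Fin b) (Fin b) K} (hA : SS p A) (hD : SS p D) :
    SS p (bd A D) := by
  obtain ⟨N, hN, hA⟩ := hA
  obtain ⟨M, hM, hD⟩ := hD
  exact ⟨N * M, Nat.Coprime.mul_left hN hM, by
    rw [bd_pow, pow_mul, hA, one_pow, mul_comm N M, pow_mul, hD, one_pow, bd_one]⟩

variable [Finite K] [Fact p.Prime] [CharP K p]

theorem similar {n : ℕ} {A B : Matrix (Fin n) (Fin n) K} (hA : SS p A) (hB : SS p B)
    (h : A.charpoly = B.charpoly) : ∃ T : Matrix (Fin n) (Fin n) K, T.det ≠ 0 ∧ T * A = B * T := by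
  have key : ∀ {M : Matrix (Fin n) (Fin n) K} (hM : SS p M), (orderOf ((Matrix.isUnit_iff_isUnit_det M).2 hM.isUnit_det).unit).Coprime p := by
    intro M hM
    obtain ⟨N, hN, hMN⟩ := id hM
    refine Nat.Coprime.coprime_dvd_left (orderOf_dvd_of_pow_eq_one (Units.ext ?_)) hN
    rw [Units.val_pow_eq_pow_val, IsUnit.unit_spec, hMN, Units.val_one]
  obtain ⟨P, hP⟩ := isConj_iff.1 (SemisimpleCharpoly.isConj_GL_of_charpoly p _ _ (key hA) (key hB)
    (by rw [IsUnit.unit_spec, IsUnit.unit_spec]; exact h))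
  refine ⟨(P : Matrix (Fin n) (Fin n) K), Matrix.GeneralLinearGroup.det_ne_zero P, ?_⟩
  rw [mul_inv_eq_iff_eq_mul] at hP
  exact congrArg Units.val hP

theorem exists_ss {n : ℕ} (f : K[X]) (hf : f.Monic) (hd : f.natDegree = n) (h0 : f.coeff 0 ≠ 0) :
    ∃ A : Matrix (Fin n) (Fin n) K, SS p A ∧ A.charpoly = f := by
  obtain ⟨A, N, hA, hN, hAN⟩ := SemisimpleCharpoly.exists_model p n f hf hd h0
  exact ⟨A, ⟨N, hN, hAN⟩, hA⟩

omit [Finite K] [CharP K p] in
theorem coeff_zero_ne {n : ℕ} {A : Matrix (Fin n) (Fin n) K} (h : SS p A) : A.charpoly.coeff 0 ≠ 0 := by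
  intro h0
  have := h.isUnit_det.ne_zero
  rw [Matrix.det_eq_sign_charpoly_coeff, h0, mul_zero] at this
  exact this rfl

variable {σ : K →+* K}

omit [Finite K] [CharP K p] in
theorem SS.dual {n : ℕ} {A : Matrix (Fin n) (Fin n) K} (h : SS p A) : SS p ((cst σ A)⁻¹) := by
  obtain ⟨N, hN, hA⟩ := h
  refine ⟨N, hN, ?_⟩
  rw [Matrix.inv_pow']
  have : ∀ k, cst σ A ^ k = cst σ (A ^ k) := fun k => by
    induction k with
    | zero => simp [cst_one]
    | succ k ih => rw [pow_succ, ih, ← cst_mul, ← pow_succ']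
  rw [this, hA, cst_one, inv_one]

omit [Finite K] [CharP K p] in
theorem dual_dual (hσ : ∀ x, σ (σ x) = x) {n : ℕ} {A : Matrix (Fin n) (Fin n) K} (h : SS p A) :
    (cst σ ((cst σ A)⁻¹))⁻¹ = A := by
  refine Matrix.inv_eq_left_inv ?_
  conv_lhs => arg 1; rw [← cst_cst σ hσ A]
  rw [← cst_mul, nonsing_inv_mul _ (by rw [det_cst]; exact h.isUnit_det.map σ), cst_one]

theorem charpoly_dual {n : ℕ} {A B : Matrix (Fin n) (Fin n) K} (hA : SS p A) (hB : SS p B)
    (h : A.charpoly = B.charpoly) : ((cst σ A)⁻¹).charpoly = ((cst σ B)⁻¹).charpoly := by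
  obtain ⟨T, hT, hTA⟩ := similar hA hB h
  have hA' : IsUnit (cst σ A).det := by rw [det_cst]; exact hA.isUnit_det.map σ
  have hB' : IsUnit (cst σ B).det := by rw [det_cst]; exact hB.isUnit_det.map σ
  have hT' : IsUnit (cst σ T).det := by rw [det_cst]; exact (isUnit_iff_ne_zero.2 hT).map σ
  have e : cst σ A * cst σ T = cst σ T * cst σ B := by rw [← cst_mul, ← cst_mul, hTA]
  obtain ⟨u, hu⟩ := (Matrix.isUnit_iff_isUnit_det _).2 hT'
  have e2 : (cst σ A)⁻¹ = cst σ T * (cst σ B)⁻¹ * (u⁻¹ : (Matrix (Fin n) (Fin n) K)ˣ) := by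
    refine Matrix.inv_eq_left_inv ?_
    rw [mul_assoc, mul_assoc, ← mul_assoc ((cst σ B)⁻¹)]
    have e3 : ((u⁻¹ : (Matrix (Fin n) (Fin n) K)ˣ) : Matrix (Fin n) (Fin n) K) * cst σ A =
        cst σ B * (u⁻¹ : (Matrix (Fin n) (Fin n) K)ˣ) := by
      rw [Units.eq_mul_inv_iff_mul_eq, mul_assoc, hu, e, ← hu, ← mul_assoc, Units.inv_mul, one_mul]
    rw [mul_assoc ((cst σ B)⁻¹), e3, ← mul_assoc ((cst σ B)⁻¹), nonsing_inv_mul _ hB', one_mul, ← hu, Units.mul_inv]
  rw [e2, ← hu, Matrix.coe_units_inv]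
  exact Matrix.charpoly_units_conj u _

/-- A matrix similar to its dual is similar to a unitary matrix. -/
theorem exists_unitary (hσ : ∀ x, σ (σ x) = x) (hne : ∃ x, σ x ≠ x) {n : ℕ} (hn : 0 < n)
    {A : Matrix (Fin n) (Fin n) K} (hA : SS p A) (h : A.charpoly = ((cst σ A)⁻¹).charpoly) :
    ∃ x : Matrix (Fin n) (Fin n) K, x.det ≠ 0 ∧ cst σ (x * A * x⁻¹) * (x * A * x⁻¹) = 1 := by
  haveI : Nonempty (Fin n) := ⟨⟨0, hn⟩⟩
  obtain ⟨c, hc, hcA⟩ := similar hA hA.dual h
  obtain ⟨H, hH, hHd, hHA⟩ := UnitaryDescent.exists_hermitian hσ hne A c hc (by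
    rw [mul_assoc, hcA, ← mul_assoc, mul_nonsing_inv _ (by rw [det_cst]; exact hA.isUnit_det.map σ), one_mul])
  obtain ⟨x, hx0, -, hx, -⟩ := exists_root hσ hne H hH hHd
  have hxu : IsUnit x.det := isUnit_iff_ne_zero.2 hx0
  refine ⟨x, hx0, ?_⟩
  calc cst σ (x * A * x⁻¹) * (x * A * x⁻¹) = cst σ x⁻¹ * (cst σ A * (cst σ x * x) * A) * x⁻¹ := by
        rw [cst_mul, cst_mul]; simp only [mul_assoc]
    _ = cst σ x⁻¹ * cst σ x * (x * x⁻¹) := by rw [hx, hHA, ← hx]; simp only [mul_assoc]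
    _ = 1 := by rw [← cst_mul, Matrix.mul_nonsing_inv x hxu, cst_one, one_mul]

/-- Polynomials in the companion matrix of an irreducible polynomial take every nonzero determinant. -/
theorem exists_irreducible_block (f : K[X]) (hf : f.Monic) (hfi : Irreducible f) (h0 : f.coeff 0 ≠ 0) :
    ∃ A : Matrix (Fin f.natDegree) (Fin f.natDegree) K, SS p A ∧ A.charpoly = f ∧
      ∀ e : K, e ≠ 0 → ∃ P : K[X], (aeval A P).det = e := by
  classical
  haveI := Fact.mk hfi
  haveI : Module.Finite K (AdjoinRoot f) := hf.finite_adjoinRoot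
  haveI : Finite (AdjoinRoot f) := Module.finite_of_finite K
  let pb := AdjoinRoot.powerBasis hf.ne_zero
  have hdim : pb.dim = f.natDegree := AdjoinRoot.powerBasis_dim hf.ne_zero
  let bas := pb.basis.reindex (finCongr hdim)
  let A := Algebra.leftMulMatrix bas pb.gen
  have hAc : A.charpoly = f := by
    have : A = Matrix.reindexAlgEquiv K K (finCongr hdim) (Algebra.leftMulMatrix pb.basis pb.gen) := by
      ext i j
      simp [A, bas, Algebra.leftMulMatrix_eq_repr_mul]
    rw [this, Matrix.reindexAlgEquiv_apply, Matrix.charpoly_reindex, charpoly_leftMulMatrix,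
      AdjoinRoot.minpoly_powerBasis_gen_of_monic hf]
  refine ⟨A, ?_, hAc, fun e he => ?_⟩
  · haveI := Fintype.ofFinite (AdjoinRoot f)
    have hgen : pb.gen ≠ 0 := by
      intro e
      apply h0
      haveI : Nonempty (Fin f.natDegree) := ⟨⟨0, hfi.natDegree_pos⟩⟩
      have hd := Matrix.det_eq_sign_charpoly_coeff A
      rw [hAc, show A = 0 by rw [show A = Algebra.leftMulMatrix bas pb.gen from rfl, e, map_zero],
        Matrix.det_zero] at hd
      rcases mul_eq_zero.1 hd.symm with h | h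
      · exact absurd h (pow_ne_zero _ (neg_ne_zero.2 one_ne_zero))
      · exact h
    refine ⟨Fintype.card (AdjoinRoot f) - 1, ?_, ?_⟩
    · rw [Nat.coprime_comm, (Fact.out : p.Prime).coprime_iff_not_dvd]
      intro hdv
      haveI : CharP (AdjoinRoot f) p := charP_of_injective_algebraMap (algebraMap K (AdjoinRoot f)).injective p
      obtain ⟨k, -, hk⟩ := FiniteField.card (AdjoinRoot f) p
      have h3 : p ∣ Fintype.card (AdjoinRoot f) := hk ▸ dvd_pow_self p k.pos.ne'
      have h4 := Nat.dvd_sub h3 hdv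
      rw [Nat.sub_sub_self Fintype.card_pos] at h4
      exact (Fact.out : p.Prime).not_dvd_one h4
    · rw [← map_pow, FiniteField.pow_card_sub_one_eq_one _ hgen, map_one]
  · obtain ⟨x, hx⟩ := FiniteField.norm_surjective K (AdjoinRoot f) e
    obtain ⟨P, rfl⟩ := AdjoinRoot.mk_surjective x
    refine ⟨P, ?_⟩
    rw [← hx, Algebra.norm_eq_matrix_det bas, Polynomial.aeval_algHom_apply, show pb.gen = AdjoinRoot.root f from rfl,
      AdjoinRoot.aeval_eq]

/-- A self dual factor whose block has every determinant available. -/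
theorem exists_factor (hσ : ∀ x, σ (σ x) = x) {n : ℕ} (hn : 0 < n) {M : Matrix (Fin n) (Fin n) K} (hM : SS p M)
    (hMd : M.charpoly = ((cst σ M)⁻¹).charpoly) :
    ∃ (a : ℕ) (A : Matrix (Fin a) (Fin a) K), 0 < a ∧ SS p A ∧ A.charpoly = ((cst σ A)⁻¹).charpoly ∧
      A.charpoly ∣ M.charpoly ∧ ∀ e : K, e ≠ 0 → ∃ P : K[X], (aeval A P).det = e := by
  classical
  have hu : ¬ IsUnit M.charpoly := fun h => by
    have := Polynomial.natDegree_eq_zero_of_isUnit h
    rw [Matrix.charpoly_natDegree_eq_dim, Fintype.card_fin] at this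
    omega
  obtain ⟨f₀, hf₀, hf₀M⟩ := WfDvdMonoid.exists_irreducible_factor hu M.charpoly_monic.ne_zero
  set f := f₀ * C f₀.leadingCoeff⁻¹ with hfdef
  have hf : f.Monic := monic_mul_leadingCoeff_inv hf₀.ne_zero
  have hassoc : Associated f₀ f :=
    ⟨(Polynomial.isUnit_C.2 (isUnit_iff_ne_zero.2 (inv_ne_zero (leadingCoeff_ne_zero.2 hf₀.ne_zero)))).unit,
      by simp [hfdef]⟩
  have hfi : Irreducible f := hassoc.irreducible hf₀
  obtain ⟨h, hMh⟩ : f ∣ M.charpoly := hassoc.dvd_iff_dvd_left.1 hf₀M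
  have hh : h.Monic := hf.of_mul_monic_left (hMh ▸ M.charpoly_monic)
  have hc := coeff_zero_ne hM
  rw [hMh, mul_coeff_zero] at hc
  obtain ⟨A, hA, hAf, hAdet⟩ := exists_irreducible_block (p := p) f hf hfi (left_ne_zero_of_mul hc)
  obtain ⟨D, hD, hDh⟩ := exists_ss (p := p) h hh rfl (right_ne_zero_of_mul hc)
  have hn' : f.natDegree + h.natDegree = n := by
    rw [← hf.natDegree_mul hh, ← hMh, Matrix.charpoly_natDegree_eq_dim, Fintype.card_fin]
  subst hn'
  have hinvA : IsUnit (cst σ A).det := by rw [det_cst]; exact hA.isUnit_det.map σ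
  have hinvD : IsUnit (cst σ D).det := by rw [det_cst]; exact hD.isUnit_det.map σ
  have hdual : ((cst σ A)⁻¹).charpoly * ((cst σ D)⁻¹).charpoly = M.charpoly := by
    rw [← charpoly_bd]
    have e : bd (cst σ A)⁻¹ (cst σ D)⁻¹ = (cst σ (bd A D))⁻¹ := by
      refine (Matrix.inv_eq_left_inv ?_).symm
      rw [cst_bd, bd_mul, nonsing_inv_mul _ hinvA, nonsing_inv_mul _ hinvD, bd_one]
    rw [e, charpoly_dual (hA.bd hD) hM (by rw [charpoly_bd, hAf, hDh, hMh]), ← hMd]
  set g := ((cst σ A)⁻¹).charpoly with hg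
  have hgm : g.Monic := Matrix.charpoly_monic _
  have hgd : g.natDegree = f.natDegree := by rw [hg, Matrix.charpoly_natDegree_eq_dim, Fintype.card_fin]
  by_cases hgf : g = f
  · exact ⟨f.natDegree, A, hfi.natDegree_pos, hA, by rw [hAf]; exact hgf.symm, ⟨h, by rw [hAf]; exact hMh⟩, hAdet⟩
  have hgi : Irreducible g := by
    have hg1 : g ≠ 1 := fun e => by
      have := hfi.natDegree_pos
      rw [← hgd, e, natDegree_one] at this
      exact lt_irrefl 0 this
    refine (hgm.irreducible_iff_natDegree.2 ⟨hg1, fun u v hu hv huv => ?_⟩)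
    by_contra hcon
    push Not at hcon
    have hc2 := coeff_zero_ne (hA.dual (σ := σ))
    rw [← hg, ← huv, mul_coeff_zero] at hc2
    obtain ⟨U, hU, hUu⟩ := exists_ss (p := p) u hu rfl (left_ne_zero_of_mul hc2)
    obtain ⟨V, hV, hVv⟩ := exists_ss (p := p) v hv rfl (right_ne_zero_of_mul hc2)
    have hdeg : u.natDegree + v.natDegree = f.natDegree := by rw [← hu.natDegree_mul hv, huv, hgd]
    have key : f = ((cst σ U)⁻¹).charpoly * ((cst σ V)⁻¹).charpoly := by
      have e : bd (cst σ U)⁻¹ (cst σ V)⁻¹ = (cst σ (bd U V))⁻¹ := by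
        refine (Matrix.inv_eq_left_inv ?_).symm
        rw [cst_bd, bd_mul, nonsing_inv_mul _ (by rw [det_cst]; exact hU.isUnit_det.map σ),
          nonsing_inv_mul _ (by rw [det_cst]; exact hV.isUnit_det.map σ), bd_one]
      have gen : ∀ (m : ℕ) (B : Matrix (Fin m) (Fin m) K), SS p B → B.charpoly = g → m = f.natDegree →
          ((cst σ B)⁻¹).charpoly = f := by
        intro m B hB hBg hm
        subst hm
        rw [charpoly_dual hB hA.dual (by rw [hBg]), dual_dual hσ hA, hAf]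
      rw [← charpoly_bd, e, gen _ _ (hU.bd hV) (by rw [charpoly_bd, hUu, hVv, huv]) hdeg]
    rcases hfi.isUnit_or_isUnit key with h' | h'
    · have := natDegree_eq_zero_of_isUnit h'
      rw [Matrix.charpoly_natDegree_eq_dim, Fintype.card_fin] at this
      exact hcon.1 this
    · have := natDegree_eq_zero_of_isUnit h'
      rw [Matrix.charpoly_natDegree_eq_dim, Fintype.card_fin] at this
      exact hcon.2 this
  have hcop : IsCoprime f g := hfi.coprime_iff_not_dvd.2 fun hd =>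
    hgf (eq_of_monic_of_associated hgm hf (hfi.associated_of_dvd hgi hd).symm)
  have hgM : g ∣ M.charpoly := ⟨_, hdual.symm⟩
  refine ⟨f.natDegree + f.natDegree, bd A (cst σ A)⁻¹, by have := hfi.natDegree_pos; omega, hA.bd hA.dual, ?_,
    by rw [charpoly_bd, hAf]; exact hcop.mul_dvd ⟨h, hMh⟩ hgM, fun e he => ?_⟩
  · have e : (cst σ (bd A (cst σ A)⁻¹))⁻¹ = bd (cst σ A)⁻¹ A := by
      refine Matrix.inv_eq_left_inv ?_
      rw [cst_bd, bd_mul, nonsing_inv_mul _ hinvA]
      conv_lhs => arg 2; arg 1; rw [← dual_dual hσ hA]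
      rw [nonsing_inv_mul _ (by rw [det_cst]; exact hA.dual.isUnit_det.map σ), bd_one]
    rw [e, charpoly_bd, charpoly_bd, mul_comm]
  · obtain ⟨P, hP⟩ := hAdet e he
    obtain ⟨u, v, huv⟩ := hcop
    refine ⟨1 + v * g * (P - 1), ?_⟩
    have hbd : ∀ Q : K[X], aeval (bd A (cst σ A)⁻¹) Q = bd (aeval A Q) (aeval (cst σ A)⁻¹ Q) := fun Q => by
      induction Q using Polynomial.induction_on' with
      | add s t hs ht =>
        rw [map_add, map_add, map_add, hs, ht, bd, bd, bd, ← map_add, Matrix.fromBlocks_add]; simp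
      | monomial k c =>
        rw [aeval_monomial, aeval_monomial, aeval_monomial, bd_pow, ← Algebra.smul_def, ← Algebra.smul_def,
          ← Algebra.smul_def, bd, bd, ← map_smul, Matrix.fromBlocks_smul]; simp
    have hAz : aeval A f = 0 := by have := Matrix.aeval_self_charpoly A; rwa [hAf] at this
    have hgz : aeval (cst σ A)⁻¹ g = 0 := Matrix.aeval_self_charpoly _
    have hAvg : aeval A (v * g) = 1 := by
      have := congrArg (aeval A) huv
      rw [map_add, map_mul (aeval A) u f, hAz, mul_zero, zero_add, map_one] at this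
      exact this
    rw [hbd, det_bd, map_add, map_add, map_mul (aeval A) (v * g), hAvg, one_mul,
      map_mul (aeval (cst σ A)⁻¹) (v * g), map_mul (aeval (cst σ A)⁻¹) v g, hgz, mul_zero,
      zero_mul, map_one, map_one, map_sub, map_one, add_sub_cancel, add_zero, det_one, mul_one, hP]

/-- Every norm one determinant occurs in the unitary centraliser of a semisimple unitary matrix. -/
theorem exists_det (hσ : ∀ x, σ (σ x) = x) (hne : ∃ x, σ x ≠ x) {n : ℕ} (hn : 0 < n)
    {M : Matrix (Fin n) (Fin n) K} (hM : SS p M) (hMu : cst σ M * M = 1) (d : K) (hd : σ d * d = 1) :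
    ∃ y : Matrix (Fin n) (Fin n) K, cst σ y * y = 1 ∧ y * M = M * y ∧ y.det = d := by
  classical
  have hMd : M.charpoly = ((cst σ M)⁻¹).charpoly := by rw [Matrix.inv_eq_right_inv hMu]
  obtain ⟨a, A, ha, hA, hAd, hAM, hAdet⟩ := exists_factor hσ hn hM hMd
  obtain ⟨h, hh⟩ := hAM
  have hhm : h.Monic := A.charpoly_monic.of_mul_monic_left (hh ▸ M.charpoly_monic)
  have hc := coeff_zero_ne hM
  rw [hh, mul_coeff_zero] at hc
  obtain ⟨D, hD, hDh⟩ := exists_ss (p := p) h hhm rfl (right_ne_zero_of_mul hc)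
  have hn' : a + h.natDegree = n := by
    have := A.charpoly_monic.natDegree_mul hhm
    rw [← hh, Matrix.charpoly_natDegree_eq_dim, Matrix.charpoly_natDegree_eq_dim, Fintype.card_fin, Fintype.card_fin] at this
    exact this.symm
  subst hn'
  obtain ⟨x, hx0, hxA⟩ := exists_unitary hσ hne ha hA hAd
  have hD' : ∃ z : Matrix (Fin h.natDegree) (Fin h.natDegree) K, z.det ≠ 0 ∧ cst σ (z * D * z⁻¹) * (z * D * z⁻¹) = 1 := by
    rcases Nat.eq_zero_or_pos h.natDegree with h0 | h0
    · haveI : IsEmpty (Fin h.natDegree) := by rw [h0]; infer_instance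
      exact ⟨1, by simp, Subsingleton.elim _ _⟩
    refine exists_unitary hσ hne h0 hD (mul_left_cancel₀ A.charpoly_monic.ne_zero ?_)
    conv_rhs => rw [hAd, ← charpoly_bd]
    have e : bd (cst σ A)⁻¹ (cst σ D)⁻¹ = (cst σ (bd A D))⁻¹ := by
      refine (Matrix.inv_eq_left_inv ?_).symm
      rw [cst_bd, bd_mul, nonsing_inv_mul _ (by rw [det_cst]; exact hA.isUnit_det.map σ),
        nonsing_inv_mul _ (by rw [det_cst]; exact hD.isUnit_det.map σ), bd_one]
    rw [e, charpoly_dual (hA.bd hD) hM (by rw [charpoly_bd, hDh, hh]), ← hMd, hh, hDh]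
  obtain ⟨z, hz0, hzD⟩ := hD'
  set B1 := x * A * x⁻¹ with hB1
  set B2 := z * D * z⁻¹ with hB2
  have hxu : IsUnit x.det := isUnit_iff_ne_zero.2 hx0
  have hzu : IsUnit z.det := isUnit_iff_ne_zero.2 hz0
  obtain ⟨T, hT, hTM⟩ := similar (hA.bd hD) hM (by rw [charpoly_bd, hDh, hh])
  have hxz : bd x⁻¹ z⁻¹ * bd B1 B2 = bd A D * bd x⁻¹ z⁻¹ := by
    rw [bd_mul, bd_mul, hB1, hB2, ← mul_assoc x⁻¹, ← mul_assoc x⁻¹, nonsing_inv_mul x hxu, one_mul,
      ← mul_assoc z⁻¹, ← mul_assoc z⁻¹, nonsing_inv_mul z hzu, one_mul]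
  have hB : cst σ (bd B1 B2) * bd B1 B2 = 1 := by rw [cst_bd, bd_mul, hxA, hzD, bd_one]
  obtain ⟨R, hR, hRM⟩ := exists_conj hσ hne (bd B1 B2) M (T * bd x⁻¹ z⁻¹) hB hMu
    (by rw [det_mul, det_bd, det_nonsing_inv, det_nonsing_inv, Ring.inverse_eq_inv']
        exact mul_ne_zero hT (mul_ne_zero (inv_ne_zero hx0) (inv_ne_zero hz0)))
    (by rw [mul_assoc, hxz, ← mul_assoc, hTM, mul_assoc])
  obtain ⟨ω, hω⟩ := hne
  haveI : Finite K := inferInstance
  obtain ⟨e, he⟩ := UnitaryDescent.exists_ratio σ hσ ω (isUnit_iff_ne_zero.2 (sub_ne_zero.2 (Ne.symm hω))) d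
    (by rw [mul_comm]; exact hd)
  obtain ⟨P, hP⟩ := hAdet e e.ne_zero
  set w := x * aeval A P * x⁻¹ with hw
  have hwd : w.det = e := by
    rw [hw, det_mul, det_mul, hP, mul_right_comm, ← det_mul, mul_nonsing_inv x hxu, det_one, one_mul]
  have hwB : Commute w B1 := by
    show w * B1 = B1 * w
    have hc' : aeval A P * A = A * aeval A P := by
      have := congrArg (aeval A) (mul_comm P X)
      rw [map_mul, map_mul, aeval_X] at this
      exact this
    calc w * B1 = x * (aeval A P * (x⁻¹ * x) * A) * x⁻¹ := by rw [hw, hB1]; simp only [mul_assoc]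
      _ = x * (A * (x⁻¹ * x) * aeval A P) * x⁻¹ := by rw [nonsing_inv_mul x hxu, mul_one, mul_one, hc']
      _ = B1 * w := by rw [hw, hB1]; simp only [mul_assoc]
  have hB1' : B1 * cst σ B1 = 1 := mul_eq_one_comm.1 hxA
  have hcwB : Commute (cst σ w) B1 := by
    have h1 : cst σ B1 * cst σ w = cst σ w * cst σ B1 := by rw [← cst_mul, ← cst_mul, hwB.eq]
    show cst σ w * B1 = B1 * cst σ w
    calc cst σ w * B1 = B1 * (cst σ B1 * cst σ w) * B1 := by rw [← mul_assoc B1, hB1', one_mul]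
      _ = B1 * cst σ w := by rw [h1, mul_assoc B1, mul_assoc (cst σ w), hxA, mul_one]
  have hcwu : IsUnit (cst σ w).det := by
    rw [det_cst, hwd]; exact (isUnit_iff_ne_zero.2 e.ne_zero).map σ
  have hww : Commute (cst σ w) w := by
    have hall : ∀ Q : K[X], Commute (cst σ w) (x * aeval A Q * x⁻¹) := fun Q => by
      induction Q using Polynomial.induction_on with
      | C c =>
        rw [aeval_C, Algebra.algebraMap_eq_smul_one, Matrix.mul_smul, Matrix.smul_mul, mul_one, mul_nonsing_inv x hxu]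
        exact (Commute.one_right _).smul_right c
      | add s t hs ht => rw [map_add, mul_add, add_mul]; exact hs.add_right ht
      | monomial k c ih =>
        have e' : x * aeval A (C c * X ^ (k + 1)) * x⁻¹ = (x * aeval A (C c * X ^ k) * x⁻¹) * B1 := by
          rw [hB1, pow_succ, ← mul_assoc, map_mul, aeval_X]
          calc _ = x * aeval A (C c * X ^ k) * (x⁻¹ * x) * A * x⁻¹ := by
                rw [nonsing_inv_mul x hxu, mul_one]; simp only [mul_assoc]
            _ = _ := by simp only [mul_assoc]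
        rw [e']
        exact ih.mul_right hcwB
    exact hall P
  set y1 := w * (cst σ w)⁻¹ with hy1
  have hy1B : y1 * B1 = B1 * y1 := by
    obtain ⟨u, hu⟩ := (Matrix.isUnit_iff_isUnit_det _).2 hcwu
    rw [hy1, ← hu, ← Matrix.coe_units_inv, mul_assoc, (Commute.units_inv_left (hu.symm ▸ hcwB)).eq, ← mul_assoc, hwB.eq,
      mul_assoc]
  have hy1u : cst σ y1 * y1 = 1 := by
    have hwu : IsUnit w.det := by rw [hwd]; exact isUnit_iff_ne_zero.2 e.ne_zero
    have hinv : cst σ (cst σ w)⁻¹ = w⁻¹ := by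
      refine (Matrix.inv_eq_left_inv ?_).symm
      conv_lhs => arg 2; rw [← cst_cst σ hσ w]
      rw [← cst_mul, mul_nonsing_inv _ hcwu, cst_one]
    rw [hy1, cst_mul, hinv, mul_assoc, ← mul_assoc (cst σ w), hww.eq, mul_assoc w, mul_nonsing_inv _ hcwu, mul_one,
      nonsing_inv_mul w hwu]
  have hy1d : y1.det = d := by
    rw [hy1, det_mul, det_nonsing_inv, det_cst, hwd, Ring.inverse_eq_inv']
    have hσe : σ (e : K) ≠ 0 := by simpa using e.ne_zero
    rw [mul_inv_eq_iff_eq_mul₀ hσe, mul_comm d]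
    exact he.symm
  have hR' : R * cst σ R = 1 := mul_eq_one_comm.1 hR
  refine ⟨R * bd y1 1 * cst σ R, ?_, ?_, ?_⟩
  · rw [cst_mul, cst_mul, cst_cst σ hσ]
    calc _ = R * (cst σ (bd y1 1) * (cst σ R * R) * bd y1 1) * cst σ R := by simp only [mul_assoc]
      _ = 1 := by rw [hR, mul_one, cst_bd, bd_mul, hy1u, cst_one, one_mul, bd_one, mul_one, hR']
  · have e2 : M = R * bd B1 B2 * cst σ R := by rw [hRM, mul_assoc, hR', mul_one]
    rw [e2]
    calc _ = R * (bd y1 1 * (cst σ R * R) * bd B1 B2) * cst σ R := by simp only [mul_assoc]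
      _ = R * (bd B1 B2 * (cst σ R * R) * bd y1 1) * cst σ R := by
          rw [hR, mul_one, mul_one, bd_mul, bd_mul, hy1B, one_mul, mul_one]
      _ = _ := by simp only [mul_assoc]
  · rw [det_mul_right_comm, det_mul, hR', det_one, one_mul, det_bd, det_one, mul_one, hy1d]

end Cfsg.Lib.UnitarySemisimple
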