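import Cfsg.Agent.Known.UnipotentType
import Mathlib

/-! Small facts about square-zero and unipotent matrices. -/

set_option autoImplicit false

open Matrix

namespace Cfsg.Lib.UnipClasses

variable {F : Type*} [Field F] [Finite F] {n : ℕ}

theorem card_ker_eq_rank (M : Matrix (Fin n) (Fin n) F) :
    Nat.card {v : Fin n → F // M *ᵥ v = 0} = Nat.card F ^ (n - M.rank) := by
  have h := LinearMap.finrank_range_add_finrank_ker M.mulVecLin
  rw [Module.finrank_fin_fun] at h
  rw [show n - M.rank = Module.finrank F (LinearMap.ker M.mulVecLin) by rw [Matrix.rank]; omega,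
    ← Module.natCard_eq_pow_finrank (K := F)]
  exact Nat.card_congr (Equiv.subtypeEquivRight fun v => by simp)

/-- For square-zero matrices the rank determines the type. -/
theorem HasType.of_sq_zero {N N' : Matrix (Fin n) (Fin n) F} {μ : Nat.Partition n} (h : HasType N μ)
    (hN : N ^ 2 = 0) (hN' : N' ^ 2 = 0) (hr : N.rank = N'.rank) : HasType N' μ := by
  intro j
  rw [← h j]
  rcases j with _ | _ | j
  · simp
  · rw [pow_one, pow_one, card_ker_eq_rank, card_ker_eq_rank, hr]
  · rw [pow_eq_zero_of_le (show 2 ≤ j + 1 + 1 by omega) hN, pow_eq_zero_of_le (show 2 ≤ j + 1 + 1 by omega) hN']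

theorem HasType.rank_parts {N : Matrix (Fin n) (Fin n) F} {μ : Nat.Partition n} (h : HasType N μ) :
    μ.parts.toList.length = n - N.rank := by
  have h1 := h 1
  rw [pow_one, card_ker_eq_rank, Finset.sum_congr rfl (fun i _ => min_eq_left (μ.parts_pos (lens_mem μ i)))] at h1
  have := Nat.pow_right_injective (Finite.one_lt_card : 1 < Nat.card F) h1
  simp at this
  simpa using this.symm

omit [Finite F] in
theorem det_eq_one_of_nilpotent (p : ℕ) [Fact p.Prime] [CharP F p] {m : ℕ} (A : Matrix (Fin n) (Fin n) F)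
    (h : (A - 1) ^ m = 0) : A.det = 1 := by
  rcases isEmpty_or_nonempty (Fin n) with hn | hn
  · exact det_isEmpty
  have h0 := pow_eq_zero_of_le (Nat.lt_pow_self (Fact.out : p.Prime).one_lt).le h
  rw [sub_pow_char_pow_of_commute p _ (Commute.one_right _), one_pow, sub_eq_zero] at h0
  have h1 := congrArg Matrix.det h0
  rw [det_pow, det_one] at h1
  have h2 : (A.det - 1) ^ p ^ m = 0 := by rw [sub_pow_char_pow, h1, one_pow, sub_self]
  exact sub_eq_zero.1 ((pow_eq_zero_iff (pow_ne_zero m (Fact.out : p.Prime).ne_zero)).1 h2)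

end Cfsg.Lib.UnipClasses
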