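import Cfsg.Agent.Known.SylowTwoMaximal

/-! Sylow 2-subgroups of symmetric and alternating groups in a unique maximal subgroup. -/

set_option autoImplicit false

open Equiv Equiv.Perm MulAction
open scoped Pointwise

namespace Cfsg.Lib.Known.SylowTwoMax

variable {α : Type*} [DecidableEq α] [Fintype α]

theorem not_alt_le_cent {τ : Perm α} (hα : 5 ≤ Fintype.card α) {a : α} (ha : τ a ≠ a) :
    ∃ g ∈ alternatingGroup α, ¬ Commute g τ := by
  obtain ⟨b, -, hb⟩ := Finset.exists_mem_notMem_of_card_lt_card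
    (show ({a, τ a} : Finset α).card < (Finset.univ : Finset α).card by
      have := Finset.card_le_two (a := a) (b := τ a); rw [Finset.card_univ]; omega)
  simp only [Finset.mem_insert, Finset.mem_singleton, not_or] at hb
  obtain ⟨c, -, hc⟩ := Finset.exists_mem_notMem_of_card_lt_card
    (show ({a, τ a, b} : Finset α).card < (Finset.univ : Finset α).card by
      have := Finset.card_le_three (a := a) (b := τ a) (c := b); rw [Finset.card_univ]; omega)
  simp only [Finset.mem_insert, Finset.mem_singleton, not_or] at hc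
  refine ⟨_, (isThreeCycle_swap_mul_swap_same (Ne.symm hb.2) (Ne.symm hc.2.1) (Ne.symm hc.2.2)).mem_alternatingGroup,
    fun h => ?_⟩
  have h1 := congrArg (fun p : Perm α => p a) h.eq
  simp only [mul_apply] at h1
  rw [swap_apply_of_ne_of_ne (fun e => ha e.symm) (Ne.symm hc.1), swap_apply_of_ne_of_ne (fun e => ha e.symm) (Ne.symm hb.1),
    swap_apply_left, swap_apply_of_ne_of_ne hc.2.1 hc.2.2] at h1
  exact hc.2.1 h1

theorem not_alt_le_stab (o : α) (hα : 3 ≤ Fintype.card α) : ∃ g ∈ alternatingGroup α, g o ≠ o := by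
  obtain ⟨t, ht, -, hto⟩ := exists_three Finset.univ (by rw [Finset.card_univ]; exact hα) (Finset.mem_univ o)
  exact ⟨t, ht.mem_alternatingGroup, hto⟩

/-- Two proper overgroups generating at least the alternating group. -/
def NotUnique (P : Subgroup (Perm α)) : Prop :=
  ∃ H₁ H₂ : Subgroup (Perm α), P ≤ H₁ ∧ P ≤ H₂ ∧ ¬ alternatingGroup α ≤ H₁ ∧ ¬ alternatingGroup α ≤ H₂ ∧
    alternatingGroup α ≤ (H₁ ⊓ alternatingGroup α) ⊔ (H₂ ⊓ alternatingGroup α)

theorem exists_index_two {G : Type*} [Group G] [Finite G] (hG : IsPGroup 2 G) {H : Subgroup G} (hH : H ≠ ⊤) :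
    ∃ M : Subgroup G, H ≤ M ∧ M.index = 2 := by
  haveI : Fact (Nat.Prime 2) := ⟨Nat.prime_two⟩
  obtain ⟨M, hM, hHM⟩ := (eq_top_or_exists_le_coatom H).resolve_left hH
  refine ⟨M, hHM, ?_⟩
  obtain ⟨i, hi⟩ := (hG.to_subgroup M).exists_card_eq
  obtain ⟨N, hN⟩ := hG.exists_card_eq
  have hlt : Nat.card ↥M < Nat.card G := by
    refine lt_of_le_of_ne (Subgroup.card_le_card_group M) fun e => hM.1 (Subgroup.eq_top_of_card_eq M e)
  have hiN : i < N := by rw [hi, hN] at hlt; exact (Nat.pow_lt_pow_iff_right (by norm_num)).1 hlt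
  obtain ⟨K, hK, hMK⟩ := Sylow.exists_subgroup_card_pow_succ
    (show 2 ^ (i + 1) ∣ Nat.card G by rw [hN]; exact Nat.pow_dvd_pow 2 hiN) hi
  have hKtop : K = ⊤ := by
    refine hM.2 K (lt_of_le_of_ne hMK fun e => ?_)
    rw [← e, hi] at hK
    have := Nat.pow_right_injective (le_refl 2) hK
    omega
  subst hKtop
  have h := M.index_mul_card
  rw [Subgroup.card_top] at hK
  rw [hi, hK, pow_succ'] at h
  exact Nat.eq_of_mul_eq_mul_right (pow_pos (by norm_num) i) h

theorem exists_split_set (P : Sylow 2 (Perm α)) (hα : 5 ≤ Fintype.card α) :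
    ∃ S : Finset α, S.Nonempty ∧ S ≠ Finset.univ ∧ (P : Subgroup (Perm α)) ≤ split S := by
  haveI : Nonempty α := Fintype.card_pos_iff.1 (by omega)
  obtain ⟨a⟩ := (inferInstance : Nonempty α)
  by_cases htr : orb (P : Subgroup (Perm α)) a = Finset.univ
  · set Q := (P : Subgroup (Perm α))
    let St : Subgroup ↥Q := MulAction.stabilizer ↥Q a
    have hne : St ≠ ⊤ := by
      intro h
      obtain ⟨b, hb⟩ := Fintype.exists_ne_of_one_lt_card (by omega : 1 < Fintype.card α) a
      obtain ⟨g, hg, e⟩ := mem_orb.1 (htr ▸ Finset.mem_univ b : b ∈ orb Q a)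
      have : (⟨g, hg⟩ : ↥Q) ∈ St := h ▸ Subgroup.mem_top _
      exact hb (e ▸ (MulAction.mem_stabilizer_iff.1 this))
    obtain ⟨M, hSt, hM⟩ := exists_index_two P.isPGroup' hne
    classical
    let S : Finset α := Finset.univ.filter fun x => ∃ m ∈ M, ((m : ↥Q) : Perm α) a = x
    have hS : ∀ p : ↥Q, (p : Perm α) a ∈ S ↔ p ∈ M := by
      intro p
      simp only [S, Finset.mem_filter, Finset.mem_univ, true_and]
      refine ⟨?_, fun h => ⟨p, h, rfl⟩⟩
      rintro ⟨m, hm, e⟩
      have h1 : m⁻¹ * p ∈ St := by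
        refine MulAction.mem_stabilizer_iff.2 ?_
        show ((m : Perm α)⁻¹ * (p : Perm α)) a = a
        rw [mul_apply, ← e, pinv_apply]
      have := mul_mem hm (hSt h1)
      rwa [mul_inv_cancel_left] at this
    refine ⟨S, ⟨a, (hS 1).2 (one_mem _)⟩, fun h => ?_, fun g hg x y => ?_⟩
    · have hMtop : M ≠ ⊤ := fun e => by rw [e, Subgroup.index_top] at hM; omega
      obtain ⟨p, hp⟩ : ∃ p, p ∉ M := by
        by_contra hh; push_neg at hh; exact hMtop (eq_top_iff.2 fun p _ => hh p)
      exact hp ((hS p).1 (h ▸ Finset.mem_univ _))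
    · have key : ∀ z, ∃ p : ↥Q, (p : Perm α) a = z := fun z => by
        obtain ⟨k, hk, e⟩ := mem_orb.1 (htr ▸ Finset.mem_univ z : z ∈ orb Q a)
        exact ⟨⟨k, hk⟩, e⟩
      obtain ⟨p, rfl⟩ := key x
      obtain ⟨q, rfl⟩ := key y
      have e : ∀ r : ↥Q, g ((r : Perm α) a) = ((⟨g, hg⟩ * r : ↥Q) : Perm α) a := fun r => rfl
      rw [e p, e q, hS, hS, hS, hS, Subgroup.mul_mem_iff_of_index_two hM, Subgroup.mul_mem_iff_of_index_two hM]
      tauto
  · exact ⟨orb (P : Subgroup (Perm α)) a, ⟨a, self_mem_orb _ a⟩, htr,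
      fun g hg => mem_split_of_preserve (orb_invariant _ a g hg)⟩

theorem not_fix_of_even (P : Sylow 2 (Perm α)) (he : Even (Fintype.card α)) (a : α) :
    ∃ g ∈ (P : Subgroup (Perm α)), g a ≠ a := by
  by_contra h
  push_neg at h
  haveI : Fact (Nat.Prime 2) := ⟨Nat.prime_two⟩
  have hle : (P : Subgroup (Perm α)) ≤ MulAction.stabilizer (Perm α) a := h
  have h1 := Subgroup.index_dvd_of_le hle
  have h2 : (MulAction.stabilizer (Perm α) a).index = Fintype.card α := by
    rw [MulAction.index_stabilizer_of_transitive, Nat.card_eq_fintype_card]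
  rw [h2] at h1
  exact P.not_dvd_index (dvd_trans he.two_dvd h1)

/-- Even degree. -/
theorem notUnique_even (P : Sylow 2 (Perm α)) (hα : 6 ≤ Fintype.card α) (h6 : Fintype.card α ≠ 6)
    (he : Even (Fintype.card α)) : NotUnique (P : Subgroup (Perm α)) := by
  obtain ⟨τ, hτ, hτ2, hτc⟩ := exists_central P (not_fix_of_even P he)
  obtain ⟨S, hS, hSu, hPS⟩ := exists_split_set P (by omega)
  haveI : Nonempty α := Fintype.card_pos_iff.1 (by omega)
  obtain ⟨a0⟩ := (inferInstance : Nonempty α)
  refine ⟨Subgroup.centralizer {τ}, split S, fun g hg => Subgroup.mem_centralizer_singleton_iff.2 (hτc g hg), hPS,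
    ?_, not_alt_le_split (by omega) hS hSu, ?_⟩
  · intro hle
    obtain ⟨g, hg, hgn⟩ := not_alt_le_cent (τ := τ) (by omega) (hτ a0)
    exact hgn (Subgroup.mem_centralizer_singleton_iff.1 (hle hg))
  · have hcard := Finset.card_add_card_compl S
    obtain ⟨T, hT, hT3⟩ : ∃ T : Finset α, (T = S ∨ T = Sᶜ) ∧ 3 ≤ T.card := by
      rcases Nat.lt_or_ge S.card 3 with h | h
      · refine ⟨Sᶜ, Or.inr rfl, ?_⟩
        obtain ⟨k, hk⟩ := he
        omega
      · exact ⟨S, Or.inl rfl, h⟩
    obtain ⟨x, hx⟩ := Finset.card_pos.1 (by omega : 0 < T.card)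
    obtain ⟨t, ht, htfix, -⟩ := exists_three T hT3 hx
    refine alt_le_of_cent hα hτ hτ2 _ (fun g hg hc => Subgroup.mem_sup_left
      ⟨Subgroup.mem_centralizer_singleton_iff.2 hc, hg⟩) ht (Subgroup.mem_sup_right ⟨?_, ht.mem_alternatingGroup⟩)
    rcases hT with rfl | rfl
    · exact mem_split_of_fix htfix
    · exact mem_split_of_fix' fun y hy => htfix y (by simp [hy])

theorem exists_fixed (P : Subgroup (Perm α)) (hP : IsPGroup 2 ↥P) (ho : Odd (Fintype.card α)) :
    ∃ o, ∀ g ∈ P, g o = o := by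
  haveI : Fact (Nat.Prime 2) := ⟨Nat.prime_two⟩
  have h := hP.card_modEq_card_fixedPoints α
  rw [Nat.card_eq_fintype_card] at h
  have h1 : 0 < Nat.card (MulAction.fixedPoints ↥P α) := by
    obtain ⟨k, hk⟩ := ho
    rw [Nat.ModEq, hk] at h
    omega
  obtain ⟨⟨o, hfo⟩⟩ := (Nat.card_pos_iff.1 h1).1
  exact ⟨o, fun g hg => hfo ⟨g, hg⟩⟩

/-- Odd degree not of the form `2^k + 1`. -/
theorem notUnique_odd (P : Sylow 2 (Perm α)) (hα : 5 ≤ Fintype.card α) (ho : Odd (Fintype.card α))
    (hk : ∀ k, Fintype.card α ≠ 2 ^ k + 1) : NotUnique (P : Subgroup (Perm α)) := by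
  obtain ⟨o, hfo⟩ := exists_fixed (P : Subgroup (Perm α)) P.isPGroup' ho
  obtain ⟨a, hao⟩ := Fintype.exists_ne_of_one_lt_card (by omega : 1 < Fintype.card α) o
  set S := orb (P : Subgroup (Perm α)) a
  have hSo : o ∉ S := by
    intro h
    obtain ⟨g, hg, e⟩ := mem_orb.1 h
    exact hao (g.injective (e.trans (hfo g hg).symm))
  obtain ⟨k, hcard⟩ : ∃ k, S.card = 2 ^ k := card_orb (P : Subgroup (Perm α)) P.isPGroup' a
  have hc : S.card ≠ Fintype.card α - 1 := fun h => hk k (by rw [← hcard]; omega)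
  refine ⟨MulAction.stabilizer (Perm α) o, split S, fun g hg => hfo g hg,
    fun g hg => mem_split_of_preserve (orb_invariant _ a g hg), ?_,
    not_alt_le_split hα ⟨a, self_mem_orb _ a⟩ (fun h => hSo (h ▸ Finset.mem_univ o)), ?_⟩
  · intro hle
    obtain ⟨g, hg, hgo⟩ := not_alt_le_stab o (by omega)
    exact hgo (hle hg)
  · have hlt : S.card + 2 ≤ Fintype.card α := by
      have h1 : S.card ≤ (Finset.univ.erase o).card :=
        Finset.card_le_card fun x hx => Finset.mem_erase.2 ⟨fun e => hSo (e ▸ hx), Finset.mem_univ _⟩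
      rw [Finset.card_erase_of_mem (Finset.mem_univ _), Finset.card_univ] at h1
      omega
    have hc3 : 3 ≤ Sᶜ.card := by
      have := Finset.card_add_card_compl S
      rcases Nat.eq_zero_or_pos k with rfl | hkpos
      · rw [pow_zero] at hcard; omega
      · obtain ⟨j, hj⟩ : Even S.card := hcard ▸ Nat.even_pow.2 ⟨even_two, hkpos.ne'⟩
        obtain ⟨l, hl⟩ := ho
        omega
    obtain ⟨t, ht, htfix, hto⟩ := exists_three Sᶜ hc3 (Finset.mem_compl.2 hSo)
    refine alt_le_of_stab hα _ (fun g hg hgo => Subgroup.mem_sup_left ⟨hgo, hg⟩) ⟨t, Subgroup.mem_sup_right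
      ⟨mem_split_of_fix' fun y hy => htfix y (by simp [hy]), ht.mem_alternatingGroup⟩, hto⟩

/-! ### Degree `2^k + 1` -/

theorem exists_regular (k : ℕ) (hcard : Fintype.card α = 2 ^ k + 1) :
    ∃ (o : α) (T : Subgroup (Perm α)), IsPGroup 2 ↥T ∧ (∀ x y, x ≠ o → y ≠ o → ∃ g ∈ T, g x = y) := by
  classical
  let G := Multiplicative (ZMod (2 ^ k))
  haveI : NeZero (2 ^ k) := ⟨(pow_pos (by norm_num) k).ne'⟩
  have hG : Nat.card G = 2 ^ k := by simp [G]
  let e : α ≃ Option G := (Fintype.equivFinOfCardEq hcard).trans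
    ((Fintype.equivFinOfCardEq (show Fintype.card (Option G) = 2 ^ k + 1 by
      rw [Fintype.card_option, ← Nat.card_eq_fintype_card, hG])).symm)
  let φ : G →* Perm α :=
    { toFun := fun g => (e.trans (Equiv.optionCongr (Equiv.mulLeft g))).trans e.symm
      map_one' := Equiv.ext fun x => by
        show e.symm ((e x).map fun y => 1 * y) = x
        simp
      map_mul' := fun g h => Equiv.ext fun x => by
        show e.symm ((e x).map fun y => g * h * y) =
          e.symm ((e (e.symm ((e x).map fun y => h * y))).map fun y => g * y)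
        simp [Option.map_map, Function.comp_def, mul_assoc] }
  refine ⟨e.symm none, φ.range, (IsPGroup.of_card hG).of_surjective _ φ.rangeRestrict_surjective, ?_⟩
  intro x y hx hy
  obtain ⟨u, hu⟩ := Option.ne_none_iff_exists'.1 (fun h => hx (e.injective (by rw [h, apply_symm_apply])) : e x ≠ none)
  obtain ⟨v, hv⟩ := Option.ne_none_iff_exists'.1 (fun h => hy (e.injective (by rw [h, apply_symm_apply])) : e y ≠ none)
  refine ⟨φ (v * u⁻¹), ⟨_, rfl⟩, ?_⟩
  show e.symm ((e x).map fun z => v * u⁻¹ * z) = y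
  rw [hu, Option.map_some, inv_mul_cancel_right, ← hv, symm_apply_apply]

theorem conj_le_sylow (P : Sylow 2 (Perm α)) {T : Subgroup (Perm α)} (hT : IsPGroup 2 ↥T) :
    ∃ c : Perm α, ∀ g ∈ T, c * g * c⁻¹ ∈ (P : Subgroup (Perm α)) := by
  haveI : Fact (Nat.Prime 2) := ⟨Nat.prime_two⟩
  obtain ⟨Q, hQ⟩ := hT.exists_le_sylow
  obtain ⟨c, hc⟩ := MulAction.exists_smul_eq (Perm α) Q P
  refine ⟨c, fun g hg => ?_⟩
  have : MulAut.conj c • g ∈ MulAut.conj c • (Q : Subgroup (Perm α)) := Subgroup.smul_mem_pointwise_smul g _ _ (hQ hg)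
  rw [← hc]
  exact this

theorem structure_pow (P : Sylow 2 (Perm α)) (k : ℕ) (hk : 2 ≤ k) (hcard : Fintype.card α = 2 ^ k + 1) :
    ∃ o, (∀ g ∈ (P : Subgroup (Perm α)), g o = o) ∧
      (∀ x y, x ≠ o → y ≠ o → ∃ g ∈ (P : Subgroup (Perm α)), g x = y) ∧
      ∃ pr : α → α, pr o = o ∧ (∀ x, x ≠ o → pr x ≠ x ∧ pr x ≠ o ∧ pr (pr x) = x ∧
        swap x (pr x) ∈ (P : Subgroup (Perm α))) := by
  classical
  have h4 : 4 ≤ 2 ^ k := le_trans (by norm_num) (Nat.pow_le_pow_right (by norm_num) hk)
  obtain ⟨o, hfo⟩ := exists_fixed (P : Subgroup (Perm α)) P.isPGroup'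
    (by rw [hcard]; exact (Nat.even_pow.2 ⟨even_two, by omega⟩).add_one)
  obtain ⟨o', T, hT, hTt⟩ := exists_regular k hcard
  obtain ⟨c, hc⟩ := conj_le_sylow P hT
  have htrans : ∀ x y, x ≠ c o' → y ≠ c o' → ∃ g ∈ (P : Subgroup (Perm α)), g x = y := by
    intro x y hx hy
    obtain ⟨g, hg, e⟩ := hTt (c⁻¹ x) (c⁻¹ y)
      (fun h => hx (by rw [← h, papply_inv])) (fun h => hy (by rw [← h, papply_inv]))
    exact ⟨_, hc g hg, by rw [mul_apply, mul_apply, e, papply_inv]⟩
  have ho : c o' = o := by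
    by_contra hne
    obtain ⟨b, -, hb⟩ := Finset.exists_mem_notMem_of_card_lt_card
      (show ({o, c o'} : Finset α).card < (Finset.univ : Finset α).card by
        have := Finset.card_le_two (a := o) (b := c o'); rw [Finset.card_univ]; omega)
    simp only [Finset.mem_insert, Finset.mem_singleton, not_or] at hb
    obtain ⟨g, hg, e⟩ := htrans o b (Ne.symm hne) hb.2
    exact hb.1 (e ▸ hfo g hg)
  rw [ho] at htrans
  refine ⟨o, hfo, htrans, ?_⟩
  -- a transposition in `P`
  obtain ⟨a, hao⟩ := Fintype.exists_ne_of_one_lt_card (by omega : 1 < Fintype.card α) o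
  obtain ⟨b, hba⟩ := Fintype.exists_ne_of_one_lt_card (by omega : 1 < Fintype.card α) a
  have hsw2 : IsPGroup 2 ↥(Subgroup.zpowers (swap a b)) := by
    refine IsPGroup.of_card (n := 1) ?_
    rw [Nat.card_zpowers, pow_one]
    exact (orderOf_eq_prime (by rw [pow_two, swap_mul_self]) (fun h => hba.symm (Equiv.swap_eq_one_iff.1 h)))
  obtain ⟨d, hd⟩ := conj_le_sylow P hsw2
  have hmem : swap (d a) (d b) ∈ (P : Subgroup (Perm α)) := by
    rw [swap_apply_apply]; exact hd _ (Subgroup.mem_zpowers _)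
  have hda : d a ≠ o ∧ d b ≠ o := by
    constructor <;> intro h <;> have h1 := hfo _ hmem
    · rw [← h, swap_apply_left] at h1; exact hba (d.injective h1)
    · rw [← h, swap_apply_right] at h1; exact hba (d.injective h1).symm
  have hex : ∀ x, x ≠ o → ∃ y, y ≠ x ∧ y ≠ o ∧ swap x y ∈ (P : Subgroup (Perm α)) := by
    intro x hx
    obtain ⟨g, hg, e⟩ := htrans (d a) x hda.1 hx
    refine ⟨g (d b), fun h => hba (d.injective (g.injective (h.trans e.symm))),
      fun h => hda.2 (g.injective (h.trans (hfo g hg).symm)), ?_⟩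
    rw [← e, swap_apply_apply]
    exact mul_mem (mul_mem hg hmem) (inv_mem hg)
  have huniq : ∀ x y z, x ≠ y → x ≠ z → swap x y ∈ (P : Subgroup (Perm α)) →
      swap x z ∈ (P : Subgroup (Perm α)) → y = z := by
    intro x y z hxy hxz h1 h2
    by_contra hyz
    have h3 := isThreeCycle_swap_mul_swap_same hxy hxz hyz
    obtain ⟨j, hj⟩ := P.isPGroup'.exists_card_eq
    have h5 : orderOf (⟨_, mul_mem h1 h2⟩ : ↥(P : Subgroup (Perm α))) = 3 := by
      rw [Subgroup.orderOf_mk, h3.orderOf]
    have h6 : 3 ∣ 2 ^ j := by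
      rw [← h5, ← hj]; exact orderOf_dvd_natCard _
    exact absurd ((Nat.prime_dvd_prime_iff_eq Nat.prime_three Nat.prime_two).1
      (Nat.prime_three.dvd_of_dvd_pow h6)) (by norm_num)
  choose! pr h1 h2 h3 using hex
  refine ⟨fun x => if x = o then o else pr x, if_pos rfl, fun x hx => ?_⟩
  simp only [if_neg hx, if_neg (h2 x hx)]
  refine ⟨h1 x hx, h2 x hx, ?_, h3 x hx⟩
  refine huniq (pr x) _ _ (Ne.symm (h1 _ (h2 x hx))) (h1 x hx) (h3 _ (h2 x hx)) ?_
  rw [swap_comm]; exact h3 x hx

/-- Two double transpositions with supports meeting in one point give a three-cycle. -/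
theorem commutator_threeCycle {x y : Perm α} (hx : x * x = 1) (hy : y * y = 1) {a : α}
    (hxa : x a ≠ a) (hya : y a ≠ a) (hone : ∀ z, x z ≠ z → y z ≠ z → z = a) : (x * y * x * y).IsThreeCycle := by
  have hx' : ∀ z, x (x z) = z := fun z => by rw [← mul_apply, hx, one_apply]
  have hy' : ∀ z, y (y z) = z := fun z => by rw [← mul_apply, hy, one_apply]
  have hxy : x a ≠ y a := by
    intro e
    refine hxa (hone (x a) ?_ ?_)
    · rw [hx']; exact Ne.symm hxa
    · rw [e, hy']; exact Ne.symm hya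
  suffices h : x * y * x * y = swap a (y a) * swap a (x a) ∨ x * y * x * y = swap a (x a) * swap a (y a) by
    rcases h with h | h <;> rw [h]
    · exact isThreeCycle_swap_mul_swap_same (Ne.symm hya) (Ne.symm hxa) (Ne.symm hxy)
    · exact isThreeCycle_swap_mul_swap_same (Ne.symm hxa) (Ne.symm hya) hxy
  have fy : ∀ z, x z ≠ z → z ≠ a → y z = z := fun z h1 h2 => by
    by_contra h3; exact h2 (hone z h1 h3)
  have fx : ∀ z, y z ≠ z → z ≠ a → x z = z := fun z h1 h2 => by
    by_contra h3; exact h2 (hone z h3 h1)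
  have yxa : y (x a) = x a := fy _ (by rw [hx']; exact Ne.symm hxa) hxa
  have xya : x (y a) = y a := fx _ (by rw [hy']; exact Ne.symm hya) hya
  have main : ∀ z, (x * y * x * y) z = if z = a then x a else if z = x a then y a else if z = y a then a else z := by
    intro z
    simp only [mul_apply]
    split_ifs with h1 h2 h3
    · subst h1; rw [xya, hy']
    · subst h2; rw [yxa, hx']; exact xya
    · subst h3; rw [hy', yxa, hx']
    · by_cases hz : y z = z
      · rw [hz]
        by_cases hxz : x z = z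
        · rw [hxz, hz, hxz]
        · have h4 : y (x z) = x z := fy _ (by rw [hx']; exact Ne.symm hxz) (fun e => h2 (by rw [← e, hx']))
          rw [h4, hx']
      · have h4 : y z ≠ a := fun e => h3 (by rw [← e, hy'])
        have h5 : x (y z) = y z := fx _ (by rw [hy']; exact Ne.symm hz) h4
        rw [h5, hy']
        exact fx z hz h1
  have main2 : ∀ z, (swap a (x a) * swap a (y a)) z =
      if z = a then y a else if z = x a then a else if z = y a then x a else z := by
    intro z
    rw [mul_apply]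
    split_ifs with h1 h2 h3
    · subst h1; rw [swap_apply_left, swap_apply_of_ne_of_ne hya (Ne.symm hxy)]
    · subst h2; rw [swap_apply_of_ne_of_ne hxa hxy, swap_apply_right]
    · subst h3; rw [swap_apply_right, swap_apply_left]
    · rw [swap_apply_of_ne_of_ne h1 h3, swap_apply_of_ne_of_ne h1 h2]
  left
  refine Equiv.ext fun z => ?_
  rw [main, mul_apply]
  split_ifs with h1 h2 h3
  · subst h1; rw [swap_apply_left, swap_apply_of_ne_of_ne hxa hxy]
  · subst h2; rw [swap_apply_right, swap_apply_left]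
  · subst h3; rw [swap_apply_of_ne_of_ne hya (Ne.symm hxy), swap_apply_right]
  · rw [swap_apply_of_ne_of_ne h1 h2, swap_apply_of_ne_of_ne h1 h3]

theorem maximal_unique (P : Sylow 2 (Perm α)) (k : ℕ) (hk : 2 ≤ k) (hcard : Fintype.card α = 2 ^ k + 1) :
    ∃ o, (∀ g ∈ (P : Subgroup (Perm α)), g o = o) ∧
      ∀ M : Subgroup (Perm α), (P : Subgroup (Perm α)) ⊓ alternatingGroup α ≤ M →
        (∃ g ∈ M, g o ≠ o) → alternatingGroup α ≤ M := by
  classical
  have h4 : 4 ≤ 2 ^ k := le_trans (by norm_num) (Nat.pow_le_pow_right (by norm_num) hk)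
  obtain ⟨o, hfo, htr, pr, hpo, hpr⟩ := structure_pow P k hk hcard
  refine ⟨o, hfo, fun M hPM hmove => ?_⟩
  have hswap2 : ∀ x y, x ≠ o → y ≠ o → y ≠ x → y ≠ pr x → swap x (pr x) * swap y (pr y) ∈ M := fun x y hx hy h1 h2 =>
    hPM ⟨mul_mem (hpr x hx).2.2.2 (hpr y hy).2.2.2, mem_alternatingGroup.2 (by
      rw [map_mul, sign_swap (Ne.symm (hpr x hx).1), sign_swap (Ne.symm (hpr y hy).1)]; rfl)⟩
  -- the even part is transitive away from `o`
  have hAt : ∀ x y, x ≠ o → y ≠ o → ∃ g ∈ M, g ∈ alternatingGroup α ∧ g o = o ∧ g x = y := by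
    intro x y hx hy
    obtain ⟨p, hp, e⟩ := htr x y hx hy
    by_cases hpe : p ∈ alternatingGroup α
    · exact ⟨p, hPM ⟨hp, hpe⟩, hpe, hfo p hp, e⟩
    · obtain ⟨z, -, hz⟩ := Finset.exists_mem_notMem_of_card_lt_card
        (show ({o, x, pr x} : Finset α).card < (Finset.univ : Finset α).card by
          have := Finset.card_le_three (a := o) (b := x) (c := pr x); rw [Finset.card_univ]; omega)
      simp only [Finset.mem_insert, Finset.mem_singleton, not_or] at hz
      have hzx : pr z ≠ x := fun h => hz.2.2 (by rw [← h, (hpr z hz.1).2.2.1])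
      have hsgn : p * swap z (pr z) ∈ alternatingGroup α := by
        rw [mem_alternatingGroup, map_mul, sign_swap (Ne.symm (hpr z hz.1).1)]
        rcases Int.units_eq_one_or (sign p) with h | h
        · exact absurd (mem_alternatingGroup.2 h) hpe
        · rw [h]; rfl
      have hmem : p * swap z (pr z) ∈ (P : Subgroup (Perm α)) := mul_mem hp (hpr z hz.1).2.2.2
      refine ⟨_, hPM ⟨hmem, hsgn⟩, hsgn, hfo _ hmem, ?_⟩
      rw [mul_apply, swap_apply_of_ne_of_ne (Ne.symm hz.2.1) (Ne.symm hzx), e]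
  obtain ⟨g, hg, hgo⟩ := hmove
  have hprim : IsPreprimitive M α := by
    refine primitive_of_stab M o (fun x => ?_) (fun x y hx hy => ?_)
    · by_cases hx : x = o
      · exact ⟨1, one_mem _, hx⟩
      · obtain ⟨h, hh, -, -, e⟩ := hAt x (g o) hx hgo
        exact ⟨g⁻¹ * h, mul_mem (inv_mem hg) hh, by rw [mul_apply, e, pinv_apply]⟩
    · obtain ⟨h, hh, -, e1, e2⟩ := hAt x y hx hy
      exact ⟨h, hh, e1, e2⟩
  rcases Nat.lt_or_ge k 3 with hk3 | hk3
  · -- degree five
    obtain rfl : k = 2 := by omega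
    norm_num at hcard
    haveI : IsSimpleGroup (alternatingGroup α) := alternatingGroup.isSimpleGroup (by rw [Nat.card_eq_fintype_card, hcard])
    set K := M.subgroupOf (alternatingGroup α)
    have htK : ∀ x y, ∃ h ∈ K, ((h : alternatingGroup α) : Perm α) x = y := by
      have fixo : ∀ x y, x ≠ o → y ≠ o → ∃ h ∈ K, ((h : alternatingGroup α) : Perm α) x = y := fun x y hx hy => by
        obtain ⟨h, hh, hA, -, e⟩ := hAt x y hx hy
        exact ⟨⟨h, hA⟩, hh, e⟩
      -- a conjugate of an even element moves `o`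
      obtain ⟨b, hb⟩ : ∃ h ∈ K, ((h : alternatingGroup α) : Perm α) o ≠ o := by
        obtain ⟨z, hzo⟩ := Fintype.exists_ne_of_one_lt_card (by omega : 1 < Fintype.card α) (g⁻¹ o)
        obtain ⟨w, hwo⟩ : ∃ w, w ≠ o ∧ w ≠ g⁻¹ o := by
          obtain ⟨w, -, hw⟩ := Finset.exists_mem_notMem_of_card_lt_card
            (show ({o, g⁻¹ o} : Finset α).card < (Finset.univ : Finset α).card by
              have := Finset.card_le_two (a := o) (b := g⁻¹ o); rw [Finset.card_univ]; omega)
          simp only [Finset.mem_insert, Finset.mem_singleton, not_or] at hw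
          exact ⟨w, hw⟩
        have hgi : g⁻¹ o ≠ o := fun e => hgo (by conv_lhs => rw [← e]; rw [papply_inv])
        obtain ⟨h, hh, hA, -, e⟩ := hAt (g⁻¹ o) w hgi hwo.1
        refine ⟨⟨g * h * g⁻¹, (inferInstance : (alternatingGroup α).Normal).conj_mem h hA g⟩,
          mul_mem (mul_mem hg hh) (inv_mem hg), ?_⟩
        show (g * h * g⁻¹) o ≠ o
        rw [mul_apply, mul_apply, e]
        exact fun e' => hwo.2 (by conv_rhs => rw [← e', pinv_apply])
      intro x y
      have toO : ∀ x, ∃ h ∈ K, ((h : alternatingGroup α) : Perm α) x = o := by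
        intro x
        by_cases hx : x = o
        · exact ⟨1, one_mem _, hx⟩
        · obtain ⟨h, hh, e⟩ := fixo x _ hx hb.2
          exact ⟨b⁻¹ * h, mul_mem (inv_mem hb.1) hh, by
            show ((b : Perm α)⁻¹ * (h : Perm α)) x = o
            rw [mul_apply, e, pinv_apply]⟩
      obtain ⟨h, hh, e⟩ := toO x
      obtain ⟨h', hh', e'⟩ := toO y
      exact ⟨h'⁻¹ * h, mul_mem (inv_mem hh') hh, by
        show ((h' : Perm α)⁻¹ * (h : Perm α)) x = y
        rw [mul_apply, e, ← e', pinv_apply]⟩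
    have h5 : 5 ∣ Nat.card ↥K := by
      haveI : MulAction.IsPretransitive ↥K α := ⟨fun x y => by
        obtain ⟨h, hh, e⟩ := htK x y; exact ⟨⟨h, hh⟩, e⟩⟩
      have h1 := (MulAction.stabilizer ↥K o).index_mul_card
      rw [MulAction.index_stabilizer_of_transitive, Nat.card_eq_fintype_card, hcard] at h1
      exact ⟨_, h1.symm⟩
    have h4' : 4 ∣ Nat.card ↥K := by
      let K4 : Subgroup ↥(alternatingGroup α) := ((P : Subgroup (Perm α)) ⊓ alternatingGroup α).subgroupOf _
      refine dvd_trans ?_ (Subgroup.card_dvd_of_le (show K4 ≤ K from fun x hx => hPM hx))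
      obtain ⟨x, hxo⟩ := Fintype.exists_ne_of_one_lt_card (by omega : 1 < Fintype.card α) o
      have hp2 : IsPGroup 2 ↥K4 := by
        refine IsPGroup.of_injective P.isPGroup'
          (((alternatingGroup α).subtype.comp K4.subtype).codRestrict (P : Subgroup (Perm α)) fun g =>
            (Subgroup.mem_inf.1 (Subgroup.mem_subgroupOf.1 g.2)).1) fun a b h =>
          Subtype.ext (Subtype.ext (congrArg (fun w : ↥(P : Subgroup (Perm α)) => (w : Perm α)) h))
      haveI : Fact (Nat.Prime 2) := ⟨Nat.prime_two⟩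
      obtain ⟨j, hj⟩ := hp2.exists_card_eq
      suffices h : 4 ≤ Nat.card ↥K4 by
        rw [hj] at h ⊢
        have : 2 ≤ j := (Nat.pow_le_pow_iff_right (show 1 < 2 by norm_num)).1 (le_of_eq_of_le (by norm_num) h)
        exact (show (4 : ℕ) = 2 ^ 2 by norm_num) ▸ Nat.pow_dvd_pow 2 this
      have hsurj : ∀ y : {y : α // y ≠ o}, ∃ g : ↥K4, ((g : ↥(alternatingGroup α)) : Perm α) x = y := by
        intro y
        obtain ⟨p, hp, e⟩ := htr x y hxo y.2
        by_cases hpe : p ∈ alternatingGroup α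
        · exact ⟨⟨⟨p, hpe⟩, hp, hpe⟩, e⟩
        · obtain ⟨z, -, hz⟩ := Finset.exists_mem_notMem_of_card_lt_card
            (show ({o, x, pr x} : Finset α).card < (Finset.univ : Finset α).card by
              have := Finset.card_le_three (a := o) (b := x) (c := pr x); rw [Finset.card_univ]; omega)
          simp only [Finset.mem_insert, Finset.mem_singleton, not_or] at hz
          have hzx : pr z ≠ x := fun h => hz.2.2 (by rw [← h, (hpr z hz.1).2.2.1])
          have hsgn : p * swap z (pr z) ∈ alternatingGroup α := by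
            rw [mem_alternatingGroup, map_mul, sign_swap (Ne.symm (hpr z hz.1).1)]
            rcases Int.units_eq_one_or (sign p) with h | h
            · exact absurd (mem_alternatingGroup.2 h) hpe
            · rw [h]; rfl
          exact ⟨⟨⟨_, hsgn⟩, mul_mem hp (hpr z hz.1).2.2.2, hsgn⟩, by
            show (p * swap z (pr z)) x = y
            rw [mul_apply, swap_apply_of_ne_of_ne (Ne.symm hz.2.1) (Ne.symm hzx), e]⟩
      choose f hf using hsurj
      have hinj : Function.Injective f := fun y y' h => Subtype.ext (by rw [← hf y, ← hf y', h])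
      have := Nat.card_le_card_of_injective f hinj
      rw [Nat.card_eq_fintype_card (α := {y : α // y ≠ o}), Fintype.card_subtype_compl, Fintype.card_subtype_eq,
        hcard] at this
      exact this
    have h20 : 20 ∣ Nat.card ↥K := (show Nat.Coprime 4 5 by norm_num).mul_dvd_of_dvd_of_dvd h4' h5
    have hA : Nat.card ↥(alternatingGroup α) = 60 := by
      haveI : Nontrivial α := Fintype.one_lt_card_iff_nontrivial.1 (by omega)
      rw [nat_card_alternatingGroup, Nat.card_eq_fintype_card, hcard]; rfl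
    have hidx : K.index ≤ 3 := by
      have h := K.index_mul_card
      rw [hA] at h
      have := Nat.le_of_dvd Nat.card_pos h20
      nlinarith
    have hKtop : K = ⊤ := by
      by_contra hne
      rcases Subgroup.Normal.eq_bot_or_eq_top (H := K.normalCore) inferInstance with h | h
      · have h1 : K.normalCore.index ∣ Nat.factorial K.index := by
          rw [Subgroup.normalCore_eq_ker, Subgroup.index_ker, Subgroup.index_eq_card, ← Nat.card_perm]
          exact Subgroup.card_subgroup_dvd_card _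
        rw [h, Subgroup.index_bot, hA] at h1
        have h3 : Nat.factorial K.index ≤ 6 := le_trans (Nat.factorial_le hidx) (by decide)
        have := Nat.le_of_dvd (Nat.factorial_pos _) h1
        omega
      · exact hne (eq_top_iff.2 (h ▸ K.normalCore_le))
    intro x hx
    have : (⟨x, hx⟩ : alternatingGroup α) ∈ K := hKtop ▸ Subgroup.mem_top _
    exact this
  · -- a three-cycle from two double transpositions
    have h8 : 8 ≤ 2 ^ k := le_trans (by norm_num) (Nat.pow_le_pow_right (by norm_num) hk3)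
    set a := g⁻¹ o with ha_def
    have hga : g a = o := papply_inv g o
    have hao : a ≠ o := fun e => hgo (by rw [e] at hga; exact hga)
    obtain ⟨c, -, hc⟩ := Finset.exists_mem_notMem_of_card_lt_card
      (show ({o, a, pr a} : Finset α).card < (Finset.univ : Finset α).card by
        have := Finset.card_le_three (a := o) (b := a) (c := pr a); rw [Finset.card_univ]; omega)
    simp only [Finset.mem_insert, Finset.mem_singleton, not_or] at hc
    obtain ⟨pa1, pa2, pa3, -⟩ := hpr a hao
    obtain ⟨pc1, pc2, pc3, -⟩ := hpr c hc.1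
    have hca : pr c ≠ a := fun e => hc.2.2 (by rw [← e, pc3])
    have hcpa : pr c ≠ pr a := fun e => hc.2.1 (by rw [← pc3, e, pa3])
    set x0 := swap a (pr a) * swap c (pr c) with hx0
    have hx0M : x0 ∈ M := hswap2 a c hao hc.1 hc.2.1 hc.2.2
    have x0moves : ∀ z, x0 z ≠ z → z = a ∨ z = pr a ∨ z = c ∨ z = pr c := by
      intro z hz
      by_contra h
      push_neg at h
      exact hz (by rw [hx0, mul_apply, swap_apply_of_ne_of_ne h.2.2.1 h.2.2.2, swap_apply_of_ne_of_ne h.1 h.2.1])
    have x0at : ∀ z, z = pr a ∨ z = c ∨ z = pr c → x0 z ≠ z := by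
      intro z hz
      rcases hz with rfl | rfl | rfl
      · rw [hx0, mul_apply, swap_apply_of_ne_of_ne (Ne.symm hc.2.2) (Ne.symm hcpa), swap_apply_right]
        exact Ne.symm pa1
      · rw [hx0, mul_apply, swap_apply_left, swap_apply_of_ne_of_ne hca hcpa]
        exact pc1
      · rw [hx0, mul_apply, swap_apply_right, swap_apply_of_ne_of_ne hc.2.1 hc.2.2]
        exact Ne.symm pc1
    have ne_o : ∀ z, z ≠ a → g z ≠ o := fun z hz e => hz (g.injective (e.trans hga.symm))
    set p1 := g (pr a)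
    set p2 := g c
    set p3 := g (pr c)
    have h1o : p1 ≠ o := ne_o _ pa1
    have h2o : p2 ≠ o := ne_o _ hc.2.1
    have h3o : p3 ≠ o := ne_o _ hca
    have h12 : p1 ≠ p2 := fun e => hc.2.2 (g.injective e).symm
    have h13 : p1 ≠ p3 := fun e => hcpa (g.injective e).symm
    have h23 : p2 ≠ p3 := fun e => pc1 (g.injective e).symm
    obtain ⟨q, hq, hq1, hq2, hq3⟩ : ∃ q, (q = p1 ∨ q = p2 ∨ q = p3) ∧ pr q ≠ p1 ∧ pr q ≠ p2 ∧ pr q ≠ p3 := by
      by_contra h
      push_neg at h
      obtain ⟨e1, -, i1, -⟩ := hpr p1 h1o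
      obtain ⟨e2, -, i2, -⟩ := hpr p2 h2o
      obtain ⟨e3, -, i3, -⟩ := hpr p3 h3o
      have r1 : pr p1 = p2 ∨ pr p1 = p3 := by
        by_contra hh; push_neg at hh; exact hh.2 (h p1 (Or.inl rfl) e1 hh.1)
      rcases r1 with r | r
      · have r2 : pr p2 = p1 := by rw [← r, i1]
        have r3 : pr p3 ≠ p1 ∧ pr p3 ≠ p2 := ⟨fun e => h23 (by rw [← i3, e, r]), fun e => h13 (by rw [← i3, e, r2])⟩
        exact e3 (h p3 (Or.inr (Or.inr rfl)) r3.1 r3.2)
      · have r2 : pr p3 = p1 := by rw [← r, i1]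
        have r3 : pr p2 ≠ p1 := fun e => h23 (by rw [← i2, e, r])
        exact h12 (by rw [← r2, ← h p2 (Or.inr (Or.inl rfl)) r3 e2, i2])
    have hqo : q ≠ o := by rcases hq with rfl | rfl | rfl <;> assumption
    obtain ⟨z, -, hz⟩ := Finset.exists_mem_notMem_of_card_lt_card
      (show ({o, p1, p2, p3, pr p1, pr p2, pr p3} : Finset α).card < (Finset.univ : Finset α).card by
        have h7 : ({o, p1, p2, p3, pr p1, pr p2, pr p3} : Finset α).card ≤ 7 :=
          le_trans (Finset.card_insert_le _ _) (Nat.succ_le_succ (le_trans (Finset.card_insert_le _ _)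
            (Nat.succ_le_succ (le_trans (Finset.card_insert_le _ _) (Nat.succ_le_succ (le_trans
              (Finset.card_insert_le _ _) (Nat.succ_le_succ Finset.card_le_three)))))))
        rw [Finset.card_univ]; omega)
    simp only [Finset.mem_insert, Finset.mem_singleton, not_or] at hz
    obtain ⟨hzo, hz1, hz2, hz3, hz4, hz5, hz6⟩ := hz
    obtain ⟨pq1, pq2, pq3, -⟩ := hpr q hqo
    obtain ⟨pz1, pz2, pz3, -⟩ := hpr z hzo
    have hzq : z ≠ q ∧ z ≠ pr q := by
      rcases hq with rfl | rfl | rfl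
      exacts [⟨hz1, hz4⟩, ⟨hz2, hz5⟩, ⟨hz3, hz6⟩]
    set y := swap q (pr q) * swap z (pr z) with hy0
    have hyM : y ∈ M := hswap2 q z hqo hzo hzq.1 hzq.2
    set x := g * x0 * g⁻¹ with hx
    have hxM : x ∈ M := mul_mem (mul_mem hg hx0M) (inv_mem hg)
    have invol : ∀ u v u' v' : α, u' ≠ u → u' ≠ v → v' ≠ u → v' ≠ v →
        swap u v * swap u' v' * (swap u v * swap u' v') = 1 := fun u v u' v' e1 e2 e3 e4 => by
      have hd : Commute (swap u v) (swap u' v') := Equiv.Perm.Disjoint.commute fun w => by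
        by_cases hw : w = u ∨ w = v
        · right
          rcases hw with rfl | rfl
          exacts [swap_apply_of_ne_of_ne e1.symm e3.symm, swap_apply_of_ne_of_ne e2.symm e4.symm]
        · push_neg at hw
          exact Or.inl (swap_apply_of_ne_of_ne hw.1 hw.2)
      rw [mul_assoc, ← mul_assoc (swap u' v'), ← hd.eq, mul_assoc, swap_mul_self, mul_one, swap_mul_self]
    have hqpz : pr z ≠ q := fun e => hzq.2 (by rw [← e, pz3])
    have hzz : pr z ≠ pr q := fun e => hzq.1 (by rw [← pz3, e, pq3])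
    have hyy : y * y = 1 := invol _ _ _ _ hzq.1 hzq.2 hqpz hzz
    have hxx : x * x = 1 := by
      rw [hx, conj_mul, invol _ _ _ _ hc.2.1 hc.2.2 hca hcpa, mul_one, mul_inv_cancel]
    have hxq : x q ≠ q := by
      obtain ⟨w, hw, e⟩ : ∃ w, (w = pr a ∨ w = c ∨ w = pr c) ∧ g w = q := by
        rcases hq with rfl | rfl | rfl
        exacts [⟨_, Or.inl rfl, rfl⟩, ⟨_, Or.inr (Or.inl rfl), rfl⟩, ⟨_, Or.inr (Or.inr rfl), rfl⟩]
      rw [← e, hx, mul_apply, mul_apply, pinv_apply]
      exact fun h => x0at w hw (g.injective h)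
    have hyq : y q ≠ q := by
      rw [hy0, mul_apply, swap_apply_of_ne_of_ne (Ne.symm hzq.1) (Ne.symm hqpz), swap_apply_left]
      exact pq1
    refine alternatingGroup_le_of_isPreprimitive_of_isThreeCycle_mem hprim
      (commutator_threeCycle hxx hyy hxq hyq fun w hw hwy => ?_) (mul_mem (mul_mem (mul_mem hxM hyM) hxM) hyM)
    have hwx : w = o ∨ w = p1 ∨ w = p2 ∨ w = p3 := by
      have h1 : x0 (g⁻¹ w) ≠ g⁻¹ w := fun e => hw (by rw [hx, mul_apply, mul_apply, e, papply_inv])
      rcases x0moves _ h1 with e | e | e | e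
      · exact Or.inl (by rw [← papply_inv g w, e, hga])
      · exact Or.inr (Or.inl (by rw [← papply_inv g w, e]))
      · exact Or.inr (Or.inr (Or.inl (by rw [← papply_inv g w, e])))
      · exact Or.inr (Or.inr (Or.inr (by rw [← papply_inv g w, e])))
    by_contra hne
    refine hwy ?_
    rw [hy0, mul_apply]
    have hz' : w ≠ z := by rcases hwx with rfl | rfl | rfl | rfl <;> [exact Ne.symm hzo; exact Ne.symm hz1; exact Ne.symm hz2; exact Ne.symm hz3]
    have hpz' : w ≠ pr z := by
      rcases hwx with rfl | rfl | rfl | rfl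
      · exact Ne.symm pz2
      all_goals intro e
      · exact hz4 (by rw [e, pz3])
      · exact hz5 (by rw [e, pz3])
      · exact hz6 (by rw [e, pz3])
    have hpq : w ≠ pr q := by
      rcases hwx with rfl | rfl | rfl | rfl
      exacts [Ne.symm pq2, Ne.symm hq1, Ne.symm hq2, Ne.symm hq3]
    rw [swap_apply_of_ne_of_ne hz' hpz', swap_apply_of_ne_of_ne hne hpq]

end Cfsg.Lib.Known.SylowTwoMax
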