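import Mathlib
import Cfsg.Prelude.Def_Classical
import Cfsg.Agent.Classical.Misc.HyperbolicQuadric
import Cfsg.Agent.Known.FormEquiv
import Cfsg.Agent.Classical.Misc.NegOne

/-! Character sums of binary quadratic forms. -/

set_option autoImplicit false
set_option linter.unusedSectionVars false

namespace Cfsg.Lib.ArfSum

/-- The sign character of `ZMod 2`. -/
def χ (a : ZMod 2) : ℤ := if a = 0 then 1 else -1

theorem χ_zero : χ 0 = 1 := rfl

theorem χ_add : ∀ a b : ZMod 2, χ (a + b) = χ a * χ b := by decide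

theorem χ_one : χ 1 = -1 := rfl

theorem zmod_cases : ∀ a : ZMod 2, a = 0 ∨ a = 1 := by decide

section Sum

variable {V : Type*} [AddCommGroup V] [Fintype V]

/-- The character sum. -/
def S (f : V → ZMod 2) : ℤ := ∑ v, χ (f v)

theorem S_comp {W : Type*} [AddCommGroup W] [Fintype W] (e : V ≃ W) (f : W → ZMod 2) : S (fun v => f (e v)) = S f :=
  Fintype.sum_equiv e _ _ fun _ => rfl

theorem sum_shift_zero (l : V → ZMod 2) (hl : ∀ u v, l (u + v) = l u + l v) {v : V} (hv : l v ≠ 0) :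
    ∑ u, χ (l u) = 0 := by
  have h : ∑ u, χ (l u) = ∑ u, χ (l (u + v)) := (Fintype.sum_equiv (Equiv.addRight v) _ _ fun _ => rfl).symm
  simp only [hl, χ_add, (zmod_cases (l v)).resolve_left hv, χ_one, mul_neg_one, Finset.sum_neg_distrib] at h
  omega

theorem two_card_zero (f : V → ZMod 2) : 2 * (Nat.card {v // f v = 0} : ℤ) = Fintype.card V + S f := by
  classical
  have h : ∀ v, χ (f v) = 2 * (if f v = 0 then (1 : ℤ) else 0) - 1 := fun v => by
    unfold χ; split_ifs <;> ring
  rw [S, Finset.sum_congr rfl fun v _ => h v, Finset.sum_sub_distrib, ← Finset.mul_sum, Finset.sum_boole,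
    Nat.card_eq_fintype_card, Fintype.card_subtype]
  simp

variable (f : V → ZMod 2) (B : V → V → ZMod 2) (hf : ∀ u v, f (u + v) = f u + f v + B u v)
  (hB : ∀ u v w, B (u + v) w = B u w + B v w) (hnd : ∀ d, d ≠ 0 → ∃ u, B u d ≠ 0)

include hf in
theorem apply_zero : f 0 = B 0 0 := by
  have := hf 0 0
  rw [add_zero] at this
  have h : ∀ a b : ZMod 2, a = a + a + b → a = b := by decide
  exact h _ _ this

include hf hB hnd in
theorem S_sq : S f * S f = Fintype.card V := by
  classical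
  have h0 : f 0 = 0 := by
    rw [apply_zero f B hf]
    have := hB 0 0 0
    rw [add_zero] at this
    exact left_eq_add.1 this
  have hχ : ∀ u d, χ (f u) * χ (f (u + d)) = χ (f d) * χ (B u d) := fun u d => by
    rw [hf, ← χ_add, ← χ_add]
    congr 1
    have : ∀ a b c : ZMod 2, a + (a + b + c) = b + c := by decide
    exact this _ _ _
  calc S f * S f = ∑ u, ∑ d, χ (f u) * χ (f (u + d)) := by
        rw [S, Finset.sum_mul]
        exact Finset.sum_congr rfl fun u _ => by
          rw [Finset.mul_sum]; exact (Fintype.sum_equiv (Equiv.addLeft u) _ _ fun _ => rfl).symm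
    _ = ∑ d, χ (f d) * ∑ u, χ (B u d) := by
        rw [Finset.sum_comm]; simp only [hχ, Finset.mul_sum]
    _ = Fintype.card V := by
        rw [Finset.sum_eq_single 0 (fun d _ hd => by
          obtain ⟨u, hu⟩ := hnd d hd
          rw [sum_shift_zero (fun u => B u d) (fun a b => hB a b d) hu, mul_zero]) (by simp)]
        have hB0 : ∀ u, B u 0 = 0 := fun u => by
          have h1 := hf u 0
          rw [add_zero, h0, add_zero] at h1
          exact left_eq_add.1 h1
        simp [h0, hB0, χ_zero]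

end Sum

open Cfsg

/-- The polar form of the plus form. -/
noncomputable def b (m : ℕ) (u v : Fin m ⊕ Fin m → ZMod 2) : ZMod 2 :=
  quadFormPlus m (ZMod 2) (u + v) - quadFormPlus m (ZMod 2) u - quadFormPlus m (ZMod 2) v

theorem b_eq (m : ℕ) (u v : Fin m ⊕ Fin m → ZMod 2) :
    b m u v = QuadraticMap.polar (⇑(Cfsg.Lib.Classical.HypQuad.plusForm m (ZMod 2))) u v := by
  simp [b, QuadraticMap.polar, Cfsg.Lib.Classical.HypQuad.plusForm_apply]

theorem b_add (m : ℕ) (u v w : Fin m ⊕ Fin m → ZMod 2) : b m (u + v) w = b m u w + b m v w := by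
  rw [b_eq, b_eq, b_eq, QuadraticMap.polar_add_left]

theorem b_smul (m : ℕ) (c : ZMod 2) (u w : Fin m ⊕ Fin m → ZMod 2) : b m (c • u) w = c * b m u w := by
  rw [b_eq, b_eq, QuadraticMap.polar_smul_left, smul_eq_mul]

theorem b_comm (m : ℕ) (u v : Fin m ⊕ Fin m → ZMod 2) : b m u v = b m v u := by
  rw [b_eq, b_eq, QuadraticMap.polar_comm]

theorem b_self (m : ℕ) (u : Fin m ⊕ Fin m → ZMod 2) : b m u u = 0 := by
  rw [b_eq, QuadraticMap.polar_self, nsmul_eq_mul]
  rw [show ((2 : ℕ) : ZMod 2) = 0 from rfl, zero_mul]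

theorem b_nondeg (m : ℕ) (d : Fin m ⊕ Fin m → ZMod 2) (hd : d ≠ 0) : ∃ u, b m u d ≠ 0 := by
  by_contra h
  push Not at h
  exact hd ((Cfsg.Lib.Classical.HypQuad.plusForm_nondegenerate m).1 d fun u => by
    rw [QuadraticMap.polarBilin_apply_apply, ← b_eq, b_comm]; exact h u)

theorem card_space (m : ℕ) : Fintype.card (Fin m ⊕ Fin m → ZMod 2) = 2 ^ (2 * m) := by simp [two_mul]

theorem S_plus (m : ℕ) : S (quadFormPlus m (ZMod 2)) = 2 ^ m := by
  classical
  let e : (Fin m → ZMod 2 × ZMod 2) ≃ (Fin m ⊕ Fin m → ZMod 2) :=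
    (Equiv.arrowProdEquivProdArrow _ (fun _ => ZMod 2) (fun _ => ZMod 2)).trans (Equiv.sumArrowEquivProdArrow _ _ _).symm
  rw [← S_comp (W := Fin m ⊕ Fin m → ZMod 2) e]
  have hprod : ∀ (s : Finset (Fin m)) (g : Fin m → ZMod 2), χ (∑ i ∈ s, g i) = ∏ i ∈ s, χ (g i) := by
    intro s g
    induction s using Finset.induction_on with
    | empty => rfl
    | insert i s hi ih => rw [Finset.sum_insert hi, Finset.prod_insert hi, χ_add, ih]
  have h : ∀ x : Fin m → ZMod 2 × ZMod 2, χ (quadFormPlus m (ZMod 2) (e x)) = ∏ i, χ ((x i).1 * (x i).2) :=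
    fun x => hprod _ fun i => (x i).1 * (x i).2
  rw [S, Finset.sum_congr rfl fun x _ => h x, ← Fintype.prod_sum (fun _ (p : ZMod 2 × ZMod 2) => χ (p.1 * p.2)),
    Finset.prod_const, Finset.card_univ, Fintype.card_fin]
  rfl

theorem S_minus (k : ℕ) : S (quadFormMinus k (ZMod 2) 1 1) = -2 ^ (k + 1) := by
  classical
  let e : (Fin k ⊕ Fin k → ZMod 2) × (Fin 2 → ZMod 2) ≃ ((Fin k ⊕ Fin k) ⊕ Fin 2 → ZMod 2) :=
    (Equiv.sumArrowEquivProdArrow _ _ _).symm
  rw [← S_comp (W := (Fin k ⊕ Fin k) ⊕ Fin 2 → ZMod 2) e, S]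
  have h : ∀ p : (Fin k ⊕ Fin k → ZMod 2) × (Fin 2 → ZMod 2), χ (quadFormMinus k (ZMod 2) 1 1 (e p)) =
      χ (quadFormPlus k (ZMod 2) p.1) * χ (p.2 0 ^ 2 + 1 * p.2 0 * p.2 1 + 1 * p.2 1 ^ 2) := fun p => χ_add _ _
  rw [Finset.sum_congr rfl fun p _ => h p, Fintype.sum_prod_type]
  simp only [← Finset.mul_sum]
  rw [← Finset.sum_mul, show (∑ z : Fin 2 → ZMod 2, χ (z 0 ^ 2 + 1 * z 0 * z 1 + 1 * z 1 ^ 2)) = -2 by decide]
  show S (quadFormPlus k (ZMod 2)) * -2 = _
  rw [S_plus]; ring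

/-- A function polarizing to `b` as a quadratic form. -/
noncomputable def toForm (m : ℕ) (q : (Fin m ⊕ Fin m → ZMod 2) → ZMod 2)
    (hq : ∀ u v, q (u + v) = q u + q v + b m u v) : QuadraticForm (ZMod 2) (Fin m ⊕ Fin m → ZMod 2) :=
  QuadraticMap.ofPolar q
    (fun c x => by
      rcases zmod_cases c with rfl | rfl
      · have := apply_zero q (b m) hq
        rw [zero_smul, mul_zero, zero_smul, this, b_self]
      · rw [one_smul, one_mul, one_smul])
    (fun x y z => by
      simp only [QuadraticMap.polar, hq, b_add]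
      ring)
    (fun c x y => by
      simp only [QuadraticMap.polar, hq, b_smul, smul_eq_mul]
      ring)

theorem toForm_apply (m : ℕ) (q : (Fin m ⊕ Fin m → ZMod 2) → ZMod 2)
    (hq : ∀ u v, q (u + v) = q u + q v + b m u v) (v) : toForm m q hq v = q v := rfl

theorem toForm_nondeg (m : ℕ) (q : (Fin m ⊕ Fin m → ZMod 2) → ZMod 2)
    (hq : ∀ u v, q (u + v) = q u + q v + b m u v) : (QuadraticMap.polarBilin (toForm m q hq)).Nondegenerate := by
  have h : ∀ u v, QuadraticMap.polar (⇑(toForm m q hq)) u v = b m u v := fun u v => by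
    simp only [QuadraticMap.polar, toForm_apply, hq]; ring
  have h1 : ∀ x, (∀ y, b m x y = 0) → x = 0 := fun x hx => by
    by_contra hne
    obtain ⟨u, hu⟩ := b_nondeg m x hne
    exact hu (by rw [b_comm]; exact hx u)
  exact ⟨fun x hx => h1 x fun y => by rw [← h]; exact hx y, fun x hx => h1 x fun y => by rw [b_comm, ← h]; exact hx y⟩

theorem classify (m : ℕ) (q : (Fin m ⊕ Fin m → ZMod 2) → ZMod 2)
    (hq : ∀ u v, q (u + v) = q u + q v + b m u v) :
    (∃ g : (Fin m ⊕ Fin m → ZMod 2) ≃ₗ[ZMod 2] (Fin m ⊕ Fin m → ZMod 2), ∀ v, q v = quadFormPlus m (ZMod 2) (g v)) ∨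
      (∃ g : (Fin m ⊕ Fin m → ZMod 2) ≃ₗ[ZMod 2] ((Fin (m - 1) ⊕ Fin (m - 1)) ⊕ Fin 2 → ZMod 2),
        ∀ v, q v = quadFormMinus (m - 1) (ZMod 2) 1 1 (g v)) := by
  classical
  haveI : Fact (Nat.Prime 2) := ⟨Nat.prime_two⟩
  set Q := toForm m q hq
  rcases Cfsg.Lib.FormNormal.even_basis (m := m) Q (by rw [Module.finrank_pi, Fintype.card_sum, Fintype.card_fin]; ring)
    (toForm_nondeg m q hq) with ⟨D, hD⟩ | ⟨D, hD, hK⟩
  · left
    have hd := D.dim
    rw [finrank_top, Module.finrank_pi, Fintype.card_sum, Fintype.card_fin] at hd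
    exact Cfsg.Lib.FormNormal.plus_equiv D hD (by omega)
  · right
    exact Cfsg.Lib.FormNormal.minus_equiv D (k := m - 1) (by omega) hK (by decide)

theorem translate (m : ℕ) (q : (Fin m ⊕ Fin m → ZMod 2) → ZMod 2)
    (hq : ∀ u v, q (u + v) = q u + q v + b m u v) (w : Fin m ⊕ Fin m → ZMod 2) :
    (∃ g : (Fin m ⊕ Fin m → ZMod 2) ≃ₗ[ZMod 2] (Fin m ⊕ Fin m → ZMod 2), ∀ v, q v + b m v w = q (g v)) ↔ q w = 0 := by
  classical
  have key : ∀ a c : ZMod 2, a + c = a + 1 + c + 1 := by decide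
  have two : ∀ a : ZMod 2, a + a = 0 := by decide
  haveI : Fact (Nat.Prime 2) := ⟨Nat.prime_two⟩
  constructor
  · rintro ⟨g, hg⟩
    by_contra hw
    have hw1 := (zmod_cases (q w)).resolve_left hw
    have h1 : S (fun v => q v + b m v w) = - S q := by
      rw [S, S, ← Finset.sum_neg_distrib]
      refine Fintype.sum_equiv (Equiv.addRight w) _ _ fun v => ?_
      show _ = -χ (q (v + w))
      rw [hq, hw1, show q v + b m v w = q v + 1 + b m v w + 1 from key _ _, χ_add, χ_one]
      ring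
    have h2 : S (fun v => q v + b m v w) = S q := by
      rw [show (fun v => q v + b m v w) = fun v => q (g.toEquiv v) from funext hg, S_comp]
    have h3 := S_sq q (b m) hq (b_add m) (b_nondeg m)
    have h4 : S q = 0 := by omega
    rw [h4, card_space] at h3
    have : (0 : ℤ) < ((2 ^ (2 * m) : ℕ) : ℤ) := by positivity
    omega
  · intro hw
    let t : (Fin m ⊕ Fin m → ZMod 2) →ₗ[ZMod 2] (Fin m ⊕ Fin m → ZMod 2) :=
      { toFun := fun v => v + b m v w • w
        map_add' := fun u v => by rw [b_add, add_smul]; abel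
        map_smul' := fun c v => by rw [b_smul, RingHom.id_apply, smul_add, mul_smul] }
    have ht : ∀ v, t (t v) = v := fun v => by
      show v + b m v w • w + b m (v + b m v w • w) w • w = v
      rw [b_add, b_smul, b_self, mul_zero, add_zero, add_assoc, ← add_smul,
        two, zero_smul, add_zero]
    refine ⟨LinearEquiv.ofLinear t t (LinearMap.ext ht) (LinearMap.ext ht), fun v => ?_⟩
    show _ = q (v + b m v w • w)
    rcases zmod_cases (b m v w) with h | h
    · rw [h, zero_smul, add_zero, add_zero]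
    · rw [h, one_smul, hq, hw, h, add_zero]

end Cfsg.Lib.ArfSum

namespace Cfsg.Lib.ArfSum

theorem singular_le {V : Type} [AddCommGroup V] [Module (ZMod 2) V] [Module.Finite (ZMod 2) V]
    (Q : QuadraticForm (ZMod 2) V) (hQ : (QuadraticMap.polarBilin Q).Nondegenerate) (U : Submodule (ZMod 2) V)
    (hU : ∀ u ∈ U, Q u = 0) : 2 * Module.finrank (ZMod 2) U ≤ Module.finrank (ZMod 2) V := by
  haveI : Fact (Nat.Prime 2) := ⟨Nat.prime_two⟩
  have hrefl : (QuadraticMap.polarBilin Q).IsRefl := fun x y h => by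
    rw [QuadraticMap.polarBilin_apply_apply, QuadraticMap.polar_comm]; exact h
  have hle : U ≤ LinearMap.BilinForm.orthogonal (QuadraticMap.polarBilin Q) U := fun x hx y hy => by
    show QuadraticMap.polar (⇑Q) y x = 0
    simp [QuadraticMap.polar, hU x hx, hU y hy, hU _ (U.add_mem hy hx)]
  have h1 := Submodule.finrank_mono hle
  rw [LinearMap.BilinForm.finrank_orthogonal hQ U] at h1
  omega

theorem S_of_half {V : Type} [AddCommGroup V] [Module (ZMod 2) V] [Fintype V]
    (Q : QuadraticForm (ZMod 2) V) (hQ : (QuadraticMap.polarBilin Q).Nondegenerate) (U : Submodule (ZMod 2) V)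
    (hU : ∀ u ∈ U, Q u = 0) (hd : 2 * Module.finrank (ZMod 2) U = Module.finrank (ZMod 2) V) : 0 ≤ S ⇑Q := by
  classical
  have h2 : ∀ a : ZMod 2, a ≠ 0 → a = 1 := by decide
  haveI : Fact (Nat.Prime 2) := ⟨Nat.prime_two⟩
  have hrefl : (QuadraticMap.polarBilin Q).IsRefl := fun x y h => by
    rw [QuadraticMap.polarBilin_apply_apply, QuadraticMap.polar_comm]; exact h
  set U' := LinearMap.BilinForm.orthogonal (QuadraticMap.polarBilin Q) U
  have hle : U ≤ U' := fun x hx y hy => by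
    show QuadraticMap.polar (⇑Q) y x = 0
    simp [QuadraticMap.polar, hU x hx, hU y hy, hU _ (U.add_mem hy hx)]
  have heq : U = U' := Submodule.eq_of_le_of_finrank_le hle (by
    rw [LinearMap.BilinForm.finrank_orthogonal hQ U]; omega)
  have hshift : ∀ u : U, S ⇑Q = ∑ v, χ (Q v) * χ (QuadraticMap.polar (⇑Q) v u) := fun u => by
    refine ((Fintype.sum_equiv (Equiv.addRight (u : V)) _ _ fun _ => rfl).symm.trans ?_)
    refine Finset.sum_congr rfl fun v _ => ?_
    show χ (Q (v + u)) = _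
    rw [QuadraticMap.map_add (f := Q), hU u u.2, add_zero, χ_add]
  have hinner : ∀ v, χ (Q v) * ∑ u : U, χ (QuadraticMap.polar (⇑Q) v u) =
      if v ∈ U then (Fintype.card U : ℤ) else 0 := fun v => by
    split_ifs with hv
    · have h0 : ∀ u : U, QuadraticMap.polar (⇑Q) v u = 0 := fun u => by
        rw [QuadraticMap.polar_comm]; exact (heq ▸ hv : v ∈ U') u u.2
      simp [h0, hU v hv, χ_zero]
    · obtain ⟨u, hu, huv⟩ : ∃ u ∈ U, QuadraticMap.polar (⇑Q) u v ≠ 0 := by
        by_contra hh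
        push Not at hh
        exact hv (heq ▸ (show v ∈ U' from hh))
      rw [sum_shift_zero (V := U) (fun x => QuadraticMap.polar (⇑Q) v x) (fun a b => QuadraticMap.polar_add_right ..)
        (v := ⟨u, hu⟩) (by rw [QuadraticMap.polar_comm]; exact huv), mul_zero]
  have h3 : (Fintype.card U : ℤ) * S ⇑Q = ∑ v : V, if v ∈ U then (Fintype.card U : ℤ) else 0 := by
    rw [← Finset.sum_congr rfl fun v _ => hinner v]
    simp only [Finset.mul_sum]
    rw [Finset.sum_comm, ← Finset.sum_congr rfl fun u _ => hshift u]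
    simp
  have hpos : (0 : ℤ) < Fintype.card U := by exact_mod_cast Fintype.card_pos
  have h4 : (0 : ℤ) ≤ ∑ v : V, if v ∈ U then (Fintype.card U : ℤ) else 0 :=
    Finset.sum_nonneg fun v _ => by split_ifs <;> omega
  nlinarith

end Cfsg.Lib.ArfSum
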