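import Mathlib

/-! Element orders of symmetric and alternating groups through cycle types. -/

set_option autoImplicit false

namespace Cfsg.Lib.Known.AltSpec

open Equiv.Perm in
theorem mem_perm_iff (n m : ℕ) : m ∈ Set.range (orderOf : Equiv.Perm (Fin n) → ℕ) ↔
    ∃ M : Multiset ℕ, M.sum ≤ n ∧ (∀ a ∈ M, 2 ≤ a) ∧ M.lcm = m := by
  constructor
  · rintro ⟨g, rfl⟩
    have h := (exists_with_cycleType_iff (α := Fin n) (m := g.cycleType)).1 ⟨g, rfl⟩
    exact ⟨g.cycleType, by simpa using h.1, h.2, lcm_cycleType g⟩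
  · rintro ⟨M, h1, h2, rfl⟩
    obtain ⟨g, hg⟩ := (exists_with_cycleType_iff (α := Fin n) (m := M)).2 ⟨by simpa using h1, h2⟩
    exact ⟨g, by rw [← lcm_cycleType, hg]⟩

open Equiv.Perm in
theorem mem_alt_iff (n m : ℕ) : m ∈ Set.range (orderOf : alternatingGroup (Fin n) → ℕ) ↔
    ∃ M : Multiset ℕ, M.sum ≤ n ∧ (∀ a ∈ M, 2 ≤ a) ∧ Even (M.sum + Multiset.card M) ∧ M.lcm = m := by
  constructor
  · rintro ⟨⟨g, hg⟩, rfl⟩
    have h := (exists_with_cycleType_iff (α := Fin n) (m := g.cycleType)).1 ⟨g, rfl⟩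
    refine ⟨g.cycleType, by simpa using h.1, h.2, ?_, by rw [lcm_cycleType, Subgroup.orderOf_mk]⟩
    rw [Equiv.Perm.mem_alternatingGroup, sign_of_cycleType] at hg
    rcases Nat.even_or_odd (g.cycleType.sum + Multiset.card g.cycleType) with he | ho
    · exact he
    · rw [ho.neg_one_pow] at hg; exact absurd hg (by decide)
  · rintro ⟨M, h1, h2, hpar, rfl⟩
    obtain ⟨g, hg⟩ := (exists_with_cycleType_iff (α := Fin n) (m := M)).2 ⟨by simpa using h1, h2⟩
    refine ⟨⟨g, ?_⟩, by rw [Subgroup.orderOf_mk, ← lcm_cycleType, hg]⟩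
    rw [Equiv.Perm.mem_alternatingGroup, sign_of_cycleType, hg, hpar.neg_one_pow]

/-- All multisets with entries in `[2, k]` and sum at most `n`, as lists. -/
def parts : ℕ → ℕ → List (List ℕ)
  | 0, _ => [[]]
  | k + 1, n => if k + 1 < 2 then [[]] else
      (List.range (n / (k + 1) + 1)).flatMap fun j => (parts k (n - j * (k + 1))).map (List.replicate j (k + 1) ++ ·)

theorem exists_parts : ∀ (k n : ℕ) (M : Multiset ℕ), (∀ a ∈ M, 2 ≤ a ∧ a ≤ k) → M.sum ≤ n →
    ∃ L ∈ parts k n, (L : Multiset ℕ) = M := by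
  intro k
  induction k with
  | zero =>
    intro n M h _
    refine ⟨[], by simp [parts], ?_⟩
    rw [Multiset.coe_nil]
    exact (Multiset.eq_zero_of_forall_notMem fun a ha => by have := h a ha; omega).symm
  | succ k ih =>
    intro n M h hsum
    by_cases hk : k + 1 < 2
    · refine ⟨[], by simp [parts, hk], ?_⟩
      rw [Multiset.coe_nil]
      exact (Multiset.eq_zero_of_forall_notMem fun a ha => by have := h a ha; omega).symm
    set j := M.count (k + 1)
    set M' := M.filter (fun a => ¬ a = k + 1) with hM'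
    have hM : Multiset.replicate j (k + 1) + M' = M := by
      rw [← Multiset.filter_eq', hM', Multiset.filter_add_not]
    have hs : j * (k + 1) + M'.sum = M.sum := by
      conv_rhs => rw [← hM]
      rw [Multiset.sum_add, Multiset.sum_replicate, smul_eq_mul]
    obtain ⟨L, hL, hLM⟩ := ih (n - j * (k + 1)) M' (fun a ha => by
      rw [hM', Multiset.mem_filter] at ha
      have := h a ha.1
      omega) (by omega)
    refine ⟨List.replicate j (k + 1) ++ L, ?_, ?_⟩
    · simp only [parts, hk, if_false, List.mem_flatMap, List.mem_range, List.mem_map]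
      refine ⟨j, ?_, L, hL, rfl⟩
      rw [Nat.lt_succ_iff, Nat.le_div_iff_mul_le (by omega)]
      omega
    · rw [← Multiset.coe_add, hLM, Multiset.coe_replicate, hM]

theorem range_alt (n : ℕ) (S : List ℕ)
    (h1 : ∀ L ∈ parts n n, Even (L.sum + L.length) → (L : Multiset ℕ).lcm ∈ S)
    (h2 : ∀ m ∈ S, ∃ L ∈ parts n n, L.sum ≤ n ∧ (∀ a ∈ L, 2 ≤ a) ∧ Even (L.sum + L.length) ∧ (L : Multiset ℕ).lcm = m) :
    Set.range (orderOf : alternatingGroup (Fin n) → ℕ) = {m | m ∈ S} := by
  ext m
  rw [mem_alt_iff, Set.mem_setOf_eq]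
  constructor
  · rintro ⟨M, hs, ha, he, rfl⟩
    obtain ⟨L, hL, rfl⟩ := exists_parts n n M (fun a h => ⟨ha a h, (Multiset.le_sum_of_mem h).trans hs⟩) hs
    exact h1 L hL (by simpa using he)
  · intro hm
    obtain ⟨L, -, hs, ha, he, rfl⟩ := h2 m hm
    exact ⟨L, by simpa using hs, by simpa using ha, by simpa using he, rfl⟩

theorem two_primes {n r s : ℕ} (hr : r.Prime) (hs : s.Prime) (hr2 : r ≠ 2) (hs2 : s ≠ 2) (hrs : r ≠ s) :
    (r * s ∈ Set.range (orderOf : alternatingGroup (Fin n) → ℕ)) ↔ r + s ≤ n := by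
  rw [mem_alt_iff]
  constructor
  · rintro ⟨M, hsum, ha, -, hl⟩
    have hdvd : ∀ a ∈ M, a = r * s ∨ a = r ∨ a = s := fun a h => by
      obtain ⟨d, e, hd, he, rfl⟩ := exists_dvd_and_dvd_of_dvd_mul (hl ▸ Multiset.dvd_lcm h)
      rcases (Nat.dvd_prime hr).1 hd with rfl | rfl <;> rcases (Nat.dvd_prime hs).1 he with rfl | rfl
      · have := ha _ h; simp at this
      · exact .inr (.inr (one_mul _))
      · exact .inr (.inl (mul_one _))
      · exact .inl rfl
    by_cases hbig : r * s ∈ M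
    · have := (Multiset.le_sum_of_mem hbig).trans hsum
      have := hr.two_le; have := hs.two_le
      nlinarith
    have hmem : ∀ t u : ℕ, t.Prime → u.Prime → t ≠ u → t * u = r * s → (∀ a ∈ M, a = t ∨ a = u) → t ∈ M := by
      intro t u ht hu htu e hall
      by_contra hn
      have : M.lcm ∣ u := Multiset.lcm_dvd.2 fun a h => by rw [(hall a h).resolve_left fun e' => hn (e' ▸ h)]
      rw [hl, ← e] at this
      exact htu ((Nat.prime_dvd_prime_iff_eq ht hu).1 (dvd_trans (dvd_mul_right t u) this))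
    have hrM := hmem r s hr hs hrs rfl fun a h => (hdvd a h).resolve_left fun e => hbig (e ▸ h)
    have hsM := hmem s r hs hr hrs.symm (mul_comm s r) fun a h => ((hdvd a h).resolve_left fun e => hbig (e ▸ h)).symm
    obtain ⟨M', rfl⟩ := Multiset.exists_cons_of_mem hrM
    have hsM' : s ∈ M' := (Multiset.mem_cons.1 hsM).resolve_left hrs.symm
    have := Multiset.le_sum_of_mem hsM'
    rw [Multiset.sum_cons] at hsum
    omega
  · intro h
    refine ⟨{r, s}, by simpa using h, by simp [hr.two_le, hs.two_le], ?_, ?_⟩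
    · obtain ⟨a, rfl⟩ := hr.odd_of_ne_two hr2
      obtain ⟨b, rfl⟩ := hs.odd_of_ne_two hs2
      exact ⟨a + b + 2, by simp; ring⟩
    · rw [Multiset.insert_eq_cons, Multiset.lcm_cons, Multiset.lcm_singleton, normalize_eq]
      exact ((Nat.coprime_primes hr hs).2 hrs).lcm_eq_mul

theorem twice_prime {n r : ℕ} (hr : r.Prime) (hr2 : r ≠ 2) :
    (2 * r ∈ Set.range (orderOf : alternatingGroup (Fin n) → ℕ)) ↔ r + 4 ≤ n := by
  rw [mem_alt_iff]
  obtain ⟨c, hc⟩ := hr.odd_of_ne_two hr2
  have h3 : 3 ≤ r := by have := hr.two_le; omega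
  constructor
  · rintro ⟨M, hsum, ha, hev, hl⟩
    have hdvd : ∀ a ∈ M, a = 2 * r ∨ a = r ∨ a = 2 := fun a h => by
      obtain ⟨d, e, hd, he, rfl⟩ := exists_dvd_and_dvd_of_dvd_mul (hl ▸ Multiset.dvd_lcm h)
      rcases (Nat.dvd_prime Nat.prime_two).1 hd with rfl | rfl <;> rcases (Nat.dvd_prime hr).1 he with rfl | rfl
      · have := ha _ h; simp at this
      · exact .inr (.inl (one_mul _))
      · exact .inr (.inr (mul_one _))
      · exact .inl rfl
    by_cases hbig : 2 * r ∈ M
    · obtain ⟨M', rfl⟩ := Multiset.exists_cons_of_mem hbig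
      rw [Multiset.sum_cons] at hsum hev
      rw [Multiset.card_cons] at hev
      rcases M'.empty_or_exists_mem with rfl | ⟨b, hb⟩
      · obtain ⟨k, hk⟩ := hev; simp at hk; omega
      · have := ha b (Multiset.mem_cons_of_mem hb)
        have := Multiset.le_sum_of_mem hb
        omega
    have hall : ∀ a ∈ M, a = r ∨ a = 2 := fun a h => (hdvd a h).resolve_left fun e => hbig (e ▸ h)
    have hrM : r ∈ M := by
      by_contra hn
      have : M.lcm ∣ 2 := Multiset.lcm_dvd.2 fun a h => by rw [(hall a h).resolve_left fun e => hn (e ▸ h)]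
      rw [hl] at this
      have := Nat.le_of_dvd two_pos this
      omega
    obtain ⟨M', rfl⟩ := Multiset.exists_cons_of_mem hrM
    have h2M : 2 ∈ M' := by
      by_contra hn
      have : (r ::ₘ M').lcm ∣ r := Multiset.lcm_dvd.2 fun a h => by
        rcases Multiset.mem_cons.1 h with e | e
        · rw [e]
        · rw [(hall a h).resolve_right fun e' => hn (e' ▸ e)]
      rw [hl] at this
      have := Nat.le_of_dvd hr.pos this
      omega
    obtain ⟨M'', rfl⟩ := Multiset.exists_cons_of_mem h2M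
    simp only [Multiset.sum_cons, Multiset.card_cons] at hsum hev
    rcases M''.empty_or_exists_mem with rfl | ⟨b, hb⟩
    · obtain ⟨k, hk⟩ := hev; simp at hk; omega
    · have := ha b (Multiset.mem_cons_of_mem (Multiset.mem_cons_of_mem hb))
      have := Multiset.le_sum_of_mem hb
      omega
  · intro h
    refine ⟨{2, 2, r}, by simp; omega, by simp; omega, ⟨c + 4, by simp; omega⟩, ?_⟩
    rw [Multiset.insert_eq_cons, Multiset.insert_eq_cons, Multiset.lcm_cons, Multiset.lcm_cons, Multiset.lcm_singleton,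
      normalize_eq]
    change Nat.lcm 2 (Nat.lcm 2 r) = _
    rw [← Nat.lcm_assoc, Nat.lcm_self]
    exact ((Nat.coprime_primes Nat.prime_two hr).2 (Ne.symm hr2)).lcm_eq_mul

end Cfsg.Lib.Known.AltSpec
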