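import Cfsg.Agent.Known.NormEngine
import Cfsg.Agent.Known.SemisimpleSimilar
import Cfsg.Agent.Classical.Symp.Standard
import Mathlib

/-! Linearly conjugate semisimple isometries of a form are conjugate by an isometry. -/

set_option autoImplicit false
set_option linter.style.haveILetI false

open Submodule

namespace Cfsg.Lib.FormSemisimple

universe u v

variable {F : Type u} [Field F] {V : Type v} [AddCommGroup V] [Module F V] [FiniteDimensional F V]

/-- The part without eigenvalues `1`, `-1`. -/
theorem exists_root_regular [Finite F] (B : LinearMap.BilinForm F V) (hB : B.Nondegenerate) (ε : F)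
    (hsym : ∀ u w, B u w = ε * B w u) (a M : Module.End F V) (ha : ∀ u w, B (a u) (a w) = B u w)
    (hM : ∀ u w, B (M u) w = B u (M w)) (hMu : Function.Injective M) (haM : a * M = M * a)
    (hreg : Function.Injective (fun u => a (a u) - u)) :
    ∃ x : Module.End F V, Function.Injective x ∧ a * x = x * a ∧ ∀ u w, B (x u) (x w) = B (M u) w := by
  classical
  haveI : Finite V := Module.finite_of_finite F
  haveI : Finite (Module.End F V) := Finite.of_injective (fun f : Module.End F V => (f : V → V)) DFunLike.coe_injective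
  rcases subsingleton_or_nontrivial V with hV | hV
  · exact ⟨1, Function.injective_id, by rw [mul_one, one_mul], fun u w => by
      rw [Subsingleton.elim u 0, Subsingleton.elim w 0]; simp⟩
  let S := Algebra.adjoin F ({a, M} : Set (Module.End F V))
  have hcomm : ∀ x ∈ S, Commute a x ∧ Commute M x := fun x hx => by
    induction hx using Algebra.adjoin_induction with
    | mem y hy =>
      rcases hy with rfl | rfl
      · exact ⟨Commute.refl _, haM.symm⟩
      · exact ⟨haM, Commute.refl _⟩
    | algebraMap r => exact ⟨(Algebra.commute_algebraMap_left r a).symm, (Algebra.commute_algebraMap_left r M).symm⟩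
    | add x y _ _ hx hy => exact ⟨hx.1.add_right hy.1, hx.2.add_right hy.2⟩
    | mul x y _ _ hx hy => exact ⟨hx.1.mul_right hy.1, hx.2.mul_right hy.2⟩
  have hSc : ∀ x y : S, x * y = y * x := fun x y => by
    refine Subtype.ext (show Commute (x : Module.End F V) y from ?_)
    obtain ⟨x, hx⟩ := x
    show Commute x (y : Module.End F V)
    induction hx using Algebra.adjoin_induction with
    | mem z hz =>
      rcases hz with rfl | rfl
      · exact (hcomm y y.2).1
      · exact (hcomm y y.2).2
    | algebraMap r => exact Algebra.commute_algebraMap_left r _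
    | add z w _ _ hz hw => exact hz.add_left hw
    | mul z w _ _ hz hw => exact hz.mul_left hw
  letI : CommRing S := { (inferInstance : Ring S) with mul_comm := hSc }
  haveI : Finite S := inferInstance
  have hainj : Function.Injective a := by
    refine (injective_iff_map_eq_zero a).2 fun u hu => hB.1 u fun w => ?_
    rw [← ha u w, hu]; simp
  have hunit : ∀ z : S, Function.Injective (z : Module.End F V) → IsUnit z := fun z hz => by
    have hinj : Function.Injective fun x : S => z * x := fun x y hxy =>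
      Subtype.ext (LinearMap.ext fun u => hz (LinearMap.congr_fun (congrArg Subtype.val hxy) u))
    obtain ⟨x, hx⟩ := Finite.surjective_of_injective hinj 1
    exact IsUnit.of_mul_eq_one x hx
  let a' : S := ⟨a, Algebra.subset_adjoin (Or.inl rfl)⟩
  let M' : S := ⟨M, Algebra.subset_adjoin (Or.inr rfl)⟩
  obtain ⟨au, hau⟩ := hunit a' hainj
  have hinv : a * ((↑au⁻¹ : S) : Module.End F V) = 1 := by
    have := congrArg Subtype.val au.mul_inv
    rw [hau] at this
    exact this
  have hadj : ∀ x ∈ S, ∃ y : S, ∀ u w, B (x u) w = B u ((y : Module.End F V) w) := fun x hx => by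
    induction hx using Algebra.adjoin_induction with
    | mem y hy =>
      rcases hy with hy | hy <;> subst y
      · refine ⟨↑au⁻¹, fun u w => ?_⟩
        conv_lhs => rw [show w = a (((↑au⁻¹ : S) : Module.End F V) w) from (LinearMap.congr_fun hinv w).symm]
        exact ha _ _
      · exact ⟨M', hM⟩
    | algebraMap r => exact ⟨algebraMap F S r, fun u w => by simp⟩
    | add x y _ _ hx hy =>
      obtain ⟨x', hx⟩ := hx
      obtain ⟨y', hy⟩ := hy
      exact ⟨x' + y', fun u w => by simp [hx, hy]⟩
    | mul x y _ _ hx hy =>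
      obtain ⟨x', hx⟩ := hx
      obtain ⟨y', hy⟩ := hy
      exact ⟨y' * x', fun u w => by simp [hx, hy, Module.End.mul_apply]⟩
  choose τ₀ hτ₀ using hadj
  have uniq : ∀ y z : S, (∀ u w, B u ((y : Module.End F V) w) = B u ((z : Module.End F V) w)) → y = z := fun y z h =>
    Subtype.ext (LinearMap.ext fun w => sub_eq_zero.1 (hB.2 _ fun u => by rw [map_sub, h, sub_self]))
  let τ : S →+* S :=
    { toFun := fun x => τ₀ x x.2
      map_one' := uniq _ _ fun u w => by rw [← hτ₀]; simp
      map_mul' := fun x y => by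
        rw [hSc (τ₀ x x.2) (τ₀ y y.2)]
        refine uniq _ _ fun u w => ?_
        rw [← hτ₀]
        simp only [Subalgebra.coe_mul, Module.End.mul_apply, ← hτ₀]
      map_zero' := uniq _ _ fun u w => by rw [← hτ₀]; simp
      map_add' := fun x y => uniq _ _ fun u w => by
        rw [← hτ₀]
        simp only [Subalgebra.coe_add, LinearMap.add_apply, map_add, ← hτ₀] }
  have hτ : ∀ (x : S) u w, B ((x : Module.End F V) u) w = B u ((τ x : Module.End F V) w) := fun x => hτ₀ x x.2
  have hττ : ∀ x, τ (τ x) = x := fun x => uniq _ _ fun u w => by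
    rw [← hτ, hsym, ← hτ, ← hsym]
  have hτa : τ a' = ↑au⁻¹ := uniq _ _ fun u w => by
    rw [← hτ]
    show B (a u) w = _
    conv_lhs => rw [show w = a (((↑au⁻¹ : S) : Module.End F V) w) from (LinearMap.congr_fun hinv w).symm]
    exact ha _ _
  have hω : IsUnit (a' - τ a') := by
    have e : a' - τ a' = (↑au⁻¹ : S) * (a' * a' - 1) := by
      rw [hτa, mul_sub, mul_one, ← mul_assoc, ← hau, Units.inv_mul, one_mul]
    rw [e]
    exact (Units.isUnit _).mul (hunit _ hreg)
  obtain ⟨x, hx⟩ := NormEngine.exists_norm τ hττ a' hω M' (uniq _ _ fun u w => by rw [← hτ]; exact hM u w)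
    (hunit M' hMu)
  have hx' : ∀ u w, B ((x : Module.End F V) u) ((x : Module.End F V) w) = B (M u) w := fun u w => by
    conv_lhs => arg 2; rw [show x = τ (τ x) from (hττ x).symm]
    rw [← hτ, ← Module.End.mul_apply, ← Subalgebra.coe_mul, hSc, hx]
  refine ⟨x, (injective_iff_map_eq_zero (x : Module.End F V)).2 fun u hu => hMu ?_, (hcomm x x.2).1.eq, hx'⟩
  rw [map_zero]
  exact hB.1 _ fun w => by rw [← hx', hu]; simp

omit [FiniteDimensional F V] in
theorem pow_shift (a : Module.End F V) (c : F) (v w : V) (hv : a v = c • v + w) (hw : a w = c • w) (k : ℕ) :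
    (a ^ k) v = c ^ k • v + ((k : F) * c ^ (k - 1)) • w ∧ (a ^ k) w = c ^ k • w := by
  induction k with
  | zero => simp
  | succ k ih =>
    rw [pow_succ', Module.End.mul_apply, Module.End.mul_apply, ih.1, ih.2, map_add, map_smul, map_smul, map_smul,
      hv, hw, smul_add, smul_smul, smul_smul, smul_smul]
    refine ⟨?_, by rw [pow_succ]⟩
    rw [← pow_succ, add_assoc, ← add_smul, Nat.add_sub_cancel]
    congr 2
    rcases k with _ | k
    · simp
    · push_cast; ring

/-- Eigenspaces of semisimple isometries split off. -/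
theorem isCompl_eigen (a : Module.End F V) (c : F) {N : ℕ} (hN : (N : F) ≠ 0) (haN : a ^ N = 1) :
    IsCompl (LinearMap.ker (a - c • 1)) (LinearMap.range (a - c • 1)) := by
  have hdis : Disjoint (LinearMap.ker (a - c • 1)) (LinearMap.range (a - c • 1)) := by
    rw [Submodule.disjoint_def]
    rintro w hw ⟨v, hv⟩
    have hw' : a w = c • w := by
      rw [LinearMap.mem_ker, LinearMap.sub_apply, LinearMap.smul_apply, Module.End.one_apply, sub_eq_zero] at hw
      exact hw
    have hv' : a v = c • v + w := by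
      rw [← hv, LinearMap.sub_apply, LinearMap.smul_apply, Module.End.one_apply]; abel
    obtain ⟨h1, h2⟩ := pow_shift a c v w hv' hw' N
    rw [haN, Module.End.one_apply] at h1 h2
    by_contra hw0
    have hc1 : c ^ N = 1 := by
      have : (c ^ N - 1) • w = 0 := by rw [sub_smul, one_smul, ← h2, sub_self]
      exact sub_eq_zero.1 ((smul_eq_zero.1 this).resolve_right hw0)
    rw [hc1, one_smul, left_eq_add] at h1
    rcases smul_eq_zero.1 h1 with h | h
    · rcases mul_eq_zero.1 h with h' | h'
      · exact hN h'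
      · have hc0 : c ≠ 0 := by
          rintro rfl
          have hN0 : N ≠ 0 := by rintro rfl; simp at hN
          rw [zero_pow hN0] at hc1
          exact zero_ne_one hc1
        exact pow_ne_zero _ hc0 h'
    · exact hw0 h
  have h := LinearMap.finrank_range_add_finrank_ker (a - c • (1 : Module.End F V))
  exact (Submodule.isCompl_iff_disjoint _ _ (by omega)).2 hdis

omit [FiniteDimensional F V] in
/-- Eigenspaces are orthogonal to the complementary range. -/
theorem eigen_orth (B : LinearMap.BilinForm F V) (a : Module.End F V) (ha : ∀ u w, B (a u) (a w) = B u w)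
    (c : F) (hc : c * c = 1) {u w : V} (hu : u ∈ LinearMap.ker (a - c • 1)) (hw : w ∈ LinearMap.range (a - c • 1)) :
    B u w = 0 ∧ B w u = 0 := by
  obtain ⟨v, rfl⟩ := hw
  rw [LinearMap.mem_ker, LinearMap.sub_apply, LinearMap.smul_apply, Module.End.one_apply, sub_eq_zero] at hu
  have h1 : B u (a v) = c * B u v := by
    have := ha u v
    rw [hu, map_smul, LinearMap.smul_apply, smul_eq_mul] at this
    linear_combination c * this - B u (a v) * hc
  have h2 : B (a v) u = c * B v u := by
    have := ha v u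
    rw [hu, map_smul, smul_eq_mul] at this
    linear_combination c * this - B (a v) u * hc
  rw [LinearMap.sub_apply, LinearMap.smul_apply, Module.End.one_apply, map_sub, map_sub, LinearMap.sub_apply, map_smul,
    map_smul, LinearMap.smul_apply, smul_eq_mul, smul_eq_mul, h1, h2, sub_self, sub_self]
  exact ⟨rfl, rfl⟩

omit [FiniteDimensional F V] in
theorem restrict_nondegenerate (B : LinearMap.BilinForm F V) (hB : B.Nondegenerate) (U W : Submodule F V)
    (hUW : IsCompl U W) (horth : ∀ u ∈ U, ∀ w ∈ W, B u w = 0 ∧ B w u = 0) : (B.restrict U).Nondegenerate := by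
  have key : ∀ z : V, ∃ x ∈ U, ∃ y ∈ W, z = x + y := fun z => by
    obtain ⟨x, hx, y, hy, h⟩ := Submodule.mem_sup.1 (show z ∈ U ⊔ W by rw [hUW.sup_eq_top]; exact Submodule.mem_top)
    exact ⟨x, hx, y, hy, h.symm⟩
  constructor
  · intro u h
    refine Subtype.ext (hB.1 u fun z => ?_)
    obtain ⟨x, hx, y, hy, rfl⟩ := key z
    rw [map_add, (horth u u.2 y hy).1, add_zero]
    exact h ⟨x, hx⟩
  · intro u h
    refine Subtype.ext (hB.2 u fun z => ?_)
    obtain ⟨x, hx, y, hy, rfl⟩ := key z
    rw [map_add, LinearMap.add_apply, (horth u u.2 y hy).2, add_zero]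
    exact h ⟨x, hx⟩

omit [FiniteDimensional F V] in
/-- Solutions on two orthogonal invariant pieces give one on the sum. -/
theorem glue (B B' : LinearMap.BilinForm F V) (a : Module.End F V) (U W : Submodule F V) (hUW : IsCompl U W)
    (haU : ∀ u ∈ U, a u ∈ U) (haW : ∀ w ∈ W, a w ∈ W)
    (hB : ∀ u ∈ U, ∀ w ∈ W, B u w = 0 ∧ B w u = 0) (hB' : ∀ u ∈ U, ∀ w ∈ W, B' u w = 0 ∧ B' w u = 0)
    (xU : U →ₗ[F] U) (hxU : Function.Injective xU) (hcU : ∀ u, a.restrict haU (xU u) = xU (a.restrict haU u))
    (hfU : ∀ u v : U, B (xU u) (xU v) = B' u v)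
    (xW : W →ₗ[F] W) (hxW : Function.Injective xW) (hcW : ∀ u, a.restrict haW (xW u) = xW (a.restrict haW u))
    (hfW : ∀ u v : W, B (xW u) (xW v) = B' u v) :
    ∃ x : V →ₗ[F] V, Function.Injective x ∧ (∀ v, a (x v) = x (a v)) ∧ ∀ u v, B (x u) (x v) = B' u v := by
  let e := Submodule.prodEquivOfIsCompl U W hUW
  let x : V →ₗ[F] V := (U.subtype.comp xU).coprod (W.subtype.comp xW) ∘ₗ (e.symm : V →ₗ[F] U × W)
  have hx : ∀ (u : U) (w : W), x ((u : V) + w) = (xU u : V) + xW w := fun u w => by
    have : e.symm ((u : V) + w) = (u, w) := by rw [LinearEquiv.symm_apply_eq]; simp [e]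
    simp [x, this]
  have key : ∀ v : V, ∃ (u : U) (w : W), v = (u : V) + w := fun v => by
    refine ⟨(e.symm v).1, (e.symm v).2, ?_⟩
    conv_lhs => rw [← e.apply_symm_apply v]
    simp [e]
  refine ⟨x, (injective_iff_map_eq_zero x).2 fun v hv => ?_, fun v => ?_, fun u v => ?_⟩
  · obtain ⟨u, w, rfl⟩ := key v
    rw [hx, add_eq_zero_iff_eq_neg] at hv
    have h1 : (xU u : V) ∈ U ⊓ W := ⟨(xU u).2, hv ▸ W.neg_mem (xW w).2⟩
    rw [hUW.inf_eq_bot, Submodule.mem_bot] at h1
    rw [h1, eq_comm, neg_eq_zero] at hv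
    rw [(injective_iff_map_eq_zero xU).1 hxU u (Subtype.ext h1), (injective_iff_map_eq_zero xW).1 hxW w (Subtype.ext hv)]
    simp
  · obtain ⟨u, w, rfl⟩ := key v
    have h1 : a (xU u : V) = (xU (a.restrict haU u) : V) := congrArg Subtype.val (hcU u)
    have h2 : a (xW w : V) = (xW (a.restrict haW w) : V) := congrArg Subtype.val (hcW w)
    rw [hx, map_add, map_add, h1, h2]
    exact (hx (a.restrict haU u) (a.restrict haW w)).symm
  · obtain ⟨u1, w1, rfl⟩ := key u
    obtain ⟨u2, w2, rfl⟩ := key v
    rw [hx, hx]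
    simp only [map_add, LinearMap.add_apply, (hB _ (xU u1).2 _ (xW w2).2).1, (hB _ (xU u2).2 _ (xW w1).2).2,
      (hB' _ u1.2 _ w2.2).1, (hB' _ u2.2 _ w1.2).2, hfU, hfW]

omit [FiniteDimensional F V] in
/-- Isometry between two nondegenerate alternating forms. -/
theorem exists_isometry_alt [FiniteDimensional F V] (B B' : LinearMap.BilinForm F V) (hA : B.IsAlt) (hB : B.Nondegenerate)
    (hA' : B'.IsAlt) (hB' : B'.Nondegenerate) : ∃ e : V ≃ₗ[F] V, ∀ u v, B (e u) (e v) = B' u v := by
  obtain ⟨k, hk⟩ := Classical.even_finrank_of_symplectic hA hB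
  obtain ⟨e1, h1⟩ := Classical.exists_isometry_sympBilin hA hB (m := k) (by omega)
  obtain ⟨e2, h2⟩ := Classical.exists_isometry_sympBilin hA' hB' (m := k) (by omega)
  exact ⟨e2.trans e1.symm, fun u v => by rw [← h1, ← h2]; simp⟩

/-- Two invariant nondegenerate alternating forms are carried to each other inside the centraliser. -/
theorem exists_root_alt [Finite F] (B B' : LinearMap.BilinForm F V) (hA : B.IsAlt) (hB : B.Nondegenerate)
    (hA' : B'.IsAlt) (hB' : B'.Nondegenerate) (a : Module.End F V) (ha : ∀ u w, B (a u) (a w) = B u w)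
    (ha' : ∀ u w, B' (a u) (a w) = B' u w) {N : ℕ} (hN : (N : F) ≠ 0) (haN : a ^ N = 1) :
    ∃ x : V →ₗ[F] V, Function.Injective x ∧ (∀ v, a (x v) = x (a v)) ∧ ∀ u v, B (x u) (x v) = B' u v := by
  have hc : (1 : F) * 1 = 1 := one_mul 1
  have hc' : (-1 : F) * -1 = 1 := by ring
  have hU1 : ∀ c : F, ∀ v ∈ LinearMap.ker (a - c • 1), a v ∈ LinearMap.ker (a - c • 1) := fun c v hv => by
    simp only [LinearMap.mem_ker, LinearMap.sub_apply, LinearMap.smul_apply, Module.End.one_apply, sub_eq_zero] at hv ⊢
    rw [hv, map_smul, hv]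
  have hW1 : ∀ c : F, ∀ v ∈ LinearMap.range (a - c • 1), a v ∈ LinearMap.range (a - c • 1) := fun c v hv => by
    obtain ⟨z, rfl⟩ := hv
    exact ⟨a z, by simp⟩
  have hscal : ∀ (c : F) (x : LinearMap.ker (a - c • 1) →ₗ[F] LinearMap.ker (a - c • 1)) (u : LinearMap.ker (a - c • 1)),
      a.restrict (hU1 c) (x u) = x (a.restrict (hU1 c) u) := fun c x u => by
    have e : ∀ z : LinearMap.ker (a - c • 1), a.restrict (hU1 c) z = c • z := fun z => by
      refine Subtype.ext ?_
      have := z.2
      simp only [LinearMap.mem_ker, LinearMap.sub_apply, LinearMap.smul_apply, Module.End.one_apply, sub_eq_zero] at this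
      exact this
    rw [e, e, map_smul]
  have o1 := fun (C : LinearMap.BilinForm F V) (hC : ∀ u w, C (a u) (a w) = C u w) =>
    fun u hu w hw => eigen_orth C a hC 1 hc (u := u) (w := w) hu hw
  have c1 := isCompl_eigen a (1 : F) hN haN
  set W := LinearMap.range (a - (1 : F) • 1) with hWdef
  set a1 : Module.End F W := a.restrict (hW1 1) with ha1def
  have ha1N : a1 ^ N = 1 := by
    rw [ha1def, Module.End.pow_restrict]
    refine LinearMap.ext fun z => Subtype.ext ?_
    simp [haN]
  have ha1 : ∀ (C : LinearMap.BilinForm F V), (∀ u w, C (a u) (a w) = C u w) →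
      ∀ u w : W, C.restrict W (a1 u) (a1 w) = C.restrict W u w := fun C hC u w => hC u w
  have hdW : ∀ C : LinearMap.BilinForm F V, C.Nondegenerate → (∀ u w, C (a u) (a w) = C u w) → (C.restrict W).Nondegenerate :=
    fun C hC hi => restrict_nondegenerate C hC W _ c1.symm fun w hw u hu => (o1 C hi u hu w hw).symm
  have c2 := isCompl_eigen a1 (-1 : F) hN ha1N
  have hU2 : ∀ v ∈ LinearMap.ker (a1 - (-1 : F) • 1), a1 v ∈ LinearMap.ker (a1 - (-1 : F) • 1) := fun v hv => by
    simp only [LinearMap.mem_ker, LinearMap.sub_apply, LinearMap.smul_apply, Module.End.one_apply, sub_eq_zero] at hv ⊢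
    rw [hv, map_smul, hv]
  set W2 := LinearMap.range (a1 - (-1 : F) • 1) with hW2def
  have hW2 : ∀ v ∈ W2, a1 v ∈ W2 := fun v hv => by
    obtain ⟨z, rfl⟩ := hv
    exact ⟨a1 z, by simp⟩
  have o2 := fun (C : LinearMap.BilinForm F V) (hC : ∀ u w, C (a u) (a w) = C u w) =>
    fun u hu w hw => eigen_orth (C.restrict W) a1 (ha1 C hC) (-1) hc' (u := u) (w := w) hu hw
  have hA1 : (B.restrict W).IsAlt := fun x => hA x
  have hA1' : (B'.restrict W).IsAlt := fun x => hA' x
  have hd2 : ∀ C : LinearMap.BilinForm F V, C.Nondegenerate → (∀ u w, C (a u) (a w) = C u w) →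
      ((C.restrict W).restrict W2).Nondegenerate := fun C hC hi =>
    restrict_nondegenerate _ (hdW C hC hi) W2 _ c2.symm fun w hw u hu => (o2 C hi u hu w hw).symm
  -- the regular part
  obtain ⟨M, hM⟩ : ∃ M : Module.End F W2, ∀ u w, (B.restrict W).restrict W2 (M u) w = (B'.restrict W).restrict W2 u w := by
    refine ⟨((((B.restrict W).restrict W2).toDual (hd2 B hB ha)).symm.toLinearMap).comp ((B'.restrict W).restrict W2), fun u w => ?_⟩
    exact LinearMap.BilinForm.apply_toDual_symm_apply (hB := hd2 B hB ha) _ _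
  set a2 : Module.End F W2 := a1.restrict hW2 with ha2def
  have ha2 : ∀ (C : LinearMap.BilinForm F V), (∀ u w, C (a u) (a w) = C u w) →
      ∀ u w : W2, (C.restrict W).restrict W2 (a2 u) (a2 w) = (C.restrict W).restrict W2 u w := fun C hC u w => hC _ _
  have hsym : ∀ C : LinearMap.BilinForm F V, C.IsAlt → ∀ u w : W2, (C.restrict W).restrict W2 u w =
      (-1) * (C.restrict W).restrict W2 w u := fun C hC u w => by
    rw [neg_one_mul]; exact (hC.neg_eq _ _).symm
  have ha2surj : Function.Surjective a2 := by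
    refine LinearMap.surjective_of_injective ((injective_iff_map_eq_zero a2).2 fun u hu => (hd2 B hB ha).1 u fun w => ?_)
    rw [← ha2 B ha u w, hu]; simp
  have hMa : a2 * M = M * a2 := LinearMap.ext fun u => by
    refine sub_eq_zero.1 ((hd2 B hB ha).1 _ fun w => ?_)
    obtain ⟨w, rfl⟩ := ha2surj w
    rw [map_sub, LinearMap.sub_apply, Module.End.mul_apply, Module.End.mul_apply, ha2 B ha, hM, hM, ha2 B' ha', sub_self]
  have hreg : Function.Injective (fun u => a2 (a2 u) - u) := by
    intro u v huv
    have h0 : a2 (a2 (u - v)) - (u - v) = 0 := by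
      have := sub_eq_zero.2 huv
      simp only [map_sub] at this ⊢
      rw [← this]; abel
    set z := u - v with hz
    rw [← sub_eq_zero, ← hz]
    have h1 : a (a ((z : W) : V)) = ((z : W) : V) := congrArg (fun t : W2 => ((t : W) : V)) (sub_eq_zero.1 h0)
    -- z lies in both eigenspaces of the complement
    set t := a1 (z : W) - (1 : F) • (z : W) with ht
    have ht1 : t ∈ LinearMap.ker (a1 - (-1 : F) • 1) := by
      rw [LinearMap.mem_ker, LinearMap.sub_apply, LinearMap.smul_apply, Module.End.one_apply]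
      refine Subtype.ext ?_
      simp [ht, ha1def, h1]
    have ht2 : t ∈ W2 := Submodule.sub_mem _ (hW2 _ z.2) (Submodule.smul_mem _ _ z.2)
    have ht0 : t = 0 := by
      have : t ∈ LinearMap.ker (a1 - (-1 : F) • 1) ⊓ W2 := ⟨ht1, ht2⟩
      rwa [c2.inf_eq_bot, Submodule.mem_bot] at this
    have hz1 : ((z : W) : V) ∈ LinearMap.ker (a - (1 : F) • 1) ⊓ W := ⟨by
      rw [SetLike.mem_coe, LinearMap.mem_ker, LinearMap.sub_apply, LinearMap.smul_apply, Module.End.one_apply]
      exact congrArg Subtype.val ht0, (z : W).2⟩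
    rw [c1.inf_eq_bot, Submodule.mem_bot] at hz1
    exact Subtype.ext (Subtype.ext hz1)
  obtain ⟨x2, hx2, hx2c, hx2f⟩ := exists_root_regular ((B.restrict W).restrict W2) (hd2 B hB ha) (-1) (hsym B hA) a2 M
    (ha2 B ha) (fun u w => by rw [hsym B hA u (M w), hM, hM]; exact hsym B' hA' u w)
    ((injective_iff_map_eq_zero M).2 fun u hu => (hd2 B' hB' ha').1 u fun w => by rw [← hM, hu]; simp) hMa hreg
  obtain ⟨e2, he2⟩ := exists_isometry_alt ((B.restrict W).restrict (LinearMap.ker (a1 - (-1 : F) • 1)))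
    ((B'.restrict W).restrict (LinearMap.ker (a1 - (-1 : F) • 1))) (fun x => hA x)
    (restrict_nondegenerate _ (hdW B hB ha) _ _ c2 (o2 B ha)) (fun x => hA' x)
    (restrict_nondegenerate _ (hdW B' hB' ha') _ _ c2 (o2 B' ha'))
  obtain ⟨x1, hx1, hx1c, hx1f⟩ := glue (B.restrict W) (B'.restrict W) a1 _ W2 c2 hU2 hW2 (o2 B ha) (o2 B' ha')
    e2.toLinearMap e2.injective (fun u => by
      have e : ∀ z : LinearMap.ker (a1 - (-1 : F) • 1), a1.restrict hU2 z = (-1 : F) • z := fun z => by
        refine Subtype.ext ?_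
        have := z.2
        simp only [LinearMap.mem_ker, LinearMap.sub_apply, LinearMap.smul_apply, Module.End.one_apply, sub_eq_zero] at this
        exact this
      rw [e, e, map_smul]) he2 x2 hx2 (fun u => LinearMap.congr_fun hx2c u) (fun u v => (hx2f u v).trans (hM u v))
  obtain ⟨e1, he1⟩ := exists_isometry_alt (B.restrict (LinearMap.ker (a - (1 : F) • 1)))
    (B'.restrict (LinearMap.ker (a - (1 : F) • 1))) (fun x => hA x)
    (restrict_nondegenerate _ hB _ _ c1 (o1 B ha)) (fun x => hA' x)
    (restrict_nondegenerate _ hB' _ _ c1 (o1 B' ha'))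
  exact glue B B' a _ W c1 (hU1 1) (hW1 1) (o1 B ha) (o1 B' ha') e1.toLinearMap e1.injective
    (hscal 1 _) he1 x1 hx1 hx1c hx1f

/-- Linearly conjugate semisimple isometries of an alternating form. -/
theorem exists_conj_alt [Finite F] (B : LinearMap.BilinForm F V) (hA : B.IsAlt) (hB : B.Nondegenerate)
    (a b : Module.End F V) (ha : ∀ u w, B (a u) (a w) = B u w) (hb : ∀ u w, B (b u) (b w) = B u w)
    {N : ℕ} (hN : (N : F) ≠ 0) (haN : a ^ N = 1) (T : V ≃ₗ[F] V) (hT : ∀ v, T (a v) = b (T v)) :
    ∃ R : V ≃ₗ[F] V, (∀ u w, B (R u) (R w) = B u w) ∧ ∀ v, R (a v) = b (R v) := by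
  let B' : LinearMap.BilinForm F V := B.compl₁₂ T.toLinearMap T.toLinearMap
  have hB' : ∀ u w, B' u w = B (T u) (T w) := fun u w => rfl
  obtain ⟨x, hx, hxc, hxf⟩ := exists_root_alt B B' hA hB (fun v => hA (T v))
    ⟨fun u h => T.map_eq_zero_iff.1 (hB.1 _ fun w => by rw [← T.apply_symm_apply w, ← hB']; exact h _),
      fun u h => T.map_eq_zero_iff.1 (hB.2 _ fun w => by rw [← T.apply_symm_apply w, ← hB']; exact h _)⟩
    a ha (fun u w => by rw [hB', hT, hT, hb, hB']) hN haN
  let X := LinearEquiv.ofBijective x ⟨hx, LinearMap.surjective_of_injective hx⟩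
  refine ⟨X.symm.trans T, fun u w => ?_, fun v => ?_⟩
  · rw [LinearEquiv.trans_apply, LinearEquiv.trans_apply, ← hB', ← hxf]
    show B (X (X.symm u)) (X (X.symm w)) = _
    rw [X.apply_symm_apply, X.apply_symm_apply]
  · rw [LinearEquiv.trans_apply, LinearEquiv.trans_apply, ← hT]
    congr 1
    refine X.injective ?_
    rw [X.apply_symm_apply]
    show a v = x (a (X.symm v))
    rw [← hxc]
    exact congrArg a (X.apply_symm_apply v).symm

end Cfsg.Lib.FormSemisimple
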