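import Cfsg.Agent.Classical.Misc.Spinor
import Cfsg.Agent.Known.FormNormal
import Mathlib

/-! Cosets of `Ω` in the orthogonal group through classes of reflections, and the parity of maximal singular subspaces. -/

set_option autoImplicit false
set_option linter.style.haveILetI false
set_option linter.unusedSectionVars false

open Submodule

namespace Cfsg.Lib.OmegaCls

open Cfsg.Lib.Classical Cfsg.Lib.Classical.Refl

universe u

variable {F : Type u} [Field F] [Fintype F] {ι : Type} [Fintype ι] [DecidableEq ι] {Q : QuadraticForm F (ι → F)}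

theorem omega_iff (g : Cfsg.isometryGroup F (⇑Q)) :
    g ∈ Cfsg.Omega F (⇑Q) ↔ Abelianization.of g = 1 :=
  (QuotientGroup.eq_one_iff g).symm

/-- The class of a reflection depends on the square class of its value only. -/
theorem cls_eq (hQ : (QuadraticMap.polarBilin Q).Nondegenerate) {u v : ι → F} (hu : Q u ≠ 0) (hv : Q v ≠ 0)
    (h : IsSquare (Q u * Q v)) :
    Abelianization.of (refl Q u hu) = Abelianization.of (refl Q v hv) := by
  classical
  exact refl_same_class Q hQ Abelianization.of hu hv h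

theorem cls_sq {v : ι → F} (hv : Q v ≠ 0) :
    Abelianization.of (refl Q v hv) * Abelianization.of (refl Q v hv) = 1 := by
  rw [← map_mul, refl_mul_self, map_one]

/-- Correcting an isometry into `Ω` by an element of a subgroup meeting all classes of reflections. -/
theorem adjust (hQ : (QuadraticMap.polarBilin Q).Nondegenerate) (h : Fintype.card F ≠ 2 ∨ Fintype.card ι ≠ 4)
    (H : Subgroup (Cfsg.isometryGroup F (⇑Q)))
    (hH : ∀ v (hv : Q v ≠ 0), ∃ x ∈ H, Abelianization.of x = Abelianization.of (refl Q v hv))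
    (g : Cfsg.isometryGroup F (⇑Q)) : ∃ x ∈ H, x * g ∈ Cfsg.Omega F (⇑Q) := by
  classical
  suffices hs : ∃ x ∈ H, Abelianization.of x = Abelianization.of g by
    obtain ⟨x, hx, he⟩ := hs
    exact ⟨x⁻¹, H.inv_mem hx, (omega_iff _).2 (by rw [map_mul, map_inv, he, inv_mul_cancel])⟩
  induction mem_closure_refl Q hQ h g using Subgroup.closure_induction with
  | mem r hr => obtain ⟨v, hv, rfl⟩ := hr; exact hH v hv
  | one => exact ⟨1, H.one_mem, rfl⟩
  | mul p r _ _ hp hr =>
    obtain ⟨x, hx, ex⟩ := hp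
    obtain ⟨y, hy, ey⟩ := hr
    exact ⟨x * y, H.mul_mem hx hy, by rw [map_mul, map_mul, ex, ey]⟩
  | inv p _ hp =>
    obtain ⟨x, hx, ex⟩ := hp
    exact ⟨x⁻¹, H.inv_mem hx, by rw [map_inv, map_inv, ex]⟩

theorem exists_ne_zero (hQ : (QuadraticMap.polarBilin Q).Nondegenerate) (hn : 1 ≤ Fintype.card ι) :
    ∃ v, Q v ≠ 0 := by
  by_contra hh
  push Not at hh
  haveI : Nonempty ι := Fintype.card_pos_iff.mp (by omega)
  have hz : (fun _ : ι => (1 : F)) = 0 := hQ.1 _ fun y => by
    show QuadraticMap.polar (⇑Q) _ y = 0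
    simp [QuadraticMap.polar, hh]
  exact one_ne_zero (congrFun hz (Classical.arbitrary ι))

/-- Characteristic two: `Ω` is the kernel of the Dickson invariant. -/
theorem dickson_iff [CharP F 2] (hQ : (QuadraticMap.polarBilin Q).Nondegenerate) (hn : 1 ≤ Fintype.card ι)
    (h : Fintype.card F ≠ 2 ∨ Fintype.card ι ≠ 4) (g : Cfsg.isometryGroup F (⇑Q)) :
    g ∈ Cfsg.Omega F (⇑Q) ↔ dickson Q hQ g = 1 := by
  classical
  refine ⟨fun hg => hom_eq_one_of_omega Q (dickson Q hQ) hg, fun hg => ?_⟩
  obtain ⟨a, ha⟩ := exists_ne_zero hQ hn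
  obtain ⟨x, hx, hxg⟩ := adjust hQ h (Subgroup.zpowers (refl Q a ha)) (fun v hv =>
    ⟨_, Subgroup.mem_zpowers _, cls_eq hQ ha hv (FiniteField.isSquare_of_char_two (ringChar.eq F 2) _)⟩) g
  have hd := hom_eq_one_of_omega Q (dickson Q hQ) hxg
  rw [map_mul, hg, mul_one] at hd
  obtain ⟨k, rfl⟩ := Subgroup.mem_zpowers_iff.1 hx
  rw [map_zpow, dickson_refl] at hd
  rcases Int.even_or_odd k with ⟨j, rfl⟩ | hk
  · rw [zpow_add, ← (Commute.refl (refl Q a ha)).mul_zpow, refl_mul_self, one_zpow, one_mul] at hxg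
    exact hxg
  · obtain ⟨j, rfl⟩ := hk
    rw [zpow_add, zpow_one, two_mul, zpow_add, ← (Commute.refl (-1 : ℤˣ)).mul_zpow, neg_mul_neg, one_mul, one_zpow, one_mul] at hd
    exact absurd hd (by decide)

/-- Odd characteristic: the determinant is the Dickson invariant. -/
theorem det_dickson (h2 : (2 : F) ≠ 0) (hQ : (QuadraticMap.polarBilin Q).Nondegenerate) (g : Cfsg.isometryGroup F (⇑Q)) :
    ((g : Matrix.GeneralLinearGroup ι F) : Matrix ι ι F).det = ((dickson Q hQ g : ℤ) : F) := by
  classical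
  have hF2 : Fintype.card F ≠ 2 := fun hc => h2 (by
    haveI := ringChar.of_eq (show ringChar F = 2 from FiniteField.even_card_iff_char_two.mpr (by rw [hc]))
    exact CharTwo.two_eq_zero)
  induction mem_closure_refl Q hQ (Or.inl hF2) g using Subgroup.closure_induction with
  | mem r hr =>
    obtain ⟨v, hv, rfl⟩ := hr
    rw [coe_refl, det_eq Q v hv, dickson_refl]; simp
  | one => simp
  | mul p r _ _ hp hr => simp [Matrix.det_mul, hp, hr]
  | inv p _ hp =>
    rw [map_inv, Int.units_inv_eq_self, ← hp]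
    have h1 : ((p : Matrix.GeneralLinearGroup ι F) : Matrix ι ι F).det *
        (((p⁻¹ : Cfsg.isometryGroup F (⇑Q)) : Matrix.GeneralLinearGroup ι F) : Matrix ι ι F).det = 1 := by
      rw [← Matrix.det_mul, ← Units.val_mul, ← Subgroup.coe_mul, mul_inv_cancel]; simp
    have h2' : ((p : Matrix.GeneralLinearGroup ι F) : Matrix ι ι F).det *
        ((p : Matrix.GeneralLinearGroup ι F) : Matrix ι ι F).det = 1 := by
      rw [hp, ← Int.cast_mul, ← Units.val_mul, Int.units_mul_self]; simp
    exact mul_left_cancel₀ (left_ne_zero_of_mul_eq_one h2') (h1.trans h2'.symm)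

/-- A nondegenerate subspace of dimension at least two meets every class of reflections. -/
theorem exists_in_subspace (hQ : (QuadraticMap.polarBilin Q).Nondegenerate) (X : Submodule F (ι → F))
    (hX : X ⊓ HypQuad.perp Q X = ⊥) (hd : 2 ≤ Module.finrank F X) {v : ι → F} (hv : Q v ≠ 0) :
    ∃ x ∈ X, ∃ hx : Q x ≠ 0, Abelianization.of (refl Q x hx) = Abelianization.of (refl Q v hv) := by
  obtain ⟨x, hxX, hx⟩ := FormNormal.exists_value Q X (fun y hy hyy => by
    refine (Submodule.mem_bot F).1 (hX ▸ ⟨hy, ?_⟩)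
    intro w hw
    show QuadraticMap.polar (⇑Q) w y = 0
    rw [QuadraticMap.polar_comm]
    exact hyy w hw) hd (Q v) hv
  exact ⟨x, hxX, hx ▸ hv, cls_eq hQ _ hv ⟨Q v, by rw [hx]⟩⟩

/-- Reflections in vectors of a subspace or of its perp preserve it. -/
theorem refl_preserves (X : Submodule F (ι → F)) {x : ι → F} (hx : Q x ≠ 0) (h : x ∈ X ∨ x ∈ HypQuad.perp Q X) :
    ∀ y ∈ X, ((refl Q x hx : Matrix.GeneralLinearGroup ι F) : Matrix ι ι F).mulVec y ∈ X := by
  intro y hy
  rw [coe_refl, mulVec_eq]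
  rcases h with h | h
  · exact X.sub_mem hy (X.smul_mem _ h)
  · have : QuadraticMap.polar (⇑Q) x y = 0 := by rw [QuadraticMap.polar_comm]; exact HypQuad.mem_perp Q |>.1 h y hy
    rw [this, mul_zero, zero_smul, sub_zero]
    exact hy

/-- The setwise stabiliser. -/
def stab (X : Submodule F (ι → F)) : Subgroup (Cfsg.isometryGroup F (⇑Q)) where
  carrier := {g | X.map (Matrix.mulVecLin ((g : Matrix.GeneralLinearGroup ι F) : Matrix ι ι F)) = X}
  one_mem' := by simp
  mul_mem' {a b} ha hb := by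
    simp only [Set.mem_setOf_eq] at ha hb ⊢
    rw [Subgroup.coe_mul, Units.val_mul, Matrix.mulVecLin_mul, Submodule.map_comp, hb, ha]
  inv_mem' {a} ha := by
    simp only [Set.mem_setOf_eq] at ha ⊢
    conv_lhs => rw [← ha]
    rw [← Submodule.map_comp, ← Matrix.mulVecLin_mul, ← Units.val_mul, ← Subgroup.coe_mul, inv_mul_cancel]
    simp

theorem mem_stab (X : Submodule F (ι → F)) (g : Cfsg.isometryGroup F (⇑Q)) :
    g ∈ stab X ↔ X.map (Matrix.mulVecLin ((g : Matrix.GeneralLinearGroup ι F) : Matrix ι ι F)) = X := Iff.rfl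

theorem mem_stab_of_forall (X : Submodule F (ι → F)) (g : Cfsg.isometryGroup F (⇑Q))
    (h : ∀ y ∈ X, ((g : Matrix.GeneralLinearGroup ι F) : Matrix ι ι F).mulVec y ∈ X) : g ∈ stab X := by
  rw [mem_stab]
  refine Submodule.eq_of_le_of_finrank_le ?_ (le_of_eq ?_)
  · rintro _ ⟨y, hy, rfl⟩; exact h y hy
  · exact (LinearEquiv.finrank_eq (Submodule.equivMapOfInjective _
      (Matrix.mulVec_injective_iff_isUnit.2 (Units.isUnit _)) X))

theorem refl_mem_stab (X : Submodule F (ι → F)) {x : ι → F} (hx : Q x ≠ 0) (h : x ∈ X ∨ x ∈ HypQuad.perp Q X) :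
    refl Q x hx ∈ stab X :=
  mem_stab_of_forall X _ (refl_preserves X hx h)

/-- Image of a singular subspace under an isometry. -/
theorem isMax_map {m : ℕ} (g : Cfsg.isometryGroup F (⇑Q)) {U : Submodule F (ι → F)} (hU : HypQuad.IsMax Q m U) :
    HypQuad.IsMax Q m (U.map (Matrix.mulVecLin ((g : Matrix.GeneralLinearGroup ι F) : Matrix ι ι F))) := by
  refine ⟨?_, ?_⟩
  · rw [← hU.1]
    exact (LinearEquiv.finrank_eq (Submodule.equivMapOfInjective _
      (Matrix.mulVec_injective_iff_isUnit.2 (Units.isUnit _)) U)).symm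
  · rintro _ ⟨y, hy, rfl⟩
    show Q (Matrix.mulVec _ y) = 0
    rw [(mem_iff Q).1 g.2]; exact hU.2 y hy

/-- The parity of a maximal singular subspace and its image is the Dickson invariant. -/
theorem parity_dickson (hQ : (QuadraticMap.polarBilin Q).Nondegenerate) {m : ℕ} (hι : Fintype.card ι = 2 * m)
    (h : Fintype.card F ≠ 2 ∨ Fintype.card ι ≠ 4) {U : Submodule F (ι → F)} (hU : HypQuad.IsMax Q m U)
    (g : Cfsg.isometryGroup F (⇑Q)) :
    Even (m - Module.finrank F ↥(U ⊓ U.map (Matrix.mulVecLin ((g : Matrix.GeneralLinearGroup ι F) : Matrix ι ι F)))) ↔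
      dickson Q hQ g = 1 := by
  classical
  have hV : Module.finrank F (ι → F) = 2 * m := by simp [hι]
  let L : Cfsg.isometryGroup F (⇑Q) → ((ι → F) →ₗ[F] (ι → F)) := fun x =>
    Matrix.mulVecLin ((x : Matrix.GeneralLinearGroup ι F) : Matrix ι ι F)
  have hLmul : ∀ a b, L (a * b) = (L a).comp (L b) := fun a b => by
    simp only [L, Subgroup.coe_mul, Units.val_mul, Matrix.mulVecLin_mul]
  have hLinj : ∀ a, Function.Injective (L a) := fun a => Matrix.mulVec_injective_iff_isUnit.2 (Units.isUnit _)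
  let d : Cfsg.isometryGroup F (⇑Q) → ℕ := fun x => m - Module.finrank F ↥(U ⊓ U.map (L x))
  have hmul : ∀ a b, Even (d a + d b + d (a * b)) := by
    intro a b
    have h1 := HypQuad.parity Q hQ hV hU (isMax_map a hU) (isMax_map (a * b) hU)
    have e : Module.finrank F ↥(U.map (L a) ⊓ U.map (L (a * b))) = Module.finrank F ↥(U ⊓ U.map (L b)) := by
      rw [hLmul, Submodule.map_comp, ← Submodule.map_inf _ (hLinj a)]
      exact (LinearEquiv.finrank_eq (Submodule.equivMapOfInjective _ (hLinj a) _)).symm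
    simp only [d]
    rw [← e]
    exact h1
  have hone : d 1 = 0 := by
    simp only [d]
    have e : U ⊓ map (L 1) U = U := by
      refine inf_eq_left.2 fun x hx => ⟨x, hx, ?_⟩
      simp [L]
    rw [e, hU.1, Nat.sub_self]
  have hrefl : ∀ v (hv : Q v ≠ 0), d (refl Q v hv) = 1 := by
    intro v hv
    have hv0 : v ≠ 0 := fun h => hv (by rw [h, QuadraticMap.map_zero])
    let φ : U →ₗ[F] F := (QuadraticMap.polarBilin Q v).comp U.subtype
    have hφ : φ ≠ 0 := fun h0 => hv (hU.2 v (by
      rw [← HypQuad.perp_eq Q hQ hV hU, HypQuad.mem_perp]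
      intro w hw
      rw [QuadraticMap.polar_comm]
      exact LinearMap.congr_fun h0 ⟨w, hw⟩))
    have hker : Module.finrank F (LinearMap.ker φ) + 1 = Module.finrank F U := by
      have h1 := LinearMap.finrank_range_add_finrank_ker φ
      rw [LinearMap.range_eq_top.2 (LinearMap.surjective hφ), finrank_top, Module.finrank_self] at h1
      omega
    have e : U ⊓ U.map (L (refl Q v hv)) = (LinearMap.ker φ).map U.subtype := by
      ext y
      simp only [Submodule.mem_inf, Submodule.mem_map, LinearMap.mem_ker, Submodule.coe_subtype, Subtype.exists]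
      constructor
      · rintro ⟨hyU, w, hw, rfl⟩
        have hyv : Matrix.mulVec (Cfsg.reflectionMatrix (⇑Q) v) w ∈ U := hyU
        rw [mulVec_eq] at hyv
        have hc : (Q v)⁻¹ * QuadraticMap.polar (⇑Q) v w = 0 := by
          by_contra hc
          refine hv (hU.2 v ?_)
          have := U.smul_mem (((Q v)⁻¹ * QuadraticMap.polar (⇑Q) v w)⁻¹) (U.sub_mem hw hyv)
          rwa [sub_sub_cancel, smul_smul, inv_mul_cancel₀ hc, one_smul] at this
        have hpol : QuadraticMap.polar (⇑Q) v w = 0 := (mul_eq_zero.1 hc).resolve_left (inv_ne_zero hv)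
        refine ⟨w, hw, hpol, ?_⟩
        show w = Matrix.mulVec (Cfsg.reflectionMatrix (⇑Q) v) w
        rw [fix Q v w hpol]
      · rintro ⟨w, hw, hpol, rfl⟩
        exact ⟨hw, w, hw, fix Q v w hpol⟩
    simp only [d]
    rw [e, LinearEquiv.finrank_eq (Submodule.equivMapOfInjective _ Subtype.val_injective (LinearMap.ker φ)).symm, ← hU.1]
    omega
  have key : ∀ x, (-1 : ℤˣ) ^ d x = dickson Q hQ x := by
    intro x
    induction mem_closure_refl Q hQ h x using Subgroup.closure_induction with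
    | mem r hr => obtain ⟨v, hv, rfl⟩ := hr; rw [hrefl, dickson_refl, pow_one]
    | one => rw [hone, map_one, pow_zero]
    | mul a b _ _ ha hb =>
      rw [map_mul, ← ha, ← hb, ← pow_add]
      apply neg_one_pow_congr
      have := Nat.even_iff.1 (hmul a b)
      rw [Nat.even_iff, Nat.even_iff]; omega
    | inv a _ ha =>
      rw [map_inv, ← ha, ← inv_pow, Int.units_inv_eq_self]
      apply neg_one_pow_congr
      have h1 := Nat.even_iff.1 (hmul a a⁻¹)
      rw [mul_inv_cancel, hone] at h1
      rw [Nat.even_iff, Nat.even_iff]; omega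
  rw [← key]
  exact ⟨fun hev => hev.neg_one_pow, fun hd => by
    by_contra hodd
    rw [Nat.not_even_iff_odd] at hodd
    rw [hodd.neg_one_pow] at hd
    exact absurd hd (by decide)⟩

end Cfsg.Lib.OmegaCls
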