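import Cfsg.Agent.Classical.SL
import Cfsg.Agent.Classical.Symp.Matrix
import Cfsg.Agent.Suz.Lie
import Cfsg.Agent.S0243
import Cfsg.Agent.S0280
import Cfsg.Agent.S0292
import Cfsg.Agent.S0293
import Cfsg.Agent.S0294
import Cfsg.Agent.S1059
import Cfsg.Agent.S1062
import Cfsg.Agent.S1063
import Cfsg.Agent.S1064
import Cfsg.Agent.S1065
import Cfsg.Agent.S1066
import Cfsg.Agent.S1067
import Cfsg.Agent.S1068
import Cfsg.Agent.S1069
import Cfsg.Prelude.Def_LieTypeChar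

/-! Groups of Lie type are smaller than powers of the order of a Sylow subgroup of the characteristic. -/

set_option autoImplicit false

namespace Cfsg.Lib.Known.LieOrderBound

/-- Coprimality of the building blocks. -/
theorem not_dvd_pow_sub {p q : ℕ} (hp : p.Prime) (hq : p ∣ q) (hq1 : 1 ≤ q) {k : ℕ} (hk : k ≠ 0) :
    ¬ p ∣ q ^ k - 1 := fun h => by
  have h1 := Nat.dvd_sub (hq.trans (dvd_pow_self q hk)) h
  rw [Nat.sub_sub_self (Nat.one_le_pow _ _ hq1)] at h1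
  exact hp.not_dvd_one h1

theorem not_dvd_pow_add {p q : ℕ} (hp : p.Prime) (hq : p ∣ q) {k : ℕ} (hk : k ≠ 0) : ¬ p ∣ q ^ k + 1 :=
  fun h => hp.not_dvd_one ((Nat.dvd_add_right (hq.trans (dvd_pow_self q hk))).1 h)

theorem not_dvd_of_dvd {p d e : ℕ} (h : d ∣ e) (he : ¬ p ∣ e) : ¬ p ∣ d := fun hd => he (hd.trans h)

theorem not_dvd_mul {p a b : ℕ} (hp : p.Prime) (ha : ¬ p ∣ a) (hb : ¬ p ∣ b) : ¬ p ∣ a * b :=
  fun h => (hp.dvd_mul.1 h).elim ha hb

theorem not_dvd_prod {p : ℕ} (hp : p.Prime) {ι : Type*} (s : Finset ι) (g : ι → ℕ) (h : ∀ i ∈ s, ¬ p ∣ g i) :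
    ¬ p ∣ ∏ i ∈ s, g i := fun hd => by
  obtain ⟨i, hi, hi'⟩ := hp.prime.exists_mem_finset_dvd hd
  exact h i hi hi'

/-- The general estimate. -/
theorem bound {p f q d N M X g : ℕ} (hp : p.Prime) (hq : q = p ^ f) (heq : d * g = q ^ N * X)
    (hd : ¬ p ∣ d) (hX : ¬ p ∣ X) (hXlt : X < q ^ M) :
    g.factorization p = f * N ∧ (M ≤ 2 * N → g < p ^ (3 * g.factorization p)) ∧
      (3 * M ≤ 5 * N → g ^ 3 < p ^ (8 * g.factorization p)) := by
  have hd0 : d ≠ 0 := fun h => hd (h ▸ dvd_zero p)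
  have hX0 : X ≠ 0 := fun h => hX (h ▸ dvd_zero p)
  have hq0 : 0 < q := hq ▸ pow_pos hp.pos f
  have hg0 : g ≠ 0 := by
    rintro rfl
    rw [mul_zero] at heq
    exact mul_ne_zero (pow_ne_zero _ hq0.ne') hX0 heq.symm
  have hf : g.factorization p = f * N := by
    have h := congrArg (fun z => z.factorization p) heq
    rw [Nat.factorization_mul hd0 hg0, Nat.factorization_mul (pow_ne_zero _ hq0.ne') hX0,
      Finsupp.add_apply, Finsupp.add_apply, Nat.factorization_eq_zero_of_not_dvd hd,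
      Nat.factorization_eq_zero_of_not_dvd hX, hq, ← pow_mul, hp.factorization_pow, Finsupp.single_eq_same] at h
    omega
  have hlt : g < q ^ (N + M) :=
    calc g ≤ d * g := Nat.le_mul_of_pos_left _ (Nat.pos_of_ne_zero hd0)
      _ = q ^ N * X := heq
      _ < q ^ N * q ^ M := Nat.mul_lt_mul_of_pos_left hXlt (pow_pos hq0 _)
      _ = q ^ (N + M) := (pow_add _ _ _).symm
  refine ⟨hf, fun h => ?_, fun h => ?_⟩
  · refine hlt.trans_le ?_
    rw [hf, hq, ← pow_mul]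
    exact Nat.pow_le_pow_right hp.pos (by nlinarith)
  · refine (Nat.pow_lt_pow_left hlt (by norm_num)).trans_le ?_
    rw [hf, hq, ← pow_mul, ← pow_mul]
    exact Nat.pow_le_pow_right hp.pos (by nlinarith)

theorem lt_mul {a b A B : ℕ} (ha : a ≤ A) (hb : b < B) (hA : 0 < A) : a * b < A * B :=
  (Nat.mul_le_mul_right b ha).trans_lt (Nat.mul_lt_mul_of_pos_left hb hA)

theorem pow_sub_lt {q k : ℕ} (hq : 1 ≤ q) : q ^ k - 1 < q ^ k :=
  Nat.sub_lt (pow_pos hq k) one_pos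

theorem pow_add_le {q k : ℕ} (hq : 2 ≤ q) : q ^ k + 1 ≤ q ^ (k + 1) := by
  rw [pow_succ]
  have := Nat.one_le_pow k q (by omega)
  nlinarith

theorem prod_le_pow {q : ℕ} (s : Finset ℕ) (g e : ℕ → ℕ) (h : ∀ i ∈ s, g i ≤ q ^ e i) :
    ∏ i ∈ s, g i ≤ q ^ ∑ i ∈ s, e i := by
  rw [← Finset.prod_pow_eq_pow_sum]
  exact Finset.prod_le_prod' h

/-- The conclusion of the statement. -/
def Good (p n : ℕ) : Prop :=
  n < p ^ (3 * n.factorization p) ∧ n ^ 3 < p ^ (8 * n.factorization p)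

theorem good_of {p f q d N M X g : ℕ} (hp : p.Prime) (hq : q = p ^ f) (heq : d * g = q ^ N * X)
    (hd : ¬ p ∣ d) (hX : ¬ p ∣ X) (hXlt : X < q ^ M) (h1 : M ≤ 2 * N) (h2 : 3 * M ≤ 5 * N) : Good p g :=
  have h := bound hp hq heq hd hX hXlt
  ⟨h.2.1 h1, h.2.2 h2⟩

theorem exists_card {F : Type*} [Field F] [Fintype F] (p : ℕ) [CharP F p] :
    ∃ f : ℕ, Fintype.card F = p ^ f ∧ p ∣ Fintype.card F ∧ 2 ≤ Fintype.card F := by
  obtain ⟨k, -, hk⟩ := FiniteField.card F p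
  exact ⟨k, hk, hk ▸ dvd_pow_self p k.pos.ne', Fintype.one_lt_card⟩

theorem sum_two_mul : ∀ m : ℕ, ∑ i ∈ Finset.range m, 2 * (i + 1) = m * (m + 1)
  | 0 => rfl
  | m + 1 => by rw [Finset.sum_range_succ, sum_two_mul m]; ring

theorem prod_sq_lt {q : ℕ} (hq : 2 ≤ q) : ∀ m : ℕ, 1 ≤ m →
    ∏ i ∈ Finset.range m, (q ^ (2 * (i + 1)) - 1) < q ^ (m * (m + 1)) := by
  intro m hm
  obtain ⟨m, rfl⟩ := Nat.exists_eq_succ_of_ne_zero (show m ≠ 0 by omega)
  rw [← sum_two_mul, Finset.sum_range_succ, pow_add, Finset.prod_range_succ]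
  exact lt_mul (prod_le_pow _ _ _ fun i _ => Nat.sub_le _ _) (pow_sub_lt (by omega)) (pow_pos (by omega) _)

section PSL

theorem prod_psl (q : ℕ) : ∀ n : ℕ, ∏ i ∈ Finset.range n, (q ^ n - q ^ i) =
    q ^ (n * (n - 1) / 2) * ∏ i ∈ Finset.range n, (q ^ (i + 1) - 1) := by
  intro n
  induction n with
  | zero => simp
  | succ k ih =>
    rw [Finset.prod_range_succ', pow_zero, Finset.prod_range_succ (fun i => q ^ (i + 1) - 1)]
    have e : ∀ i ∈ Finset.range k, q ^ (k + 1) - q ^ (i + 1) = q * (q ^ k - q ^ i) := fun i _ => by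
      rw [Nat.mul_sub, ← pow_succ', ← pow_succ']
    rw [Finset.prod_congr rfl e, Finset.prod_mul_distrib, Finset.prod_const, Finset.card_range, ih,
      Nat.add_sub_cancel, show (k + 1) * k / 2 = k + k * (k - 1) / 2 from by
        have hk : (k + 1) * k = k * (k - 1) + 2 * k := by
          rcases k with _ | k
          · rfl
          · rw [Nat.add_sub_cancel]; ring
        rw [hk, Nat.add_mul_div_left _ _ two_pos, add_comm], pow_add]
    ring

theorem psl {F : Type*} [Field F] [Fintype F] {p : ℕ} (hp : p.Prime) [CharP F p] {n : ℕ} (hn : 2 ≤ n) :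
    Nat.card (Matrix.ProjectiveSpecialLinearGroup (Fin n) F) <
        p ^ (3 * (Nat.card (Matrix.ProjectiveSpecialLinearGroup (Fin n) F)).factorization p) ∧
      (n = 2 → Fintype.card F = p ^ (Nat.card (Matrix.ProjectiveSpecialLinearGroup (Fin n) F)).factorization p) ∧
      (3 ≤ n → Good p (Nat.card (Matrix.ProjectiveSpecialLinearGroup (Fin n) F))) := by
  obtain ⟨f, hf, hdvd, h2⟩ := exists_card (F := F) p
  set q := Fintype.card F with hq
  have h := Cfsg.Agent.S0243.result (F := F) (q := q) rfl n hn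
  rw [Fin.prod_univ_eq_prod_range (fun i => q ^ n - q ^ i) n, prod_psl] at h
  obtain ⟨k, rfl⟩ : ∃ k, n = k + 2 := ⟨n - 2, by omega⟩
  rw [Finset.prod_range_succ', zero_add, pow_one, ← mul_assoc (q ^ _) _ (q - 1), mul_left_comm] at h
  have heq := Nat.eq_of_mul_eq_mul_left (show 0 < q - 1 by omega) (h.trans (mul_comm _ (q - 1)))
  have hd : ¬ p ∣ Nat.gcd (k + 2) (q - 1) :=
    not_dvd_of_dvd (Nat.gcd_dvd_right _ _) (by simpa using not_dvd_pow_sub hp hdvd (by omega) one_ne_zero)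
  have hX : ¬ p ∣ ∏ i ∈ Finset.range (k + 1), (q ^ (i + 1 + 1) - 1) :=
    not_dvd_prod hp _ _ fun i _ => not_dvd_pow_sub hp hdvd (by omega) (by omega)
  have hsum : ∀ m, (∑ i ∈ Finset.range m, (i + 1 + 1)) * 2 = m * (m + 3) := by
    intro m; induction m with
    | zero => rfl
    | succ m ih => rw [Finset.sum_range_succ, add_mul, ih]; ring
  have hXlt : ∏ i ∈ Finset.range (k + 1), (q ^ (i + 1 + 1) - 1) < q ^ ((k + 1) * (k + 4) / 2) := by
    rw [show (k + 1) * (k + 4) / 2 = ∑ i ∈ Finset.range (k + 1), (i + 1 + 1) by rw [← hsum]; simp,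
      Finset.sum_range_succ, pow_add, Finset.prod_range_succ]
    exact lt_mul (prod_le_pow _ _ _ fun i _ => Nat.sub_le _ _) (pow_sub_lt (by omega)) (pow_pos (by omega) _)
  have hN : (k + 2) * (k + 2 - 1) / 2 * 2 = (k + 2) * (k + 1) := by
    rw [show k + 2 - 1 = k + 1 by omega]
    exact Nat.div_mul_cancel (by rw [mul_comm]; exact (Nat.even_mul_succ_self (k + 1)).two_dvd)
  have hM : (k + 1) * (k + 4) / 2 * 2 = (k + 1) * (k + 4) := by
    conv_rhs => rw [show (k + 1) * (k + 4) = (k + 1) * (k + 1 + 3) by ring, ← hsum]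
    rw [show (k + 1) * (k + 4) = (k + 1) * (k + 1 + 3) by ring, ← hsum]
    simp
  have hb := bound hp hf heq hd hX hXlt
  refine ⟨hb.2.1 (by nlinarith), fun hk => ?_, fun hk => ⟨hb.2.1 (by nlinarith), hb.2.2 (by nlinarith)⟩⟩
  obtain rfl : k = 0 := by omega
  rw [hb.1, hf]
  norm_num

end PSL

theorem psp {F : Type*} [Field F] [Fintype F] {p : ℕ} (hp : p.Prime) [CharP F p] {m : ℕ} (hm : 2 ≤ m) :
    Good p (Nat.card (Cfsg.PSp m F)) := by
  obtain ⟨f, hf, hdvd, h2⟩ := exists_card (F := F) p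
  have hc := Cfsg.Lib.Classical.card_center_symplecticGroup (F := F) (m := m) (by omega)
  have h := (Subgroup.card_eq_card_quotient_mul_card_subgroup
    (Subgroup.center (Matrix.symplecticGroup (Fin m) F))).symm.trans
      (Cfsg.Lib.Classical.card_symplecticGroup m)
  rw [hc, mul_comm, Nat.card_eq_fintype_card (α := F)] at h
  exact good_of hp hf h
    (not_dvd_of_dvd (Nat.gcd_dvd_right _ _) (by simpa using not_dvd_pow_sub hp hdvd (by omega) one_ne_zero))
    (not_dvd_prod hp _ _ fun i _ => not_dvd_pow_sub hp hdvd (by omega) (by omega))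
    (prod_sq_lt h2 m (by omega)) (by nlinarith) (by nlinarith)

theorem pomegaOdd {F : Type*} [Field F] [Fintype F] {p : ℕ} (hp : p.Prime) [CharP F p]
    (hodd : Odd (Fintype.card F)) {m : ℕ} (hm : 3 ≤ m) :
    Good p (Nat.card (Cfsg.POmega F (Cfsg.quadFormOdd m F))) := by
  obtain ⟨f, hf, hdvd, h2⟩ := exists_card (F := F) p
  refine good_of hp hf (Cfsg.Agent.S0292.result (F := F) rfl hodd m hm) ?_
    (not_dvd_prod hp _ _ fun i _ => not_dvd_pow_sub hp hdvd (by omega) (by omega))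
    (prod_sq_lt h2 m (by omega)) (by nlinarith) (by nlinarith)
  intro hp2
  obtain ⟨c, hc⟩ := hdvd
  obtain ⟨e, he⟩ := hodd
  rw [(Nat.prime_dvd_prime_iff_eq hp Nat.prime_two).1 hp2] at hc
  omega

theorem pomegaPlus {F : Type*} [Field F] [Fintype F] {p : ℕ} (hp : p.Prime) [CharP F p] {m : ℕ} (hm : 4 ≤ m) :
    Good p (Nat.card (Cfsg.POmega F (Cfsg.quadFormPlus m F))) := by
  obtain ⟨f, hf, hdvd, h2⟩ := exists_card (F := F) p
  set q := Fintype.card F
  have h := Cfsg.Agent.S0293.result (F := F) (q := q) rfl m hm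
  rw [mul_assoc (q ^ _)] at h
  have hm' : m * (m - 1) + m = m * m := by
    rcases m with _ | m
    · rfl
    · rw [Nat.add_sub_cancel]; ring
  refine good_of (M := m * m) hp hf h (not_dvd_of_dvd (Nat.gcd_dvd_right _ _) (not_dvd_pow_sub hp hdvd (by omega) (by omega)))
    (not_dvd_mul hp (not_dvd_pow_sub hp hdvd (by omega) (by omega))
      (not_dvd_prod hp _ _ fun i _ => not_dvd_pow_sub hp hdvd (by omega) (by omega))) ?_ (by nlinarith) (by nlinarith)
  rw [← hm', pow_add, mul_comm (q ^ (m * (m - 1)))]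
  refine lt_mul (Nat.sub_le _ _) ?_ (pow_pos (by omega) _)
  have := prod_sq_lt h2 (m - 1) (by omega)
  rwa [show (m - 1) * (m - 1 + 1) = m * (m - 1) by rw [mul_comm]; congr 1; omega] at this

theorem pomegaMinus {F : Type*} [Field F] [Fintype F] {p : ℕ} (hp : p.Prime) [CharP F p] {m : ℕ} (hm : 4 ≤ m)
    (a b : F) (hab : ∀ z₁ z₂ : F, z₁ ^ 2 + a * z₁ * z₂ + b * z₂ ^ 2 = 0 → z₁ = 0 ∧ z₂ = 0) :
    Good p (Nat.card (Cfsg.POmega F (Cfsg.quadFormMinus (m - 1) F a b))) := by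
  obtain ⟨f, hf, hdvd, h2⟩ := exists_card (F := F) p
  set q := Fintype.card F
  have h := Cfsg.Agent.S0294.result (F := F) (q := q) rfl m hm a b hab
  rw [mul_assoc (q ^ _)] at h
  have hm' : m * (m - 1) + m = m * m := by
    rcases m with _ | m
    · rfl
    · rw [Nat.add_sub_cancel]; ring
  refine good_of (M := m * (m - 1) + (m + 1)) hp hf h
    (not_dvd_of_dvd (Nat.gcd_dvd_right _ _) (not_dvd_pow_add hp hdvd (by omega)))
    (not_dvd_mul hp (not_dvd_pow_add hp hdvd (by omega))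
      (not_dvd_prod hp _ _ fun i _ => not_dvd_pow_sub hp hdvd (by omega) (by omega))) ?_ (by nlinarith) (by nlinarith)
  rw [pow_add, mul_comm (q ^ (m * (m - 1)))]
  refine lt_mul (pow_add_le h2) ?_ (pow_pos (by omega) _)
  have := prod_sq_lt h2 (m - 1) (by omega)
  rwa [show (m - 1) * (m - 1 + 1) = m * (m - 1) by rw [mul_comm]; congr 1; omega] at this

theorem psu_prod {q : ℕ} (hq : 2 ≤ q) : ∀ j : ℕ,
    (∏ i ∈ Finset.range (2 * j), (if Even (i + 1) then q ^ (i + 1 + 1) + 1 else q ^ (i + 1 + 1) - 1)) ≤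
        q ^ (j * (2 * j + 3)) ∧
    (∏ i ∈ Finset.range (2 * j + 1), (if Even (i + 1) then q ^ (i + 1 + 1) + 1 else q ^ (i + 1 + 1) - 1)) <
        q ^ (j * (2 * j + 3) + (2 * j + 2)) ∧
    (1 ≤ j → (∏ i ∈ Finset.range (2 * j), (if Even (i + 1) then q ^ (i + 1 + 1) + 1 else q ^ (i + 1 + 1) - 1)) <
        q ^ (j * (2 * j + 3))) := by
  intro j
  induction j with
  | zero => simpa using pow_sub_lt (k := 2) (show 1 ≤ q by omega)
  | succ j ih =>
    have key : (∏ i ∈ Finset.range (2 * (j + 1)), (if Even (i + 1) then q ^ (i + 1 + 1) + 1 else q ^ (i + 1 + 1) - 1)) <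
        q ^ ((j + 1) * (2 * (j + 1) + 3)) := by
      rw [show 2 * (j + 1) = 2 * j + 1 + 1 by ring, Finset.prod_range_succ, Finset.prod_range_succ,
        if_neg (by rw [Nat.not_even_iff_odd]; exact ⟨j, by ring⟩), if_pos ⟨j + 1, by ring⟩, mul_assoc]
      refine (lt_mul ih.1 (B := q ^ ((2 * j + 2) + (2 * j + 3))) ?_ (pow_pos (by omega) _)).trans_eq ?_
      · rw [show 2 * j + 1 + 1 + 1 = 2 * j + 2 + 1 by ring,
          show 2 * j + 1 + 1 = 2 * j + 2 by ring, pow_add q (2 * j + 2) (2 * j + 3),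
          show q ^ (2 * j + 3) = q ^ (2 * j + 2) * q from pow_succ q (2 * j + 2)]
        have h1 := Nat.one_le_pow (2 * j + 2) q (by omega)
        obtain ⟨a, ha⟩ : ∃ a, q ^ (2 * j + 2) = a + 1 := ⟨_, (Nat.sub_add_cancel h1).symm⟩
        rw [ha, Nat.add_sub_cancel]
        nlinarith
      · rw [← pow_add]; congr 1; ring
    refine ⟨key.le, ?_, fun _ => key⟩
    rw [Finset.prod_range_succ, if_neg (by rw [Nat.not_even_iff_odd]; exact ⟨j + 1, by ring⟩)]
    refine (lt_mul key.le (pow_sub_lt (by omega)) (pow_pos (by omega) _)).trans_eq ?_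
    rw [← pow_add]

theorem psu {F : Type*} [Field F] [Fintype F] {p : ℕ} (hp : p.Prime) [CharP F p] {n q : ℕ}
    (hF : Fintype.card F = q ^ 2) (hn : 3 ≤ n) : Good p (Nat.card (Cfsg.PSU n F q)) := by
  obtain ⟨f', hf', hdvd', h2'⟩ := exists_card (F := F) p
  obtain ⟨f, -, hf⟩ := (Nat.dvd_prime_pow hp).1 (show q ∣ p ^ f' by rw [← hf', hF]; exact dvd_pow_self q two_ne_zero)
  have h2 : 2 ≤ q := by
    rw [hF] at h2'
    rcases q with _ | _ | q
    · simp at h2'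
    · simp at h2'
    · omega
  have hdvd : p ∣ q := hp.dvd_of_dvd_pow (hF ▸ hdvd')
  have h := Cfsg.Agent.S0280.result (F := F) hF n (by omega)
  obtain ⟨k, rfl⟩ : ∃ k, n = k + 1 := ⟨n - 1, by omega⟩
  rw [Finset.prod_range_succ', if_pos (by decide), zero_add, pow_one, ← mul_assoc (q ^ _) _ (q + 1),
    mul_left_comm] at h
  have heq := Nat.eq_of_mul_eq_mul_left (show 0 < q + 1 by omega) (h.trans (mul_comm _ (q + 1)))
  have hd : ¬ p ∣ Nat.gcd (k + 1) (q + 1) :=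
    not_dvd_of_dvd (Nat.gcd_dvd_right _ _) (by simpa using not_dvd_pow_add hp hdvd one_ne_zero)
  have hX : ¬ p ∣ ∏ i ∈ Finset.range k, (if Even (i + 1) then q ^ (i + 1 + 1) + 1 else q ^ (i + 1 + 1) - 1) :=
    not_dvd_prod hp _ _ fun i _ => by
      split
      · exact not_dvd_pow_add hp hdvd (by omega)
      · exact not_dvd_pow_sub hp hdvd (by omega) (by omega)
  have hN : (k + 1) * (k + 1 - 1) / 2 * 2 = (k + 1) * k := by
    rw [Nat.add_sub_cancel]
    exact Nat.div_mul_cancel (by rw [mul_comm]; exact (Nat.even_mul_succ_self k).two_dvd)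
  rcases Nat.even_or_odd' k with ⟨j, rfl | rfl⟩
  · exact good_of hp hf heq hd hX ((psu_prod h2 j).2.2 (by omega)) (by nlinarith) (by nlinarith)
  · exact good_of hp hf heq hd hX (psu_prod h2 j).2.1 (by nlinarith) (by nlinarith)

section Exc

variable {F : Type*} [Field F] [Fintype F] {p : ℕ}

theorem g2 (hp : p.Prime) [CharP F p] : Good p (Nat.card ↥(Cfsg.Lie.chevG2.group F)) := by
  obtain ⟨f, hf, hdvd, h2⟩ := exists_card (F := F) p
  set q := Fintype.card F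
  refine good_of (d := 1) (N := 6) (M := 2 + 6) hp hf
    (X := (q ^ 2 - 1) * (q ^ 6 - 1)) (by rw [one_mul, Cfsg.Agent.S1059.result (F := F) (q := q) rfl, mul_assoc])
    hp.not_dvd_one (not_dvd_mul hp (not_dvd_pow_sub hp hdvd (by omega) (by norm_num))
      (not_dvd_pow_sub hp hdvd (by omega) (by norm_num))) ?_ (by norm_num) (by norm_num)
  rw [pow_add]
  exact lt_mul (Nat.sub_le _ _) (pow_sub_lt (by omega)) (pow_pos (by omega) _)

theorem f4 (hp : p.Prime) [CharP F p] : Good p (Nat.card ↥(Cfsg.Lie.chevF4.group F)) := by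
  obtain ⟨f, hf, hdvd, h2⟩ := exists_card (F := F) p
  set q := Fintype.card F
  have nd : ∀ k, k ≠ 0 → ¬ p ∣ q ^ k - 1 := fun k hk => not_dvd_pow_sub hp hdvd (by omega) hk
  refine good_of (d := 1) (N := 24) (M := 2 + (6 + (8 + 12))) hp hf
    (X := (q ^ 2 - 1) * ((q ^ 6 - 1) * ((q ^ 8 - 1) * (q ^ 12 - 1))))
    (by rw [one_mul, Cfsg.Agent.S1062.result (F := F) (q := q) rfl]; simp only [mul_assoc])
    hp.not_dvd_one (by repeat' apply not_dvd_mul hp
                       all_goals exact nd _ (by norm_num)) ?_ (by norm_num) (by norm_num)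
  rw [pow_add, pow_add, pow_add]
  repeat' (refine lt_mul (Nat.sub_le _ _) ?_ (pow_pos (by omega) _))
  exact pow_sub_lt (by omega)

theorem e6 (hp : p.Prime) [CharP F p] : Good p (Nat.card ↥(Cfsg.Lie.chevE6.group F)) := by
  obtain ⟨f, hf, hdvd, h2⟩ := exists_card (F := F) p
  set q := Fintype.card F
  have nd : ∀ k, k ≠ 0 → ¬ p ∣ q ^ k - 1 := fun k hk => not_dvd_pow_sub hp hdvd (by omega) hk
  refine good_of (N := 36) (M := 2 + (5 + (6 + (8 + (9 + 12))))) hp hf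
    (X := (q ^ 2 - 1) * ((q ^ 5 - 1) * ((q ^ 6 - 1) * ((q ^ 8 - 1) * ((q ^ 9 - 1) * (q ^ 12 - 1))))))
    ((Cfsg.Agent.S1063.result (F := F) (q := q) rfl).trans (by simp only [mul_assoc]))
    (not_dvd_of_dvd (Nat.gcd_dvd_right _ _) (by simpa using nd 1 one_ne_zero))
    (by repeat' apply not_dvd_mul hp
        all_goals exact nd _ (by norm_num)) ?_ (by norm_num) (by norm_num)
  simp only [pow_add]
  repeat' (refine lt_mul (Nat.sub_le _ _) ?_ (pow_pos (by omega) _))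
  exact pow_sub_lt (by omega)

theorem e7 (hp : p.Prime) [CharP F p] : Good p (Nat.card ↥(Cfsg.Lie.chevE7.group F)) := by
  obtain ⟨f, hf, hdvd, h2⟩ := exists_card (F := F) p
  set q := Fintype.card F
  have nd : ∀ k, k ≠ 0 → ¬ p ∣ q ^ k - 1 := fun k hk => not_dvd_pow_sub hp hdvd (by omega) hk
  refine good_of (N := 63) (M := 2 + (6 + (8 + (10 + (12 + (14 + 18)))))) hp hf
    (X := (q ^ 2 - 1) * ((q ^ 6 - 1) * ((q ^ 8 - 1) * ((q ^ 10 - 1) * ((q ^ 12 - 1) * ((q ^ 14 - 1) * (q ^ 18 - 1)))))))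
    ((Cfsg.Agent.S1064.result (F := F) (q := q) rfl).trans (by simp only [mul_assoc]))
    (not_dvd_of_dvd (Nat.gcd_dvd_right _ _) (by simpa using nd 1 one_ne_zero))
    (by repeat' apply not_dvd_mul hp
        all_goals exact nd _ (by norm_num)) ?_ (by norm_num) (by norm_num)
  simp only [pow_add]
  repeat' (refine lt_mul (Nat.sub_le _ _) ?_ (pow_pos (by omega) _))
  exact pow_sub_lt (by omega)

theorem e8 (hp : p.Prime) [CharP F p] : Good p (Nat.card ↥(Cfsg.Lie.chevE8.group F)) := by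
  obtain ⟨f, hf, hdvd, h2⟩ := exists_card (F := F) p
  set q := Fintype.card F
  have nd : ∀ k, k ≠ 0 → ¬ p ∣ q ^ k - 1 := fun k hk => not_dvd_pow_sub hp hdvd (by omega) hk
  refine good_of (d := 1) (N := 120) (M := 2 + (8 + (12 + (14 + (18 + (20 + (24 + 30))))))) hp hf
    (X := (q ^ 2 - 1) * ((q ^ 8 - 1) * ((q ^ 12 - 1) * ((q ^ 14 - 1) * ((q ^ 18 - 1) * ((q ^ 20 - 1) * ((q ^ 24 - 1) * (q ^ 30 - 1))))))))
    (by rw [one_mul, Cfsg.Agent.S1065.result (F := F) (q := q) rfl]; simp only [mul_assoc])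
    hp.not_dvd_one
    (by repeat' apply not_dvd_mul hp
        all_goals exact nd _ (by norm_num)) ?_ (by norm_num) (by norm_num)
  simp only [pow_add]
  repeat' (refine lt_mul (Nat.sub_le _ _) ?_ (pow_pos (by omega) _))
  exact pow_sub_lt (by omega)

theorem prime_pow_of {q r : ℕ} (hr : r ≠ 0) [CharP F p] (hp : p.Prime) (hK : Fintype.card F = q ^ r) :
    ∃ f, q = p ^ f ∧ p ∣ q ∧ 2 ≤ q := by
  obtain ⟨f', hf', hdvd', h2'⟩ := exists_card (F := F) p
  obtain ⟨f, -, hf⟩ := (Nat.dvd_prime_pow hp).1 (show q ∣ p ^ f' by rw [← hf', hK]; exact dvd_pow_self q hr)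
  refine ⟨f, hf, hp.dvd_of_dvd_pow (hK ▸ hdvd'), ?_⟩
  rw [hK] at h2'
  rcases q with _ | _ | q
  · simp [hr] at h2'
  · simp at h2'
  · omega

theorem twE6 (hp : p.Prime) [CharP F p] {q : ℕ} (hq : IsPrimePow q) (hK : Fintype.card F = q ^ 2) :
    Good p (Nat.card ↥(Cfsg.Lie.twistedE6 F q)) := by
  obtain ⟨f, hf, hdvd, h2⟩ := prime_pow_of (F := F) two_ne_zero hp hK
  have nd : ∀ k, k ≠ 0 → ¬ p ∣ q ^ k - 1 := fun k hk => not_dvd_pow_sub hp hdvd (by omega) hk
  have na : ∀ k, k ≠ 0 → ¬ p ∣ q ^ k + 1 := fun k hk => not_dvd_pow_add hp hdvd hk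
  refine good_of (N := 36) (M := 2 + (6 + (6 + (8 + (10 + 12))))) hp hf
    (X := (q ^ 2 - 1) * ((q ^ 5 + 1) * ((q ^ 6 - 1) * ((q ^ 8 - 1) * ((q ^ 9 + 1) * (q ^ 12 - 1))))))
    ((Cfsg.Agent.S1066.result hq hK).trans (by simp only [mul_assoc]))
    (not_dvd_of_dvd (Nat.gcd_dvd_right _ _) (by simpa using na 1 one_ne_zero))
    (by repeat' apply not_dvd_mul hp
        all_goals first | exact nd _ (by norm_num) | exact na _ (by norm_num)) ?_ (by norm_num) (by norm_num)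
  simp only [pow_add]
  have pq : ∀ k, 0 < q ^ k := fun k => pow_pos (by omega) k
  exact lt_mul (Nat.sub_le _ _) (lt_mul (pow_add_le h2) (lt_mul (Nat.sub_le _ _) (lt_mul (Nat.sub_le _ _)
    (lt_mul (pow_add_le h2) (pow_sub_lt (by omega)) (pq _)) (pq _)) (pq _)) (pq _)) (pq _)

theorem twD4 (hp : p.Prime) [CharP F p] {q : ℕ} (hq : IsPrimePow q) (hK : Fintype.card F = q ^ 3) :
    Good p (Nat.card ↥(Cfsg.Lie.twistedD4 F q)) := by
  obtain ⟨f, hf, hdvd, h2⟩ := prime_pow_of (F := F) (by norm_num) hp hK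
  have nd : ∀ k, k ≠ 0 → ¬ p ∣ q ^ k - 1 := fun k hk => not_dvd_pow_sub hp hdvd (by omega) hk
  refine good_of (d := 1) (N := 12) (M := 9 + (2 + 6)) hp hf
    (X := (q ^ 8 + q ^ 4 + 1) * ((q ^ 2 - 1) * (q ^ 6 - 1)))
    (by rw [one_mul, Cfsg.Agent.S1067.result hq hK]; ring)
    hp.not_dvd_one
    (not_dvd_mul hp ?_ (not_dvd_mul hp (nd _ (by norm_num)) (nd _ (by norm_num)))) ?_ (by norm_num) (by norm_num)
  · intro h
    exact hp.not_dvd_one ((Nat.dvd_add_right (dvd_add (hdvd.trans (dvd_pow_self q (by norm_num)))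
      (hdvd.trans (dvd_pow_self q (by norm_num))))).1 h)
  · simp only [pow_add q 9 (2 + 6), pow_add q 2 6]
    refine lt_mul ?_ (lt_mul (Nat.sub_le _ _) (pow_sub_lt (by omega)) (pow_pos (by omega) _)) (pow_pos (by omega) _)
    have h4 := Nat.one_le_pow 4 q (by omega)
    have e8 : q ^ 8 = q ^ 4 * q ^ 4 := by ring
    have e9 : q ^ 9 = q * (q ^ 4 * q ^ 4) := by ring
    have h4' : 16 ≤ q ^ 4 := le_trans (by norm_num) (Nat.pow_le_pow_left h2 4)
    nlinarith

theorem suz {m : ℕ} (hm : 1 ≤ m) (hK : Fintype.card F = 2 ^ (2 * m + 1)) :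
    Good 2 (Nat.card ↥(Cfsg.Lie.Sz F (2 ^ (m + 1)))) := by
  have Q : Cfsg.Lib.Suz.Par F m := ⟨hm, hK⟩
  obtain ⟨hcard, -⟩ := Cfsg.Lib.Suz.lie_structure Q
  set q := 2 ^ (2 * m + 1) with hq
  have h2 : 2 ≤ q := Nat.le_self_pow (by omega) 2
  have hdvd : 2 ∣ q := dvd_pow_self 2 (by omega)
  refine good_of (d := 1) (N := 2) (M := 3) (q := q) Nat.prime_two hq
    (X := (q - 1) * (q ^ 2 + 1)) (by rw [one_mul, hcard]; ring)
    Nat.prime_two.not_dvd_one
    (not_dvd_mul Nat.prime_two (by simpa using not_dvd_pow_sub Nat.prime_two hdvd (by omega) one_ne_zero)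
      (not_dvd_pow_add Nat.prime_two hdvd two_ne_zero)) ?_ (by norm_num) (by norm_num)
  obtain ⟨a, ha⟩ : ∃ a, q = a + 1 := ⟨q - 1, by omega⟩
  rw [ha, Nat.add_sub_cancel]
  nlinarith

theorem ree2F4 {m : ℕ} (hK : Fintype.card F = 2 ^ (2 * m + 1)) :
    Good 2 (Nat.card ↥(Cfsg.Lie.twistedF4 F (2 ^ m))) := by
  have hcard := Cfsg.Agent.S1068.result (K := F) hK
  set q := 2 ^ (2 * m + 1) with hq
  have h2 : 2 ≤ q := Nat.le_self_pow (by omega) 2
  have hdvd : 2 ∣ q := dvd_pow_self 2 (by omega)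
  have nd : ∀ k, k ≠ 0 → ¬ 2 ∣ q ^ k - 1 := fun k hk => not_dvd_pow_sub Nat.prime_two hdvd (by omega) hk
  have na : ∀ k, k ≠ 0 → ¬ 2 ∣ q ^ k + 1 := fun k hk => not_dvd_pow_add Nat.prime_two hdvd hk
  refine good_of (d := 1) (N := 12) (M := 1 + (4 + (4 + 7))) (q := q) Nat.prime_two hq
    (X := (q ^ 1 - 1) * ((q ^ 3 + 1) * ((q ^ 4 - 1) * (q ^ 6 + 1))))
    (by rw [one_mul, hcard, pow_one]; simp only [mul_assoc]) Nat.prime_two.not_dvd_one
    (by repeat' apply not_dvd_mul Nat.prime_two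
        all_goals first | exact nd _ (by norm_num) | exact na _ (by norm_num)) ?_ (by norm_num) (by norm_num)
  simp only [pow_add]
  refine lt_mul (Nat.sub_le _ _) (lt_mul (pow_add_le h2) (lt_mul (Nat.sub_le _ _) ?_ (pow_pos (by omega) _))
    (pow_pos (by omega) _)) (pow_pos (by omega) _)
  have h6 := Nat.one_lt_pow (show 6 ≠ 0 by norm_num) (show 1 < q by omega)
  rw [pow_succ q 6]
  nlinarith

theorem ree2G2 {m : ℕ} (hm : 1 ≤ m) (hK : Fintype.card F = 3 ^ (2 * m + 1)) :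
    Good 3 (Nat.card ↥(Cfsg.Lie.twistedG2 F (3 ^ m))) := by
  have hcard := Cfsg.Agent.S1069.result (K := F) hK
  set q := 3 ^ (2 * m + 1) with hq
  have h3 : 3 ≤ q := Nat.le_self_pow (by omega) 3
  have hdvd : 3 ∣ q := dvd_pow_self 3 (by omega)
  refine good_of (d := 1) (N := 3) (M := 4) (q := q) Nat.prime_three hq
    (X := (q - 1) * (q ^ 3 + 1)) (by rw [one_mul, hcard]; ring)
    Nat.prime_three.not_dvd_one
    (not_dvd_mul Nat.prime_three (by simpa using not_dvd_pow_sub Nat.prime_three hdvd (by omega) one_ne_zero)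
      (not_dvd_pow_add Nat.prime_three hdvd (by norm_num))) ?_ (by norm_num) (by norm_num)
  obtain ⟨a, ha⟩ : ∃ a, q = a + 1 := ⟨q - 1, by omega⟩
  rw [ha, Nat.add_sub_cancel, pow_succ (a + 1) 3]
  nlinarith [Nat.le_self_pow (show 3 ≠ 0 by norm_num) (a + 1)]

end Exc

theorem main {G : Type*} [Group G] [Finite G] (p : ℕ) (hp : p.Prime) (hG : Cfsg.IsLieTypeChar p G) :
    Nat.card G < p ^ (3 * (Nat.card G).factorization p) ∧
      ((¬ ∃ (F : Type) (_ : Field F) (_ : Fintype F), Fintype.card F = p ^ (Nat.card G).factorization p ∧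
          Nonempty (G ≃* Matrix.ProjectiveSpecialLinearGroup (Fin 2) F)) →
        Nat.card G ^ 3 < p ^ (8 * (Nat.card G).factorization p)) := by
  have good : ∀ (H : Type) [Group H], Good p (Nat.card H) → Nonempty (G ≃* H) →
      Nat.card G < p ^ (3 * (Nat.card G).factorization p) ∧
        ((¬ ∃ (F : Type) (_ : Field F) (_ : Fintype F), Fintype.card F = p ^ (Nat.card G).factorization p ∧
            Nonempty (G ≃* Matrix.ProjectiveSpecialLinearGroup (Fin 2) F)) →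
          Nat.card G ^ 3 < p ^ (8 * (Nat.card G).factorization p)) := by
    rintro H _ hgood ⟨e⟩
    rw [Nat.card_congr e.toEquiv]
    exact ⟨hgood.1, fun _ => hgood.2⟩
  rcases hG with h | h | h | h | h | h | h | h | ⟨rfl, h⟩ | ⟨rfl, h⟩ | ⟨rfl, h⟩
  · obtain ⟨F, _, _, _, n, hn, -, ⟨e⟩⟩ := h
    obtain ⟨h1, h2, h3⟩ := psl (F := F) hp hn
    rw [Nat.card_congr e.toEquiv]
    refine ⟨h1, fun hne => ?_⟩
    rcases (show n = 2 ∨ 3 ≤ n by omega) with rfl | h4
    · exact absurd ⟨F, inferInstance, inferInstance, h2 rfl, ⟨e⟩⟩ hne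
    · exact (h3 h4).2
  · obtain ⟨F, _, _, _, m, hm, -, e⟩ := h
    exact good _ (psp hp hm) e
  · obtain ⟨F, _, _, _, n, q, hF, hn, -, e⟩ := h
    exact good _ (psu hp hF hn) e
  · obtain ⟨F, _, _, _, m, hm, hodd, e⟩ := h
    exact good _ (pomegaOdd hp hodd hm) e
  · obtain ⟨F, _, _, _, m, hm, e⟩ := h
    exact good _ (pomegaPlus hp hm) e
  · obtain ⟨F, _, _, _, m, a, b, hm, hab, e⟩ := h
    exact good _ (pomegaMinus hp hm a b hab) e
  · obtain ⟨F, _, _, _, h⟩ := h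
    rcases h with ⟨-, e⟩ | e | e | e | e
    exacts [good _ (g2 hp) e, good _ (f4 hp) e, good _ (e6 hp) e, good _ (e7 hp) e, good _ (e8 hp) e]
  · obtain ⟨K, _, _, _, q, hq, h⟩ := h
    rcases h with ⟨hK, e⟩ | ⟨hK, e⟩
    exacts [good _ (twE6 hp hq hK) e, good _ (twD4 hp hq hK) e]
  · obtain ⟨F, _, _, m, hm, hK, e⟩ := h
    exact good _ (suz hm hK) e
  · obtain ⟨F, _, _, m, hm, hK, e⟩ := h
    exact good _ (ree2F4 hK) e
  · obtain ⟨F, _, _, m, hm, hK, e⟩ := h
    exact good _ (ree2G2 hm hK) e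

end Cfsg.Lib.Known.LieOrderBound
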