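import Cfsg.Agent.Known.PSUThreeFiveData
import Mathlib

/-!
Checks for the unitary group of dimension three over 25 elements.
-/

set_option autoImplicit false
set_option maxRecDepth 100000
set_option Elab.async false

namespace Cfsg.Lib.Known.UThreeFive.Cert

/-- A sum of codes. -/
def addC (x y : ℕ) : ℕ := 5 * ((x / 5 + y / 5) % 5) + (x % 5 + y % 5) % 5

/-- A product of codes. -/
def mulC (x y : ℕ) : ℕ :=
  5 * (((x / 5) * (y / 5) + 2 * ((x % 5) * (y % 5))) % 5) + ((x / 5) * (y % 5) + (x % 5) * (y / 5)) % 5

/-- The conjugate of a code. -/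
def cjC (x : ℕ) : ℕ := 5 * (x / 5 % 5) + (5 - x % 5) % 5

/-- A coordinate of a point. -/
def coord (i k : ℕ) : ℕ := Nat.land (Nat.shiftRight pts (15 * i + 5 * k)) 31

/-- The form on a point and a vector of a transvection. -/
def dotC (i v : ℕ) : ℕ :=
  addC (addC (mulC (coord i 0) (cjC (coord v 0))) (mulC (coord i 1) (cjC (coord v 1))))
    (mulC (coord i 2) (cjC (coord v 2)))

/-- A coordinate of the image of a point under a transvection. -/
def trC (g : ℕ × ℕ) (i k : ℕ) : ℕ := addC (coord i k) (mulC (mulC g.2 (dotC i g.1)) (coord g.1 k))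

/-- The image entry of a point. -/
def ent (g i : ℕ) : ℕ := Nat.land (Nat.shiftRight (imgs.getD g 0) (15 * i)) 32767

/-- The image of a point. -/
def img (g i : ℕ) : ℕ := ent g i % 1024

/-- The scalar at a point. -/
def lam (g i : ℕ) : ℕ := ent g i / 1024

/-- The image table of a transvection is right. -/
def imgOK (g : ℕ) : Bool :=
  (List.range 651).all fun i => Nat.blt (img g i) 651 && Nat.blt 0 (lam g i) && Nat.blt (lam g i) 25 &&
    ((List.range 3).all fun k => Nat.beq (trC (gens.getD g (0, 0)) i k) (mulC (lam g i) (coord (img g i) k)))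

/-- The image of a set under a transvection is inside the listed one. -/
def setOK (g j : ℕ) : Bool :=
  Nat.blt ((setImg.getD g []).getD j 0) 50 &&
    ((List.range 651).all fun i => !((sets.getD j 0).testBit i) ||
      (sets.getD ((setImg.getD g []).getD j 0) 0).testBit (img g i)) &&
    Nat.beq ((setImg.getD ((g + 3) % 6) []).getD ((setImg.getD g []).getD j 0) 0) j

theorem img0 : imgOK 0 = true := by decide +kernel
theorem img1 : imgOK 1 = true := by decide +kernel
theorem img2 : imgOK 2 = true := by decide +kernel
theorem img3 : imgOK 3 = true := by decide +kernel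
theorem img4 : imgOK 4 = true := by decide +kernel
theorem img5 : imgOK 5 = true := by decide +kernel

theorem img_ok : ∀ g < 6, imgOK g = true := by
  intro g hg
  interval_cases g
  exacts [img0, img1, img2, img3, img4, img5]

theorem set0 : ((List.range 50).all fun j => setOK 0 j) = true := by decide +kernel
theorem set1 : ((List.range 50).all fun j => setOK 1 j) = true := by decide +kernel
theorem set2 : ((List.range 50).all fun j => setOK 2 j) = true := by decide +kernel
theorem set3 : ((List.range 50).all fun j => setOK 3 j) = true := by decide +kernel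
theorem set4 : ((List.range 50).all fun j => setOK 4 j) = true := by decide +kernel
theorem set5 : ((List.range 50).all fun j => setOK 5 j) = true := by decide +kernel

theorem set_ok : ∀ g < 6, ∀ j < 50, setOK g j = true := by
  intro g hg j hj
  have hj' := List.mem_range.2 hj
  interval_cases g
  exacts [List.all_eq_true.1 set0 j hj', List.all_eq_true.1 set1 j hj', List.all_eq_true.1 set2 j hj',
    List.all_eq_true.1 set3 j hj', List.all_eq_true.1 set4 j hj', List.all_eq_true.1 set5 j hj']

theorem coord_ok : ((List.range 651).all fun i => (List.range 3).all fun k => Nat.blt (coord i k) 25) = true := by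
  decide +kernel

/-- The coordinates below the first non-zero one vanish and that one is one. -/
def normAt (i k : ℕ) : Bool :=
  Nat.beq (coord i k) 5 && ((List.range k).all fun l => Nat.beq (coord i l) 0)

theorem norm_ok : ((List.range 651).all fun i => normAt i 0 || normAt i 1 || normAt i 2) = true := by decide +kernel

theorem gens_ok : gens.length = 6 ∧ ((List.range 6).all fun g =>
    Nat.blt (gens.getD g (0, 0)).1 651 && Nat.blt (gens.getD g (0, 0)).2 25 &&
      Nat.beq (addC (gens.getD g (0, 0)).2 (cjC (gens.getD g (0, 0)).2)) 0 &&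
      Nat.beq (dotC (gens.getD g (0, 0)).1 (gens.getD g (0, 0)).1) 0 &&
      Nat.beq (gens.getD ((g + 3) % 6) (0, 0)).1 (gens.getD g (0, 0)).1 &&
      Nat.beq (addC (gens.getD g (0, 0)).2 (gens.getD ((g + 3) % 6) (0, 0)).2) 0) = true ∧
    (gens.getD 0 (0, 0)).2 = 1 := by decide +kernel

/-- The reached points. -/
def pt (n : ℕ) : ℕ := (reach.getD n (0, 0, 0)).1

theorem reach_ok : reach.length = 126 ∧ pt 0 = (gens.getD 0 (0, 0)).1 ∧
    ((List.range 126).all fun n => Nat.blt (pt n) 651 && (Nat.beq n 0 ||
      (Nat.blt (reach.getD n (0, 0, 0)).2.1 n && Nat.blt (reach.getD n (0, 0, 0)).2.2 6 &&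
        Nat.beq (img (reach.getD n (0, 0, 0)).2.2 (pt (reach.getD n (0, 0, 0)).2.1)) (pt n)))) = true := by
  decide +kernel

theorem reach_inj : ((List.range 126).all fun n => (List.range n).all fun m => !(Nat.beq (Nat.land (Nat.shiftRight pts (15 * pt m)) 32767) (Nat.land (Nat.shiftRight pts (15 * pt n)) 32767))) = true := by
  decide +kernel

/-- Some point is moved out of the first set. -/
theorem moved : ((List.range 651).any fun i => (sets.getD 0 0).testBit i &&
    (List.range 651).all fun k => !((sets.getD 0 0).testBit k) ||
      !(Nat.beq (Nat.land (Nat.shiftRight pts (15 * k)) 32767) (Nat.land (Nat.shiftRight pts (15 * img 0 i)) 32767))) = true := by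
  decide +kernel

/-- Three coordinates as one number. -/
def key (i : ℕ) : ℕ := Nat.land (Nat.shiftRight pts (15 * i)) 32767

theorem key_eq : ((List.range 651).all fun i =>
    Nat.beq (key i) (coord i 0 + 32 * coord i 1 + 1024 * coord i 2)) = true := by decide +kernel

end Cfsg.Lib.Known.UThreeFive.Cert
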