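import Cfsg.Agent.Known.PSUThreeFiveIndex
import Cfsg.Agent.Known.PSUThreeFiveCert

/-!
A subgroup of index fifty in the unitary group of dimension three over 25 elements: the stabiliser of a set
of points with an orbit of fifty sets.
-/

set_option autoImplicit false
set_option maxRecDepth 100000
set_option maxHeartbeats 1000000
set_option linter.style.haveILetI false

namespace Cfsg.Lib.Known.UThreeFive

open Cfsg.Lib.Classical Cfsg.Lib.Components.UnitaryThree
open Cert

variable {F : Type*} [Field F] [Fintype F] (hF : Fintype.card F = 5 ^ 2)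

include hF in
theorem five_zero : (5 : F) = 0 := by simpa using five_cast hF 1

include hF in
theorem charP_five : CharP F 5 := by
  haveI : Fact (Nat.Prime 5) := ⟨by norm_num⟩
  exact (CharP.charP_iff_prime_eq_zero (by norm_num)).2 (five_zero hF)

include hF in
theorem cast_mod (n : ℕ) : ((n % 5 : ℕ) : F) = (n : F) := by
  conv_rhs => rw [← Nat.mod_add_div n 5]
  rw [Nat.cast_add, Nat.cast_mul, Nat.cast_ofNat, five_zero hF, zero_mul, add_zero]

include hF in
theorem exists_root : ∃ ω : F, ω * ω = 2 := by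
  haveI := charP_five hF
  have h2 : (2 : F) ≠ 0 := by
    intro h
    have : ((2 : ℕ) : F) = 0 := by exact_mod_cast h
    rw [CharP.cast_eq_zero_iff F 5] at this
    norm_num at this
  have hch : ringChar F ≠ 2 := by rw [ringChar.eq F 5]; norm_num
  obtain ⟨w, hw⟩ := (FiniteField.isSquare_iff hch h2).2 (by
    rw [hF]
    have : ((4096 : ℕ) : F) = ((1 : ℕ) : F) := by rw [← cast_mod hF 4096]
    rw [show (5 : ℕ) ^ 2 / 2 = 12 by norm_num]
    norm_num at this ⊢
    exact this)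
  exact ⟨w, hw.symm⟩

/-- A square root of two. -/
noncomputable def om : F := (exists_root hF).choose

theorem om_sq : om hF * om hF = (2 : F) := (exists_root hF).choose_spec

theorem σ_om : (HS hF).σ (om hF) = -om hF := by
  rw [σ_apply hF]
  linear_combination (om hF ^ 3 + 2 * om hF) * om_sq hF + om hF * five_zero hF

/-- The element of a code. -/
noncomputable def φ (x : ℕ) : F := ((x / 5 : ℕ) : F) + ((x % 5 : ℕ) : F) * om hF

theorem φ_mk (a b : ℕ) (hb : b < 5) : φ hF (5 * a + b) = (a : F) + (b : F) * om hF := by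
  rw [φ, show (5 * a + b) / 5 = a by omega, show (5 * a + b) % 5 = b by omega]

theorem φ_add (x y : ℕ) : φ hF (addC x y) = φ hF x + φ hF y := by
  rw [addC, φ_mk hF _ _ (Nat.mod_lt _ (by norm_num)), cast_mod hF, cast_mod hF, φ, φ]
  push_cast
  ring

theorem φ_mul (x y : ℕ) : φ hF (mulC x y) = φ hF x * φ hF y := by
  rw [mulC, φ_mk hF _ _ (Nat.mod_lt _ (by norm_num)), cast_mod hF, cast_mod hF, φ, φ]
  push_cast
  linear_combination (-((x % 5 : ℕ) : F) * ((y % 5 : ℕ) : F)) * om_sq hF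

theorem φ_cj (x : ℕ) : φ hF (cjC x) = (HS hF).σ (φ hF x) := by
  have h : x % 5 ≤ 5 := (Nat.mod_lt x (by norm_num)).le
  rw [cjC, φ_mk hF _ _ (Nat.mod_lt _ (by norm_num)), cast_mod hF, cast_mod hF, φ, map_add, map_mul, map_natCast,
    map_natCast, σ_om hF, Nat.cast_sub h, Nat.cast_ofNat, five_zero hF]
  ring

theorem φ_one : φ hF 5 = 1 := by simp [φ]

theorem φ_zero : φ hF 0 = 0 := by simp [φ]

theorem φ_inj {x y : ℕ} (hx : x < 25) (hy : y < 25) (h : φ hF x = φ hF y) : x = y := by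
  haveI := charP_five hF
  haveI : Fact (Nat.Prime 5) := ⟨by norm_num⟩
  have h' := congrArg (HS hF).σ h
  simp only [φ, map_add, map_mul, map_natCast, σ_om hF] at h h'
  have ho : om hF ≠ 0 := fun e => by
    have h2 := om_sq hF
    rw [e, mul_zero] at h2
    have : ((2 : ℕ) : F) = 0 := by exact_mod_cast h2.symm
    rw [CharP.cast_eq_zero_iff F 5] at this
    norm_num at this
  have h2 : (2 : F) * om hF ≠ 0 := mul_ne_zero (fun e => by
    have : ((2 : ℕ) : F) = 0 := by exact_mod_cast e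
    rw [CharP.cast_eq_zero_iff F 5] at this
    norm_num at this) ho
  have hb : ((x % 5 : ℕ) : F) = ((y % 5 : ℕ) : F) := mul_right_cancel₀ h2 (by linear_combination h - h')
  have ha : ((x / 5 : ℕ) : F) = ((y / 5 : ℕ) : F) := by rw [hb] at h; exact add_right_cancel h
  rw [CharP.natCast_eq_natCast F 5, Nat.ModEq] at ha hb
  omega

theorem coord_lt {i : ℕ} (hi : i < 651) {k : ℕ} (hk : k < 3) : coord i k < 25 := by
  have h := List.all_eq_true.1 (List.all_eq_true.1 coord_ok i (List.mem_range.2 hi)) k (List.mem_range.2 hk)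
  exact Nat.le_of_ble_eq_true h

/-- The vector of a point. -/
noncomputable def vec (i : ℕ) : Fin 3 → F := fun k => φ hF (coord i k)

theorem h_vec (i v : ℕ) : (HS hF).h (vec hF i) (vec hF v) = φ hF (dotC i v) := by
  rw [dotC, φ_add, φ_add, φ_mul, φ_mul, φ_mul, φ_cj, φ_cj, φ_cj, σ_apply hF, σ_apply hF, σ_apply hF]
  rw [stdHerm_h]
  simp [Cfsg.hermForm, Fin.sum_univ_three, vec]

theorem exists_lead {i : ℕ} (hi : i < 651) :
    ∃ k : Fin 3, vec hF i k = 1 ∧ ∀ l < k, vec hF i l = 0 := by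
  have h := List.all_eq_true.1 norm_ok i (List.mem_range.2 hi)
  simp only [normAt, Bool.or_eq_true, Bool.and_eq_true, List.all_eq_true, List.mem_range] at h
  rcases h with (⟨h1, h2⟩ | ⟨h1, h2⟩) | ⟨h1, h2⟩
  · exact ⟨0, by rw [vec, show coord i (0 : Fin 3).val = 5 from Nat.eq_of_beq_eq_true h1, φ_one],
      fun l hl => by rw [vec, show coord i l.val = 0 from Nat.eq_of_beq_eq_true (h2 l hl), φ_zero]⟩
  · exact ⟨1, by rw [vec, show coord i (1 : Fin 3).val = 5 from Nat.eq_of_beq_eq_true h1, φ_one],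
      fun l hl => by rw [vec, show coord i l.val = 0 from Nat.eq_of_beq_eq_true (h2 l hl), φ_zero]⟩
  · exact ⟨2, by rw [vec, show coord i (2 : Fin 3).val = 5 from Nat.eq_of_beq_eq_true h1, φ_one],
      fun l hl => by rw [vec, show coord i l.val = 0 from Nat.eq_of_beq_eq_true (h2 l hl), φ_zero]⟩

theorem key_of_smul {i j : ℕ} (hi : i < 651) (hj : j < 651) {t : F} (h : vec hF i = t • vec hF j) :
    key i = key j := by
  obtain ⟨k, hk, hk0⟩ := exists_lead hF hi
  obtain ⟨l, hl, hl0⟩ := exists_lead hF hj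
  have e := fun m => congrFun h m
  simp only [Pi.smul_apply, smul_eq_mul] at e
  have hkl : k = l := by
    rcases lt_trichotomy k l with hlt | he | hlt
    · have := e k; rw [hk, hl0 k hlt, mul_zero] at this; exact absurd this one_ne_zero
    · exact he
    · have := e l
      rw [hl, hk0 l hlt, mul_one] at this
      have h1 := e k
      rw [hk, ← this, zero_mul] at h1
      exact absurd h1 one_ne_zero
  subst hkl
  have ht : t = 1 := by have := e k; rw [hk, hl, mul_one] at this; exact this.symm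
  have hc : ∀ m : Fin 3, coord i m = coord j m := fun m => φ_inj hF (coord_lt hi m.2) (coord_lt hj m.2) (by
    have := e m
    rwa [ht, one_mul] at this)
  rw [Nat.eq_of_beq_eq_true (List.all_eq_true.1 key_eq i (List.mem_range.2 hi)),
    Nat.eq_of_beq_eq_true (List.all_eq_true.1 key_eq j (List.mem_range.2 hj)),
    show coord i 0 = coord j 0 from hc 0, show coord i 1 = coord j 1 from hc 1,
    show coord i 2 = coord j 2 from hc 2]

theorem gen_facts {g : ℕ} (hg : g < 6) :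
    (gens.getD g (0, 0)).1 < 651 ∧
      φ hF (gens.getD g (0, 0)).2 + (HS hF).σ (φ hF (gens.getD g (0, 0)).2) = 0 ∧
      (HS hF).h (vec hF (gens.getD g (0, 0)).1) (vec hF (gens.getD g (0, 0)).1) = 0 ∧
      (gens.getD ((g + 3) % 6) (0, 0)).1 = (gens.getD g (0, 0)).1 ∧
      φ hF (gens.getD g (0, 0)).2 + φ hF (gens.getD ((g + 3) % 6) (0, 0)).2 = 0 := by
  have h := List.all_eq_true.1 gens_ok.2.1 g (List.mem_range.2 hg)
  simp only [Bool.and_eq_true] at h
  obtain ⟨⟨⟨⟨⟨h1, -⟩, h3⟩, h4⟩, h5⟩, h6⟩ := h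
  refine ⟨Nat.le_of_ble_eq_true h1, ?_, ?_, Nat.eq_of_beq_eq_true h5, ?_⟩
  · rw [← φ_cj, ← φ_add, Nat.eq_of_beq_eq_true h3, φ_zero]
  · rw [h_vec, Nat.eq_of_beq_eq_true h4, φ_zero]
  · rw [← φ_add, Nat.eq_of_beq_eq_true h6, φ_zero]

/-- The transvections. -/
noncomputable def gT (g : Fin 6) : (HS hF).SIsom :=
  (HS hF).sT (gen_facts hF g.2).2.2.1 (gen_facts hF g.2).2.1

theorem gT_vec (g : Fin 6) {i : ℕ} (hi : i < 651) :
    img g i < 651 ∧ φ hF (lam g i) ≠ 0 ∧ (gT hF g).1.1 (vec hF i) = φ hF (lam g i) • vec hF (img g i) := by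
  have h := List.all_eq_true.1 (img_ok g g.2) i (List.mem_range.2 hi)
  simp only [Bool.and_eq_true, List.all_eq_true, List.mem_range] at h
  obtain ⟨⟨⟨h1, h2⟩, h3⟩, h4⟩ := h
  refine ⟨Nat.le_of_ble_eq_true h1, fun e => ?_, ?_⟩
  · have := φ_inj hF (Nat.le_of_ble_eq_true h3) (by norm_num : 0 < 25) (e.trans (φ_zero hF).symm)
    exact absurd this (Nat.pos_iff_ne_zero.1 (Nat.le_of_ble_eq_true h2))
  · rw [gT, HermSpace.sT_apply]
    funext k
    have := congrArg (φ hF) (Nat.eq_of_beq_eq_true (h4 k k.2))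
    rw [trC, φ_add, φ_mul, φ_mul, φ_mul, ← h_vec] at this
    simpa [vec] using this

/-- The inverse index. -/
def opp (g : Fin 6) : Fin 6 := ⟨(g + 3) % 6, Nat.mod_lt _ (by norm_num)⟩

theorem gT_inv (g : Fin 6) : gT hF (opp g) * gT hF g = 1 := by
  obtain ⟨-, -, hv, hv', hc⟩ := gen_facts hF g.2
  refine (HS hF).sisom_ext fun x => ?_
  rw [HermSpace.smul_mul_apply, gT, gT, HermSpace.sT_apply, HermSpace.sT_apply]
  show x + _ + (φ hF (gens.getD ((g.1 + 3) % 6) (0, 0)).2 *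
    (HS hF).h _ (vec hF (gens.getD ((g.1 + 3) % 6) (0, 0)).1)) • vec hF (gens.getD ((g.1 + 3) % 6) (0, 0)).1 = x
  rw [hv', (HS hF).add_left, (HS hF).smul_left, hv, mul_zero, add_zero, add_assoc, ← add_smul, ← add_mul, hc,
    zero_mul, zero_smul, add_zero]

/-- A set of vectors. -/
def T (j : ℕ) : Set (Fin 3 → F) :=
  {x | ∃ i < 651, (sets.getD j 0).testBit i = true ∧ ∃ t : F, t ≠ 0 ∧ x = t • vec hF i}

/-- The listed image of a set. -/
def nxt (g : Fin 6) (j : ℕ) : ℕ := (setImg.getD g []).getD j 0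

theorem nxt_spec (g : Fin 6) {j : ℕ} (hj : j < 50) :
    nxt g j < 50 ∧ (gT hF g).1.1 '' T hF j ⊆ T hF (nxt g j) ∧ nxt (opp g) (nxt g j) = j := by
  have h := set_ok g g.2 j hj
  simp only [setOK, Bool.and_eq_true, List.all_eq_true, List.mem_range, Bool.or_eq_true, Bool.not_eq_true'] at h
  obtain ⟨⟨h1, h2⟩, h3⟩ := h
  refine ⟨Nat.le_of_ble_eq_true h1, ?_, Nat.eq_of_beq_eq_true h3⟩
  rintro _ ⟨x, ⟨i, hi, hb, t, ht, rfl⟩, rfl⟩
  obtain ⟨e1, e2, e3⟩ := gT_vec hF g hi
  refine ⟨img g i, e1, ?_, t * φ hF (lam g i), mul_ne_zero ht e2, by rw [map_smul, e3, smul_smul]⟩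
  rcases h2 i hi with h | h
  · rw [hb] at h; exact Bool.noConfusion h
  · exact h

theorem gT_image (g : Fin 6) {j : ℕ} (hj : j < 50) : (gT hF g).1.1 '' T hF j = T hF (nxt g j) := by
  obtain ⟨h1, h2, h3⟩ := nxt_spec hF g hj
  refine h2.antisymm fun y hy => ?_
  have h4 := (nxt_spec hF (opp g) h1).2.1
  rw [h3] at h4
  refine ⟨(gT hF (opp g)).1.1 y, h4 ⟨y, hy, rfl⟩, ?_⟩
  have hinv : gT hF g * gT hF (opp g) = 1 := mul_eq_one_comm.1 (gT_inv hF g)
  rw [← HermSpace.smul_mul_apply, hinv]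
  rfl

/-- The group generated by the transvections. -/
noncomputable def KG : Subgroup (HS hF).SIsom := Subgroup.closure (Set.range (gT hF))

theorem KG_image {g : (HS hF).SIsom} (hg : g ∈ KG hF) :
    (∀ j < 50, ∃ j' < 50, g.1.1 '' T hF j = T hF j') ∧ ∀ j < 50, ∃ j' < 50, (g⁻¹).1.1 '' T hF j = T hF j' := by
  induction hg using Subgroup.closure_induction with
  | mem x hx =>
    obtain ⟨g, rfl⟩ := hx
    have e : (gT hF g)⁻¹ = gT hF (opp g) := inv_eq_of_mul_eq_one_left (gT_inv hF g)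
    exact ⟨fun j hj => ⟨_, (nxt_spec hF g hj).1, gT_image hF g hj⟩,
      fun j hj => ⟨_, (nxt_spec hF (opp g) hj).1, by rw [e]; exact gT_image hF (opp g) hj⟩⟩
  | one => exact ⟨fun j hj => ⟨j, hj, Set.image_id _⟩, fun j hj => ⟨j, hj, by rw [inv_one]; exact Set.image_id _⟩⟩
  | mul x y _ _ hx hy =>
    refine ⟨fun j hj => ?_, fun j hj => ?_⟩
    · obtain ⟨j', hj', e⟩ := hy.1 j hj
      obtain ⟨j'', hj'', e'⟩ := hx.1 j' hj'
      refine ⟨j'', hj'', ?_⟩
      rw [← e', ← e, Set.image_image]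
      rfl
    · obtain ⟨j', hj', e⟩ := hx.2 j hj
      obtain ⟨j'', hj'', e'⟩ := hy.2 j' hj'
      refine ⟨j'', hj'', ?_⟩
      rw [← e', ← e, Set.image_image, mul_inv_rev]
      rfl
  | inv x _ hx => exact ⟨hx.2, by rw [inv_inv]; exact hx.1⟩

theorem reach_spec : ∀ n, n < 126 → pt n < 651 ∧
    ∃ w ∈ KG hF, ∃ t : F, t ≠ 0 ∧ w.1.1 (vec hF (pt 0)) = t • vec hF (pt n) := by
  intro n
  induction n using Nat.strong_induction_on with
  | _ n ih =>
    intro hn
    have h := List.all_eq_true.1 reach_ok.2.2 n (List.mem_range.2 hn)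
    simp only [Bool.and_eq_true, Bool.or_eq_true] at h
    obtain ⟨h1, h2⟩ := h
    refine ⟨Nat.le_of_ble_eq_true h1, ?_⟩
    rcases h2 with h2 | ⟨⟨hlt, hg⟩, himg⟩
    · obtain rfl := Nat.eq_of_beq_eq_true h2
      exact ⟨1, one_mem _, 1, one_ne_zero, (one_smul _ _).symm⟩
    · have hlt' := Nat.le_of_ble_eq_true hlt
      obtain ⟨hp, w, hw, t, ht, e⟩ := ih _ hlt' (lt_trans hlt' hn)
      set g : Fin 6 := ⟨(reach.getD n (0, 0, 0)).2.2, Nat.le_of_ble_eq_true hg⟩
      obtain ⟨-, e2, e3⟩ := gT_vec hF g hp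
      refine ⟨gT hF g * w, mul_mem (Subgroup.subset_closure ⟨g, rfl⟩) hw, t * φ hF (lam g (pt (reach.getD n (0, 0, 0)).2.1)),
        mul_ne_zero ht e2, ?_⟩
      rw [HermSpace.smul_mul_apply, e, map_smul, e3, smul_smul,
        show img g (pt (reach.getD n (0, 0, 0)).2.1) = pt n from Nat.eq_of_beq_eq_true himg]

theorem gT_zero_image : (gT hF 0).1.1 '' T hF 0 ≠ T hF 0 := by
  intro e
  obtain ⟨i, hi, h⟩ := List.any_eq_true.1 moved
  simp only [Bool.and_eq_true, List.all_eq_true, List.mem_range, Bool.or_eq_true, Bool.not_eq_true'] at h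
  obtain ⟨hb, hall⟩ := h
  have hi' := List.mem_range.1 hi
  obtain ⟨e1, e2, e3⟩ := gT_vec hF 0 hi'
  have : (gT hF 0).1.1 (vec hF i) ∈ T hF 0 := e ▸ ⟨vec hF i, ⟨i, hi', hb, 1, one_ne_zero, (one_smul _ _).symm⟩, rfl⟩
  obtain ⟨k, hk, hkb, t, ht, e4⟩ := this
  rw [e3] at e4
  have e5 : vec hF k = (t⁻¹ * φ hF (lam 0 i)) • vec hF (img 0 i) := by
    rw [mul_smul]
    show _ = t⁻¹ • φ hF (lam ((0 : Fin 6) : ℕ) i) • vec hF (img ((0 : Fin 6) : ℕ) i)
    rw [e4, smul_smul, inv_mul_cancel₀ ht, one_smul]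
  have hkey := key_of_smul hF hk e1 e5
  rcases hall k hk with h | h
  · rw [hkb] at h; exact Bool.noConfusion h
  · have h' := Nat.ne_of_beq_eq_false h
    exact h' hkey

theorem gT_zero_ne : gT hF 0 ≠ 1 := fun e => gT_zero_image hF (by rw [e]; exact Set.image_id _)

theorem KG_eq_top : KG hF = ⊤ := by
  classical
  haveI := finite_isoPt hF
  have hv0 : (HS hF).h (vec hF (pt 0)) (vec hF (pt 0)) = 0 := by
    rw [reach_ok.2.1]; exact (gen_facts hF (show 0 < 6 by norm_num)).2.2.1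
  have hne : ∀ {i : ℕ}, i < 651 → vec hF i ≠ 0 := fun hi e => by
    obtain ⟨k, hk, -⟩ := exists_lead hF hi
    rw [e] at hk
    exact zero_ne_one hk
  have hiso : ∀ n < 126, (HS hF).h (vec hF (pt n)) (vec hF (pt n)) = 0 := fun n hn => by
    obtain ⟨-, w, -, t, ht, e⟩ := reach_spec hF n hn
    have h := (HS hF).map_form w.1 (vec hF (pt 0)) (vec hF (pt 0))
    rw [e, hv0, (HS hF).smul_left, (HS hF).smul_right] at h
    exact ((mul_eq_zero.1 h).resolve_left ht |> mul_eq_zero.1).resolve_left ((map_ne_zero _).2 ht)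
  let f : Fin 126 → (HS hF).IsoPt := fun n =>
    (HS hF).isoMk (vec hF (pt n)) (hne (reach_spec hF n n.2).1) (hiso n n.2)
  have hinj : Function.Injective f := by
    intro a b e
    obtain ⟨t, ht⟩ := HermSpace.isoMk_eq_iff _ |>.1 e
    have hk := key_of_smul hF (reach_spec hF a a.2).1 (reach_spec hF b b.2).1 ht.symm
    by_contra hab
    rcases Nat.lt_or_gt_of_ne (fun h => hab (Fin.ext h)) with h | h
    · have h' := List.all_eq_true.1 (List.all_eq_true.1 reach_inj b (List.mem_range.2 b.2)) a (List.mem_range.2 h)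
      rw [Bool.not_eq_true'] at h'
      exact Nat.ne_of_beq_eq_false h' hk
    · have h' := List.all_eq_true.1 (List.all_eq_true.1 reach_inj a (List.mem_range.2 a.2)) b (List.mem_range.2 h)
      rw [Bool.not_eq_true'] at h'
      exact Nat.ne_of_beq_eq_false h' hk.symm
  have hsur : Function.Surjective f := ((Nat.bijective_iff_injective_and_card f).2 ⟨hinj, by
    have h1 := Nat.card_le_card_of_injective f hinj
    have h2 := card_isoPt hF
    rw [Nat.card_fin] at h1 ⊢
    omega⟩).2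
  have hq : 3 ≤ (HS hF).q := by rw [stdHerm_q]; norm_num
  rw [eq_top_iff, ← ((HS hF).unitaryIwasawa (Or.inr ⟨hd, hq⟩)).is_generator]
  refine iSup_le fun p => ?_
  obtain ⟨n, rfl⟩ := hsur p
  obtain ⟨a, ha⟩ := Projectivization.exists_smul_eq_mk_rep F (vec hF (pt n)) (hne (reach_spec hF n n.2).1)
  obtain ⟨-, w, hw, t, ht, e⟩ := reach_spec hF n n.2
  show (HS hF).rootGroup (f n).2 ≤ KG hF
  rw [(HS hF).rootGroup_eq_of_smul (hiso n n.2) (f n).2 a.ne_zero (by rw [← Units.smul_def, ha]; rfl)]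
  have hwv : (HS hF).h (w.1.1 (vec hF (pt 0))) (w.1.1 (vec hF (pt 0))) = 0 := by rw [(HS hF).map_form, hv0]
  rw [← (HS hF).rootGroup_eq_of_smul (hiso n n.2) hwv ht e]
  have hmem : w * gT hF 0 * w⁻¹ ∈ KG hF :=
    mul_mem (mul_mem hw (Subgroup.subset_closure ⟨0, rfl⟩)) (inv_mem hw)
  refine root_le hF hwv hmem ?_ fun h => gT_zero_ne hF (conj_eq_one_iff.1 h)
  rw [gT, HermSpace.sT_conj]
  refine ⟨_, (gen_facts hF (show 0 < 6 by norm_num)).2.1, ?_⟩
  refine (HS hF).isom_ext fun x => ?_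
  show ((HS hF).sT _ _).1.1 x = _
  rw [HermSpace.sT_apply, HermSpace.uT_apply]
  rfl

/-- The stabiliser of the first set. -/
noncomputable def setStab : Subgroup (HS hF).SIsom where
  carrier := {g | g.1.1 '' T hF 0 = T hF 0}
  mul_mem' := by
    intro g k hg hk
    show (g * k).1.1 '' T hF 0 = T hF 0
    calc (g * k).1.1 '' T hF 0 = g.1.1 '' (k.1.1 '' T hF 0) := by rw [Set.image_image]; rfl
      _ = T hF 0 := by rw [show k.1.1 '' T hF 0 = T hF 0 from hk, show g.1.1 '' T hF 0 = T hF 0 from hg]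
  one_mem' := Set.image_id _
  inv_mem' := by
    intro g hg
    show (g⁻¹).1.1 '' T hF 0 = T hF 0
    conv_lhs => rw [← show g.1.1 '' T hF 0 = T hF 0 from hg]
    rw [Set.image_image]
    exact (Set.image_congr fun x _ => (HS hF).inv_apply_self g.1 x).trans (Set.image_id _)

theorem index_setStab : (setStab hF).index ≤ 50 := by
  classical
  have h : ∀ q : (HS hF).SIsom ⧸ setStab hF, ∃ j : Fin 50, q.out.1.1 '' T hF 0 = T hF j := fun q => by
    obtain ⟨j, hj, e⟩ := (KG_image hF (g := q.out) (by rw [KG_eq_top hF]; trivial)).1 0 (by norm_num)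
    exact ⟨⟨j, hj⟩, e⟩
  choose f hf using h
  rw [Subgroup.index, ← Nat.card_fin 50]
  refine Nat.card_le_card_of_injective f fun a b e => ?_
  have e' : a.out.1.1 '' T hF 0 = b.out.1.1 '' T hF 0 := by rw [hf, hf, e]
  rw [← a.out_eq', ← b.out_eq', QuotientGroup.eq]
  show (a.out⁻¹ * b.out).1.1 '' T hF 0 = T hF 0
  calc (a.out⁻¹ * b.out).1.1 '' T hF 0 = (a.out⁻¹).1.1 '' (b.out.1.1 '' T hF 0) := by rw [Set.image_image]; rfl
    _ = T hF 0 := by
      rw [← e', Set.image_image]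
      exact (Set.image_congr fun x _ => (HS hF).inv_apply_self a.out.1 x).trans (Set.image_id _)

theorem center_le_setStab : Subgroup.center (HS hF).SIsom ≤ setStab hF := by
  intro g hg
  obtain ⟨a, ha⟩ : ∃ a : F, ∀ x, g.1.1 x = a • x := by
    obtain ⟨a, -, -, hx⟩ := ((HS hF).mem_center_SIsom_iff (by rw [hd]; norm_num)).1 hg
    exact ⟨a, hx⟩
  have ha0 : a ≠ 0 := fun e => (HS hF).isom_ne_zero g.1 (x := fun _ : Fin 3 => (1 : F))
    (fun h => one_ne_zero (congrFun h 0)) (by rw [ha, e, zero_smul])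
  refine Set.Subset.antisymm ?_ ?_
  · rintro _ ⟨x, ⟨i, hi, hb, t, ht, rfl⟩, rfl⟩
    exact ⟨i, hi, hb, a * t, mul_ne_zero ha0 ht, by rw [ha, smul_smul]⟩
  · rintro x ⟨i, hi, hb, t, ht, rfl⟩
    exact ⟨(a⁻¹ * t) • vec hF i, ⟨i, hi, hb, _, mul_ne_zero (inv_ne_zero ha0) ht, rfl⟩,
      by rw [ha, smul_smul, ← mul_assoc, mul_inv_cancel₀ ha0, one_mul]⟩

theorem setStab_ne_top : setStab hF ≠ ⊤ := fun h =>
  gT_zero_image hF (show gT hF 0 ∈ setStab hF by rw [h]; trivial)

include hF in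
theorem min_index_PSU :
    (∀ H : Subgroup (Cfsg.PSU 3 F 5), H ≠ ⊤ → 50 ≤ H.index) ∧ ∃ H : Subgroup (Cfsg.PSU 3 F 5), H.index = 50 := by
  classical
  let π : (HS hF).SIsom →* Cfsg.PSU 3 F 5 := (QuotientGroup.mk' _).comp (suEquiv 3 hF).toMonoidHom
  have hπ : Function.Surjective π := (QuotientGroup.mk'_surjective _).comp (suEquiv 3 hF).surjective
  have hlow : ∀ H : Subgroup (Cfsg.PSU 3 F 5), H ≠ ⊤ → 50 ≤ H.index := by
    intro H hH
    by_contra h
    haveI := finite_S hF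
    have h1 := (H.comap π).card_mul_index
    rw [Subgroup.index_comap_of_surjective _ hπ, card_S hF] at h1
    have hbig : 7560 < Nat.card (H.comap π) := by
      have h2 : H.index ≤ 49 := by omega
      by_contra hb
      have := Nat.mul_le_mul (not_lt.1 hb) h2
      omega
    have := congrArg (Subgroup.map π) (top_of_big hF hbig)
    rw [Subgroup.map_comap_eq_self_of_surjective hπ, Subgroup.map_top_of_surjective _ hπ] at this
    exact hH this
  refine ⟨hlow, (setStab hF).map π, ?_⟩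
  have hker : π.ker ≤ setStab hF := fun g hg => center_le_setStab hF (by
    have h1 : suEquiv 3 hF g ∈ Subgroup.center (Cfsg.SU 3 F 5) := (QuotientGroup.eq_one_iff _).1 hg
    rw [Subgroup.mem_center_iff] at h1 ⊢
    intro k
    refine (suEquiv 3 hF).injective ?_
    rw [map_mul, map_mul, h1])
  have hidx : ((setStab hF).map π).index = (setStab hF).index := Subgroup.index_map_eq _ hπ hker
  refine le_antisymm (hidx ▸ index_setStab hF) (hlow _ fun h => ?_)
  apply setStab_ne_top hF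
  rw [← Subgroup.index_eq_one, ← hidx, h, Subgroup.index_top]

end Cfsg.Lib.Known.UThreeFive
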