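import Mathlib

/-! Largest abelian subgroups of symmetric and alternating groups. -/

set_option autoImplicit false
set_option linter.style.haveILetI false

namespace Cfsg.Lib.AbelianPerm

/-- The largest product of positive integers with a given sum. -/
def G : ℕ → ℕ
  | 0 => 1
  | 1 => 1
  | 2 => 2
  | 3 => 3
  | 4 => 4
  | n + 5 => 3 * G (n + 2)

theorem G_pos : ∀ n, 1 ≤ G n
  | 0 | 1 | 2 | 3 | 4 => by simp [G]
  | n + 5 => by rw [G]; have := G_pos (n + 2); omega

theorem G_three : ∀ n, 3 * G n ≤ G (n + 3)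
  | 0 | 1 => by simp [G]
  | n + 2 => by rw [show n + 2 + 3 = n + 5 by ring, G]

theorem G_two : ∀ n, 2 * G n ≤ G (n + 2)
  | 0 | 1 | 2 | 3 | 4 => by simp [G]
  | n + 5 => by
    rw [G, show n + 5 + 2 = (n + 2) + 5 by ring, G]
    have := G_two (n + 2)
    omega

theorem G_mono : ∀ n, G n ≤ G (n + 1)
  | 0 | 1 | 2 | 3 | 4 => by simp [G]
  | n + 5 => by
    rw [G, show n + 5 + 1 = (n + 1) + 5 by ring, G, show n + 1 + 2 = n + 2 + 1 by ring]
    have := G_mono (n + 2)
    omega

theorem G_mul : ∀ a m, 1 ≤ a → a * G m ≤ G (a + m) := by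
  intro a
  induction a using Nat.strong_induction_on with
  | _ a ih =>
    intro m ha
    rcases (show a = 1 ∨ a = 2 ∨ a = 3 ∨ a = 4 ∨ 5 ≤ a by omega) with rfl | rfl | rfl | rfl | h
    · rw [one_mul, add_comm]; exact G_mono m
    · rw [add_comm]; exact G_two m
    · rw [add_comm]; exact G_three m
    · have h1 := G_two m
      have h2 := G_two (m + 2)
      rw [show m + 2 + 2 = 4 + m by ring] at h2
      omega
    · have h1 := ih (a - 3) (by omega) m (by omega)
      have h2 := G_three (a - 3 + m)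
      rw [show a - 3 + m + 3 = a + m by omega] at h2
      calc a * G m ≤ (3 * (a - 3)) * G m := Nat.mul_le_mul_right _ (by omega)
        _ = 3 * ((a - 3) * G m) := mul_assoc _ _ _
        _ ≤ 3 * G (a - 3 + m) := Nat.mul_le_mul_left 3 h1
        _ ≤ G (a + m) := h2

theorem prod_le {ι : Type*} (s : Finset ι) (a : ι → ℕ) (ha : ∀ i ∈ s, 1 ≤ a i) : ∏ i ∈ s, a i ≤ G (∑ i ∈ s, a i) := by
  classical
  induction s using Finset.induction_on with
  | empty => simp [G]
  | insert i s hi ih =>
    rw [Finset.prod_insert hi, Finset.sum_insert hi]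
    exact (Nat.mul_le_mul_left _ (ih fun j hj => ha j (Finset.mem_insert_of_mem hj))).trans
      (G_mul _ _ (ha i (Finset.mem_insert_self i s)))

theorem G_zero_mod : ∀ k, G (3 * k) = 3 ^ k
  | 0 => by simp [G]
  | 1 => by simp [G]
  | k + 2 => by rw [show 3 * (k + 2) = (3 * k + 1) + 5 by ring, G, show 3 * k + 1 + 2 = 3 * (k + 1) by ring, G_zero_mod (k + 1), pow_succ' 3 (k + 1)]

theorem G_one_mod : ∀ k, G (3 * k + 4) = 4 * 3 ^ k
  | 0 => by simp [G]
  | k + 1 => by
    rw [show 3 * (k + 1) + 4 = (3 * k + 2) + 5 by ring, G, show 3 * k + 2 + 2 = 3 * k + 4 by ring, G_one_mod k, pow_succ']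
    ring

theorem G_two_mod : ∀ k, G (3 * k + 2) = 2 * 3 ^ k
  | 0 => by simp [G]
  | k + 1 => by
    rw [show 3 * (k + 1) + 2 = (3 * k) + 5 by ring, G, G_two_mod k, pow_succ']
    ring

/-- Without a part `2`, a sum `≡ 2 (mod 3)` gives a smaller product. -/
theorem prod_le_of_ne_two {ι : Type*} (s : Finset ι) (a : ι → ℕ) (ha : ∀ i ∈ s, 1 ≤ a i) {k : ℕ} (hk : 2 ≤ k)
    (hs : ∑ i ∈ s, a i = 3 * k + 2) (h2 : ∀ i ∈ s, a i ≠ 2) : ∏ i ∈ s, a i ≤ 16 * 3 ^ (k - 2) := by
  classical
  obtain ⟨j, rfl⟩ : ∃ j, k = j + 2 := ⟨k - 2, by omega⟩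
  rw [Nat.add_sub_cancel]
  obtain ⟨i, hi, hi3⟩ : ∃ i ∈ s, a i ≠ 3 := by
    by_contra hc
    push Not at hc
    rw [Finset.sum_congr rfl hc, Finset.sum_const, smul_eq_mul] at hs
    omega
  have hsum := Finset.add_sum_erase s a hi
  rw [hs] at hsum
  rw [← Finset.mul_prod_erase s a hi]
  refine (Nat.mul_le_mul_left _ (prod_le (s.erase i) a fun x hx => ha x (Finset.mem_of_mem_erase hx))).trans ?_
  set m := ∑ x ∈ s.erase i, a x with hm
  have h1 := ha i hi
  have h2' := h2 i hi
  have hG : G (3 * (j + 2) + 2) = 18 * 3 ^ j := by rw [G_two_mod, pow_add]; ring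
  rcases (show a i = 1 ∨ a i = 4 ∨ 5 ≤ a i by omega) with h | h | h
  · rw [h, one_mul, show m = 3 * (j + 1) + 4 by omega, G_one_mod, pow_succ]
    omega
  · rw [h, show m = 3 * j + 4 by omega, G_one_mod]
    omega
  · have h3 := G_mul (a i - 3) m (by omega)
    have h4 := G_three (a i - 3 + m)
    rw [show a i - 3 + m + 3 = 3 * (j + 2) + 2 by omega, hG] at h4
    have h5 : 9 * (a i * G m) ≤ 8 * (3 * ((a i - 3) * G m)) := by
      calc 9 * (a i * G m) = (9 * a i) * G m := (mul_assoc _ _ _).symm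
        _ ≤ (24 * (a i - 3)) * G m := Nat.mul_le_mul_right _ (by omega)
        _ = 8 * (3 * ((a i - 3) * G m)) := by ring
    omega

variable {α : Type*} [Fintype α] [DecidableEq α]

theorem eq_one_of_fixes (A : Subgroup (Equiv.Perm α)) [hA : IsMulCommutative A]
    (rep : MulAction.orbitRel.Quotient A α → α)
    (hrep : ∀ o, (Quotient.mk'' (rep o) : MulAction.orbitRel.Quotient A α) = o) (g : A)
    (o : MulAction.orbitRel.Quotient A α) (hg : g • rep o = rep o) (x : α) (hx : (Quotient.mk'' x : MulAction.orbitRel.Quotient A α) = o) :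
    g • x = x := by
  obtain ⟨h, hh⟩ : x ∈ MulAction.orbit A (rep o) := MulAction.orbitRel_apply.1 (Quotient.exact' (hx.trans (hrep o).symm))
  rw [← hh]
  show g • h • rep o = h • rep o
  rw [smul_smul, hA.is_comm.comm g h, ← smul_smul, hg]

/-- Orbit sizes of an abelian permutation group. -/
theorem exists_orbit_data (A : Subgroup (Equiv.Perm α)) [hA : IsMulCommutative A] :
    ∃ (Ω : Finset (MulAction.orbitRel.Quotient A α)) (a : MulAction.orbitRel.Quotient A α → ℕ),
      (∀ o ∈ Ω, 1 ≤ a o) ∧ ∑ o ∈ Ω, a o = Fintype.card α ∧ Nat.card A ∣ ∏ o ∈ Ω, a o ∧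
      ((Nat.card A = ∏ o ∈ Ω, a o) → ∀ o ∈ Ω, a o = 2 → ∃ g ∈ A, Equiv.Perm.sign g = -1) := by
  classical
  haveI := Fintype.ofFinite (MulAction.orbitRel.Quotient A α)
  obtain ⟨rep, hrep⟩ := (Quotient.mk''_surjective (s₁ := MulAction.orbitRel A α)).hasRightInverse
  haveI : ∀ o, (MulAction.stabilizer A (rep o)).Normal := fun o =>
    ⟨fun g hg x => by rwa [hA.is_comm.comm x g, mul_inv_cancel_right]⟩
  let Φ : A →* ∀ o : MulAction.orbitRel.Quotient A α, A ⧸ MulAction.stabilizer A (rep o) :=
    MonoidHom.pi fun o => QuotientGroup.mk' (MulAction.stabilizer A (rep o))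
  have hΦ : ∀ g o, Φ g o = (g : A ⧸ MulAction.stabilizer A (rep o)) := fun g o => rfl
  have hinj : Function.Injective Φ := by
    refine (injective_iff_map_eq_one Φ).2 fun g hg => Subtype.ext (Equiv.ext fun x => ?_)
    have h := congrFun hg (Quotient.mk'' x)
    rw [hΦ, Pi.one_apply, QuotientGroup.eq_one_iff, MulAction.mem_stabilizer_iff] at h
    exact eq_one_of_fixes A rep hrep g _ h x rfl
  refine ⟨Finset.univ, fun o => Nat.card (A ⧸ MulAction.stabilizer A (rep o)), fun o _ => Nat.card_pos, ?_, ?_, ?_⟩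
  · have e := MulAction.selfEquivSigmaOrbits' A α
    rw [← Nat.card_eq_fintype_card, Nat.card_congr e, Nat.card_sigma]
    refine Finset.sum_congr rfl fun o _ => ?_
    rw [MulAction.orbitRel.Quotient.orbit_eq_orbit_out o (hrep)]
    exact (Nat.card_congr (MulAction.orbitEquivQuotientStabilizer A (rep o))).symm
  · rw [← Nat.card_pi]
    exact Subgroup.card_dvd_of_injective Φ hinj
  · intro hc o _ ho
    have hbij : Function.Bijective Φ := (Nat.bijective_iff_injective_and_card Φ).2 ⟨hinj, by rw [Nat.card_pi]; exact hc⟩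
    haveI : Nontrivial (A ⧸ MulAction.stabilizer A (rep o)) := Finite.one_lt_card_iff_nontrivial.1 (by
      show 1 < Nat.card _
      rw [show Nat.card (A ⧸ MulAction.stabilizer A (rep o)) = 2 from ho]; omega)
    obtain ⟨z, hz⟩ := exists_ne (1 : A ⧸ MulAction.stabilizer A (rep o))
    obtain ⟨g, hg⟩ := hbij.2 (Pi.mulSingle o z)
    refine ⟨g, g.2, ?_⟩
    have hmove : g • rep o ≠ rep o := by
      intro h
      apply hz
      have := congrFun hg o
      rw [hΦ, Pi.mulSingle_eq_same] at this
      rw [← this, QuotientGroup.eq_one_iff]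
      exact h
    set b := g • rep o with hb
    have horb : MulAction.orbit A (rep o) = {rep o, b} := by
      have h2 : (MulAction.orbit A (rep o)).ncard = 2 := by
        rw [← Nat.card_coe_set_eq, Nat.card_congr (MulAction.orbitEquivQuotientStabilizer A (rep o))]
        exact ho
      refine (Set.eq_of_subset_of_ncard_le ?_ ?_ (Set.toFinite _)).symm
      · intro x hx
        rcases hx with rfl | rfl
        · exact MulAction.mem_orbit_self _
        · exact MulAction.mem_orbit _ _
      · rw [h2, Set.ncard_pair (Ne.symm hmove)]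
    have hswap : (g : Equiv.Perm α) = Equiv.swap (rep o) b := by
      refine Equiv.ext fun x => ?_
      by_cases hx : (Quotient.mk'' x : MulAction.orbitRel.Quotient A α) = o
      · have hx' : x ∈ MulAction.orbit A (rep o) := MulAction.orbitRel_apply.1 (Quotient.exact' (hx.trans (hrep o).symm))
        rw [horb] at hx'
        rcases hx' with rfl | hx'
        · rw [Equiv.swap_apply_left]; rfl
        · rw [Set.mem_singleton_iff] at hx'
          subst hx'
          rw [Equiv.swap_apply_right]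
          have hgb : g • b ∈ MulAction.orbit A (rep o) := by
            rw [hb, smul_smul]; exact MulAction.mem_orbit _ _
          rw [horb] at hgb
          rcases hgb with h | h
          · exact h
          · exact absurd (smul_left_cancel g (h.trans hb)) hmove
      · have h := congrFun hg (Quotient.mk'' x)
        rw [hΦ, Pi.mulSingle_eq_of_ne hx, QuotientGroup.eq_one_iff, MulAction.mem_stabilizer_iff] at h
        have hfix := eq_one_of_fixes A rep hrep g _ h x rfl
        rw [Equiv.swap_apply_of_ne_of_ne]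
        · exact hfix
        · rintro rfl; exact hx (hrep o)
        · rintro rfl
          exact hmove (smul_left_cancel g hfix)
    rw [hswap, Equiv.Perm.sign_swap (Ne.symm hmove)]

/-- A product of regular abelian groups on disjoint blocks. -/
theorem exists_abelian {ι : Type} [Fintype ι] [DecidableEq ι] (C : ι → Type) [∀ i, CommGroup (C i)] [∀ i, Fintype (C i)]
    [∀ i, DecidableEq (C i)] {n : ℕ} (hn : ∑ i, Fintype.card (C i) = n) :
    ∃ A : Subgroup (Equiv.Perm (Fin n)), IsMulCommutative A ∧ Nat.card A = ∏ i, Fintype.card (C i) ∧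
      ((∀ i (c : C i), Equiv.Perm.sign (MulAction.toPermHom (C i) (C i) c) = 1) → A ≤ alternatingGroup (Fin n)) := by
  classical
  let e : (Σ i, C i) ≃ Fin n := Fintype.equivFinOfCardEq (by rw [Fintype.card_sigma, hn])
  let φ : (∀ i, C i) →* Equiv.Perm (Fin n) :=
    e.permCongrHom.toMonoidHom.comp ((Equiv.Perm.sigmaCongrRightHom C).comp (MonoidHom.piMap fun i => MulAction.toPermHom (C i) (C i)))
  have hinj : Function.Injective φ := by
    refine e.permCongrHom.injective.comp (Equiv.Perm.sigmaCongrRightHom_injective.comp fun x y h => funext fun i => ?_)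
    have := congrArg (fun p : Equiv.Perm (C i) => p 1) (congrFun h i)
    simpa using this
  refine ⟨φ.range, ⟨⟨fun a b => ?_⟩⟩, ?_, fun hsign => ?_⟩
  · obtain ⟨_, x, rfl⟩ := a
    obtain ⟨_, y, rfl⟩ := b
    refine Subtype.ext ?_
    show φ x * φ y = φ y * φ x
    rw [← map_mul, ← map_mul, mul_comm]
  · rw [← Nat.card_congr (MonoidHom.ofInjective hinj).toEquiv, Nat.card_eq_fintype_card, Fintype.card_pi]
  · rintro _ ⟨x, rfl⟩
    rw [Equiv.Perm.mem_alternatingGroup]
    have : Equiv.Perm.sign.comp φ = 1 := by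
      refine MonoidHom.pi_ext fun i c => ?_
      show Equiv.Perm.sign (e.permCongr _) = 1
      rw [Equiv.Perm.sign_permCongr, ← hsign i c]
      show Equiv.Perm.sign (Equiv.Perm.sigmaCongrRightHom C (fun j => MulAction.toPermHom (C j) (C j) (Pi.mulSingle i c j))) = _
      rw [← Equiv.Perm.sign_extendDomain (MulAction.toPermHom (C i) (C i) c)
        (Equiv.sigmaSubtype (β := C) i).symm]
      congr 1
      refine Equiv.ext fun y => ?_
      obtain ⟨j, y⟩ := y
      by_cases hj : j = i
      · subst hj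
        rw [Equiv.Perm.extendDomain_apply_subtype _ _ (b := (⟨j, y⟩ : Σ j, C j)) (show (⟨j, y⟩ : Σ j, C j).1 = j from rfl)]
        simp [Equiv.Perm.sigmaCongrRightHom, Equiv.sigmaSubtype]
      · rw [Equiv.Perm.extendDomain_apply_not_subtype _ _ (b := (⟨j, y⟩ : Σ j, C j)) (show ¬ (⟨j, y⟩ : Σ j, C j).1 = i from hj)]
        simp [Equiv.Perm.sigmaCongrRightHom, Pi.mulSingle_eq_of_ne hj]
    exact DFunLike.congr_fun this x

end Cfsg.Lib.AbelianPerm
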