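import Cfsg.Agent.Known.AbelianPerm

/-! The shape of the largest abelian subgroups of the alternating groups, and their conjugacy. -/

set_option autoImplicit false
set_option linter.style.haveILetI false
set_option maxHeartbeats 1000000

namespace Cfsg.Lib.AbelianPerm

attribute [local instance] _root_.Classical.propDecidable

/-- The largest order in the alternating group. -/
def F (n : ℕ) : ℕ := 4 ^ (n % 3) * 3 ^ ((n - 4 * (n % 3)) / 3)

theorem bounds (n : ℕ) (hn : 6 ≤ n) :
    G n < 2 * F n ∧ G (n - 1) < F n ∧ 5 * G n < 6 * F n := by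
  obtain ⟨j, rfl | rfl | rfl⟩ : ∃ j, n = 3 * (j + 2) ∨ n = 3 * (j + 1) + 4 ∨ n = 3 * (j + 2) + 2 :=
    ⟨(n - 6) / 3, by omega⟩
  · have h1 : F (3 * (j + 2)) = 9 * 3 ^ j := by
      rw [F, show 3 * (j + 2) % 3 = 0 by omega, show (3 * (j + 2) - 4 * 0) / 3 = j + 2 by omega, pow_add]
      ring
    have h2 : G (3 * (j + 2) - 1) = 6 * 3 ^ j := by
      rw [show 3 * (j + 2) - 1 = 3 * (j + 1) + 2 by omega, G_two_mod, pow_succ]; ring
    have h3 : G (3 * (j + 2)) = 9 * 3 ^ j := by rw [G_zero_mod, pow_add]; ring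
    have := pow_pos (show 0 < 3 by norm_num) j
    omega
  · have h1 : F (3 * (j + 1) + 4) = 12 * 3 ^ j := by
      rw [F, show (3 * (j + 1) + 4) % 3 = 1 by omega, show (3 * (j + 1) + 4 - 4 * 1) / 3 = j + 1 by omega, pow_succ 3 j]
      ring
    have h2 : G (3 * (j + 1) + 4 - 1) = 9 * 3 ^ j := by
      rw [show 3 * (j + 1) + 4 - 1 = 3 * (j + 2) by omega, G_zero_mod, pow_add]; ring
    have h3 : G (3 * (j + 1) + 4) = 12 * 3 ^ j := by rw [G_one_mod, pow_succ]; ring
    have := pow_pos (show 0 < 3 by norm_num) j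
    omega
  · have h1 : F (3 * (j + 2) + 2) = 16 * 3 ^ j := by
      rw [F, show (3 * (j + 2) + 2) % 3 = 2 by omega, show (3 * (j + 2) + 2 - 4 * 2) / 3 = j by omega]
      ring
    have h2 : G (3 * (j + 2) + 2 - 1) = 12 * 3 ^ j := by
      rw [show 3 * (j + 2) + 2 - 1 = 3 * (j + 1) + 4 by omega, G_one_mod, pow_succ]; ring
    have h3 : G (3 * (j + 2) + 2) = 18 * 3 ^ j := by rw [G_two_mod, pow_add]; ring
    have := pow_pos (show 0 < 3 by norm_num) j
    omega

/-- The largest product without a part `2` is unique. -/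
theorem parts_unique {ι : Type*} (s : Finset ι) (a : ι → ℕ) (ha : ∀ i ∈ s, 1 ≤ a i) {n : ℕ} (hn : 6 ≤ n)
    (hs : ∑ i ∈ s, a i = n) (h2 : ∀ i ∈ s, a i ≠ 2) (hF : F n ≤ ∏ i ∈ s, a i) :
    (∀ i ∈ s, a i = 3 ∨ a i = 4) ∧ (s.filter fun i => a i = 4).card = n % 3 ∧ ∏ i ∈ s, a i = F n := by
  obtain ⟨-, hb1, hb5⟩ := bounds n hn
  have hall : ∀ i ∈ s, a i = 3 ∨ a i = 4 := by
    intro i hi
    have hsum := Finset.add_sum_erase s a hi
    rw [hs] at hsum
    have hrest := prod_le (s.erase i) a fun x hx => ha x (Finset.mem_of_mem_erase hx)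
    rw [← Finset.mul_prod_erase s a hi] at hF
    set m := ∑ x ∈ s.erase i, a x
    have h1 := ha i hi
    have h2' := h2 i hi
    rcases (show a i = 1 ∨ a i = 3 ∨ a i = 4 ∨ 5 ≤ a i by omega) with h | h | h | h
    · rw [h, one_mul] at hF
      rw [show m = n - 1 by omega] at hrest
      omega
    · exact Or.inl h
    · exact Or.inr h
    · exfalso
      have h3 := G_mul (a i - 3) m (by omega)
      have h4 := G_three (a i - 3 + m)
      rw [show a i - 3 + m + 3 = n by omega] at h4
      have h5 : 6 * (a i * G m) ≤ 5 * (3 * ((a i - 3) * G m)) := by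
        calc 6 * (a i * G m) = (6 * a i) * G m := (mul_assoc _ _ _).symm
          _ ≤ (15 * (a i - 3)) * G m := Nat.mul_le_mul_right _ (by omega)
          _ = 5 * (3 * ((a i - 3) * G m)) := by ring
      have h6 := hF.trans (Nat.mul_le_mul_left _ hrest)
      omega
  set y := (s.filter fun i => a i = 4).card with hy
  set x := (s.filter fun i => ¬ a i = 4).card with hx
  have h3' : ∀ i ∈ s.filter (fun i => ¬ a i = 4), a i = 3 := fun i hi =>
    (hall i (Finset.mem_filter.1 hi).1).resolve_right (Finset.mem_filter.1 hi).2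
  have hprod : ∏ i ∈ s, a i = 4 ^ y * 3 ^ x := by
    rw [← Finset.prod_filter_mul_prod_filter_not s (fun i => a i = 4),
      Finset.prod_congr rfl fun i hi => (Finset.mem_filter.1 hi).2, Finset.prod_congr rfl h3',
      Finset.prod_const, Finset.prod_const]
  have hsum : n = 4 * y + 3 * x := by
    rw [← hs, ← Finset.sum_filter_add_sum_filter_not s (fun i => a i = 4),
      Finset.sum_congr rfl fun i hi => (Finset.mem_filter.1 hi).2, Finset.sum_congr rfl h3',
      Finset.sum_const, Finset.sum_const, smul_eq_mul, smul_eq_mul]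
    ring
  obtain ⟨t, ht⟩ : ∃ t, y = n % 3 + 3 * t := ⟨y / 3, by omega⟩
  have hFe : F n = 4 ^ (n % 3) * (3 ^ x * 81 ^ t) := by
    rw [F, show (n - 4 * (n % 3)) / 3 = x + 4 * t by omega, pow_add, pow_mul]
    norm_num
  have he : ∏ i ∈ s, a i = 4 ^ (n % 3) * (3 ^ x * 64 ^ t) := by
    rw [hprod, ht, pow_add, pow_mul]
    norm_num
    ring
  have ht0 : t = 0 := by
    by_contra h
    have h1 : (64 : ℕ) ^ t < 81 ^ t := Nat.pow_lt_pow_left (by norm_num) h
    have h2 : 4 ^ (n % 3) * (3 ^ x * 64 ^ t) < 4 ^ (n % 3) * (3 ^ x * 81 ^ t) :=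
      Nat.mul_lt_mul_of_pos_left (Nat.mul_lt_mul_of_pos_left h1 (by positivity)) (by positivity)
    omega
  subst ht0
  refine ⟨hall, by omega, ?_⟩
  rw [he, hFe]
  simp

variable {α : Type*} [Fintype α] [DecidableEq α]

/-- The permutations which are regular on each class of `q`, of exponent `2` on the classes of size `4`. -/
def Shape {ι : Type*} (q : α → ι) (σ : Equiv.Perm α) : Prop :=
  (∀ x, q (σ x) = q x) ∧ (∀ x y, q x = q y → σ x = x → σ y = y) ∧
    ∀ x, Nat.card {y // q y = q x} = 4 → σ (σ x) = x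

theorem shape_conj {ι κ : Type*} (q : α → ι) (r : α → κ) (π : Equiv.Perm α)
    (hπ : ∀ x y, r (π x) = r (π y) ↔ q x = q y) (σ : Equiv.Perm α) :
    Shape r (π * σ * π⁻¹) ↔ Shape q σ := by
  have hcard : ∀ x, Nat.card {y // r y = r (π x)} = Nat.card {y // q y = q x} := fun x =>
    (Nat.card_congr (π.subtypeEquiv fun y => (hπ y x).symm)).symm
  have hap : ∀ z, (π * σ * π⁻¹) (π z) = π (σ z) := fun z => by simp
  constructor
  · rintro ⟨h1, h2, h3⟩
    refine ⟨fun x => ?_, fun x y hxy hx => ?_, fun x hx => ?_⟩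
    · have := h1 (π x)
      rw [hap] at this
      exact (hπ _ _).1 this
    · have := h2 (π x) (π y) ((hπ x y).2 hxy) (by rw [hap, hx])
      rw [hap] at this
      exact π.injective this
    · have := h3 (π x) (by rw [hcard, hx])
      rw [hap, hap] at this
      exact π.injective this
  · rintro ⟨h1, h2, h3⟩
    refine ⟨fun x => ?_, fun x y hxy hx => ?_, fun x hx => ?_⟩
    · obtain ⟨z, rfl⟩ := π.surjective x
      rw [hap]; exact (hπ _ _).2 (h1 z)
    · obtain ⟨z, rfl⟩ := π.surjective x
      obtain ⟨w, rfl⟩ := π.surjective y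
      rw [hap] at hx ⊢
      rw [h2 z w ((hπ z w).1 hxy) (π.injective hx)]
    · obtain ⟨z, rfl⟩ := π.surjective x
      rw [hcard] at hx
      rw [hap, hap, h3 z hx]

theorem eq_of_avoid {ι : Type*} (q : α → ι) {c : ι} {a b : α} (S : Finset α) (ha : q a = c) (hb : q b = c)
    (hS : ∀ z ∈ S, q z = c) (haS : a ∉ S) (hbS : b ∉ S) (hc : Nat.card {y // q y = c} ≤ S.card + 1) : a = b := by
  by_contra hne
  have hsub : insert a (insert b S) ⊆ Finset.univ.filter fun y => q y = c := by
    intro z hz
    simp only [Finset.mem_insert] at hz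
    rw [Finset.mem_filter]
    exact ⟨Finset.mem_univ _, by rcases hz with rfl | rfl | h; exacts [ha, hb, hS z h]⟩
  have h1 := Finset.card_le_card hsub
  rw [Finset.card_insert_of_notMem (by simp [haS, hne]), Finset.card_insert_of_notMem hbS] at h1
  rw [Nat.card_eq_fintype_card, Fintype.card_subtype] at hc
  omega

/-- A member of the shape is known on a class from one value. -/
theorem shape_eq {ι : Type*} (q : α → ι) {σ τ : Equiv.Perm α} (hσ : Shape q σ) (hτ : Shape q τ) {x : α}
    (hsz : Nat.card {y // q y = q x} = 3 ∨ Nat.card {y // q y = q x} = 4) (h : σ x = τ x) :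
    ∀ z, q z = q x → σ z = τ z := by
  intro z hz
  by_cases hfix : σ x = x
  · rw [hσ.2.1 x z hz.symm hfix, hτ.2.1 x z hz.symm (h ▸ hfix)]
  have nofix : ∀ {ρ : Equiv.Perm α}, Shape q ρ → ρ x ≠ x → ∀ w, q w = q x → ρ w ≠ w :=
    fun hρ hx w hw e => hx (hρ.2.1 w x hw e)
  have hfixτ : τ x ≠ x := h ▸ hfix
  set y := σ x with hy
  have hqy : q y = q x := hσ.1 x
  rcases hsz with h3 | h4
  · -- three points
    have key : ∀ {ρ : Equiv.Perm α}, Shape q ρ → ρ x = y → ρ y ≠ x := by
      intro ρ hρ hρx e
      have hρf : ρ x ≠ x := by rw [hρx]; exact hfix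
      obtain ⟨w, hw, hwxy⟩ : ∃ w, q w = q x ∧ w ∉ ({x, y} : Finset α) := by
        by_contra hc
        push Not at hc
        have := Finset.card_le_card (show (Finset.univ.filter fun w => q w = q x) ⊆ {x, y} from
          fun w hw => hc w (Finset.mem_filter.1 hw).2)
        rw [Nat.card_eq_fintype_card, Fintype.card_subtype] at h3
        have := Finset.card_le_two (a := x) (b := y)
        omega
      simp only [Finset.mem_insert, Finset.mem_singleton, not_or] at hwxy
      refine nofix hρ hρf w hw (eq_of_avoid q ({x, y} : Finset α) ((hρ.1 w).trans hw) hw ?_ ?_ ?_ ?_)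
      · intro u hu
        simp only [Finset.mem_insert, Finset.mem_singleton] at hu
        rcases hu with rfl | rfl; exacts [rfl, hqy]
      · simp only [Finset.mem_insert, Finset.mem_singleton, not_or]
        exact ⟨fun e' => hwxy.2 (ρ.injective (e'.trans e.symm)), fun e' => hwxy.1 (ρ.injective (e'.trans hρx.symm))⟩
      · simp [hwxy]
      · rw [h3, Finset.card_pair (Ne.symm hfix)]
    have step : σ y = τ y := by
      refine eq_of_avoid q ({x, y} : Finset α) ((hσ.1 y).trans hqy) ((hτ.1 y).trans hqy) ?_ ?_ ?_ ?_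
      · intro u hu
        simp only [Finset.mem_insert, Finset.mem_singleton] at hu
        rcases hu with rfl | rfl; exacts [rfl, hqy]
      · simp [key hσ rfl, nofix hσ hfix y hqy]
      · simp [key hτ h.symm, nofix hτ hfixτ y hqy]
      · rw [h3, Finset.card_pair (Ne.symm hfix)]
    by_cases hzx : z = x
    · rw [hzx]; exact h
    by_cases hzy : z = y
    · rw [hzy]; exact step
    refine eq_of_avoid q ({y, σ y} : Finset α) ((hσ.1 z).trans hz) ((hτ.1 z).trans hz) ?_ ?_ ?_ ?_
    · intro u hu
      simp only [Finset.mem_insert, Finset.mem_singleton] at hu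
      rcases hu with rfl | rfl; exacts [hqy, (hσ.1 y).trans hqy]
    · simp only [Finset.mem_insert, Finset.mem_singleton, not_or]
      exact ⟨fun e => hzx (σ.injective e), fun e => hzy (σ.injective e)⟩
    · simp only [Finset.mem_insert, Finset.mem_singleton, not_or]
      exact ⟨fun e => hzx (τ.injective (e.trans h)), fun e => hzy (τ.injective (e.trans step))⟩
    · rw [h3, Finset.card_pair (Ne.symm (nofix hσ hfix y hqy))]
  · -- four points
    have hσy : σ y = x := hσ.2.2 x h4
    have hτy : τ y = x := by rw [h]; exact hτ.2.2 x h4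
    by_cases hzx : z = x
    · rw [hzx]; exact h
    by_cases hzy : z = y
    · rw [hzy, hσy, hτy]
    refine eq_of_avoid q ({x, y, z} : Finset α) ((hσ.1 z).trans hz) ((hτ.1 z).trans hz) ?_ ?_ ?_ ?_
    · intro u hu
      simp only [Finset.mem_insert, Finset.mem_singleton] at hu
      rcases hu with rfl | rfl | rfl; exacts [rfl, hqy, hz]
    · simp only [Finset.mem_insert, Finset.mem_singleton, not_or]
      exact ⟨fun e => hzy (σ.injective (e.trans hσy.symm)), fun e => hzx (σ.injective e),
        nofix hσ hfix z hz⟩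
    · simp only [Finset.mem_insert, Finset.mem_singleton, not_or]
      exact ⟨fun e => hzy (τ.injective (e.trans hτy.symm)), fun e => hzx (τ.injective (e.trans h)),
        nofix hτ hfixτ z hz⟩
    · rw [h4, Finset.card_insert_of_notMem (by simp [Ne.symm hfix, Ne.symm hzx]), Finset.card_pair (Ne.symm hzy)]

/-- A largest abelian subgroup of the alternating group is the full group of its shape. -/
theorem exists_shape (A : Subgroup (Equiv.Perm α)) [hA : IsMulCommutative A] (hle : A ≤ alternatingGroup α)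
    (hn : 6 ≤ Fintype.card α) (hmax : F (Fintype.card α) ≤ Nat.card A) :
    (∀ x : α, Nat.card {y // (Quotient.mk'' y : MulAction.orbitRel.Quotient A α) = Quotient.mk'' x} = 3 ∨
      Nat.card {y // (Quotient.mk'' y : MulAction.orbitRel.Quotient A α) = Quotient.mk'' x} = 4) ∧
    Nat.card {o : MulAction.orbitRel.Quotient A α // Nat.card {y // (Quotient.mk'' y : MulAction.orbitRel.Quotient A α) = o} = 4}
      = Fintype.card α % 3 ∧
    ∀ σ, σ ∈ A ↔ Shape (fun y => (Quotient.mk'' y : MulAction.orbitRel.Quotient A α)) σ := by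
  haveI := Fintype.ofFinite (MulAction.orbitRel.Quotient A α)
  set q : α → MulAction.orbitRel.Quotient A α := fun y => Quotient.mk'' y with hq
  obtain ⟨rep, hrep⟩ := (Quotient.mk''_surjective (s₁ := MulAction.orbitRel A α)).hasRightInverse
  haveI : ∀ o, (MulAction.stabilizer A (rep o)).Normal := fun o =>
    ⟨fun g hg x => by rwa [hA.is_comm.comm x g, mul_inv_cancel_right]⟩
  let Φ : A →* ∀ o : MulAction.orbitRel.Quotient A α, A ⧸ MulAction.stabilizer A (rep o) :=
    MonoidHom.pi fun o => QuotientGroup.mk' (MulAction.stabilizer A (rep o))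
  have hΦ : ∀ g o, Φ g o = (g : A ⧸ MulAction.stabilizer A (rep o)) := fun g o => rfl
  have hqA : ∀ (g : A) (x : α), q (g • x) = q x := fun g x =>
    Quotient.sound' (MulAction.orbitRel_apply.2 (MulAction.mem_orbit x g))
  have hfixA : ∀ (g : A) (x y : α), q x = q y → g • x = x → g • y = y := by
    intro g x y hxy hx
    obtain ⟨h, rfl⟩ : y ∈ MulAction.orbit A x := MulAction.orbitRel_apply.1 (Quotient.exact' hxy.symm)
    show g • h • x = h • x
    rw [smul_smul, hA.is_comm.comm g h, ← smul_smul, hx]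
  have hinj : Function.Injective Φ := by
    refine (injective_iff_map_eq_one Φ).2 fun g hg => Subtype.ext (Equiv.ext fun x => ?_)
    have h := congrFun hg (q x)
    rw [hΦ, Pi.one_apply, QuotientGroup.eq_one_iff, MulAction.mem_stabilizer_iff] at h
    exact hfixA g _ x (hrep _) h
  set a : MulAction.orbitRel.Quotient A α → ℕ := fun o => Nat.card {y // q y = o} with ha_def
  have hcoset : ∀ o, Nat.card (A ⧸ MulAction.stabilizer A (rep o)) = a o := by
    intro o
    rw [← Nat.card_congr (MulAction.orbitEquivQuotientStabilizer A (rep o))]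
    refine Nat.card_congr (Equiv.subtypeEquivRight fun y => ?_)
    constructor
    · intro hy
      exact (Quotient.sound' (MulAction.orbitRel_apply.2 hy)).trans (hrep o)
    · intro hy
      exact MulAction.orbitRel_apply.1 (Quotient.exact' (hy.trans (hrep o).symm))
  have ha : ∀ o ∈ Finset.univ, 1 ≤ a o := fun o _ => by
    haveI : Nonempty {y // q y = o} := ⟨⟨rep o, hrep o⟩⟩
    exact Nat.card_pos
  have hsum : ∑ o, a o = Fintype.card α := by
    rw [← Nat.card_sigma, Nat.card_congr (Equiv.sigmaFiberEquiv q), Nat.card_eq_fintype_card]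
  have hdvd : Nat.card A ∣ ∏ o, a o := by
    rw [← Finset.prod_congr rfl fun o _ => hcoset o, ← Nat.card_pi]
    exact Subgroup.card_dvd_of_injective Φ hinj
  have hpos : 0 < ∏ o, a o := Finset.prod_pos fun o ho => ha o ho
  have hglobal : Nat.card A = ∏ o, a o → ∀ f : α → α, (∀ x, q (f x) = q x) →
      ∃ g : A, ∀ x, g • rep (q x) = f (rep (q x)) := by
    intro hc f hf
    have hbij : Function.Bijective Φ := (Nat.bijective_iff_injective_and_card Φ).2
      ⟨hinj, by rw [hc, Nat.card_pi, Finset.prod_congr rfl fun o _ => (hcoset o).symm]⟩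
    have hh : ∀ o, ∃ g : A, g • rep o = f (rep o) := fun o =>
      MulAction.orbitRel_apply.1 (Quotient.exact' (hf (rep o)))
    choose h hh using hh
    obtain ⟨g, hg⟩ := hbij.2 fun o => (h o : A ⧸ MulAction.stabilizer A (rep o))
    refine ⟨g, fun x => ?_⟩
    have := congrFun hg (q x)
    rw [hΦ, QuotientGroup.eq, MulAction.mem_stabilizer_iff] at this
    rw [← hh (q x), ← smul_inv_smul g (h (q x) • rep (q x)), smul_smul g⁻¹, this]
  have hlocal : Nat.card A = ∏ o, a o → ∀ (g₀ : A) (x : α), ∃ g : A, g • x = g₀ • x ∧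
      (∀ z, q z = q x → g • z = g₀ • z) ∧ ∀ z, q z ≠ q x → g • z = z := by
    intro hc g₀ x
    obtain ⟨g, hg⟩ := hglobal hc (fun z => if q z = q x then g₀ • z else z) fun z => by
      split_ifs
      · exact hqA g₀ z
      · rfl
    have hin : ∀ z, q z = q x → g • z = g₀ • z := by
      intro z hz
      have h := hg z
      rw [if_pos (show q (rep (q z)) = q x from (hrep _).trans hz)] at h
      have h2 := hfixA (g₀⁻¹ * g) (rep (q z)) z (hrep _) (by rw [mul_smul, h, inv_smul_smul])
      rw [mul_smul, inv_smul_eq_iff] at h2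
      exact h2
    refine ⟨g, hin x rfl, hin, fun z hz => ?_⟩
    have h := hg z
    rw [if_neg (show ¬ q (rep (q z)) = q x from fun e => hz ((hrep _).symm.trans e))] at h
    exact hfixA g _ z (hrep _) h
  obtain ⟨hb2, -, -⟩ := bounds (Fintype.card α) hn
  have h2 : ∀ o ∈ Finset.univ, a o ≠ 2 := by
    intro o _ ho
    have hG := prod_le Finset.univ a ha
    rw [hsum] at hG
    rcases eq_or_ne (Nat.card A) (∏ o, a o) with hc | hc
    · obtain ⟨⟨y, hy⟩, hyx⟩ : ∃ y : {y // q y = o}, y ≠ ⟨rep o, hrep o⟩ := by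
        haveI : Nontrivial {y // q y = o} := Finite.one_lt_card_iff_nontrivial.1 (by
          show 1 < a o; omega)
        exact exists_ne _
      set x := rep o
      have hyx' : y ≠ x := fun e => hyx (Subtype.ext e)
      have hqx : q x = o := hrep o
      obtain ⟨g₀, hg₀⟩ : ∃ g : A, g • x = y := MulAction.orbitRel_apply.1 (Quotient.exact' (hy.trans hqx.symm))
      obtain ⟨g, hgx, hin, hout⟩ := hlocal hc g₀ x
      have hswap : (g : Equiv.Perm α) = Equiv.swap x y := by
        refine Equiv.ext fun z => ?_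
        show g • z = _
        have hset : ∀ w, q w = o → w = x ∨ w = y := by
          intro w hw
          by_contra hcon
          push Not at hcon
          refine hcon.2 (eq_of_avoid q ({x} : Finset α) hw hy ?_ (by simp [hcon.1]) (by simp [hyx']) ?_)
          · intro u hu; rw [Finset.mem_singleton] at hu; rw [hu]; exact hqx
          · show a o ≤ _; simp [ho]
        by_cases hz : q z = o
        · rcases hset z hz with rfl | rfl
          · rw [hgx, hg₀, Equiv.swap_apply_left]
          · rw [Equiv.swap_apply_right]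
            rcases hset (g • z) ((hqA g z).trans hz) with h | h
            · exact h
            · exact absurd (smul_left_cancel g (h.trans (hgx.trans hg₀).symm)) hyx'
        · rw [hout z (by rwa [hqx]), Equiv.swap_apply_of_ne_of_ne]
          · rintro rfl; exact hz hqx
          · rintro rfl; exact hz hy
      have := hle g.2
      rw [Equiv.Perm.mem_alternatingGroup, hswap, Equiv.Perm.sign_swap (Ne.symm hyx')] at this
      exact absurd this (by decide)
    · obtain ⟨e, he⟩ := hdvd
      have he2 : 2 ≤ e := by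
        rcases e with _ | _ | e
        · rw [mul_zero] at he; omega
        · rw [zero_add, mul_one] at he; exact absurd he.symm hc
        · omega
      have := Nat.mul_le_mul_left (Nat.card A) he2
      omega
  obtain ⟨hall, hcount, hprod⟩ := parts_unique Finset.univ a ha hn hsum h2
    (hmax.trans (Nat.le_of_dvd hpos hdvd))
  have hc : Nat.card A = ∏ o, a o := le_antisymm (Nat.le_of_dvd hpos hdvd) (hprod ▸ hmax)
  have hsz : ∀ x : α, a (q x) = 3 ∨ a (q x) = 4 := fun x => hall _ (Finset.mem_univ _)
  have hshape : ∀ g : A, Shape q (g : Equiv.Perm α) := by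
    intro g₀
    refine ⟨hqA g₀, hfixA g₀, fun x h4 => ?_⟩
    show g₀ • g₀ • x = x
    by_contra hne
    obtain ⟨g, hgx, hin, hout⟩ := hlocal hc g₀ x
    have hgx2 : g • g • x = g₀ • g₀ • x := by rw [hgx, hin _ (hqA g₀ x)]
    have hfix4 : ∀ z : α, (g ^ 4) • z = z := by
      intro z
      by_cases hz : q z = q x
      · have hm : (g : A ⧸ MulAction.stabilizer A (rep (q x))) ^ 4 = 1 := by
          have h4' : Nat.card (A ⧸ MulAction.stabilizer A (rep (q x))) = 4 := (hcoset _).trans h4
          conv_lhs => rw [← h4']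
          exact pow_card_eq_one'
        rw [← QuotientGroup.mk_pow, QuotientGroup.eq_one_iff, MulAction.mem_stabilizer_iff] at hm
        exact hfixA _ _ z ((hrep _).trans hz.symm) hm
      · simp only [pow_succ, pow_zero, one_mul, mul_smul, hout z hz]
    set p : Equiv.Perm α := (g : Equiv.Perm α)
    have hp4 : p ^ 4 = 1 := Equiv.ext fun z => hfix4 z
    have hsupp : p.support.card ≤ 4 := by
      rw [← h4, Nat.card_eq_fintype_card, Fintype.card_subtype]
      refine Finset.card_le_card fun z hz => Finset.mem_filter.2 ⟨Finset.mem_univ _, ?_⟩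
      by_contra hz'
      exact Equiv.Perm.mem_support.1 hz (hout z hz')
    have hp2 : p ^ 2 ≠ 1 := by
      intro h
      have : g • g • x = x := by
        have := DFunLike.congr_fun h x
        rw [pow_two] at this
        exact this
      exact hne (hgx2.symm.trans this)
    have hparts : ∀ k ∈ p.cycleType, k = 2 ∨ k = 4 := by
      intro k hk
      have h1 := (Equiv.Perm.dvd_of_mem_cycleType hk).trans (orderOf_dvd_of_pow_eq_one hp4)
      have h2 := Equiv.Perm.two_le_of_mem_cycleType hk
      have h3 := Nat.le_of_dvd (by norm_num) h1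
      interval_cases k <;> first | decide | omega
    have h4mem : 4 ∈ p.cycleType := by
      by_contra h
      refine hp2 (orderOf_dvd_iff_pow_eq_one.1 ?_)
      rw [← Equiv.Perm.lcm_cycleType, Multiset.lcm_dvd]
      exact fun k hk => ((hparts k hk).resolve_right fun e => h (e ▸ hk)).dvd
    have hs := Equiv.Perm.sum_cycleType p
    have htype : p.cycleType = {4} := by
      obtain ⟨m, hm⟩ := Multiset.exists_cons_of_mem h4mem
      rw [hm, Multiset.sum_cons] at hs
      rcases Multiset.empty_or_exists_mem m with rfl | ⟨k, hk⟩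
      · exact hm
      · exfalso
        have h1 := Multiset.single_le_sum (fun i _ => Nat.zero_le i) k hk
        have h2 := Equiv.Perm.two_le_of_mem_cycleType (show k ∈ p.cycleType by rw [hm]; exact Multiset.mem_cons_of_mem hk)
        omega
    have := hle g.2
    rw [Equiv.Perm.mem_alternatingGroup, Equiv.Perm.sign_of_cycleType, show (g : Equiv.Perm α) = p from rfl,
      htype] at this
    exact absurd this (by decide)
  refine ⟨hsz, ?_, fun σ => ⟨fun h => hshape ⟨σ, h⟩, fun hσ => ?_⟩⟩
  · rw [Nat.card_eq_fintype_card, Fintype.card_subtype]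
    convert hcount
  · obtain ⟨g, hg⟩ := hglobal hc σ hσ.1
    have : σ = g := Equiv.ext fun z => shape_eq q hσ (hshape g) (x := rep (q z))
      (by rw [show q (rep (q z)) = q z from hrep _]; exact hsz z) (hg z).symm z (hrep _).symm
    rw [this]
    exact g.2

/-- Two largest abelian subgroups are conjugate by an even permutation. -/
theorem exists_conj_even (A B : Subgroup (Equiv.Perm α)) [IsMulCommutative A] [IsMulCommutative B]
    (hAle : A ≤ alternatingGroup α) (hBle : B ≤ alternatingGroup α) (hn : 6 ≤ Fintype.card α)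
    (hA : F (Fintype.card α) ≤ Nat.card A) (hB : F (Fintype.card α) ≤ Nat.card B) :
    ∃ π : Equiv.Perm α, Equiv.Perm.sign π = 1 ∧ ∀ σ, σ ∈ A ↔ π * σ * π⁻¹ ∈ B := by
  obtain ⟨hszA, hcA, hmA⟩ := exists_shape A hAle hn hA
  obtain ⟨hszB, hcB, hmB⟩ := exists_shape B hBle hn hB
  set qA : α → MulAction.orbitRel.Quotient A α := fun y => Quotient.mk'' y with hqA
  set qB : α → MulAction.orbitRel.Quotient B α := fun y => Quotient.mk'' y with hqB
  haveI := Fintype.ofFinite (MulAction.orbitRel.Quotient A α)
  haveI := Fintype.ofFinite (MulAction.orbitRel.Quotient B α)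
  set aA := fun o => Nat.card {y // qA y = o}
  set aB := fun o => Nat.card {y // qB y = o}
  have sA : ∀ o, aA o = 3 ∨ aA o = 4 := fun o => Quotient.inductionOn' o hszA
  have sB : ∀ o, aB o = 3 ∨ aB o = 4 := fun o => Quotient.inductionOn' o hszB
  have hsumA : ∑ o, aA o = Fintype.card α := by
    rw [← Nat.card_sigma, Nat.card_congr (Equiv.sigmaFiberEquiv qA), Nat.card_eq_fintype_card]
  have hsumB : ∑ o, aB o = Fintype.card α := by
    rw [← Nat.card_sigma, Nat.card_congr (Equiv.sigmaFiberEquiv qB), Nat.card_eq_fintype_card]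
  have split : ∀ {γ : Type _} [Fintype γ] (f : γ → ℕ), (∀ o, f o = 3 ∨ f o = 4) →
      ∑ o, f o = 4 * Nat.card {o // f o = 4} + 3 * Nat.card {o // ¬ f o = 4} := by
    intro γ _ f hf
    rw [← Finset.sum_filter_add_sum_filter_not Finset.univ (fun o => f o = 4),
      Finset.sum_congr rfl fun i hi => (Finset.mem_filter.1 hi).2,
      Finset.sum_congr rfl (fun i hi => (hf i).resolve_right (Finset.mem_filter.1 hi).2 :
        ∀ i ∈ Finset.univ.filter (fun o => ¬ f o = 4), f i = 3),
      Finset.sum_const, Finset.sum_const, smul_eq_mul, smul_eq_mul, Nat.card_eq_fintype_card,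
      Nat.card_eq_fintype_card, Fintype.card_subtype, Fintype.card_subtype]
    ring
  have e4 : Nat.card {o // aA o = 4} = Nat.card {o // aB o = 4} := hcA.trans hcB.symm
  have e3 : Nat.card {o // ¬ aA o = 4} = Nat.card {o // ¬ aB o = 4} := by
    have h1 := split aA sA
    have h2 := split aB sB
    omega
  obtain ⟨E4⟩ : Nonempty ({o // aA o = 4} ≃ {o // aB o = 4}) := ⟨(Finite.equivFin _).trans ((finCongr e4).trans (Finite.equivFin _).symm)⟩
  obtain ⟨E3⟩ : Nonempty ({o // ¬ aA o = 4} ≃ {o // ¬ aB o = 4}) := ⟨(Finite.equivFin _).trans ((finCongr e3).trans (Finite.equivFin _).symm)⟩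
  let E : MulAction.orbitRel.Quotient A α ≃ MulAction.orbitRel.Quotient B α :=
    (Equiv.sumCompl _).symm.trans ((Equiv.sumCongr E4 E3).trans (Equiv.sumCompl _))
  have hE : ∀ o, aB (E o) = aA o := by
    intro o
    by_cases h : aA o = 4
    · have : E o = (E4 ⟨o, h⟩ : MulAction.orbitRel.Quotient B α) := by simp [E, h]
      rw [this, h]; exact (E4 ⟨o, h⟩).2
    · have : E o = (E3 ⟨o, h⟩ : MulAction.orbitRel.Quotient B α) := by simp [E, h]
      rw [this, (sA o).resolve_right h]
      exact (sB _).resolve_right (E3 ⟨o, h⟩).2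
  have hfib : ∀ c, Nat.card {y // E (qA y) = c} = Nat.card {y // qB y = c} := by
    intro c
    obtain ⟨o, rfl⟩ := E.surjective c
    rw [show Nat.card {y // qB y = E o} = aA o from hE o]
    exact Nat.card_congr (Equiv.subtypeEquivRight fun y => E.injective.eq_iff)
  let π₀ : Equiv.Perm α := Equiv.ofFiberEquiv (f := fun y => E (qA y)) (g := qB)
    fun c => (Finite.equivFin _).trans ((finCongr (hfib c)).trans (Finite.equivFin _).symm)
  have hπ₀ : ∀ x, qB (π₀ x) = E (qA x) := fun x => Equiv.ofFiberEquiv_map (f := fun y => E (qA y)) (g := qB) _ x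
  obtain ⟨π, hsgn, hπ⟩ : ∃ π : Equiv.Perm α, Equiv.Perm.sign π = 1 ∧ ∀ x, qB (π x) = E (qA x) := by
    rcases Int.units_eq_one_or (Equiv.Perm.sign π₀) with h | h
    · exact ⟨π₀, h, hπ₀⟩
    · obtain ⟨x⟩ : Nonempty α := Fintype.card_pos_iff.1 (by omega)
      obtain ⟨⟨y, hy⟩, hyx⟩ : ∃ y : {y // qA y = qA x}, y ≠ ⟨x, rfl⟩ := by
        haveI : Nontrivial {y // qA y = qA x} := Finite.one_lt_card_iff_nontrivial.1 (by
          have := hszA x; rcases this with e | e <;> · show 1 < Nat.card _; rw [e]; norm_num)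
        exact exists_ne _
      have hne : x ≠ y := fun e => hyx (Subtype.ext e.symm)
      refine ⟨π₀ * Equiv.swap x y, by rw [map_mul, h, Equiv.Perm.sign_swap hne]; decide, fun z => ?_⟩
      rw [Equiv.Perm.mul_apply, hπ₀]
      rcases eq_or_ne z x with rfl | h1
      · rw [Equiv.swap_apply_left, hy]
      rcases eq_or_ne z y with rfl | h2
      · rw [Equiv.swap_apply_right, hy]
      · rw [Equiv.swap_apply_of_ne_of_ne h1 h2]
  refine ⟨π, hsgn, fun σ => ?_⟩
  rw [hmA, hmB]
  exact (shape_conj qA qB π (fun x y => by rw [hπ, hπ, E.injective.eq_iff]) σ).symm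

end Cfsg.Lib.AbelianPerm
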