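import Mathlib

/-! Automizers of abelian Sylow subgroups of alternating groups. -/

set_option autoImplicit false
set_option linter.unusedSectionVars false

namespace Cfsg.Lib.AltAutomizer

open Equiv

variable {n : ℕ}

theorem real_of_small {x : Perm (Fin n)} (h : x.support.card + 2 ≤ n) :
    ∃ g ∈ alternatingGroup (Fin n), g * x * g⁻¹ = x⁻¹ := by
  classical
  obtain ⟨g, hg⟩ := isConj_iff.1 ((Perm.isConj_iff_cycleType_eq).2 (Perm.cycleType_inv x).symm)
  by_cases hs : Perm.sign g = 1
  · exact ⟨g, Perm.mem_alternatingGroup.2 hs, hg⟩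
  obtain ⟨a, ha, b, hb, hab⟩ := Finset.one_lt_card.1 (show 1 < x.supportᶜ.card by
    rw [Finset.card_compl, Fintype.card_fin]; omega)
  rw [Finset.mem_compl, Perm.notMem_support] at ha hb
  refine ⟨g * swap a b, Perm.mem_alternatingGroup.2 ?_, ?_⟩
  · rw [map_mul, Perm.sign_swap hab, (Int.units_eq_one_or (Perm.sign g)).resolve_left hs]; rfl
  · have hc : swap a b * x = x * swap a b := by
      rw [Equiv.mul_swap_eq_swap_mul, ha, hb]
    rw [_root_.mul_inv_rev, mul_assoc g, hc, mul_assoc, mul_assoc x, mul_inv_cancel_left, ← mul_assoc, hg]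

theorem cyclic_of_small {p : ℕ} [hp : Fact p.Prime] (hn : n < 2 * p) (P : Sylow p (alternatingGroup (Fin n))) :
    IsCyclic (P : Subgroup (alternatingGroup (Fin n))) := by
  obtain ⟨j, hj⟩ := IsPGroup.iff_card.1 P.2
  have hdvd : p ^ j ∣ n.factorial := by
    rw [← hj]
    refine dvd_trans ((Subgroup.card_subgroup_dvd_card _).trans (Subgroup.card_subgroup_dvd_card _)) ?_
    rw [Nat.card_perm, Nat.card_fin]
  have hp2 := hp.out.two_le
  have hj1 : j ≤ 1 := by
    have hlt : Nat.log p n < 2 := Nat.log_lt_of_lt_pow' (by norm_num) (by nlinarith)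
    have := (hp.out.pow_dvd_factorial_iff hlt).1 hdvd
    rw [show Finset.Ico 1 2 = {1} from rfl, Finset.sum_singleton, pow_one] at this
    have h2 : n / p < 2 := by rw [Nat.div_lt_iff_lt_mul (by omega)]; omega
    omega
  rcases Nat.le_one_iff_eq_zero_or_eq_one.1 hj1 with rfl | rfl
  · haveI : Subsingleton (P : Subgroup (alternatingGroup (Fin n))) :=
      (Nat.card_eq_one_iff_unique.1 (by simpa using hj)).1
    exact isCyclic_of_subsingleton
  · exact isCyclic_of_prime_card (p := p) (by simpa using hj)

theorem even_of_real {p : ℕ} [hp : Fact p.Prime] (hodd : p ≠ 2) (hn : p + 2 ≤ n)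
    (P : Sylow p (alternatingGroup (Fin n))) (hP : IsMulCommutative (P : Subgroup (alternatingGroup (Fin n)))) :
    2 ∣ ((Subgroup.centralizer ((P : Subgroup (alternatingGroup (Fin n))) : Set (alternatingGroup (Fin n)))).subgroupOf
      (Subgroup.normalizer ((P : Subgroup (alternatingGroup (Fin n))) : Set (alternatingGroup (Fin n))))).index := by
  classical
  set C := (Subgroup.centralizer ((P : Subgroup (alternatingGroup (Fin n))) : Set (alternatingGroup (Fin n)))).subgroupOf
    (Subgroup.normalizer ((P : Subgroup (alternatingGroup (Fin n))) : Set (alternatingGroup (Fin n))))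
  haveI : C.Normal := by
    rw [show C = (P : Subgroup (alternatingGroup (Fin n))).normalizerMonoidHom.ker from
      (Subgroup.normalizerMonoidHom_ker _).symm]
    infer_instance
  obtain ⟨x₀, hx₀⟩ := (Perm.exists_with_cycleType_iff (α := Fin n) (m := {p})).2 ⟨by simp; omega, by
    simp only [Multiset.mem_singleton]; rintro a rfl; exact hp.out.two_le⟩
  have hx₀A : x₀ ∈ alternatingGroup (Fin n) := by
    rw [Perm.mem_alternatingGroup, Perm.sign_of_cycleType, hx₀]
    simp only [Multiset.sum_singleton, Multiset.card_singleton]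
    exact (hp.out.odd_of_ne_two hodd).add_one.neg_one_pow
  have hord : orderOf (⟨x₀, hx₀A⟩ : alternatingGroup (Fin n)) = p := by
    rw [Subgroup.orderOf_mk, ← Perm.lcm_cycleType, hx₀]; simp
  obtain ⟨Q, hQ⟩ := (show IsPGroup p (Subgroup.zpowers (⟨x₀, hx₀A⟩ : alternatingGroup (Fin n))) from
    IsPGroup.of_card (n := 1) (by rw [Nat.card_zpowers, hord, pow_one])).exists_le_sylow
  obtain ⟨g, rfl⟩ := MulAction.exists_smul_eq (alternatingGroup (Fin n)) P Q
  obtain ⟨x, hxP, hxe⟩ := hQ (Subgroup.mem_zpowers _)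
  have hx : orderOf x = p := by
    rw [← hord, ← hxe]
    exact (orderOf_injective (MulAut.conj g).toMonoidHom (MulAut.conj g).injective x).symm
  have hsupp : (x : Perm (Fin n)).support.card + 2 ≤ n := by
    have h1 : (g : Perm (Fin n)) * x * (g : Perm (Fin n))⁻¹ = x₀ := congrArg Subtype.val hxe
    have h2 : (x : Perm (Fin n)).cycleType = {p} := by rw [← hx₀, ← h1, Perm.cycleType_conj]
    rw [← Perm.sum_cycleType, h2]; simpa using hn
  obtain ⟨a, ha, hax⟩ := real_of_small hsupp
  have hax' : (⟨a, ha⟩ : alternatingGroup (Fin n)) * x * (⟨a, ha⟩ : alternatingGroup (Fin n))⁻¹ = x⁻¹ :=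
    Subtype.ext hax
  haveI := hP
  obtain ⟨k, hk, hke⟩ := P.conj_eq_normalizer_conj_of_mem x (⟨a, ha⟩ : alternatingGroup (Fin n))⁻¹ hxP (by
    rw [inv_inv, hax']; exact inv_mem hxP)
  rw [inv_inv, hax'] at hke
  -- `k` inverts `x`
  set K : Subgroup.normalizer ((P : Subgroup (alternatingGroup (Fin n))) : Set (alternatingGroup (Fin n))) := ⟨k, hk⟩
  have hkx : k * x * k⁻¹ = x⁻¹ := by
    have h' := congrArg (fun y => k * y⁻¹ * k⁻¹) hke
    simpa [mul_assoc] using h'
  have hpow : ∀ j : ℕ, k ^ j * x * (k ^ j)⁻¹ = if Even j then x else x⁻¹ := by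
    intro j
    induction j with
    | zero => simp
    | succ j ih =>
      rw [pow_succ', _root_.mul_inv_rev, show k * k ^ j * x * ((k ^ j)⁻¹ * k⁻¹) =
        k * (k ^ j * x * (k ^ j)⁻¹) * k⁻¹ by group, ih]
      by_cases hj : Even j
      · rw [if_pos hj, if_neg (Nat.even_add_one.not.2 (not_not.2 hj)), hkx]
      · rw [if_neg hj, if_pos (Nat.even_add_one.2 hj),
          show k * x⁻¹ * k⁻¹ = (k * x * k⁻¹)⁻¹ by group, hkx, inv_inv]
  set o := orderOf (QuotientGroup.mk' C K)
  have ho : K ^ o ∈ C := by
    rw [← QuotientGroup.eq_one_iff, QuotientGroup.mk_pow]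
    exact pow_orderOf_eq_one _
  have hev : Even o := by
    by_contra hne
    have h := hpow o
    rw [if_neg hne] at h
    have hc : k ^ o * x = x * k ^ o := ((Subgroup.mem_centralizer_iff.1 (Subgroup.mem_subgroupOf.1 ho)) x hxP).symm
    rw [hc, mul_inv_cancel_right] at h
    have h2 : x ^ 2 = 1 := by rw [sq]; exact mul_eq_one_iff_eq_inv.2 h
    have := orderOf_dvd_of_pow_eq_one h2
    rw [hx] at this
    exact hodd ((Nat.prime_dvd_prime_iff_eq hp.out Nat.prime_two).1 this)
  exact (even_iff_two_dvd.1 hev).trans (orderOf_dvd_natCard _)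

/-- A dihedral group of order eight inside `A₆`. -/
def eight : Finset (Perm (Fin 6)) :=
  (Finset.range 4 ×ˢ Finset.range 2).image fun ij =>
    (swap 0 1 * swap 1 2 * swap 2 3 * swap 4 5) ^ ij.1 * (swap 0 2 * swap 4 5) ^ ij.2

theorem eight_mul : ∀ a ∈ eight, ∀ b ∈ eight, a * b ∈ eight := by decide +kernel
theorem eight_inv : ∀ a ∈ eight, a⁻¹ ∈ eight := by decide +kernel
theorem eight_one : (1 : Perm (Fin 6)) ∈ eight := by decide +kernel
theorem eight_alt : ∀ a ∈ eight, Perm.sign a = 1 := by decide +kernel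
theorem eight_card : eight.card = 8 := by decide +kernel
theorem eight_nonabelian : ∃ a ∈ eight, ∃ b ∈ eight, a * b ≠ b * a := by decide +kernel

/-- The subgroup. -/
def D : Subgroup (Perm (Fin 6)) where
  carrier := eight
  mul_mem' ha hb := eight_mul _ ha _ hb
  one_mem' := eight_one
  inv_mem' ha := eight_inv _ ha

theorem not_abelian_two (hn : 6 ≤ n) (P : Sylow 2 (alternatingGroup (Fin n))) :
    ¬ IsMulCommutative (P : Subgroup (alternatingGroup (Fin n))) := by
  classical
  haveI : Fact (Nat.Prime 2) := ⟨Nat.prime_two⟩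
  intro hP
  let E : Perm (Fin 6) →* Perm (Fin n) := Perm.viaEmbeddingHom (Fin.castLEEmb hn)
  have hsign : ∀ a, Perm.sign (E a) = Perm.sign a := fun a => by
    have e : E a = Perm.viaEmbedding a (Fin.castLEEmb hn) := rfl
    rw [e, Perm.viaEmbedding]
    convert Perm.sign_extendDomain a _
  let φ : D →* alternatingGroup (Fin n) := (E.comp D.subtype).codRestrict _ fun a =>
    Perm.mem_alternatingGroup.2 ((hsign _).trans (eight_alt _ a.2))
  have hD : IsPGroup 2 D := IsPGroup.of_card (n := 3) (by
    rw [show Nat.card D = Nat.card {a // a ∈ eight} from rfl, Nat.card_eq_fintype_card, Fintype.card_coe, eight_card]; rfl)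
  obtain ⟨Q, hQ⟩ := (hD.of_surjective φ.rangeRestrict φ.rangeRestrict_surjective).exists_le_sylow
  obtain ⟨g, rfl⟩ := MulAction.exists_smul_eq (alternatingGroup (Fin n)) P Q
  obtain ⟨a, ha, b, hb, hab⟩ := eight_nonabelian
  obtain ⟨u, huP, hu⟩ := hQ ⟨⟨a, ha⟩, rfl⟩
  obtain ⟨v, hvP, hv⟩ := hQ ⟨⟨b, hb⟩, rfl⟩
  have huv : u * v = v * u := congrArg Subtype.val (hP.is_comm.comm ⟨u, huP⟩ ⟨v, hvP⟩)
  have h1 : φ (⟨a, ha⟩ * ⟨b, hb⟩) = φ (⟨b, hb⟩ * ⟨a, ha⟩) := by
    rw [map_mul, map_mul, ← hu, ← hv]
    change MulAut.conj g u * MulAut.conj g v = MulAut.conj g v * MulAut.conj g u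
    rw [← map_mul, ← map_mul, huv]
  have hinj : Function.Injective φ := fun x y h =>
    Subtype.ext (Perm.viaEmbeddingHom_injective _ (congrArg Subtype.val h))
  exact hab (congrArg Subtype.val (hinj h1))

theorem even_or_cyclic (n : ℕ) (hn : 5 ≤ n) {p : ℕ} [hp : Fact p.Prime] (P : Sylow p (alternatingGroup (Fin n)))
    (hP : IsMulCommutative (P : Subgroup (alternatingGroup (Fin n)))) (hne : ¬ (n = 5 ∧ p = 2)) :
    2 ∣ ((Subgroup.centralizer ((P : Subgroup (alternatingGroup (Fin n))) : Set (alternatingGroup (Fin n)))).subgroupOf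
      (Subgroup.normalizer ((P : Subgroup (alternatingGroup (Fin n))) : Set (alternatingGroup (Fin n))))).index ∨
      IsCyclic (P : Subgroup (alternatingGroup (Fin n))) := by
  by_cases h2 : p = 2
  · subst h2
    exact absurd hP (not_abelian_two (by omega) P)
  by_cases hpn : p + 2 ≤ n
  · exact Or.inl (even_of_real h2 hpn P hP)
  · have := hp.out.two_le
    exact Or.inr (cyclic_of_small (by omega) P)

theorem five_sq : ∀ a : Perm (Fin 5), Perm.sign a = 1 → a ^ 4 = 1 → a ^ 2 = 1 := by decide +kernel

set_option synthInstance.maxSize 1000 in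
set_option synthInstance.maxHeartbeats 400000 in
theorem five_pair : ∀ a b : Perm (Fin 5), Perm.sign a = 1 → a * a = 1 → a ≠ 1 → Perm.sign b = 1 → b * b = 1 → b ≠ 1 →
    a ≠ b → a * b = b * a →
    (Finset.univ.filter fun g : Perm (Fin 5) => Perm.sign g = 1 ∧ g * a = a * g ∧ g * b = b * g).card = 4 ∧
    (Finset.univ.filter fun g : Perm (Fin 5) => Perm.sign g = 1 ∧ g * a * g⁻¹ ∈ ({1, a, b, a * b} : Finset _) ∧
      g * b * g⁻¹ ∈ ({1, a, b, a * b} : Finset _)).card = 12 := by decide +kernel

theorem five (P : Sylow 2 (alternatingGroup (Fin 5))) :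
    ((Subgroup.centralizer ((P : Subgroup (alternatingGroup (Fin 5))) : Set (alternatingGroup (Fin 5)))).subgroupOf
      (Subgroup.normalizer ((P : Subgroup (alternatingGroup (Fin 5))) : Set (alternatingGroup (Fin 5))))).index = 3 ∧
      IsKleinFour (P : Subgroup (alternatingGroup (Fin 5))) := by
  classical
  haveI : Fact (Nat.Prime 2) := ⟨Nat.prime_two⟩
  have hcard : Nat.card (P : Subgroup (alternatingGroup (Fin 5))) = 4 := by
    rw [show Nat.card (P : Subgroup (alternatingGroup (Fin 5))) = Nat.card P from rfl, Sylow.card_eq_multiplicity,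
      nat_card_alternatingGroup, Nat.card_fin]
    have : Nat.factorial 5 / 2 = 2 ^ 2 * 15 := by decide
    rw [this, Nat.factorization_mul_apply_of_coprime (by decide), Nat.prime_two.factorization_pow,
      Finsupp.single_eq_same, Nat.factorization_eq_zero_of_not_dvd (by decide)]
    norm_num
  have hsq : ∀ u : (P : Subgroup (alternatingGroup (Fin 5))), u * u = 1 := fun u => by
    have h4 : u ^ 4 = 1 := by rw [← hcard]; exact pow_card_eq_one'
    refine Subtype.ext (Subtype.ext ?_)
    have := five_sq ((u : alternatingGroup (Fin 5)) : Perm (Fin 5)) (u : alternatingGroup (Fin 5)).2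
      (by
        have := congrArg (fun z : ↥(P : Subgroup (alternatingGroup (Fin 5))) => ((z : alternatingGroup (Fin 5)) : Perm (Fin 5))) h4
        simpa using this)
    rwa [sq] at this
  have hKF : IsKleinFour (P : Subgroup (alternatingGroup (Fin 5))) := by
    refine ⟨hcard, ?_⟩
    have hd : Monoid.exponent (P : Subgroup (alternatingGroup (Fin 5))) ∣ 2 :=
      Monoid.exponent_dvd_of_forall_pow_eq_one fun u => by rw [sq]; exact hsq u
    rcases (Nat.dvd_prime Nat.prime_two).1 hd with h | h
    · rw [Monoid.exp_eq_one_iff] at h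
      rw [Nat.card_eq_one_iff_unique.2 ⟨h, ⟨1⟩⟩] at hcard
      exact absurd hcard (by norm_num)
    · exact h
  refine ⟨?_, hKF⟩
  obtain ⟨a, ha⟩ : ∃ a : (P : Subgroup (alternatingGroup (Fin 5))), a ≠ 1 := by
    by_contra h
    push Not at h
    rw [Nat.card_eq_one_iff_unique.2 ⟨⟨fun x y => (h x).trans (h y).symm⟩, ⟨1⟩⟩] at hcard
    exact absurd hcard (by norm_num)
  obtain ⟨b, hb, hba⟩ : ∃ b : (P : Subgroup (alternatingGroup (Fin 5))), b ≠ 1 ∧ b ≠ a := by
    by_contra h
    push Not at h
    have hle : Nat.card (P : Subgroup (alternatingGroup (Fin 5))) ≤ 2 := by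
      rw [Nat.card_eq_fintype_card, ← Finset.card_univ]
      refine (Finset.card_le_card (t := {1, a}) fun y _ => ?_).trans Finset.card_le_two
      simp only [Finset.mem_insert, Finset.mem_singleton]
      exact or_iff_not_imp_left.2 fun hy => h y hy
    omega
  let v : ↥(P : Subgroup (alternatingGroup (Fin 5))) → Perm (Fin 5) := fun u => ((u : alternatingGroup (Fin 5)) : Perm (Fin 5))
  have hv : Function.Injective v := Subtype.val_injective.comp Subtype.val_injective
  have hcomm : a * b = b * a := by
    have h1 := inv_eq_of_mul_eq_one_right (hsq (a * b))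
    rw [_root_.mul_inv_rev, inv_eq_of_mul_eq_one_right (hsq a), inv_eq_of_mul_eq_one_right (hsq b)] at h1
    exact h1.symm
  obtain ⟨hc, hn⟩ := five_pair (v a) (v b) (a : alternatingGroup (Fin 5)).2 (congrArg v (hsq a))
    (fun h => ha (hv h)) (b : alternatingGroup (Fin 5)).2 (congrArg v (hsq b)) (fun h => hb (hv h))
    (fun h => hba (hv h).symm) (congrArg v hcomm)
  have hall : ∀ u : (P : Subgroup (alternatingGroup (Fin 5))), u = 1 ∨ u = a ∨ u = b ∨ u = a * b := by
    haveI := hKF
    have h4 : ({1, a, b, a * b} : Finset (P : Subgroup (alternatingGroup (Fin 5)))) = Finset.univ := by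
      refine Finset.eq_univ_of_card _ ?_
      rw [← Nat.card_eq_fintype_card, hcard, Finset.card_insert_of_notMem, Finset.card_insert_of_notMem,
        Finset.card_insert_of_notMem, Finset.card_singleton]
      · simp [ha]
      · simp [hba.symm, hb]
      · simp only [Finset.mem_insert, Finset.mem_singleton, not_or]
        refine ⟨Ne.symm ha, Ne.symm hb, fun h => hba ?_⟩
        rw [eq_comm, mul_eq_one_iff_eq_inv, inv_eq_of_mul_eq_one_right (hsq b)] at h
        exact h.symm
    intro u
    have := h4 ▸ Finset.mem_univ u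
    simpa using this
  have hmem : ∀ y : alternatingGroup (Fin 5), y ∈ (P : Subgroup (alternatingGroup (Fin 5))) ↔
      (y : Perm (Fin 5)) ∈ ({1, v a, v b, v a * v b} : Finset (Perm (Fin 5))) := by
    intro y
    constructor
    · intro hy
      rcases hall ⟨y, hy⟩ with h | h | h | h <;>
        (have h' := congrArg v h; simp only [Finset.mem_insert, Finset.mem_singleton]; simp [v] at h' ⊢; simp [h'])
    · intro hy
      simp only [Finset.mem_insert, Finset.mem_singleton] at hy
      rcases hy with h | h | h | h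
      · rw [show y = 1 from Subtype.ext h]; exact one_mem _
      · rw [show y = a from Subtype.ext h]; exact a.2
      · rw [show y = b from Subtype.ext h]; exact b.2
      · rw [show y = a * b from Subtype.ext h]; exact mul_mem a.2 b.2
  have eC : Nat.card (Subgroup.centralizer ((P : Subgroup (alternatingGroup (Fin 5))) : Set (alternatingGroup (Fin 5)))) = 4 := by
    rw [← hc, ← Fintype.card_coe, ← Nat.card_eq_fintype_card]
    refine Nat.card_congr
      { toFun := fun g => ⟨(g.1 : Perm (Fin 5)), Finset.mem_filter.2 ⟨Finset.mem_univ _, g.1.2,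
          (congrArg Subtype.val (Subgroup.mem_centralizer_iff.1 g.2 a a.2)).symm,
          (congrArg Subtype.val (Subgroup.mem_centralizer_iff.1 g.2 b b.2)).symm⟩⟩
        invFun := fun g => ⟨⟨g.1, (Finset.mem_filter.1 g.2).2.1⟩, Subgroup.mem_centralizer_iff.2 fun y hy => by
          obtain ⟨-, -, h1, h2⟩ := Finset.mem_filter.1 g.2
          refine Subtype.ext ?_
          show (y : Perm (Fin 5)) * g.1 = g.1 * y
          have := (hmem y).1 hy
          simp only [Finset.mem_insert, Finset.mem_singleton] at this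
          rcases this with h | h | h | h <;> rw [h]
          · simp
          · exact h1.symm
          · exact h2.symm
          · rw [mul_assoc, ← h2, ← mul_assoc, ← h1, mul_assoc]⟩
        left_inv := fun g => rfl
        right_inv := fun g => rfl }
  have eN : Nat.card (Subgroup.normalizer ((P : Subgroup (alternatingGroup (Fin 5))) : Set (alternatingGroup (Fin 5)))) = 12 := by
    rw [← hn, ← Fintype.card_coe, ← Nat.card_eq_fintype_card]
    refine Nat.card_congr
      { toFun := fun g => ⟨(g.1 : Perm (Fin 5)), Finset.mem_filter.2 ⟨Finset.mem_univ _, g.1.2,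
          (hmem (g.1 * a * g.1⁻¹)).1 ((Subgroup.mem_normalizer_iff.1 g.2 a).1 a.2),
          (hmem (g.1 * b * g.1⁻¹)).1 ((Subgroup.mem_normalizer_iff.1 g.2 b).1 b.2)⟩⟩
        invFun := fun g => ⟨⟨g.1, (Finset.mem_filter.1 g.2).2.1⟩, by
          obtain ⟨-, hs, h1, h2⟩ := Finset.mem_filter.1 g.2
          set G : alternatingGroup (Fin 5) := ⟨g.1, hs⟩
          have k1 : G * a * G⁻¹ ∈ (P : Subgroup (alternatingGroup (Fin 5))) := (hmem _).2 h1
          have k2 : G * b * G⁻¹ ∈ (P : Subgroup (alternatingGroup (Fin 5))) := (hmem _).2 h2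
          have hmap : ∀ y ∈ (P : Subgroup (alternatingGroup (Fin 5))), G * y * G⁻¹ ∈ (P : Subgroup (alternatingGroup (Fin 5))) := by
            intro y hy
            rcases hall ⟨y, hy⟩ with h | h | h | h <;> have h' := congrArg Subtype.val h <;> simp at h'
            · subst h'; simpa using one_mem _
            · subst h'; exact k1
            · subst h'; exact k2
            · subst h'
              have := mul_mem k1 k2
              simpa [mul_assoc] using this
          refine Subgroup.mem_normalizer_iff.2 fun y => ⟨hmap y, fun hy => ?_⟩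
          have hinj : Function.Injective (fun z : ↥(P : Subgroup (alternatingGroup (Fin 5))) =>
            (⟨G * z * G⁻¹, hmap z z.2⟩ : ↥(P : Subgroup (alternatingGroup (Fin 5))))) := fun z z' h => Subtype.ext (by
              simpa using congrArg Subtype.val h)
          obtain ⟨⟨z, hz⟩, he⟩ := Finite.injective_iff_surjective.1 hinj ⟨_, hy⟩
          have he' := congrArg Subtype.val he
          simp only [mul_left_inj, mul_right_inj] at he'
          rwa [← he']⟩
        left_inv := fun g => rfl
        right_inv := fun g => rfl }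
  have hle : Subgroup.centralizer ((P : Subgroup (alternatingGroup (Fin 5))) : Set (alternatingGroup (Fin 5))) ≤
      Subgroup.normalizer ((P : Subgroup (alternatingGroup (Fin 5))) : Set (alternatingGroup (Fin 5))) :=
    Subgroup.centralizer_le_normalizer _
  have hm := Subgroup.index_mul_card ((Subgroup.centralizer ((P : Subgroup (alternatingGroup (Fin 5))) : Set (alternatingGroup (Fin 5)))).subgroupOf
    (Subgroup.normalizer ((P : Subgroup (alternatingGroup (Fin 5))) : Set (alternatingGroup (Fin 5)))))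
  rw [Nat.card_congr (Subgroup.subgroupOfEquivOfLe hle).toEquiv, eC, eN] at hm
  omega

end Cfsg.Lib.AltAutomizer
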