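import Cfsg.Agent.Known.SylowTwoUnique

/-! Sylow 2-subgroups of `S_n`, and of `A_n` for `n ≥ 6`, are self-normalizing. -/

set_option autoImplicit false

open Equiv Equiv.Perm
open scoped Pointwise

namespace Cfsg.Lib.Known.SylowTwoMax

variable {α : Type*} [DecidableEq α] [Fintype α]

theorem swap_unique (P : Sylow 2 (Perm α)) {x y z : α} (hxy : x ≠ y) (hxz : x ≠ z)
    (h1 : swap x y ∈ (P : Subgroup (Perm α))) (h2 : swap x z ∈ (P : Subgroup (Perm α))) : y = z := by
  by_contra hyz
  have h3 := isThreeCycle_swap_mul_swap_same hxy hxz hyz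
  haveI : Fact (Nat.Prime 2) := ⟨Nat.prime_two⟩
  obtain ⟨j, hj⟩ := P.isPGroup'.exists_card_eq
  have h5 : orderOf (⟨_, mul_mem h1 h2⟩ : ↥(P : Subgroup (Perm α))) = 3 := by
    rw [Subgroup.orderOf_mk, h3.orderOf]
  have h6 : 3 ∣ 2 ^ j := by rw [← h5, ← hj]; exact orderOf_dvd_natCard _
  exact absurd ((Nat.prime_dvd_prime_iff_eq Nat.prime_three Nat.prime_two).1
    (Nat.prime_three.dvd_of_dvd_pow h6)) (by norm_num)

/-- Permutations preserving a set. -/
def keep (U : Set α) : Subgroup (Perm α) where
  carrier := {g | ∀ x, g x ∈ U ↔ x ∈ U}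
  one_mem' := fun _ => Iff.rfl
  mul_mem' := fun {g h} hg hh x => (hg (h x)).trans (hh x)
  inv_mem' := fun {g} hg x => by rw [← hg (g⁻¹ x), papply_inv]

/-- The pairing of the points given by the transpositions of a Sylow 2-subgroup. -/
theorem exists_pairing (P : Sylow 2 (Perm α)) :
    ∃ pr : α → α, (∀ x, pr (pr x) = x) ∧ (∀ x, swap x (pr x) ∈ (P : Subgroup (Perm α))) ∧
      (∀ x y, x ≠ y → swap x y ∈ (P : Subgroup (Perm α)) → pr x = y) ∧
      (∀ a b, pr a = a → pr b = b → a = b) := by
  classical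
  haveI : Fact (Nat.Prime 2) := ⟨Nat.prime_two⟩
  let pr : α → α := fun x =>
    if h : ∃ y, x ≠ y ∧ swap x y ∈ (P : Subgroup (Perm α)) then h.choose else x
  have hu : ∀ x y, x ≠ y → swap x y ∈ (P : Subgroup (Perm α)) → pr x = y := by
    intro x y hxy h
    have he : ∃ y, x ≠ y ∧ swap x y ∈ (P : Subgroup (Perm α)) := ⟨y, hxy, h⟩
    simp only [pr, dif_pos he]
    exact swap_unique P he.choose_spec.1 hxy he.choose_spec.2 h
  have hs : ∀ x, swap x (pr x) ∈ (P : Subgroup (Perm α)) := by
    intro x
    by_cases he : ∃ y, x ≠ y ∧ swap x y ∈ (P : Subgroup (Perm α))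
    · simp only [pr, dif_pos he]; exact he.choose_spec.2
    · simp only [pr, dif_neg he, swap_self]; exact one_mem _
  refine ⟨pr, fun x => ?_, hs, hu, fun a b ha hb => ?_⟩
  · by_cases h : pr x = x
    · rw [h, h]
    · exact hu _ _ h (by rw [swap_comm]; exact hs x)
  · by_contra hab
    -- a transposition of two unpaired points would be conjugate into `P`
    set U : Set α := {x | pr x ≠ x} with hU
    have hPU : (P : Subgroup (Perm α)) ≤ keep U := by
      have key : ∀ g ∈ (P : Subgroup (Perm α)), ∀ x, x ∈ U → g x ∈ U := by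
        intro g hg x hx
        have h1 : swap (g x) (g (pr x)) ∈ (P : Subgroup (Perm α)) := by
          rw [swap_apply_apply]; exact mul_mem (mul_mem hg (hs x)) (inv_mem hg)
        have h2 := hu (g x) (g (pr x)) (fun e => hx (g.injective e).symm) h1
        show pr (g x) ≠ g x
        rw [h2]
        exact fun e => hx (g.injective e)
      intro g hg x
      refine ⟨fun h => ?_, key g hg x⟩
      have := key g⁻¹ (inv_mem hg) _ h
      rwa [pinv_apply] at this
    have hsab : swap a b ∈ keep U := by
      intro x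
      rw [swap_apply_def]
      split_ifs with h1 h2
      · subst h1; simp [hU, ha, hb]
      · subst h2; simp [hU, ha, hb]
      · rfl
    have hT : IsPGroup 2 ↥(Subgroup.zpowers (⟨swap a b, hsab⟩ : ↥(keep U))) := by
      refine IsPGroup.of_card (n := 1) ?_
      rw [Nat.card_zpowers, pow_one, Subgroup.orderOf_mk]
      exact orderOf_eq_prime (by rw [pow_two, swap_mul_self]) (fun h => hab (Equiv.swap_eq_one_iff.1 h))
    obtain ⟨Q, hQ⟩ := hT.exists_le_sylow
    obtain ⟨c, hc⟩ := MulAction.exists_smul_eq ↥(keep U) Q (P.subtype hPU)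
    have h1 : MulAut.conj c • (⟨swap a b, hsab⟩ : ↥(keep U)) ∈ MulAut.conj c • (Q : Subgroup ↥(keep U)) :=
      Subgroup.smul_mem_pointwise_smul _ _ _ (hQ (Subgroup.mem_zpowers _))
    have h2 : MulAut.conj c • (⟨swap a b, hsab⟩ : ↥(keep U)) ∈ (P.subtype hPU : Subgroup ↥(keep U)) := by
      rw [← hc]; exact h1
    rw [Sylow.coe_subtype, Subgroup.mem_subgroupOf] at h2
    change (c : Perm α) * swap a b * (c : Perm α)⁻¹ ∈ (P : Subgroup (Perm α)) at h2
    rw [← swap_apply_apply] at h2
    have h3 := hu _ _ (fun e => hab ((c : Perm α).injective e)) h2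
    have h4 : (c : Perm α) a ∈ U := by
      show pr _ ≠ _
      rw [h3]
      exact fun e => hab ((c : Perm α).injective e).symm
    exact ((c.2 a).1 h4) ha

/-- Permutations commuting with the pairing. -/
def pairAut (pr : α → α) : Subgroup (Perm α) where
  carrier := {g | ∀ x, g (pr x) = pr (g x)}
  one_mem' := fun _ => rfl
  mul_mem' := fun {g h} hg hh x => by simp only [mul_apply]; rw [hh, hg]
  inv_mem' := fun {g} hg x => g.injective (by rw [papply_inv, hg, papply_inv])

theorem normalizer_le_pairAut (P : Sylow 2 (Perm α)) {pr : α → α}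
    (hs : ∀ x, swap x (pr x) ∈ (P : Subgroup (Perm α)))
    (hu : ∀ x y, x ≠ y → swap x y ∈ (P : Subgroup (Perm α)) → pr x = y) :
    Subgroup.normalizer ((P : Subgroup (Perm α)) : Set (Perm α)) ≤ pairAut pr := by
  intro g hg x
  have h1 : swap (g x) (g (pr x)) ∈ (P : Subgroup (Perm α)) := by
    rw [swap_apply_apply]; exact (Subgroup.mem_normalizer_iff.1 hg _).1 (hs x)
  by_cases hx : pr x = x
  · rw [hx]
    by_contra hne
    have h3 : swap (g x) (pr (g x)) ∈ (P : Subgroup (Perm α)) := hs _
    have h4 : swap x (g⁻¹ (pr (g x))) ∈ (P : Subgroup (Perm α)) := by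
      have h5 : swap (g⁻¹ (g x)) (g⁻¹ (pr (g x))) ∈ (P : Subgroup (Perm α)) := by
        rw [swap_apply_apply]; exact (Subgroup.mem_normalizer_iff.1 (inv_mem hg) _).1 h3
      rwa [pinv_apply] at h5
    have h6 := hu _ _ (fun e => hne (by conv_lhs => rw [e, papply_inv])) h4
    rw [hx] at h6
    exact hne (by conv_lhs => rw [h6, papply_inv])
  · exact (hu _ _ (fun e => hx (g.injective e).symm) h1).symm

/-- Permutations fixing every pair lie in the Sylow subgroup. -/
theorem mem_of_fix_pairs (P : Sylow 2 (Perm α)) {pr : α → α} (hinv : ∀ x, pr (pr x) = x)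
    (hs : ∀ x, swap x (pr x) ∈ (P : Subgroup (Perm α))) : ∀ (m : ℕ) (g : Perm α), g.support.card = m →
    (∀ x, g x = x ∨ g x = pr x) → g ∈ (P : Subgroup (Perm α)) := by
  intro m
  induction m using Nat.strong_induction_on with
  | _ m ih =>
    intro g hm hg
    by_cases h : ∃ x, g x ≠ x
    · obtain ⟨x, hx⟩ := h
      have hgx : g x = pr x := (hg x).resolve_left hx
      have hgp : g (pr x) = x := by
        rcases hg (pr x) with h | h
        · exact absurd (g.injective (h.trans hgx.symm)) (fun e => hx (hgx.trans e))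
        · rw [h, hinv]
      set g' := swap x (pr x) * g with hg'
      have h1 : g' x = x := by rw [hg', mul_apply, hgx, swap_apply_right]
      have h2 : g' (pr x) = pr x := by rw [hg', mul_apply, hgp, swap_apply_left]
      have h3 : ∀ z, z ≠ x → z ≠ pr x → g' z = g z := fun z a b => by
        rw [hg', mul_apply, swap_apply_of_ne_of_ne (fun e => b (g.injective (e.trans hgp.symm)))
          (fun e => a (g.injective (e.trans hgx.symm)))]
      have hg'pair : ∀ z, g' z = z ∨ g' z = pr z := by
        intro z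
        by_cases a : z = x
        · exact Or.inl (a ▸ h1)
        by_cases b : z = pr x
        · exact Or.inl (b ▸ h2)
        rw [h3 z a b]; exact hg z
      have hlt : g'.support.card < m := by
        rw [← hm]
        refine Finset.card_lt_card ((Finset.ssubset_iff_of_subset fun z hz => ?_).2 ⟨x, mem_support.2 hx, ?_⟩)
        · rw [mem_support] at hz ⊢
          by_cases a : z = x
          · exact absurd (a ▸ h1) hz
          by_cases b : z = pr x
          · exact absurd (b ▸ h2) hz
          rwa [← h3 z a b]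
        · rw [mem_support, not_not]; exact h1
      have := ih _ hlt g' rfl hg'pair
      have h4 := mul_mem (hs x) this
      rwa [hg', ← mul_assoc, swap_mul_self, one_mul] at h4
    · push_neg at h
      rw [show g = 1 from Equiv.ext h]
      exact one_mem _

theorem selfNorm_aux : ∀ (m : ℕ) (γ : Type) [LinearOrder γ] [Fintype γ], Fintype.card γ = m →
    ∀ (P : Sylow 2 (Perm γ)) (g : Perm γ),
      g ∈ Subgroup.normalizer ((P : Subgroup (Perm γ)) : Set (Perm γ)) → g ∈ (P : Subgroup (Perm γ)) := by
  intro m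
  induction m using Nat.strong_induction_on with
  | _ m ih =>
    intro γ _ _ hm P g hg
    haveI : Fact (Nat.Prime 2) := ⟨Nat.prime_two⟩
    rcases Nat.lt_or_ge (Fintype.card γ) 2 with h | h
    · haveI : Subsingleton γ := Fintype.card_le_one_iff_subsingleton.1 (by omega)
      rw [Subsingleton.elim g 1]
      exact one_mem _
    obtain ⟨pr, hinv, hs, hu, hfix⟩ := exists_pairing P
    let β := {x : γ // x < pr x}
    have hne : ∀ x, ¬ x < pr x → pr x ≠ x → pr x < pr (pr x) := fun x a b => by
      rw [hinv]; exact lt_of_le_of_ne (not_lt.1 a) b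
    let π : ∀ x : γ, pr x ≠ x → β := fun x hx => if h : x < pr x then ⟨x, h⟩ else ⟨pr x, hne x h hx⟩
    have hπ : ∀ x hx, (π x hx).1 = x ∨ (π x hx).1 = pr x := fun x hx => by
      simp only [π]; split_ifs <;> simp
    have hπeq : ∀ (b : β) (x : γ) hx, (x = b.1 ∨ x = pr b.1) → π x hx = b := by
      rintro ⟨b, hb⟩ x hx (rfl | rfl)
      · exact Subtype.ext (by simp only [π, dif_pos hb])
      · refine Subtype.ext ?_
        simp only [π]
        rw [dif_neg (by rw [hinv]; exact not_lt.2 hb.le)]
        exact hinv b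
    have hb0 : ∀ b : β, pr b.1 ≠ b.1 := fun b e => lt_irrefl _ (lt_of_lt_of_eq b.2 e)
    have hmv : ∀ (k : ↥(pairAut pr)) (b : β), pr ((k : Perm γ) b.1) ≠ (k : Perm γ) b.1 := fun k b e => by
      rw [← k.2 b.1] at e
      exact hb0 b ((k : Perm γ).injective e)
    let act : ↥(pairAut pr) → β → β := fun k b => π ((k : Perm γ) b.1) (hmv k b)
    have hact : ∀ (k : ↥(pairAut pr)) (b : β), (act k b).1 = (k : Perm γ) b.1 ∨ (act k b).1 = pr ((k : Perm γ) b.1) :=
      fun k b => hπ _ (hmv k b)
    have hact_mul : ∀ k k', ∀ b, act (k * k') b = act k (act k' b) := by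
      intro k k' b
      refine hπeq _ _ (hmv (k * k') b) ?_
      rcases hact k (act k' b) with e | e <;> rcases hact k' b with e' | e' <;> rw [e, e']
      · exact Or.inl rfl
      · right; show (k : Perm γ) ((k' : Perm γ) b.1) = pr ((k : Perm γ) (pr ((k' : Perm γ) b.1)))
        rw [k.2, hinv]
      · right; show (k : Perm γ) ((k' : Perm γ) b.1) = pr (pr ((k : Perm γ) ((k' : Perm γ) b.1)))
        rw [hinv]
      · left; show (k : Perm γ) ((k' : Perm γ) b.1) = pr ((k : Perm γ) (pr ((k' : Perm γ) b.1)))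
        rw [k.2, hinv]
    have hact_one : ∀ b, act 1 b = b := fun b => hπeq b _ (hmv 1 b) (Or.inl rfl)
    let ψ : ↥(pairAut pr) →* Perm β :=
      { toFun := fun k => ⟨act k, act k⁻¹, fun b => by rw [← hact_mul, inv_mul_cancel, hact_one],
          fun b => by rw [← hact_mul, mul_inv_cancel, hact_one]⟩
        map_one' := Equiv.ext hact_one
        map_mul' := fun k k' => Equiv.ext (hact_mul k k') }
    have hsurj : Function.Surjective ψ := by
      intro σ
      let f : Perm β → γ → γ := fun σ x => if h : x < pr x then (σ ⟨x, h⟩).1 else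
        if h' : pr x < pr (pr x) then pr (σ ⟨pr x, h'⟩).1 else x
      have f1 : ∀ σ (b : β), f σ b.1 = (σ b).1 := fun σ b => by simp only [f, dif_pos b.2, Subtype.coe_eta]
      have f2 : ∀ σ (b : β), f σ (pr b.1) = pr (σ b).1 := fun σ b => by
        simp only [f, hinv]
        rw [dif_neg (not_lt.2 b.2.le), dif_pos b.2]
      have f3 : ∀ σ x, pr x = x → f σ x = x := fun σ x hx => by
        simp only [f]
        rw [dif_neg (by rw [hx]; exact lt_irrefl _), dif_neg (by rw [hx, hx]; exact lt_irrefl _)]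
      have cases3 : ∀ x : γ, (∃ b : β, x = b.1) ∨ (∃ b : β, x = pr b.1) ∨ pr x = x := fun x => by
        rcases lt_trichotomy x (pr x) with a | a | a
        · exact Or.inl ⟨⟨x, a⟩, rfl⟩
        · exact Or.inr (Or.inr a.symm)
        · exact Or.inr (Or.inl ⟨⟨pr x, by rw [hinv]; exact a⟩, (hinv x).symm⟩)
      have fcomp : ∀ σ τ x, f σ (f τ x) = f (σ * τ) x := fun σ τ x => by
        rcases cases3 x with ⟨b, rfl⟩ | ⟨b, rfl⟩ | hx
        · rw [f1, f1, f1]; rfl
        · rw [f2, f2, f2]; rfl
        · rw [f3 τ x hx, f3 σ x hx, f3 _ x hx]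
      have fone : ∀ x, f 1 x = x := fun x => by
        rcases cases3 x with ⟨b, rfl⟩ | ⟨b, rfl⟩ | hx
        exacts [f1 1 b, f2 1 b, f3 1 x hx]
      let k : Perm γ := ⟨f σ, f σ⁻¹, fun x => by rw [fcomp, inv_mul_cancel, fone],
        fun x => by rw [fcomp, mul_inv_cancel, fone]⟩
      have hk : k ∈ pairAut pr := fun x => by
        show f σ (pr x) = pr (f σ x)
        rcases cases3 x with ⟨b, rfl⟩ | ⟨b, rfl⟩ | hx
        · rw [f1, f2]
        · rw [hinv, f1, f2, hinv]
        · rw [hx, f3 σ x hx, hx]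
      exact ⟨⟨k, hk⟩, Equiv.ext fun b => hπeq (σ b) _ (hmv ⟨k, hk⟩ b) (Or.inl (f1 σ b))⟩
    have hlt : Fintype.card β < m := by
      rw [← hm]
      obtain ⟨x, y, hxy⟩ := Fintype.exists_pair_of_one_lt_card (by omega : 1 < Fintype.card γ)
      obtain ⟨z, hz⟩ : ∃ z, pr z ≠ z := by
        by_contra hh; push_neg at hh; exact hxy (hfix x y (hh x) (hh y))
      refine Fintype.card_subtype_lt (x := if z < pr z then pr z else z) ?_
      split_ifs with h'
      · rw [hinv]; exact not_lt.2 h'.le
      · exact h'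
    have hgC : g ∈ pairAut pr := normalizer_le_pairAut P hs hu hg
    have hPC : (P : Subgroup (Perm γ)) ≤ pairAut pr :=
      Subgroup.le_normalizer.trans (normalizer_le_pairAut P hs hu)
    have himg := ih _ hlt β rfl ((P.subtype hPC).mapSurjective hsurj) (ψ ⟨g, hgC⟩) (by
      rw [Subgroup.mem_normalizer_iff]
      intro σ
      rw [Sylow.coe_mapSurjective, Sylow.coe_subtype]
      constructor
      · rintro ⟨k, hk, rfl⟩
        refine ⟨⟨g, hgC⟩ * k * ⟨g, hgC⟩⁻¹, ?_, by rw [map_mul, map_mul, map_inv]⟩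
        exact Subgroup.mem_subgroupOf.2 ((Subgroup.mem_normalizer_iff.1 hg _).1 (Subgroup.mem_subgroupOf.1 hk))
      · rintro ⟨k, hk, e⟩
        refine ⟨⟨g, hgC⟩⁻¹ * k * ⟨g, hgC⟩, ?_, ?_⟩
        · have := (Subgroup.mem_normalizer_iff.1 (inv_mem hg) _).1 (Subgroup.mem_subgroupOf.1 hk)
          rw [inv_inv] at this
          exact Subgroup.mem_subgroupOf.2 this
        · rw [map_mul, map_mul, map_inv, e]; group)
    rw [Sylow.coe_mapSurjective, Sylow.coe_subtype] at himg
    obtain ⟨p, hp, e⟩ := himg
    have hker : ∀ x, ((p⁻¹ * ⟨g, hgC⟩ : ↥(pairAut pr)) : Perm γ) x = x ∨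
        ((p⁻¹ * ⟨g, hgC⟩ : ↥(pairAut pr)) : Perm γ) x = pr x := by
      intro x
      set d : ↥(pairAut pr) := p⁻¹ * ⟨g, hgC⟩ with hd
      have hψ : ψ d = 1 := by rw [hd, map_mul, map_inv, e, inv_mul_cancel]
      have hdb : ∀ b : β, (d : Perm γ) b.1 = b.1 ∨ (d : Perm γ) b.1 = pr b.1 := fun b => by
        have h1 : act d b = b := congrFun (congrArg (fun q : Perm β => (q : β → β)) hψ) b
        rcases hact d b with e' | e' <;> rw [h1] at e'
        · exact Or.inl e'.symm
        · exact Or.inr ((hinv _).symm.trans (congrArg pr e'.symm))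
      rcases lt_trichotomy x (pr x) with a | a | a
      · exact hdb ⟨x, a⟩
      · left
        refine hfix _ _ ?_ a.symm
        rw [← d.2 x, ← a]
      · rcases hdb ⟨pr x, by rw [hinv]; exact a⟩ with e' | e'
        · left
          have := d.2 (pr x)
          rw [hinv, e', hinv] at this
          exact this
        · right
          have := d.2 (pr x)
          rw [hinv, e', hinv] at this
          exact this
    have := mul_mem (Subgroup.mem_subgroupOf.1 hp) (mem_of_fix_pairs P hinv hs _ _ rfl hker)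
    simpa [← mul_assoc] using this

theorem selfNorm {n : ℕ} (P : Sylow 2 (Perm (Fin n))) :
    Subgroup.normalizer ((P : Subgroup (Perm (Fin n))) : Set (Perm (Fin n))) = (P : Subgroup (Perm (Fin n))) :=
  le_antisymm (fun g hg => selfNorm_aux _ (Fin n) rfl P g hg) Subgroup.le_normalizer

/-- A double transposition in `P` whose first transposition is not in `P` moves two pairs. -/
theorem pair_in_double {P : Sylow 2 (Perm α)} {pr : α → α}
    (hs : ∀ x, swap x (pr x) ∈ (P : Subgroup (Perm α)))
    (hu : ∀ x y, x ≠ y → swap x y ∈ (P : Subgroup (Perm α)) → pr x = y)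
    {a b c d : α} (hab : a ≠ b) (ha : a ≠ c ∧ a ≠ d)
    (hx : swap a b * swap c d ∈ (P : Subgroup (Perm α))) (hnot : pr a ≠ b) : pr a = c ∨ pr a = d := by
  by_contra h
  push_neg at h
  set x := swap a b * swap c d
  have hxa : x a = b := by simp only [x, mul_apply]; rw [swap_apply_of_ne_of_ne ha.1 ha.2, swap_apply_left]
  have hxp : pr a ≠ a → x (pr a) = pr a := fun h0 => by
    simp only [x, mul_apply]; rw [swap_apply_of_ne_of_ne h.1 h.2, swap_apply_of_ne_of_ne h0 hnot]
  have hC : x (pr a) = pr (x a) := normalizer_le_pairAut P hs hu (Subgroup.le_normalizer hx) a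
  by_cases h0 : pr a = a
  · -- then `b` is unpaired as well
    rw [h0, hxa] at hC
    obtain ⟨q, hq1, hq2, hq3, hq4⟩ := exists_pairing P
    have e1 : q a = a := by
      by_contra hne
      exact hne ((hu a (q a) (Ne.symm hne) (hq2 a)).symm.trans h0)
    have e2 : q b = b := by
      by_contra hne
      exact hne ((hu b (q b) (Ne.symm hne) (hq2 b)).symm.trans hC.symm)
    exact hab (hq4 a b e1 e2)
  · rw [hxp h0, hxa] at hC
    have h1 : swap b (pr a) ∈ (P : Subgroup (Perm α)) := by rw [hC]; exact hs b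
    have h2 : swap (pr a) a ∈ (P : Subgroup (Perm α)) := by rw [swap_comm]; exact hs a
    rw [swap_comm] at h1
    exact hab (swap_unique P h0 hnot h2 h1)

/-- Sylow 2-subgroups of `A_n`, `n ≥ 6`, are self-normalizing. -/
theorem alt_selfNorm {n : ℕ} (hn : 6 ≤ n) (R : Sylow 2 ↥(alternatingGroup (Fin n))) :
    Subgroup.normalizer ((R : Subgroup ↥(alternatingGroup (Fin n))) : Set ↥(alternatingGroup (Fin n))) =
      (R : Subgroup ↥(alternatingGroup (Fin n))) := by
  refine le_antisymm ?_ Subgroup.le_normalizer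
  obtain ⟨P, hP⟩ := (R.isPGroup'.map (alternatingGroup (Fin n)).subtype).exists_le_sylow
  have hcomap : (P : Subgroup (Perm (Fin n))).subgroupOf (alternatingGroup (Fin n)) =
      (R : Subgroup ↥(alternatingGroup (Fin n))) :=
    R.is_maximal' (P.isPGroup'.comap_of_injective _ (alternatingGroup (Fin n)).subtype_injective)
      fun x hx => hP ⟨x, hx, rfl⟩
  obtain ⟨pr, hinv, hs, hu, hfix⟩ := exists_pairing P
  intro g hg
  have keyR : ∀ y ∈ (P : Subgroup (Perm (Fin n))), y ∈ alternatingGroup (Fin n) →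
      (g : Perm (Fin n)) * y * (g : Perm (Fin n))⁻¹ ∈ (P : Subgroup (Perm (Fin n))) := by
    intro y hy hyA
    have h1 := (Subgroup.mem_normalizer_iff.1 hg ⟨y, hyA⟩).1 (hcomap ▸ hy)
    rw [← hcomap] at h1
    exact h1
  have hconj : ∀ x, swap ((g : Perm (Fin n)) x) ((g : Perm (Fin n)) (pr x)) ∈ (P : Subgroup (Perm (Fin n))) := by
    intro x
    by_cases hx : pr x = x
    · rw [hx, swap_self]; exact one_mem _
    set a := (g : Perm (Fin n)) x
    set b := (g : Perm (Fin n)) (pr x)
    have hab : a ≠ b := fun e => hx ((g : Perm (Fin n)).injective e).symm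
    by_contra hnot
    have hnot' : pr a ≠ b := fun e => hnot (e ▸ hs a)
    have pickY : ∀ s : Finset (Fin n), s.card < n - 1 → ∃ y, y ∉ s ∧ pr y ≠ y := by
      intro s hs'
      obtain ⟨y, -, hy⟩ := Finset.exists_mem_notMem_of_card_lt_card
        (show s.card < (Finset.univ : Finset (Fin n)).card by rw [Finset.card_univ, Fintype.card_fin]; omega)
      by_cases hyf : pr y = y
      · obtain ⟨z, -, hz⟩ := Finset.exists_mem_notMem_of_card_lt_card
          (show (insert y s).card < (Finset.univ : Finset (Fin n)).card by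
            have := Finset.card_insert_le y s; rw [Finset.card_univ, Fintype.card_fin]; omega)
        simp only [Finset.mem_insert, not_or] at hz
        exact ⟨z, hz.2, fun e => hz.1 (hfix z y e hyf)⟩
      · exact ⟨y, hy, hyf⟩
    have bound : ∀ y, y ≠ x → y ≠ pr x → pr y ≠ y →
        pr a = (g : Perm (Fin n)) y ∨ pr a = (g : Perm (Fin n)) (pr y) := by
      intro y h1 h2 h3
      have hy1 : pr y ≠ x := fun e => h2 (by rw [← e, hinv])
      refine pair_in_double hs hu hab
        ⟨fun e => h1 ((g : Perm (Fin n)).injective e).symm, fun e => hy1 ((g : Perm (Fin n)).injective e).symm⟩ ?_ hnot'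
      have h4 := keyR (swap x (pr x) * swap y (pr y)) (mul_mem (hs x) (hs y)) (mem_alternatingGroup.2 (by
        rw [map_mul, sign_swap (Ne.symm hx), sign_swap (Ne.symm h3)]; rfl))
      rw [← conj_mul, ← swap_apply_apply, ← swap_apply_apply] at h4
      exact h4
    obtain ⟨y, hy, hyp⟩ := pickY {x, pr x} (by have := Finset.card_le_two (a := x) (b := pr x); omega)
    simp only [Finset.mem_insert, Finset.mem_singleton, not_or] at hy
    obtain ⟨z, hz, hzp⟩ := pickY {x, pr x, y, pr y} (by
      have := Finset.card_le_four (a := x) (b := pr x) (c := y) (d := pr y); omega)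
    simp only [Finset.mem_insert, Finset.mem_singleton, not_or] at hz
    rcases bound y hy.1 hy.2 hyp with e | e <;> rcases bound z hz.1 hz.2.1 hzp with e' | e' <;>
      have h5 := (g : Perm (Fin n)).injective (e.symm.trans e')
    · exact hz.2.2.1 h5.symm
    · exact hz.2.2.2 (by rw [h5, hinv])
    · exact hz.2.2.2 h5.symm
    · exact hz.2.2.1 (by rw [← hinv z, ← h5, hinv])
  have hgN : (g : Perm (Fin n)) ∈ Subgroup.normalizer ((P : Subgroup (Perm (Fin n))) : Set (Perm (Fin n))) := by
    obtain ⟨x, hx⟩ : ∃ x, pr x ≠ x := by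
      by_contra h
      push_neg at h
      exact absurd (congrArg Fin.val (hfix ⟨0, by omega⟩ ⟨1, by omega⟩ (h _) (h _))) (by norm_num)
    have key : ∀ p ∈ (P : Subgroup (Perm (Fin n))),
        (g : Perm (Fin n)) * p * (g : Perm (Fin n))⁻¹ ∈ (P : Subgroup (Perm (Fin n))) := by
      intro p hp
      by_cases hpA : p ∈ alternatingGroup (Fin n)
      · exact keyR p hp hpA
      · have hsgn : p * swap x (pr x) ∈ alternatingGroup (Fin n) := by
          rw [mem_alternatingGroup, map_mul, sign_swap (Ne.symm hx)]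
          rcases Int.units_eq_one_or (sign p) with h | h
          · exact absurd (mem_alternatingGroup.2 h) hpA
          · rw [h]; rfl
        have h1 := mul_mem (keyR _ (mul_mem hp (hs x)) hsgn) (hconj x)
        rw [swap_apply_apply] at h1
        convert h1 using 1
        rw [show ∀ γ q s : Perm (Fin n), γ * (q * s) * γ⁻¹ * (γ * s * γ⁻¹) = γ * (q * (s * s)) * γ⁻¹ from
          fun γ q s => by group, swap_mul_self, mul_one]
    exact by
      rw [Subgroup.mem_normalizer_iff]
      intro p
      refine ⟨key p, fun h => ?_⟩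
      obtain ⟨⟨q, hq⟩, he⟩ := (Finite.injective_iff_surjective.1
        (show Function.Injective (fun q : ↥(P : Subgroup (Perm (Fin n))) =>
          (⟨_, key q.1 q.2⟩ : ↥(P : Subgroup (Perm (Fin n))))) from fun q q' h => Subtype.ext
          (mul_left_cancel (mul_right_cancel (congrArg Subtype.val h))))) ⟨_, h⟩
      have : q = p := mul_left_cancel (mul_right_cancel (congrArg Subtype.val he))
      exact this ▸ hq
  rw [selfNorm] at hgN
  rw [← hcomap]
  exact hgN

end Cfsg.Lib.Known.SylowTwoMax
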