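import Cfsg.Prelude.Def_HallClasses
import Cfsg.Agent.Known.SylowTwoSelfNorm

/-! Subgroups of odd index of `A_n` are pronormal. -/

set_option autoImplicit false

open Equiv Equiv.Perm
open scoped Pointwise

namespace Cfsg.Lib.Known.SylowTwoMax

theorem pronormal_of_normalizer_le {G : Type*} [Group G] [Finite G] {p : ℕ} [Fact p.Prime] (R : Sylow p G)
    {H : Subgroup G} (hR : (R : Subgroup G) ≤ H)
    (h : H = (R : Subgroup G) ∨ Subgroup.normalizer ((R : Subgroup G) : Set G) ≤ H) :
    Cfsg.IsPronormal H := by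
  intro g
  set J := H ⊔ H.map (MulAut.conj g).toMonoidHom
  have h1 : (R : Subgroup G) ≤ J := hR.trans le_sup_left
  have h2 : ((g • R : Sylow p G) : Subgroup G) ≤ J := by
    intro x hx
    rw [Sylow.coe_subgroup_smul] at hx
    obtain ⟨y, hy, rfl⟩ := hx
    exact Subgroup.mem_sup_right ⟨y, hR hy, rfl⟩
  obtain ⟨j, hj⟩ := MulAction.exists_smul_eq ↥J (R.subtype h1) ((g • R).subtype h2)
  rw [Sylow.smul_subtype] at hj
  have hj' : (j : G) • R = g • R := Sylow.subtype_injective hj
  have hk : (j : G)⁻¹ * g ∈ Subgroup.normalizer ((R : Subgroup G) : Set G) :=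
    Sylow.smul_eq_iff_mem_normalizer.1 (by rw [mul_smul, ← hj', inv_smul_smul])
  have key : ∀ y, y ∈ H ↔ ((j : G)⁻¹ * g) * y * ((j : G)⁻¹ * g)⁻¹ ∈ H := by
    intro y
    rcases h with e | e
    · subst e; exact Subgroup.mem_normalizer_iff.1 hk y
    · exact Subgroup.mem_normalizer_iff.1 (Subgroup.le_normalizer (e hk)) y
  refine ⟨j, j.2, Subgroup.ext fun x => ⟨?_, ?_⟩⟩
  · rintro ⟨y, hy, rfl⟩
    refine ⟨((j : G)⁻¹ * g) * y * ((j : G)⁻¹ * g)⁻¹, (key y).1 hy, ?_⟩
    simp only [MulEquiv.coe_toMonoidHom, MulAut.conj_apply]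
    group
  · rintro ⟨y, hy, rfl⟩
    refine ⟨((j : G)⁻¹ * g)⁻¹ * y * ((j : G)⁻¹ * g), (key _).2 ?_, ?_⟩
    · simpa [mul_assoc] using hy
    · simp only [MulEquiv.coe_toMonoidHom, MulAut.conj_apply]
      group

theorem exists_sylow_le_of_odd_index {G : Type*} [Group G] [Finite G] {H : Subgroup G} (hH : Odd H.index) :
    ∃ R : Sylow 2 G, (R : Subgroup G) ≤ H := by
  haveI : Fact (Nat.Prime 2) := ⟨Nat.prime_two⟩
  obtain ⟨Q⟩ := (inferInstance : Nonempty (Sylow 2 ↥H))
  have hidx : ((Q : Subgroup ↥H).map H.subtype).index = (Q : Subgroup ↥H).index * H.index :=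
    Subgroup.index_map_subtype _
  refine ⟨(Q.isPGroup'.map H.subtype).toSylow ?_, fun x hx => ?_⟩
  · rw [hidx]
    intro h
    rcases Nat.prime_two.dvd_mul.1 h with h | h
    · exact Q.not_dvd_index h
    · exact (Nat.not_even_iff_odd.2 hH) (even_iff_two_dvd.2 h)
  · rw [IsPGroup.toSylow_coe] at hx
    obtain ⟨y, -, rfl⟩ := hx
    exact y.2

theorem alt_pronormal (n : ℕ) (hn : 5 ≤ n) (H : Subgroup (alternatingGroup (Fin n))) (hH : Odd H.index) :
    Cfsg.IsPronormal H := by
  haveI : Fact (Nat.Prime 2) := ⟨Nat.prime_two⟩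
  obtain ⟨R, hR⟩ := exists_sylow_le_of_odd_index hH
  by_cases h6 : 6 ≤ n
  · exact pronormal_of_normalizer_le R hR (Or.inr ((alt_selfNorm h6 R).le.trans hR))
  obtain rfl : n = 5 := by omega
  by_cases htop : H = ⊤
  · exact pronormal_of_normalizer_le R hR (Or.inr (htop ▸ le_top))
  by_cases hHR : H = (R : Subgroup _)
  · exact pronormal_of_normalizer_le R hR (Or.inl hHR)
  refine pronormal_of_normalizer_le R hR (Or.inr ?_)
  obtain ⟨P, hP⟩ := (R.isPGroup'.map (alternatingGroup (Fin 5)).subtype).exists_le_sylow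
  have hcomap : (P : Subgroup (Perm (Fin 5))).subgroupOf (alternatingGroup (Fin 5)) =
      (R : Subgroup ↥(alternatingGroup (Fin 5))) :=
    R.is_maximal' (P.isPGroup'.comap_of_injective _ (alternatingGroup (Fin 5)).subtype_injective)
      fun x hx => hP ⟨x, hx, rfl⟩
  obtain ⟨o, -, hmax⟩ := maximal_unique P 2 le_rfl (by rw [Fintype.card_fin]; rfl)
  set S := MulAction.stabilizer ↥(alternatingGroup (Fin 5)) o
  have hle : ∀ M : Subgroup ↥(alternatingGroup (Fin 5)), M ≠ ⊤ →
      (R : Subgroup ↥(alternatingGroup (Fin 5))) ≤ M → M ≤ S := by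
    intro M hM hRM x hx
    by_contra hne
    have h1 := hmax (M.map (alternatingGroup (Fin 5)).subtype)
      (fun y hy => ⟨⟨y, hy.2⟩, hRM (hcomap ▸ hy.1), rfl⟩) ⟨x, ⟨x, hx, rfl⟩, hne⟩
    refine hM (eq_top_iff.2 fun y _ => ?_)
    obtain ⟨z, hz, e⟩ := h1 y.2
    exact Subtype.ext e ▸ hz
  have hA : Nat.card ↥(alternatingGroup (Fin 5)) = 60 := by
    rw [nat_card_alternatingGroup, Nat.card_eq_fintype_card, Fintype.card_fin]; rfl
  have hHS : H ≤ S := hle H htop hR
  have hN : Subgroup.normalizer ((R : Subgroup ↥(alternatingGroup (Fin 5))) : Set ↥(alternatingGroup (Fin 5))) ≤ S := by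
    refine hle _ (fun e => ?_) Subgroup.le_normalizer
    haveI : IsSimpleGroup ↥(alternatingGroup (Fin 5)) := alternatingGroup.isSimpleGroup (by simp)
    have hn' := Subgroup.normalizer_eq_top_iff.1 e
    rcases Subgroup.Normal.eq_bot_or_eq_top hn' with h | h
    · have := R.not_dvd_index
      rw [h, Subgroup.index_bot, hA] at this
      exact this (by norm_num)
    · exact htop (eq_top_iff.2 (h ▸ hR))
  suffices H = S by rw [this]; exact hN
  refine Subgroup.eq_of_le_of_card_ge hHS ?_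
  haveI : MulAction.IsPretransitive ↥(alternatingGroup (Fin 5)) (Fin 5) :=
    alternatingGroup.isPretransitive_of_three_le_card _ (by simp)
  have hS : Nat.card ↥S = 12 := by
    have h := S.index_mul_card
    rw [MulAction.index_stabilizer_of_transitive, Nat.card_eq_fintype_card (α := Fin 5), Fintype.card_fin, hA] at h
    omega
  have h4 : Nat.card ↥(R : Subgroup ↥(alternatingGroup (Fin 5))) = 4 := by
    obtain ⟨j, hj⟩ := R.isPGroup'.exists_card_eq
    have h := (R : Subgroup ↥(alternatingGroup (Fin 5))).index_mul_card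
    rw [hj, hA] at h
    have hodd := R.not_dvd_index
    rw [hj]
    have hj6 : j < 6 := by
      by_contra hh
      have := Nat.pow_le_pow_right (show 0 < 2 by norm_num) (not_lt.1 hh)
      have h0 : 0 < (R : Subgroup ↥(alternatingGroup (Fin 5))).index :=
        Nat.pos_of_ne_zero Subgroup.index_ne_zero_of_finite
      nlinarith
    interval_cases j <;> norm_num at h ⊢ <;> omega
  obtain ⟨c, hc⟩ := Subgroup.card_dvd_of_le hR
  have h12 := Subgroup.card_dvd_of_le hHS
  rw [hS] at h12 ⊢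
  rw [h4] at hc
  have hle12 := Nat.le_of_dvd (by norm_num) h12
  have hne : Nat.card ↥H ≠ 4 := fun e => hHR (Subgroup.eq_of_le_of_card_ge hR (by omega)).symm
  have hc3 : c ≤ 3 := by omega
  interval_cases c <;> first | omega | (rw [hc] at h12; norm_num at h12)

end Cfsg.Lib.Known.SylowTwoMax
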