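import Cfsg.Agent.Classical.SL
import Cfsg.Agent.Steinberg.Vanish
import Cfsg.Prelude.Def_ParabolicCharacters
import Mathlib

/-! The split (B,N)-pair of `SL n F`. -/

set_option autoImplicit false
set_option linter.style.haveILetI false

namespace Cfsg.Lib.SLBN

open Matrix

variable {n : ℕ} {F : Type*} [Field F]

local notation "SLn" => Matrix.SpecialLinearGroup (Fin n) F
local notation "Mn" => Matrix (Fin n) (Fin n) F

/-- Column `j` of `M` is carried by row `σ j`. -/
def HasPerm (M : Mn) (σ : Equiv.Perm (Fin n)) : Prop := ∀ i j, i ≠ σ j → M i j = 0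

theorem mul_apply_of_perm {g : Mn} {σ : Equiv.Perm (Fin n)} (hg : HasPerm g σ) (M : Mn) (i j : Fin n) :
    (M * g) i j = M i (σ j) * g (σ j) j := by
  rw [mul_apply, Finset.sum_eq_single (σ j)]
  · intro k _ hk; rw [hg k j hk, mul_zero]
  · simp

theorem perm_mul_apply {g : Mn} {σ : Equiv.Perm (Fin n)} (hg : HasPerm g σ) (M : Mn) (i j : Fin n) :
    (g * M) i j = g i (σ.symm i) * M (σ.symm i) j := by
  rw [mul_apply, Finset.sum_eq_single (σ.symm i)]
  · intro k _ hk
    rw [hg i k (fun e => hk (by rw [e, Equiv.symm_apply_apply])), zero_mul]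
  · simp

theorem HasPerm.one : HasPerm (1 : Mn) 1 := fun i j h => one_apply_ne h

theorem HasPerm.mul {g h : Mn} {σ τ : Equiv.Perm (Fin n)} (hg : HasPerm g σ) (hh : HasPerm h τ) :
    HasPerm (g * h) (σ * τ) := by
  intro i j hij
  rw [mul_apply_of_perm hh, hg i (τ j) hij, zero_mul]

theorem coe_mul_inv (g : SLn) : (g : Mn) * ((g⁻¹ : SLn) : Mn) = 1 := by
  rw [← Matrix.SpecialLinearGroup.coe_mul, mul_inv_cancel, Matrix.SpecialLinearGroup.coe_one]

theorem HasPerm.ne_zero {g : SLn} {σ : Equiv.Perm (Fin n)} (hg : HasPerm (g : Mn) σ) (j : Fin n) :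
    (g : Mn) (σ j) j ≠ 0 := by
  intro e
  have h := g.2
  rw [Matrix.det_eq_zero_of_column_eq_zero j (fun i => ?_)] at h
  · exact zero_ne_one h
  · by_cases hi : i = σ j
    · rw [hi]; exact e
    · exact hg i j hi

theorem HasPerm.inv {g : SLn} {σ : Equiv.Perm (Fin n)} (hg : HasPerm (g : Mn) σ) :
    HasPerm ((g⁻¹ : SLn) : Mn) σ⁻¹ := by
  intro k j hkj
  have h := congrFun (congrFun (coe_mul_inv g) (σ k)) j
  rw [perm_mul_apply hg, Equiv.symm_apply_apply, one_apply_ne] at h
  · exact (mul_eq_zero.1 h).resolve_left (hg.ne_zero k)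
  · intro e
    exact hkj (by rw [← e]; simp)

theorem conj_apply {g : SLn} {σ : Equiv.Perm (Fin n)} (hg : HasPerm (g : Mn) σ) (M : Mn) (i j : Fin n) :
    (((g⁻¹ : SLn) : Mn) * M * (g : Mn)) i j =
      ((g⁻¹ : SLn) : Mn) i (σ i) * M (σ i) (σ j) * (g : Mn) (σ j) j := by
  rw [mul_apply_of_perm hg, perm_mul_apply hg.inv]
  rfl

/-- A permutation never increasing is trivial. -/
theorem perm_eq_one {σ : Equiv.Perm (Fin n)} (h : ∀ j, σ j ≤ j) : σ = 1 := by
  have key : ∀ k : ℕ, ∀ j : Fin n, j.val = k → σ j = j := by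
    intro k
    induction k using Nat.strong_induction_on with
    | _ k ih =>
      intro j hj
      rcases (h j).lt_or_eq with hlt | heq
      · have := ih _ (hj ▸ Fin.lt_def.1 hlt) (σ j) rfl
        exact σ.injective this
      · exact heq
  exact Equiv.ext fun j => key _ j rfl

/-- The Borel subgroup: upper triangular matrices. -/
def B (n : ℕ) (F : Type*) [Field F] : Subgroup (Matrix.SpecialLinearGroup (Fin n) F) :=
  (Cfsg.upperTriangularGL n F).comap Matrix.SpecialLinearGroup.toGL

theorem mem_B {g : SLn} : g ∈ B n F ↔ ∀ i j : Fin n, j < i → (g : Mn) i j = 0 := Iff.rfl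

/-- The monomial subgroup. -/
def N (n : ℕ) (F : Type*) [Field F] : Subgroup (Matrix.SpecialLinearGroup (Fin n) F) where
  carrier := {g | ∃ σ, HasPerm (g : Matrix (Fin n) (Fin n) F) σ}
  one_mem' := ⟨1, HasPerm.one⟩
  mul_mem' := by
    rintro a b ⟨σ, ha⟩ ⟨τ, hb⟩
    exact ⟨σ * τ, by rw [Matrix.SpecialLinearGroup.coe_mul]; exact ha.mul hb⟩
  inv_mem' := by
    rintro a ⟨σ, ha⟩
    exact ⟨σ⁻¹, ha.inv⟩

theorem mem_N {g : SLn} : g ∈ N n F ↔ ∃ σ, HasPerm (g : Mn) σ := Iff.rfl

theorem perm_one_of_mem_B {g : SLn} {σ : Equiv.Perm (Fin n)} (hg : HasPerm (g : Mn) σ) (hB : g ∈ B n F) :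
    σ = 1 := by
  refine perm_eq_one fun j => ?_
  by_contra hc
  exact hg.ne_zero j (mem_B.1 hB _ _ (not_le.1 hc))

theorem mem_B_of_one {g : SLn} (hg : HasPerm (g : Mn) 1) : g ∈ B n F :=
  mem_B.2 fun i j h => hg i j (by simpa using h.ne')

theorem diag_of_inf {g : SLn} (h : g ∈ B n F ⊓ N n F) : HasPerm (g : Mn) 1 := by
  obtain ⟨hB, σ, hσ⟩ := h
  rwa [perm_one_of_mem_B hσ hB] at hσ

theorem inf_conj {m t : SLn} (hm : m ∈ N n F) (ht : t ∈ B n F ⊓ N n F) : m * t * m⁻¹ ∈ B n F := by
  obtain ⟨σ, hσ⟩ := hm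
  apply mem_B_of_one
  rw [Matrix.SpecialLinearGroup.coe_mul, Matrix.SpecialLinearGroup.coe_mul]
  have := (hσ.mul (diag_of_inf ht)).mul hσ.inv
  simpa using this

/-- Transvection in `SL`. -/
abbrev tv {i j : Fin n} (h : i ≠ j) (c : F) : SLn := Matrix.SpecialLinearGroup.transvection h c

theorem coe_tv {i j : Fin n} (h : i ≠ j) (c : F) : ((tv h c : SLn) : Mn) = Matrix.transvection i j c := rfl

theorem tv_apply {i j : Fin n} (h : i ≠ j) (c : F) (x y : Fin n) :
    ((tv h c : SLn) : Mn) x y = (if x = y then 1 else 0) + (if i = x ∧ j = y then c else 0) := by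
  rw [coe_tv, Matrix.transvection, Matrix.add_apply, Matrix.one_apply, Matrix.single_apply]

theorem tv_inv {i j : Fin n} (h : i ≠ j) (c : F) : (tv h c : SLn)⁻¹ = tv h (-c) := by
  refine inv_eq_of_mul_eq_one_right (Subtype.ext ?_)
  show Matrix.transvection i j c * Matrix.transvection i j (-c) = 1
  rw [transvection_mul_transvection_same _ _ h, add_neg_cancel, transvection_zero]

theorem tv_mem_B {i j : Fin n} (h : i < j) (c : F) : (tv h.ne c : SLn) ∈ B n F := by
  refine mem_B.2 fun x y hxy => ?_
  rw [tv_apply, if_neg hxy.ne', if_neg, add_zero]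
  rintro ⟨rfl, rfl⟩
  exact lt_asymm h hxy

theorem ne_of_adj {a b : Fin n} (h : b.val = a.val + 1) : a ≠ b := fun e => by rw [e] at h; omega

theorem lt_of_adj {a b : Fin n} (h : b.val = a.val + 1) : a < b := Fin.lt_def.2 (by omega)

/-- The representative of an adjacent transposition. -/
def sAt {a b : Fin n} (h : b.val = a.val + 1) : SLn :=
  tv (ne_of_adj h) 1 * tv (ne_of_adj h).symm (-1) * tv (ne_of_adj h) 1

theorem sAt_apply {a b : Fin n} (h : b.val = a.val + 1) (i j : Fin n) :
    ((sAt (F := F) h : SLn) : Mn) i j =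
      if i = a then (if j = b then 1 else 0) else if i = b then (if j = a then -1 else 0)
      else (if i = j then 1 else 0) := by
  have hab := ne_of_adj h
  rw [sAt, Matrix.SpecialLinearGroup.coe_mul, Matrix.SpecialLinearGroup.coe_mul, coe_tv, coe_tv, mul_assoc]
  by_cases hia : i = a
  · subst hia
    rw [if_pos rfl, transvection_mul_apply_same, transvection_mul_apply_of_ne (ha := hab),
      transvection_mul_apply_same]
    simp only [Matrix.transvection, Matrix.add_apply, Matrix.one_apply, Matrix.single_apply]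
    by_cases hjb : j = b <;> by_cases hja : j = i
    · exact absurd (hjb.symm.trans hja).symm hab
    all_goals simp [hjb, hja, hab, hab.symm, eq_comm (a := i), eq_comm (a := b)]
  · rw [if_neg hia, transvection_mul_apply_of_ne (ha := hia)]
    by_cases hib : i = b
    · subst hib
      rw [if_pos rfl, transvection_mul_apply_same]
      simp only [Matrix.transvection, Matrix.add_apply, Matrix.one_apply, Matrix.single_apply]
      by_cases hjb : j = i <;> by_cases hja : j = a
      · exact absurd (hja.symm.trans hjb) hab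
      all_goals simp [hjb, hja, hab, hab.symm, eq_comm (a := i), eq_comm (a := a)]
    · rw [if_neg hib, transvection_mul_apply_of_ne (ha := hib)]
      simp [Matrix.transvection, Matrix.one_apply, Matrix.single_apply, Ne.symm hia]

theorem sAt_perm {a b : Fin n} (h : b.val = a.val + 1) :
    HasPerm ((sAt (F := F) h : SLn) : Mn) (Equiv.swap a b) := by
  intro i j hij
  rw [sAt_apply h]
  by_cases hia : i = a
  · rw [if_pos hia, if_neg]
    intro e; apply hij; rw [hia, e, Equiv.swap_apply_right]
  · rw [if_neg hia]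
    by_cases hib : i = b
    · rw [if_pos hib, if_neg]
      intro e; apply hij; rw [hib, e, Equiv.swap_apply_left]
    · rw [if_neg hib, if_neg]
      intro e; apply hij
      rw [← e, Equiv.swap_apply_of_ne_of_ne hia hib]

theorem sAt_mem_N {a b : Fin n} (h : b.val = a.val + 1) : (sAt h : SLn) ∈ N n F := ⟨_, sAt_perm h⟩

theorem swap_reverses {a b i j : Fin n} (h : b.val = a.val + 1) (hij : i < j)
    (h' : Equiv.swap a b j < Equiv.swap a b i) : i = a ∧ j = b := by
  simp only [Equiv.swap_apply_def] at h'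
  simp only [Fin.ext_iff]
  rw [Fin.lt_def] at hij
  split_ifs at h' <;> simp only [Fin.lt_def, Fin.ext_iff] at * <;> omega

/-- generators -/
def gset (n : ℕ) (F : Type*) [Field F] : Set (Matrix.SpecialLinearGroup (Fin n) F) :=
  {s | ∃ (a b : Fin n) (h : b.val = a.val + 1), s = sAt h}

theorem sq_mem {a b : Fin n} (h : b.val = a.val + 1) : (sAt h : SLn) * sAt h ∈ B n F := by
  apply mem_B_of_one
  rw [Matrix.SpecialLinearGroup.coe_mul, ← Equiv.swap_mul_self a b]
  exact (sAt_perm h).mul (sAt_perm h)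

theorem swap_mem_closure {I : Set SLn} (hI : ∀ s ∈ I, ∃ σ, HasPerm (s : Mn) σ) {σ : Equiv.Perm (Fin n)}
    (hσ : σ ∈ Subgroup.closure {τ : Equiv.Perm (Fin n) | ∃ s ∈ I, HasPerm (s : Mn) τ}) :
    ∃ m ∈ Subgroup.closure I, HasPerm ((m : SLn) : Mn) σ := by
  induction hσ using Subgroup.closure_induction with
  | mem τ h => obtain ⟨s, hs, hτ⟩ := h; exact ⟨s, Subgroup.subset_closure hs, hτ⟩
  | one => exact ⟨1, one_mem _, HasPerm.one⟩
  | mul x y _ _ hx hy =>
    obtain ⟨g, hg, hgx⟩ := hx
    obtain ⟨k, hk, hky⟩ := hy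
    exact ⟨g * k, mul_mem hg hk, by rw [Matrix.SpecialLinearGroup.coe_mul]; exact hgx.mul hky⟩
  | inv x _ hx =>
    obtain ⟨g, hg, hgx⟩ := hx
    exact ⟨g⁻¹, inv_mem hg, hgx.inv⟩

theorem exists_closure_perm (σ : Equiv.Perm (Fin n)) :
    ∃ m ∈ Subgroup.closure (gset n F), HasPerm ((m : SLn) : Mn) σ := by
  refine swap_mem_closure (I := gset n F) ?_ ?_
  · rintro s ⟨a, b, h, rfl⟩; exact ⟨_, sAt_perm h⟩
  rcases n with _ | n
  · rw [Subsingleton.elim σ 1]; exact one_mem _
  have hmem : σ ∈ Submonoid.closure (Set.range fun i : Fin n => Equiv.swap i.castSucc i.succ) := by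
    rw [Equiv.Perm.mclosure_swap_castSucc_succ]; trivial
  refine Submonoid.closure_le (S := (Subgroup.closure {τ : Equiv.Perm (Fin (n + 1)) |
    ∃ s ∈ gset (n + 1) F, HasPerm (s : Matrix (Fin (n + 1)) (Fin (n + 1)) F) τ}).toSubmonoid).2 ?_ hmem
  rintro _ ⟨i, rfl⟩
  have h : (i.succ : Fin (n + 1)).val = i.castSucc.val + 1 := by simp
  refine Subgroup.subset_closure ?_
  exact ⟨sAt h, ⟨_, _, h, rfl⟩, sAt_perm h⟩

theorem gset_le_N : gset n F ⊆ (N n F : Set SLn) := by
  rintro s ⟨a, b, h, rfl⟩; exact sAt_mem_N h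

theorem closure_sup' : Subgroup.closure (gset n F) ⊔ (B n F ⊓ N n F) = N n F := by
  refine le_antisymm (sup_le ((Subgroup.closure_le _).2 gset_le_N) inf_le_right) ?_
  intro g hg
  obtain ⟨σ, hσ⟩ := hg
  obtain ⟨m, hm, hmσ⟩ := exists_closure_perm (F := F) σ
  have e : g = m * (m⁻¹ * g) := by group
  rw [e]
  have hd : HasPerm (((m⁻¹ * g : SLn)) : Mn) 1 := by
    rw [Matrix.SpecialLinearGroup.coe_mul, ← inv_mul_cancel σ]; exact hmσ.inv.mul hσ
  exact mul_mem (Subgroup.mem_sup_left hm) (Subgroup.mem_sup_right ⟨mem_B_of_one hd, 1, hd⟩)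

theorem tv_mem_BN {i j : Fin n} (h : i ≠ j) (c : F) : (tv h c : SLn) ∈ B n F ⊔ N n F := by
  rcases h.lt_or_gt with hl | hl
  · exact Subgroup.mem_sup_left (tv_mem_B hl c)
  · obtain ⟨m, hm, hmσ⟩ := exists_closure_perm (F := F) (Equiv.swap i j)
    have hmN : m ∈ N n F := (Subgroup.closure_le _).2 gset_le_N hm
    have hB : m⁻¹ * tv h c * m ∈ B n F := by
      refine mem_B.2 fun x y hxy => ?_
      rw [Matrix.SpecialLinearGroup.coe_mul, Matrix.SpecialLinearGroup.coe_mul, conj_apply hmσ, tv_apply,
        if_neg (fun e => hxy.ne' ((Equiv.swap i j).injective e)), if_neg, add_zero, mul_zero, zero_mul]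
      rintro ⟨e1, e2⟩
      have hx : x = j := (Equiv.swap i j).injective (e1.symm.trans (Equiv.swap_apply_right i j).symm)
      have hy : y = i := (Equiv.swap i j).injective (e2.symm.trans (Equiv.swap_apply_left i j).symm)
      rw [hx, hy] at hxy
      exact lt_asymm hl hxy
    have e : tv h c = m * (m⁻¹ * tv h c * m) * m⁻¹ := by group
    rw [e]
    exact mul_mem (mul_mem (Subgroup.mem_sup_right hmN) (Subgroup.mem_sup_left hB))
      (inv_mem (Subgroup.mem_sup_right hmN))

theorem diag_ne_zero {g : SLn} (hg : g ∈ B n F) (a : Fin n) : (g : Mn) a a ≠ 0 := by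
  have hbt : (g : Mn).BlockTriangular id := fun i j h => mem_B.1 hg i j h
  have hd := g.2
  rw [Matrix.det_of_isUpperTriangular hbt] at hd
  intro e
  rw [Finset.prod_eq_zero (f := fun i => (g : Mn) i i) (Finset.mem_univ a) e] at hd
  exact zero_ne_one hd

theorem union_aux {a b : Fin n} (h : b.val = a.val + 1) {m : SLn} (hm : m ∈ N n F) (t : F) :
    (∃ u ∈ B n F, sAt h * tv (lt_of_adj h).ne t * m = sAt h * m * u) ∨
      ∃ u ∈ B n F, ∃ v ∈ B n F, sAt h * tv (lt_of_adj h).ne t * m = u * m * v := by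
  obtain ⟨σ, hσ⟩ := hm
  have hab := lt_of_adj h
  by_cases hord : σ.symm a < σ.symm b ∨ t = 0
  · left
    refine ⟨m⁻¹ * tv hab.ne t * m, mem_B.2 fun x y hxy => ?_, by group⟩
    rw [Matrix.SpecialLinearGroup.coe_mul, Matrix.SpecialLinearGroup.coe_mul, conj_apply hσ, tv_apply,
      if_neg (fun e => hxy.ne' (σ.injective e))]
    rcases hord with hord | rfl
    · rw [if_neg, add_zero, mul_zero, zero_mul]
      rintro ⟨e1, e2⟩
      rw [e1, e2, Equiv.symm_apply_apply, Equiv.symm_apply_apply] at hord
      exact lt_asymm hord hxy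
    · simp
  · right
    push Not at hord
    obtain ⟨hord, ht⟩ := hord
    have hord' : σ.symm b < σ.symm a := lt_of_le_of_ne hord (fun e => hab.ne' (σ.symm.injective e))
    have hM : sAt h * tv hab.ne t * tv hab.ne' (-t⁻¹) ∈ B n F := by
      refine mem_B.2 fun x y hxy => ?_
      rw [Matrix.SpecialLinearGroup.coe_mul, Matrix.SpecialLinearGroup.coe_mul, coe_tv, coe_tv]
      have e1 : ∀ z, (((sAt (F := F) h : SLn) : Mn) * Matrix.transvection a b t) x z =
          ((sAt (F := F) h : SLn) : Mn) x z + (if z = b then t * ((sAt (F := F) h : SLn) : Mn) x a else 0) := by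
        intro z
        by_cases hz : z = b
        · rw [if_pos hz, hz, mul_transvection_apply_same]
        · rw [if_neg hz, mul_transvection_apply_of_ne (hb := hz), add_zero]
      have hxy' : y.val < x.val := Fin.lt_def.1 hxy
      by_cases hy : y = a
      · subst hy
        rw [mul_transvection_apply_same, e1, e1, if_pos rfl, if_neg hab.ne, sAt_apply, sAt_apply]
        by_cases hxb : x = b
        · simp [hxb, hab.ne, hab.ne', ht]
        · simp [hxy.ne', hxb, hab.ne', hxy.ne]
      · rw [mul_transvection_apply_of_ne (hb := hy), e1, sAt_apply, sAt_apply]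
        by_cases hxa : x = a
        · have : y ≠ b := fun e => by rw [hxa, e] at hxy'; omega
          simp [hxa, this]
        · by_cases hxb : x = b
          · have : y ≠ b := fun e => hxy.ne (e.trans hxb.symm)
            simp [hxb, hab.ne', hy, this]
          · simp [hxa, hxb, hxy.ne']
    have hy : m⁻¹ * tv hab.ne' t⁻¹ * m ∈ B n F := by
      refine mem_B.2 fun x y hxy => ?_
      rw [Matrix.SpecialLinearGroup.coe_mul, Matrix.SpecialLinearGroup.coe_mul, conj_apply hσ, tv_apply,
        if_neg (fun e => hxy.ne' (σ.injective e)), if_neg, add_zero, mul_zero, zero_mul]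
      rintro ⟨e1, e2⟩
      rw [e1, e2, Equiv.symm_apply_apply, Equiv.symm_apply_apply] at hord'
      exact lt_asymm hord' hxy
    refine ⟨_, hM, _, hy, ?_⟩
    rw [← tv_inv]
    group

/-- The (B,N)-pair of `SL n F`. -/
def pair (n : ℕ) (F : Type*) [Field F] : Cfsg.BNPair (Matrix.SpecialLinearGroup (Fin n) F) where
  B := B n F
  N := N n F
  S := gset n F
  sup_eq_top := Cfsg.Lib.Classical.eq_top_of_transvection_mem _ (fun i j h c => tv_mem_BN h c)
  conj_mem := fun m hm t ht => inf_conj hm ht
  subset := gset_le_N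
  sq_mem := by rintro s ⟨a, b, h, rfl⟩; exact sq_mem h
  inj := by
    rintro s ⟨a, b, h, rfl⟩ s' ⟨a', b', h', rfl⟩ hB
    have hp : HasPerm (((sAt h)⁻¹ * sAt h' : Matrix.SpecialLinearGroup (Fin n) F) :
        Matrix (Fin n) (Fin n) F) ((Equiv.swap a b)⁻¹ * Equiv.swap a' b') := by
      rw [Matrix.SpecialLinearGroup.coe_mul]; exact (sAt_perm h).inv.mul (sAt_perm h')
    have e := perm_one_of_mem_B hp hB
    rw [inv_mul_eq_one] at e
    have e1 := congrArg (fun σ : Equiv.Perm (Fin n) => σ a) e
    simp only [Equiv.swap_apply_left] at e1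
    rw [Equiv.swap_apply_def] at e1
    split_ifs at e1 with c1 c2
    · subst c1; subst e1; rfl
    · subst c2; subst e1; omega
    · exact absurd e1.symm (ne_of_adj h)
  closure_sup := closure_sup'
  mul_mem_union := by
    rintro s ⟨a, b, h, rfl⟩ m hm x hx
    have hab := lt_of_adj h
    set t : F := (x : Matrix (Fin n) (Fin n) F) a b / (x : Matrix (Fin n) (Fin n) F) a a with ht
    have hx' : x * tv hab.ne (-t) ∈ B n F := mul_mem hx (tv_mem_B hab _)
    have h0 : ((x * tv hab.ne (-t) : Matrix.SpecialLinearGroup (Fin n) F) : Matrix (Fin n) (Fin n) F) a b = 0 := by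
      rw [Matrix.SpecialLinearGroup.coe_mul, coe_tv, mul_transvection_apply_same, ht, neg_mul,
        div_mul_cancel₀ _ (diag_ne_zero hx a), add_neg_cancel]
    have hc : sAt h * (x * tv hab.ne (-t)) * (sAt h)⁻¹ ∈ B n F := by
      refine mem_B.2 fun i j hij => ?_
      have hp := (sAt_perm (F := F) h).inv
      rw [Equiv.swap_inv] at hp
      have key := conj_apply hp ((x * tv hab.ne (-t) : Matrix.SpecialLinearGroup (Fin n) F) : Matrix (Fin n) (Fin n) F) i j
      rw [inv_inv] at key
      rw [Matrix.SpecialLinearGroup.coe_mul, Matrix.SpecialLinearGroup.coe_mul, key]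
      rcases lt_trichotomy (Equiv.swap a b i) (Equiv.swap a b j) with hlt | heq | hgt
      · obtain ⟨rfl, rfl⟩ := swap_reverses h hij hlt
        rw [Equiv.swap_apply_left, Equiv.swap_apply_right, h0, mul_zero, zero_mul]
      · exact absurd ((Equiv.swap a b).injective heq) hij.ne'
      · rw [mem_B.1 hx' _ _ hgt, mul_zero, zero_mul]
    have e : sAt h * x * m =
        (sAt h * (x * tv hab.ne (-t)) * (sAt h)⁻¹) * (sAt h * tv hab.ne t * m) := by
      rw [← tv_inv]; group
    rcases union_aux h hm t with ⟨u, hu, hu'⟩ | ⟨u, hu, v, hv, huv⟩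
    · left
      exact DoubleCoset.mem_doubleCoset.2 ⟨_, hc, u, hu, by rw [e, hu']; group⟩
    · right
      exact DoubleCoset.mem_doubleCoset.2 ⟨_, mul_mem hc hu, v, hv, by rw [e, huv]; group⟩
  conj_ne := by
    rintro s ⟨a, b, h, rfl⟩ himg
    have hab := lt_of_adj h
    have h1 : sAt (F := F) h * tv hab.ne 1 * sAt h ∈
        (fun x => sAt (F := F) h * x * sAt h) '' (B n F : Set (Matrix.SpecialLinearGroup (Fin n) F)) :=
      ⟨_, tv_mem_B hab 1, rfl⟩
    rw [himg, SetLike.mem_coe] at h1
    have h2 : sAt (F := F) h * tv hab.ne 1 * (sAt h)⁻¹ ∈ B n F := by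
      have e : sAt (F := F) h * tv hab.ne 1 * (sAt (F := F) h)⁻¹ =
          (sAt (F := F) h * tv hab.ne 1 * sAt h) * (sAt (F := F) h * sAt h)⁻¹ := by group
      rw [e]; exact mul_mem h1 (inv_mem (sq_mem h))
    have hp := (sAt_perm (F := F) h).inv
    rw [Equiv.swap_inv] at hp
    have key := conj_apply hp ((tv hab.ne (1 : F) : Matrix.SpecialLinearGroup (Fin n) F) : Matrix (Fin n) (Fin n) F) b a
    rw [inv_inv, ← Matrix.SpecialLinearGroup.coe_mul, ← Matrix.SpecialLinearGroup.coe_mul, mem_B.1 h2 b a hab,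
      Equiv.swap_apply_left, Equiv.swap_apply_right, tv_apply, if_neg hab.ne, if_pos ⟨rfl, rfl⟩, zero_add,
      mul_one] at key
    rcases mul_eq_zero.1 key.symm with e | e
    · rw [sAt_apply, if_neg hab.ne', if_pos rfl, if_pos rfl] at e
      exact one_ne_zero (neg_eq_zero.1 e)
    · have h' := hp.ne_zero a
      rw [Equiv.swap_apply_left] at h'
      exact h' e

/-- The unitriangular subgroup. -/
def U (n : ℕ) (F : Type*) [Field F] : Subgroup (Matrix.SpecialLinearGroup (Fin n) F) where
  carrier := {g | g ∈ B n F ∧ ∀ i, (g : Matrix (Fin n) (Fin n) F) i i = 1}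
  one_mem' := ⟨one_mem _, fun i => by simp⟩
  mul_mem' := by
    rintro x y ⟨hx, hx1⟩ ⟨hy, hy1⟩
    refine ⟨mul_mem hx hy, fun i => ?_⟩
    rw [Matrix.SpecialLinearGroup.coe_mul, mul_apply, Finset.sum_eq_single i]
    · rw [hx1, hy1, mul_one]
    · intro k _ hk
      rcases hk.lt_or_gt with h | h
      · rw [mem_B.1 hx i k h, zero_mul]
      · rw [mem_B.1 hy k i h, mul_zero]
    · simp
  inv_mem' := by
    rintro x ⟨hx, hx1⟩
    refine ⟨inv_mem hx, fun i => ?_⟩
    have h := congrFun (congrFun (coe_mul_inv x) i) i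
    rw [mul_apply, Finset.sum_eq_single i] at h
    · simpa [hx1] using h
    · intro k _ hk
      rcases hk.lt_or_gt with hlt | hlt
      · rw [mem_B.1 hx i k hlt, zero_mul]
      · rw [mem_B.1 (inv_mem hx) k i hlt, mul_zero]
    · simp

theorem mem_U {g : SLn} : g ∈ U n F ↔ g ∈ B n F ∧ ∀ i, (g : Mn) i i = 1 := Iff.rfl

/-- The entries linking equal labels. -/
def blk {κ : Type*} [DecidableEq κ] (lab : Fin n → κ) (M : Mn) : Mn :=
  fun i j => if lab i = lab j then M i j else 0

theorem blk_mul {κ : Type*} [LinearOrder κ] {lab : Fin n → κ} (hl : Monotone lab) {M M' : Mn}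
    (hM : ∀ i j, j < i → M i j = 0) (hM' : ∀ i j, j < i → M' i j = 0) :
    blk lab (M * M') = blk lab M * blk lab M' := by
  ext i j
  simp only [blk, mul_apply]
  by_cases hij : lab i = lab j
  · rw [if_pos hij]
    refine Finset.sum_congr rfl fun k _ => ?_
    by_cases hk : lab i = lab k
    · rw [if_pos hk, if_pos (hk.symm.trans hij)]
    · rw [if_neg hk, zero_mul]
      rcases lt_trichotomy i k with h | h | h
      · rcases lt_trichotomy j k with h' | h' | h'
        · rw [hM' k j h', mul_zero]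
        · exact absurd (hij.trans (congrArg lab h')) hk
        · exact absurd (le_antisymm (hl h.le) ((hl h'.le).trans hij.ge)) hk
      · exact absurd (congrArg lab h) hk
      · rw [hM i k h, zero_mul]
  · rw [if_neg hij]
    symm
    refine Finset.sum_eq_zero fun k _ => ?_
    by_cases hk : lab i = lab k
    · rw [if_neg (fun e => hij (hk.trans e)), mul_zero]
    · rw [if_neg hk, zero_mul]

theorem blk_one {κ : Type*} [DecidableEq κ] (lab : Fin n → κ) : blk lab (1 : Mn) = 1 := by
  ext i j
  by_cases h : i = j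
  · subst h; simp [blk]
  · simp [blk, h]

theorem card_pairs (n : ℕ) : 2 * Nat.card {p : Fin n × Fin n // p.1 < p.2} + n = n * n := by
  have h1 : Nat.card {p : Fin n × Fin n // p.1 < p.2} = Nat.card {p : Fin n × Fin n // p.2 < p.1} :=
    Nat.card_congr ((Equiv.prodComm _ _).subtypeEquiv (fun p => Iff.rfl))
  have h2 : Nat.card {p : Fin n × Fin n // p.1 = p.2} = n := by
    rw [Nat.card_congr ⟨fun p => p.1.1, fun i => ⟨(i, i), rfl⟩, fun ⟨⟨i, j⟩, h⟩ => by simp at h; subst h; rfl,
      fun i => rfl⟩, Nat.card_fin]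
  have h3 : Nat.card {p : Fin n × Fin n // p.1 < p.2} + Nat.card {p : Fin n × Fin n // p.2 < p.1} +
      Nat.card {p : Fin n × Fin n // p.1 = p.2} = n * n := by
    have e : Fintype.card (Fin n × Fin n) = n * n := by simp
    simp only [Nat.card_eq_fintype_card, Fintype.card_subtype]
    rw [← e, ← Finset.card_union_of_disjoint, ← Finset.card_union_of_disjoint, ← Finset.card_univ]
    · congr 1
      ext p
      rcases lt_trichotomy p.1 p.2 with h | h | h <;> simp [h]
    all_goals
      rw [Finset.disjoint_left]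
      intro p hp hq
      rcases lt_trichotomy p.1 p.2 with h | h | h
      · simp [h, h.ne, h.not_gt] at hp hq
      · simp [h] at hp hq
      · simp [h, h.ne', h.not_gt] at hp hq
  omega

theorem card_U [Finite F] : Nat.card (U n F) = Nat.card F ^ Nat.card {p : Fin n × Fin n // p.1 < p.2} := by
  let mk' : ({p : Fin n × Fin n // p.1 < p.2} → F) → Mn := fun f i j =>
    if h : i < j then f ⟨(i, j), h⟩ else if i = j then 1 else 0
  have hdet : ∀ f, (mk' f).det = 1 := by
    intro f
    have hbt : (mk' f).BlockTriangular id := fun i j h => by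
      change j < i at h
      simp only [mk', dif_neg h.not_gt]; exact if_neg h.ne'
    rw [Matrix.det_of_isUpperTriangular hbt]
    exact Finset.prod_eq_one fun i _ => by simp [mk']
  let e : U n F ≃ ({p : Fin n × Fin n // p.1 < p.2} → F) :=
    { toFun := fun g p => (g.1 : Mn) p.1.1 p.1.2
      invFun := fun f => ⟨⟨mk' f, hdet f⟩, fun i j h => by
          show mk' f i j = 0
          simp only [mk', dif_neg (lt_asymm (show j < i from h))]
          exact if_neg (show j < i from h).ne',
        fun i => by show mk' f i i = 1; simp [mk']⟩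
      left_inv := fun g => by
        apply Subtype.ext; apply Subtype.ext
        ext i j
        show mk' (fun p => (g.1 : Mn) p.1.1 p.1.2) i j = (g.1 : Mn) i j
        simp only [mk']
        split_ifs with h h'
        · rfl
        · subst h'; exact (g.2.2 i).symm
        · exact (mem_B.1 g.2.1 i j (lt_of_le_of_ne (not_lt.1 h) (Ne.symm h'))).symm
      right_inv := fun f => funext fun p => by
        show mk' f p.1.1 p.1.2 = f p
        simp [mk', p.2] }
  rw [Nat.card_congr e, Nat.card_fun]

theorem split [Fintype F] (p : ℕ) [Fact p.Prime] [CharP F p] :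
    Cfsg.Lib.Steinberg.Split (pair n F) (U n F) p := by
  refine ⟨Fact.out, fun u hu => hu.1, ?_, ?_, ?_, ?_⟩
  · intro x hx u hu
    refine mem_U.2 ⟨mul_mem (mul_mem hx hu.1) (inv_mem hx), fun i => ?_⟩
    have key := blk_mul (lab := id) monotone_id (M := ((x * u : SLn) : Mn)) (M' := ((x⁻¹ : SLn) : Mn))
      (mem_B.1 (mul_mem hx hu.1)) (mem_B.1 (inv_mem hx))
    rw [Matrix.SpecialLinearGroup.coe_mul, blk_mul monotone_id (mem_B.1 hx) (mem_B.1 hu.1)] at key
    have hu1 : blk id (u : Mn) = 1 := by
      ext i j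
      by_cases h : i = j
      · subst h; simp [blk, hu.2]
      · simp [blk, h]
    rw [hu1, mul_one, ← blk_mul monotone_id (mem_B.1 hx) (mem_B.1 (inv_mem hx)), coe_mul_inv, blk_one] at key
    have := congrFun (congrFun key i) i
    rw [Matrix.SpecialLinearGroup.coe_mul, Matrix.SpecialLinearGroup.coe_mul]
    simpa [blk] using this
  · intro x hx
    change x ∈ B n F at hx
    have hd : (Matrix.diagonal (fun i => (x : Mn) i i)).det = 1 := by
      rw [det_diagonal, ← Matrix.det_of_isUpperTriangular (show (x : Mn).BlockTriangular id from fun i j h => mem_B.1 hx i j h)]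
      exact x.2
    let d : SLn := ⟨_, hd⟩
    have hp : HasPerm (d : Mn) 1 := fun i j h => diagonal_apply_ne _ h
    refine ⟨x * d⁻¹, mem_U.2 ⟨mul_mem hx (inv_mem (mem_B_of_one hp)), fun i => ?_⟩, d, ⟨mem_B_of_one hp, 1, hp⟩, by group⟩
    have hpi := hp.inv
    rw [inv_one] at hpi
    rw [Matrix.SpecialLinearGroup.coe_mul, mul_apply_of_perm hpi]
    have h1 := congrFun (congrFun (coe_mul_inv d) i) i
    rw [mul_apply_of_perm hpi, one_apply_eq] at h1
    simpa [d] using h1
  · obtain ⟨k, -, hk⟩ := FiniteField.card F p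
    exact IsPGroup.of_card (n := k.val * Nat.card {p : Fin n × Fin n // p.1 < p.2})
      (by rw [card_U, Nat.card_eq_fintype_card (α := F), hk, ← pow_mul])
  · intro h
    let φ : ↥((pair n F).B ⊓ (pair n F).N) →* (Fin n → Fˣ) :=
      { toFun := fun g i => Units.mk0 ((g.1 : Mn) i i) (diag_ne_zero g.2.1 i)
        map_one' := by ext i; simp
        map_mul' := fun g k => by
          ext i
          simp [mul_apply_of_perm (diag_of_inf k.2)] }
    have hinj : Function.Injective φ := by
      intro g k e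
      apply Subtype.ext
      apply Subtype.ext
      ext i j
      by_cases hij : i = j
      · subst hij; exact congrArg Units.val (congrFun e i)
      · rw [diag_of_inf g.2 i j hij, diag_of_inf k.2 i j hij]
    have h1 := Subgroup.card_dvd_of_injective φ hinj
    rw [Nat.card_fun, Nat.card_units, Nat.card_eq_fintype_card (α := F)] at h1
    have h2 := (Fact.out : p.Prime).dvd_of_dvd_pow (h.trans h1)
    obtain ⟨k, -, hk⟩ := FiniteField.card F p
    have h3 : p ∣ Fintype.card F := hk ▸ dvd_pow_self p k.pos.ne'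
    have h4 := Nat.dvd_sub h3 h2
    rw [Nat.sub_sub_self Fintype.card_pos] at h4
    exact (Fact.out : p.Prime).not_dvd_one h4

theorem opp : Cfsg.Lib.Steinberg.Opp (pair n F) (U n F) := by
  obtain ⟨w, hw, hwσ⟩ := exists_closure_perm (F := F) (Fin.revPerm : Equiv.Perm (Fin n))
  refine ⟨w, (Subgroup.closure_le _).2 gset_le_N hw, fun u hu hB => ?_⟩
  change w⁻¹ * u * w ∈ B n F at hB
  apply Subtype.ext
  ext i j
  rcases lt_trichotomy i j with h | h | h
  · have h' := mem_B.1 hB i.rev j.rev (Fin.rev_lt_rev.2 h)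
    rw [Matrix.SpecialLinearGroup.coe_mul, Matrix.SpecialLinearGroup.coe_mul, conj_apply hwσ] at h'
    have e1 := (hwσ.inv).ne_zero (Fin.revPerm i.rev)
    simp only [Equiv.Perm.inv_def, Equiv.symm_apply_apply, Fin.revPerm_apply] at e1
    simp only [Fin.revPerm_apply, Fin.rev_rev] at h' e1 ⊢
    rw [Matrix.SpecialLinearGroup.coe_one, one_apply_ne h.ne]
    rcases mul_eq_zero.1 h' with e | e
    · exact (mul_eq_zero.1 e).resolve_left e1
    · exact absurd e (by simpa using hwσ.ne_zero j.rev)
  · subst h; simp [hu.2]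
  · rw [mem_B.1 hu.1 i j h, Matrix.SpecialLinearGroup.coe_one, one_apply_ne h.ne']

open Cfsg.Lib.Steinberg in
theorem radNormal [Fintype F] (K : Finset SLn) (hK : (K : Set SLn) ⊆ gset n F) :
    RadNormal (pair n F) (U n F) (K : Set SLn) := by
  classical
  let cut : Fin n → Prop := fun a => ¬ ∃ (b : Fin n) (h : b.val = a.val + 1), sAt h ∈ K
  let lab : Fin n → ℕ := fun i => (Finset.univ.filter fun a : Fin n => a < i ∧ cut a).card
  have hmono : Monotone lab := fun i j hij => Finset.card_le_card fun a ha => by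
    simp only [Finset.mem_filter, Finset.mem_univ, true_and] at ha ⊢
    exact ⟨ha.1.trans_le hij, ha.2⟩
  have hlink : ∀ {a b : Fin n} (h : b.val = a.val + 1), sAt h ∈ K → lab a = lab b := by
    intro a b h hs
    apply congrArg Finset.card
    ext c
    simp only [Finset.mem_filter, Finset.mem_univ, true_and, and_congr_left_iff]
    intro hc
    refine ⟨fun hca => hca.trans (lt_of_adj h), fun hcb => lt_of_le_of_ne ?_ ?_⟩
    · rw [Fin.lt_def] at hcb; rw [Fin.le_def]; omega
    · rintro rfl; exact hc ⟨b, h, hs⟩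
  have hperm : ∀ m ∈ Subgroup.closure (K : Set SLn),
      ∃ σ, HasPerm ((m : SLn) : Mn) σ ∧ ∀ i, lab (σ i) = lab i := by
    intro m hm
    induction hm using Subgroup.closure_induction with
    | mem s hs =>
      obtain ⟨a, b, h, rfl⟩ := hK hs
      refine ⟨_, sAt_perm h, fun i => ?_⟩
      rw [Equiv.swap_apply_def]
      split_ifs with e1 e2
      · rw [e1, hlink h hs]
      · rw [e2, hlink h hs]
      · rfl
    | one => exact ⟨1, HasPerm.one, fun i => rfl⟩
    | mul x y _ _ hx hy =>
      obtain ⟨σ, hσ, hσl⟩ := hx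
      obtain ⟨τ, hτ, hτl⟩ := hy
      exact ⟨σ * τ, by rw [Matrix.SpecialLinearGroup.coe_mul]; exact hσ.mul hτ,
        fun i => (hσl _).trans (hτl i)⟩
    | inv x _ hx =>
      obtain ⟨σ, hσ, hσl⟩ := hx
      exact ⟨σ⁻¹, hσ.inv, fun i => by
        conv_rhs => rw [show i = σ (σ⁻¹ i) from (σ.apply_symm_apply i).symm, hσl]⟩
  have hswap : ∀ d : ℕ, ∀ a b : Fin n, b.val = a.val + d + 1 → lab a = lab b →
      Equiv.swap a b ∈ Subgroup.closure {τ : Equiv.Perm (Fin n) | ∃ s ∈ (K : Set SLn), HasPerm (s : Mn) τ} := by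
    intro d
    induction d with
    | zero =>
      intro a b hab heq
      have hnc : ¬ cut a := by
        intro hc
        have : lab a < lab b := Finset.card_lt_card ⟨fun c hc' => by
          simp only [Finset.mem_filter, Finset.mem_univ, true_and] at hc' ⊢
          exact ⟨hc'.1.trans (Fin.lt_def.2 (by omega)), hc'.2⟩, fun hsub => by
          have := hsub (Finset.mem_filter.2 ⟨Finset.mem_univ a, Fin.lt_def.2 (by omega), hc⟩)
          simp at this⟩
        omega
      simp only [cut, not_not] at hnc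
      obtain ⟨b', h', hs⟩ := hnc
      obtain rfl : b = b' := Fin.ext (by omega)
      exact Subgroup.subset_closure ⟨_, hs, sAt_perm h'⟩
    | succ d ih =>
      intro a b hab heq
      let c : Fin n := ⟨a.val + 1, by omega⟩
      have hac : a < c := Fin.lt_def.2 (Nat.lt_succ_self _)
      have hcb : c < b := Fin.lt_def.2 (show a.val + 1 < b.val by omega)
      have h1 := hmono hac.le
      have h2 := hmono hcb.le
      have hc1 : lab a = lab c := by omega
      have m1 := ih c b (show b.val = a.val + 1 + d + 1 by omega) (by omega)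
      have hnc : ¬ cut a := by
        intro hc
        have : lab a < lab c := Finset.card_lt_card ⟨fun x hx => by
          simp only [Finset.mem_filter, Finset.mem_univ, true_and] at hx ⊢
          exact ⟨hx.1.trans hac, hx.2⟩, fun hsub => by
          have := hsub (Finset.mem_filter.2 ⟨Finset.mem_univ a, hac, hc⟩)
          simp at this⟩
        omega
      simp only [cut, not_not] at hnc
      obtain ⟨c', h', hs⟩ := hnc
      obtain rfl : c' = c := Fin.ext h'
      have m2 : Equiv.swap a c ∈ Subgroup.closure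
          {τ : Equiv.Perm (Fin n) | ∃ s ∈ (K : Set SLn), HasPerm (s : Mn) τ} :=
        Subgroup.subset_closure ⟨_, hs, sAt_perm h'⟩
      rw [show Equiv.swap a b = Equiv.swap a c * Equiv.swap c b * Equiv.swap a c by
        rw [Equiv.swap_comm a c, Equiv.swap_comm c b,
          Equiv.swap_mul_swap_mul_swap hcb.ne' (hac.trans hcb).ne']]
      exact mul_mem (mul_mem m2 m1) m2
  intro m hm htop u hu x hx
  obtain ⟨σ, hσ, hσl⟩ := hperm m hm
  have hR : ∀ y ∈ U n F, (y ∈ rad (pair n F) (U n F) m ↔ blk lab (y : Mn) = 1) := by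
    intro y hy
    constructor
    · intro hyr
      obtain ⟨-, hyn⟩ := mem_rad.1 hyr
      ext i j
      simp only [blk]
      split_ifs with hij
      · rcases lt_trichotomy i j with h | h | h
        · rw [one_apply_ne h.ne]
          have hd : j.val = i.val + (j.val - i.val - 1) + 1 := by rw [Fin.lt_def] at h; omega
          obtain ⟨w, hw, hwσ⟩ := swap_mem_closure (I := (K : Set SLn))
            (fun s hs => gset_le_N (hK hs)) (hswap _ i j hd hij)
          have hKS : (K : Set SLn) ⊆ (pair n F).S := hK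
          have hfix := top_fix hKS hm htop hw hy.1 hyn
          have h' := mem_B.1 hfix j i h
          rw [Matrix.SpecialLinearGroup.coe_mul, Matrix.SpecialLinearGroup.coe_mul, conj_apply hwσ,
            Equiv.swap_apply_left, Equiv.swap_apply_right] at h'
          rcases mul_eq_zero.1 h' with e | e
          · refine (mul_eq_zero.1 e).resolve_left ?_
            have := (hwσ.inv).ne_zero i
            rwa [Equiv.swap_inv, Equiv.swap_apply_left] at this
          · have := hwσ.ne_zero i
            rw [Equiv.swap_apply_left] at this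
            exact absurd e this
        · subst h; simp [hy.2]
        · rw [mem_B.1 hy.1 i j h, one_apply_ne h.ne']
      · rw [one_apply_ne (fun e => hij (congrArg lab e))]
    · intro hb
      refine mem_rad.2 ⟨hy, mem_B.2 fun i j hij => ?_⟩
      rw [Matrix.SpecialLinearGroup.coe_mul, Matrix.SpecialLinearGroup.coe_mul, conj_apply hσ]
      rcases lt_trichotomy (σ i) (σ j) with h | h | h
      · have e : lab (σ i) = lab (σ j) := by
          have h1 := hmono h.le
          have h2 := hmono hij.le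
          rw [hσl, hσl] at h1 ⊢
          omega
        have := congrFun (congrFun hb (σ i)) (σ j)
        rw [blk, if_pos e, one_apply_ne h.ne] at this
        rw [this, mul_zero, zero_mul]
      · exact absurd (σ.injective h) hij.ne'
      · rw [mem_B.1 hy.1 _ _ h, mul_zero, zero_mul]
  have huU : u ∈ U n F := (mem_rad.1 hu).1
  have hxu : x * u * x⁻¹ ∈ U n F := mul_mem (mul_mem hx huU) (inv_mem hx)
  rw [hR _ hxu, Matrix.SpecialLinearGroup.coe_mul,
    blk_mul hmono (mem_B.1 (mul_mem hx.1 huU.1)) (mem_B.1 (inv_mem hx.1)), Matrix.SpecialLinearGroup.coe_mul,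
    blk_mul hmono (mem_B.1 hx.1) (mem_B.1 huU.1), (hR u huU).1 hu, mul_one,
    ← blk_mul hmono (mem_B.1 hx.1) (mem_B.1 (inv_mem hx.1)), coe_mul_inv, blk_one]

end Cfsg.Lib.SLBN
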