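import Cfsg.Agent.Known.AutAltSixCount
import Cfsg.Agent.Known.SylowTwoSelfNorm
import Mathlib

/-! Sylow 2-subgroups of `Aut A₆` meet pairwise non-trivially. -/

set_option autoImplicit false
set_option linter.unusedSectionVars false

open scoped Pointwise

namespace Cfsg.Lib.AutAltSix

open Cfsg.Lib.AltAutomizer

theorem card_alt_six : Nat.card (alternatingGroup (Fin 6)) = 360 := by
  rw [nat_card_alternatingGroup, Nat.card_fin]; rfl

theorem card_sylow_six (P : Sylow 2 (alternatingGroup (Fin 6))) : Nat.card P = 8 := by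
  haveI : Fact (Nat.Prime 2) := ⟨Nat.prime_two⟩
  rw [Sylow.card_eq_multiplicity, card_alt_six, show (360 : ℕ) = 2 ^ 3 * 45 from rfl,
    Nat.factorization_mul_apply_of_coprime (by decide), Nat.prime_two.factorization_pow,
    Finsupp.single_eq_same, Nat.factorization_eq_zero_of_not_dvd (by decide)]
  norm_num

/-- The pairing condition on subgroups. -/
def Close (P R : Subgroup (alternatingGroup (Fin 6))) : Prop :=
  ∀ p ∈ P, ∀ r ∈ R, p * p ≠ 1 → r * r ≠ 1 → ((p * p) * (r * r)) ^ 3 = 1

/-- The number of Sylow subgroups of one kind meeting a given one trivially. -/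
theorem few (P : Sylow 2 (alternatingGroup (Fin 6))) (t : Prop) :
    Nat.card {R : Sylow 2 (alternatingGroup (Fin 6)) //
      (P : Subgroup (alternatingGroup (Fin 6))) ⊓ (R : Subgroup (alternatingGroup (Fin 6))) = ⊥ ∧
      (Close P R ↔ t)} ≤ 16 := by
  classical
  haveI : Fact (Nat.Prime 2) := ⟨Nat.prime_two⟩
  have hle : D ≤ alternatingGroup (Fin 6) := fun a ha => Equiv.Perm.mem_alternatingGroup.2 (eight_alt a ha)
  set D₀ := D.subgroupOf (alternatingGroup (Fin 6))
  have h8 : Nat.card D₀ = 8 := by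
    rw [Nat.card_congr (Subgroup.subgroupOfEquivOfLe hle).toEquiv, show Nat.card D = Nat.card {a // a ∈ eight} from rfl,
      Nat.card_eq_fintype_card, Fintype.card_coe, eight_card]
  let P₀ : Sylow 2 (alternatingGroup (Fin 6)) := Sylow.ofCard D₀ (by
    rw [h8, ← Sylow.card_eq_multiplicity P, card_sylow_six])
  obtain ⟨c, hc⟩ := MulAction.exists_smul_eq (alternatingGroup (Fin 6)) P₀ P
  have hfix : ∀ q : D₀, (q : alternatingGroup (Fin 6)) • P₀ = P₀ := fun q =>
    Sylow.smul_eq_iff_mem_normalizer.2 (Subgroup.le_normalizer q.2)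
  have hmem : ∀ (d : alternatingGroup (Fin 6)) (y : alternatingGroup (Fin 6)),
      d * y * d⁻¹ ∈ ((d • P₀ : Sylow 2 _) : Subgroup (alternatingGroup (Fin 6))) ↔ (y : Equiv.Perm (Fin 6)) ∈ eight := by
    intro d y
    rw [Sylow.coe_subgroup_smul, Subgroup.mem_pointwise_smul_iff_inv_smul_mem]
    have : (MulAut.conj d)⁻¹ • (d * y * d⁻¹) = y := by simp [MulAut.smul_def, mul_assoc]
    rw [this]
    exact Subgroup.mem_subgroupOf
  have hR : ∀ R : Sylow 2 (alternatingGroup (Fin 6)), ∃ g : alternatingGroup (Fin 6), (c * g) • P₀ = R := fun R => by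
    obtain ⟨g, hg⟩ := MulAction.exists_smul_eq (alternatingGroup (Fin 6)) P₀ R
    exact ⟨c⁻¹ * g, by rw [mul_inv_cancel_left, hg]⟩
  choose gR hgR using hR
  let T := {R : Sylow 2 (alternatingGroup (Fin 6)) //
      (P : Subgroup (alternatingGroup (Fin 6))) ⊓ (R : Subgroup (alternatingGroup (Fin 6))) = ⊥ ∧
      (Close P R ↔ t)}
  have hS : ∀ (R : T) (p : D₀), ((gR R.1 * p : alternatingGroup (Fin 6)) : Equiv.Perm (Fin 6)) ∈ kind (decide t) := by
    intro R p
    set g : alternatingGroup (Fin 6) := gR R.1 * p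
    have hg : (c * g) • P₀ = R.1 := by rw [show c * g = c * gR R.1 * p from (mul_assoc _ _ _).symm, mul_smul, hfix, hgR]
    have hP : ∀ y : alternatingGroup (Fin 6), c * y * c⁻¹ ∈ (P : Subgroup (alternatingGroup (Fin 6))) ↔
        (y : Equiv.Perm (Fin 6)) ∈ eight := fun y => by rw [← hc]; exact hmem c y
    have hR' : ∀ y : alternatingGroup (Fin 6), (c * g) * y * (c * g)⁻¹ ∈ (R.1 : Subgroup (alternatingGroup (Fin 6))) ↔
        (y : Equiv.Perm (Fin 6)) ∈ eight := fun y => by rw [← hg]; exact hmem _ y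
    refine Finset.mem_filter.2 ⟨Finset.mem_filter.2 ⟨Finset.mem_univ _, g.2, fun a ha hm => ?_⟩, ?_⟩
    · set A : alternatingGroup (Fin 6) := ⟨a, hle ha⟩
      have h2 : (c * g) * A * (c * g)⁻¹ ∈ (P : Subgroup (alternatingGroup (Fin 6))) := by
        rw [show (c * g) * A * (c * g)⁻¹ = c * (g * A * g⁻¹) * c⁻¹ by group, hP]
        exact hm
      have h3 : (c * g) * A * (c * g)⁻¹ = 1 := by
        rw [← Subgroup.mem_bot, ← R.2.1]; exact ⟨h2, (hR' A).2 ha⟩
      have h4 : A = 1 := conj_eq_one_iff.1 h3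
      exact congrArg Subtype.val h4
    · rw [decide_eq_decide, ← R.2.2, close0_iff]
      constructor
      · intro h p' hp' r hr hp2 hr2
        obtain ⟨a, rfl⟩ : ∃ a, c * a * c⁻¹ = p' := ⟨c⁻¹ * p' * c, by group⟩
        obtain ⟨b, rfl⟩ : ∃ b, (c * g) * b * (c * g)⁻¹ = r := ⟨(c * g)⁻¹ * r * (c * g), by group⟩
        have ha2 : a * a ≠ 1 := fun e => hp2 (by rw [conj_mul, e]; group)
        have hb2 : b * b ≠ 1 := fun e => hr2 (by rw [conj_mul, e]; group)
        have key : ((a * a) * (g * (b * b) * g⁻¹)) ^ 3 = 1 := Subtype.ext (by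
          simpa using h _ ((hP a).1 hp') _ ((hR' b).1 hr) (fun e => ha2 (Subtype.ext e)) (fun e => hb2 (Subtype.ext e)))
        rw [conj_mul, conj_mul,
          show c * (a * a) * c⁻¹ * (c * g * (b * b) * (c * g)⁻¹) = c * ((a * a) * (g * (b * b) * g⁻¹)) * c⁻¹ by group,
          conj_pow, key]
        group
      · intro h a ha b hb ha2 hb2
        set A : alternatingGroup (Fin 6) := ⟨a, hle ha⟩
        set B : alternatingGroup (Fin 6) := ⟨b, hle hb⟩
        have k := h (c * A * c⁻¹) ((hP A).2 ha) ((c * g) * B * (c * g)⁻¹) ((hR' B).2 hb)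
          (fun e => ha2 (by rw [conj_mul, conj_eq_one_iff] at e; exact congrArg Subtype.val e))
          (fun e => hb2 (by rw [conj_mul, conj_eq_one_iff] at e; exact congrArg Subtype.val e))
        rw [conj_mul, conj_mul,
          show c * (A * A) * c⁻¹ * (c * g * (B * B) * (c * g)⁻¹) = c * ((A * A) * (g * (B * B) * g⁻¹)) * c⁻¹ by group,
          conj_pow, conj_eq_one_iff] at k
        simpa [A, B] using congrArg Subtype.val k
  let f : T × D₀ → {g // g ∈ kind (decide t)} := fun Rp => ⟨_, hS Rp.1 Rp.2⟩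
  have hf : Function.Injective f := by
    rintro ⟨R, p⟩ ⟨R', p'⟩ h
    have h1 : gR R.1 * (p : alternatingGroup (Fin 6)) = gR R'.1 * (p' : alternatingGroup (Fin 6)) :=
      Subtype.ext (congrArg (fun z : {g // g ∈ kind (decide t)} => z.1) h)
    have hRR : R = R' := by
      refine Subtype.ext ?_
      rw [← hgR R.1, ← hgR R'.1, mul_smul, mul_smul]
      congr 1
      calc gR R.1 • P₀ = (gR R.1 * (p : alternatingGroup (Fin 6))) • P₀ := by rw [mul_smul, hfix]
        _ = gR R'.1 • P₀ := by rw [h1, mul_smul, hfix]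
    subst hRR
    exact Prod.ext rfl (Subtype.ext (mul_left_cancel h1))
  have h := Nat.card_le_card_of_injective f hf
  rw [Nat.card_prod, h8, Nat.card_eq_fintype_card (α := {g // g ∈ kind (decide t)}), Fintype.card_coe, count] at h
  change Nat.card T ≤ 16
  omega

theorem meet {G : Type*} [Group G] [Finite G] (N : Subgroup G) [N.Normal] (e : N ≃* alternatingGroup (Fin 6))
    (hidx : N.index = 4) (H : Sylow 2 G) (x : G) :
    (H : Subgroup G) ⊓ MulAut.conj x • (H : Subgroup G) ≠ ⊥ := by
  classical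
  haveI : Fact (Nat.Prime 2) := ⟨Nat.prime_two⟩
  intro hbot
  have hG : Nat.card G = 1440 := by
    rw [← N.index_mul_card, hidx, Nat.card_congr e.toEquiv, card_alt_six]
  have hH : Nat.card H = 32 := by
    rw [Sylow.card_eq_multiplicity, hG, show (1440 : ℕ) = 2 ^ 5 * 45 from rfl,
      Nat.factorization_mul_apply_of_coprime (by decide), Nat.prime_two.factorization_pow,
      Finsupp.single_eq_same, Nat.factorization_eq_zero_of_not_dvd (by decide)]
    norm_num
  have h8 : ∀ y : G, Nat.card (((MulAut.conj y • (H : Subgroup G)).subgroupOf N).map e.toMonoidHom) = 8 := by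
    intro y
    rw [Nat.card_congr (((MulAut.conj y • (H : Subgroup G)).subgroupOf N).equivMapOfInjective _ e.injective).toEquiv.symm]
    set K := MulAut.conj y • (H : Subgroup G)
    have hK : Nat.card K = 32 := by
      rw [← hH]
      exact Nat.card_congr (Subgroup.equivSMul _ _).toEquiv.symm
    have hp : IsPGroup 2 (K.subgroupOf N) :=
      (IsPGroup.of_card (n := 5) (by rw [hK]; rfl) : IsPGroup 2 K).comap_of_injective N.subtype N.subtype_injective
    obtain ⟨S, hS⟩ := (hp.map e.toMonoidHom).exists_le_sylow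
    have h1 := Subgroup.card_le_of_le hS
    rw [show Nat.card (S : Subgroup (alternatingGroup (Fin 6))) = 8 from card_sylow_six S,
      Nat.card_congr ((K.subgroupOf N).equivMapOfInjective _ e.injective).toEquiv.symm] at h1
    have e1 : Nat.card (K.subgroupOf N) = Nat.card (N.subgroupOf K) := by
      refine Nat.card_congr
        { toFun := fun a => ⟨⟨(a : N), Subgroup.mem_subgroupOf.1 a.2⟩, Subgroup.mem_subgroupOf.2 (a : N).2⟩
          invFun := fun a => ⟨⟨(a : K), Subgroup.mem_subgroupOf.1 a.2⟩, Subgroup.mem_subgroupOf.2 (a : K).2⟩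
          left_inv := fun a => rfl
          right_inv := fun a => rfl }
    have h2 := (N.subgroupOf K).index_mul_card
    have h3 : N.relIndex K ≤ 4 := hidx ▸ Nat.le_of_dvd (Nat.pos_of_ne_zero Subgroup.FiniteIndex.index_ne_zero) (Subgroup.relIndex_dvd_index_of_normal N _)
    rw [hK, ← e1] at h2
    have h4 : (N.subgroupOf K).index ≤ 4 := h3
    nlinarith
  let f : G → Sylow 2 (alternatingGroup (Fin 6)) := fun y =>
    Sylow.ofCard (((MulAut.conj y • (H : Subgroup G)).subgroupOf N).map e.toMonoidHom) (by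
      rw [h8 y, ← Sylow.card_eq_multiplicity (default : Sylow 2 (alternatingGroup (Fin 6))), card_sylow_six])
  -- normalisers of `H ∩ N`
  have hnorm : ∀ k : G, (∀ m : N, (m : G) ∈ (H : Subgroup G) →
      k * m * k⁻¹ ∈ (H : Subgroup G)) → k ∈ (H : Subgroup G) := by
    intro k hk
    let L : Subgroup G := Subgroup.normalizer (((H : Subgroup G) ⊓ N : Subgroup G) : Set G)
    have hHL : (H : Subgroup G) ≤ L := fun h hh => Subgroup.mem_normalizer_iff.2 fun m => by
      constructor
      · exact fun hm => Subgroup.mem_inf.2 ⟨mul_mem (mul_mem hh hm.1) (inv_mem hh), Subgroup.Normal.conj_mem inferInstance _ hm.2 h⟩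
      · intro hm
        have h1 := mul_mem (mul_mem (inv_mem hh) hm.1) hh
        have h2 := Subgroup.Normal.conj_mem (H := N) inferInstance _ hm.2 h⁻¹
        simp [mul_assoc] at h1 h2
        exact ⟨h1, h2⟩
    have hkL : k ∈ L := by
      have hfin : ∀ m ∈ (H : Subgroup G) ⊓ N, k * m * k⁻¹ ∈ (H : Subgroup G) ⊓ N :=
        fun m hm => ⟨hk ⟨m, hm.2⟩ hm.1, Subgroup.Normal.conj_mem inferInstance _ hm.2 k⟩
      have hinj : Function.Injective (fun m : ↥((H : Subgroup G) ⊓ N) =>
          (⟨k * m * k⁻¹, hfin m m.2⟩ : ↥((H : Subgroup G) ⊓ N))) :=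
        fun a b h => Subtype.ext (by simpa using congrArg Subtype.val h)
      refine Subgroup.mem_normalizer_iff.2 fun m => ⟨hfin m, fun hm => ?_⟩
      obtain ⟨⟨a, ha⟩, hae⟩ := Finite.injective_iff_surjective.1 hinj ⟨_, hm⟩
      have hae' := congrArg Subtype.val hae
      simp only [mul_left_inj, mul_right_inj] at hae'
      rwa [← hae']
    have hLN : (L.subgroupOf N).map e.toMonoidHom ≤ (f 1 : Subgroup (alternatingGroup (Fin 6))) := by
      rintro _ ⟨m, hm, rfl⟩
      rw [← Cfsg.Lib.Known.SylowTwoMax.alt_selfNorm (le_refl 6) (f 1)]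
      have hmap : ∀ y : N, e y ∈ (f 1 : Subgroup (alternatingGroup (Fin 6))) ↔ (y : G) ∈ (H : Subgroup G) ⊓ N := by
        intro y
        show e y ∈ ((MulAut.conj (1 : G) • (H : Subgroup G)).subgroupOf N).map e.toMonoidHom ↔ _
        rw [show e y = e.toMonoidHom y from rfl, Subgroup.mem_map_iff_mem e.injective, Subgroup.mem_subgroupOf,
          map_one, one_smul]
        exact ⟨fun h => ⟨h, y.2⟩, fun h => h.1⟩
      refine Subgroup.mem_normalizer_iff.2 fun z => ?_
      obtain ⟨y, rfl⟩ := e.surjective z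
      show e y ∈ _ ↔ e m * e y * (e m)⁻¹ ∈ _
      rw [← map_mul, ← map_inv, ← map_mul, hmap, hmap]
      exact Subgroup.mem_normalizer_iff.1 (Subgroup.mem_subgroupOf.1 hm) y
    have hcardN : Nat.card (L.subgroupOf N) ≤ 8 := by
      rw [Nat.card_congr ((L.subgroupOf N).equivMapOfInjective e.toMonoidHom e.injective).toEquiv]
      exact (Subgroup.card_le_of_le hLN).trans (card_sylow_six _).le
    have e1 : Nat.card (L.subgroupOf N) = Nat.card (N.subgroupOf L) := by
      refine Nat.card_congr
        { toFun := fun a => ⟨⟨(a : N), Subgroup.mem_subgroupOf.1 a.2⟩, Subgroup.mem_subgroupOf.2 (a : N).2⟩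
          invFun := fun a => ⟨⟨(a : L), Subgroup.mem_subgroupOf.1 a.2⟩, Subgroup.mem_subgroupOf.2 (a : L).2⟩
          left_inv := fun a => rfl
          right_inv := fun a => rfl }
    have h2 := (N.subgroupOf L).index_mul_card
    have h3 : (N.subgroupOf L).index ≤ 4 := hidx ▸ Nat.le_of_dvd (Nat.pos_of_ne_zero Subgroup.FiniteIndex.index_ne_zero) (Subgroup.relIndex_dvd_index_of_normal N _)
    have hL : Nat.card L ≤ 32 := by
      rw [← h2, ← e1]; exact (Nat.mul_le_mul h3 hcardN)
    have heq : (H : Subgroup G) = L :=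
      Subgroup.eq_of_le_of_card_ge hHL (le_of_le_of_eq hL hH.symm)
    rw [heq]; exact hkL
  have hmem : ∀ (y : G) (m : N), e m ∈ (f y : Subgroup (alternatingGroup (Fin 6))) ↔
      y⁻¹ * m * y ∈ (H : Subgroup G) := by
    intro y m
    show e m ∈ ((MulAut.conj y • (H : Subgroup G)).subgroupOf N).map e.toMonoidHom ↔ _
    rw [show e m = e.toMonoidHom m from rfl, Subgroup.mem_map_iff_mem e.injective, Subgroup.mem_subgroupOf,
      Subgroup.mem_pointwise_smul_iff_inv_smul_mem]
    simp [MulAut.smul_def]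
  have hTi : ∀ h : H, (f 1 : Subgroup (alternatingGroup (Fin 6))) ⊓
      (f ((h : G) * x) : Subgroup (alternatingGroup (Fin 6))) = ⊥ := by
    intro h
    rw [Subgroup.eq_bot_iff_forall]
    intro z hz
    obtain ⟨m, rfl⟩ := e.surjective z
    have h1 := (hmem 1 m).1 hz.1
    have h2 := (hmem _ m).1 hz.2
    simp at h1
    have h3 : (h : G)⁻¹ * m * h ∈ (H : Subgroup G) ⊓ MulAut.conj x • (H : Subgroup G) := by
      refine Subgroup.mem_inf.2 ⟨mul_mem (mul_mem (inv_mem h.2) h1) h.2, ?_⟩
      rw [Subgroup.mem_pointwise_smul_iff_inv_smul_mem]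
      simpa [MulAut.smul_def, mul_assoc] using h2
    rw [hbot, Subgroup.mem_bot] at h3
    have : (m : G) = 1 := by
      have h3' := congrArg (fun y => (h : G) * y * (h : G)⁻¹) h3
      simpa [mul_assoc] using h3'
    rw [show m = 1 from Subtype.ext this, map_one]
  have hclose : ∀ h : H, (Close (f 1) (f ((h : G) * x)) ↔ Close (f 1) (f x)) := by
    intro h
    let θ : alternatingGroup (Fin 6) ≃* alternatingGroup (Fin 6) :=
      e.symm.trans ((MulAut.conjNormal (h : G)).trans e)
    have hθ : ∀ (y : G) (z : alternatingGroup (Fin 6)), θ z ∈ (f ((h : G) * y) : Subgroup (alternatingGroup (Fin 6))) ↔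
        z ∈ (f y : Subgroup (alternatingGroup (Fin 6))) := by
      intro y z
      obtain ⟨m, rfl⟩ := e.surjective z
      show e (MulAut.conjNormal (h : G) (e.symm (e m))) ∈ _ ↔ _
      rw [e.symm_apply_apply, hmem, hmem, MulAut.conjNormal_apply]
      simp [mul_assoc]
    have h1 : f ((h : G) * 1) = f 1 := by
      refine Sylow.ext (Subgroup.ext fun z => ?_)
      obtain ⟨m, rfl⟩ := e.surjective z
      rw [hmem, hmem, mul_one]
      simp only [inv_one, one_mul, mul_one]
      exact ⟨fun hm => by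
          have hh := mul_mem (mul_mem h.2 hm) (inv_mem h.2)
          simp [mul_assoc] at hh
          exact hh,
        fun hm => mul_mem (mul_mem (inv_mem h.2) hm) h.2⟩
    constructor
    · intro hC p hp r hr hp2 hr2
      have k := hC (θ p) (by rw [← h1, hθ]; exact hp) (θ r) ((hθ x r).2 hr)
        (fun e' => hp2 (by rw [← map_mul] at e'; exact θ.injective (e'.trans (map_one θ).symm)))
        (fun e' => hr2 (by rw [← map_mul] at e'; exact θ.injective (e'.trans (map_one θ).symm)))
      rw [← map_mul, ← map_mul, ← map_mul, ← map_pow] at k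
      exact θ.injective (k.trans (map_one θ).symm)
    · intro hC p hp r hr hp2 hr2
      obtain ⟨p, rfl⟩ := θ.surjective p
      obtain ⟨r, rfl⟩ := θ.surjective r
      rw [← h1, hθ] at hp
      rw [hθ] at hr
      have k := hC p hp r hr (fun e' => hp2 (by rw [← map_mul, e', map_one]))
        (fun e' => hr2 (by rw [← map_mul, e', map_one]))
      rw [← map_mul, ← map_mul, ← map_mul, ← map_pow, k, map_one]
  have hinj : Function.Injective (fun h : H => (⟨f ((h : G) * x), hTi h, hclose h⟩ :
      {R : Sylow 2 (alternatingGroup (Fin 6)) // (f 1 : Subgroup (alternatingGroup (Fin 6))) ⊓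
        (R : Subgroup (alternatingGroup (Fin 6))) = ⊥ ∧ (Close (f 1) R ↔ Close (f 1) (f x))})) := by
    intro a b hab
    have hab' : f ((a : G) * x) = f ((b : G) * x) := congrArg Subtype.val hab
    have hk : ((b : G) * x)⁻¹ * ((a : G) * x) ∈ (H : Subgroup G) := by
      refine hnorm _ fun m hm => ?_
      set y := (a : G) * x
      have hmN : y * m * y⁻¹ ∈ N := Subgroup.Normal.conj_mem inferInstance _ m.2 y
      have h1 : e ⟨_, hmN⟩ ∈ (f y : Subgroup (alternatingGroup (Fin 6))) := (hmem y _).2 (by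
        simpa [mul_assoc] using hm)
      rw [hab'] at h1
      have h2 := (hmem _ _).1 h1
      simpa [mul_assoc] using h2
    have h4 : (b : G)⁻¹ * a ∈ (H : Subgroup G) ⊓ MulAut.conj x • (H : Subgroup G) := by
      refine Subgroup.mem_inf.2 ⟨mul_mem (inv_mem b.2) a.2, ?_⟩
      rw [Subgroup.mem_pointwise_smul_iff_inv_smul_mem]
      simpa [MulAut.smul_def, mul_assoc] using hk
    rw [hbot, Subgroup.mem_bot, inv_mul_eq_one] at h4
    exact Subtype.ext h4.symm
  have hle := (Nat.card_le_card_of_injective _ hinj).trans (few (f 1) _)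
  change Nat.card H ≤ 16 at hle
  rw [hH] at hle
  omega

end Cfsg.Lib.AutAltSix
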