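import Cfsg.Agent.Known.AltAutomizer
import Mathlib

/-! The elements of `A₆` moving a fixed Sylow 2-subgroup to one meeting it trivially, by kind. -/

set_option autoImplicit false
set_option linter.unusedSectionVars false

namespace Cfsg.Lib.AutAltSix

open Cfsg.Lib.AltAutomizer

/-- The central involution. -/
def zed : Equiv.Perm (Fin 6) := Equiv.swap 0 2 * Equiv.swap 1 3

theorem zed_sq : ∀ a ∈ eight, a * a ≠ 1 → a * a = zed := by decide +kernel

theorem zed_root : ∃ a ∈ eight, a * a = zed ∧ a * a ≠ 1 := by decide +kernel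

/-- The pairing condition on elements. -/
abbrev close0 (g : Equiv.Perm (Fin 6)) : Prop := (zed * (g * zed * g⁻¹)) ^ 3 = 1

theorem close0_iff (g : Equiv.Perm (Fin 6)) : close0 g ↔
    ∀ a ∈ eight, ∀ b ∈ eight, a * a ≠ 1 → b * b ≠ 1 → ((a * a) * (g * (b * b) * g⁻¹)) ^ 3 = 1 := by
  constructor
  · intro h a ha b hb ha2 hb2
    rw [zed_sq a ha ha2, zed_sq b hb hb2]; exact h
  · intro h
    obtain ⟨a, ha, he, hne⟩ := zed_root
    have := h a ha a ha hne hne
    rwa [he] at this

/-- The elements moving the dihedral group to one meeting it trivially, of one of the two kinds. -/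
def kind (t : Bool) : Finset (Equiv.Perm (Fin 6)) :=
  (Finset.univ.filter fun g : Equiv.Perm (Fin 6) =>
    Equiv.Perm.sign g = 1 ∧ ∀ a ∈ eight, g * a * g⁻¹ ∈ eight → a = 1).filter fun g => decide (close0 g) = t

theorem count : ∀ t, (kind t).card = 128 := by decide +kernel

end Cfsg.Lib.AutAltSix
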