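import Cfsg.Agent.Classical.SL
import Mathlib.LinearAlgebra.Matrix.SchurComplement

/-!
Three conjugates of a regular unipotent generate `SL n` for `n ≥ 4`.
-/

namespace Cfsg.Lib.Known.ThreeUnipotents

open Matrix

variable {F : Type*} [Field F] {n : ℕ}

/-- The superdiagonal nilpotent. -/
def J (n : ℕ) (F : Type*) [Field F] : Matrix (Fin n) (Fin n) F :=
  fun i j => if j.1 = i.1 + 1 then 1 else 0

theorem vecMul_J_of_lt (k : Fin n) (h : k.1 + 1 < n) :
    Pi.single k (1 : F) ᵥ* J n F = Pi.single ⟨k.1 + 1, h⟩ 1 := by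
  ext j
  rw [single_one_vecMul]
  simp [J, Pi.single_apply, Fin.ext_iff]

theorem vecMul_J_last (k : Fin n) (h : k.1 + 1 = n) : Pi.single k (1 : F) ᵥ* J n F = 0 := by
  ext j
  rw [single_one_vecMul]
  simp [J]
  omega

theorem J_mulVec_of_pos (k j : Fin n) (h : k.1 = j.1 + 1) : J n F *ᵥ Pi.single k 1 = Pi.single j 1 := by
  ext i
  rw [mulVec_single_one]
  simp [J, Pi.single_apply, Fin.ext_iff, h]
  congr 1
  exact propext ⟨fun e => e.symm, fun e => e.symm⟩

theorem J_mulVec_zero (k : Fin n) (h : k.1 = 0) : J n F *ᵥ Pi.single k 1 = 0 := by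
  ext i
  rw [mulVec_single_one]
  simp [J, h]

theorem J_pow_apply (m : ℕ) : ∀ i j : Fin n, (J n F ^ m) i j = if j.1 = i.1 + m then 1 else 0 := by
  induction m with
  | zero => intro i j; simp [Matrix.one_apply, Fin.ext_iff, eq_comm]
  | succ m ih =>
    intro i j
    rw [pow_succ, Matrix.mul_apply]
    by_cases hj : j.1 = i.1 + (m + 1)
    · rw [if_pos hj, Finset.sum_eq_single (⟨i.1 + m, by omega⟩ : Fin n)]
      · simp [ih, J]; omega
      · intro b _ hb
        rw [ih, if_neg (fun h => hb (Fin.ext h)), zero_mul]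
      · simp
    · rw [if_neg hj]
      refine Finset.sum_eq_zero fun b _ => ?_
      rw [ih]
      simp only [J, ite_mul, zero_mul, one_mul]
      split_ifs <;> first | rfl | omega | tauto | (exfalso; simp_all; done) | (exfalso; simp_all; omega)

/-- The regular unipotent. -/
def uMat (n : ℕ) (F : Type*) [Field F] : SpecialLinearGroup (Fin n) F := ⟨1 + J n F, by
  rw [Matrix.det_of_isUpperTriangular]
  · refine Finset.prod_eq_one fun i _ => ?_
    simp [J]
  · intro i j h
    have h' : j < i := h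
    simp [J, Matrix.one_apply, h'.ne']
    omega⟩

theorem coe_uMat : (uMat n F : Matrix (Fin n) (Fin n) F) = 1 + J n F := rfl

theorem uMat_regular (hn : 0 < n) : IsNilpotent ((uMat n F : Matrix (Fin n) (Fin n) F) - 1) ∧
    ((uMat n F : Matrix (Fin n) (Fin n) F) - 1) ^ (n - 1) ≠ 0 := by
  rw [coe_uMat, add_sub_cancel_left]
  refine ⟨⟨n, ?_⟩, fun h => ?_⟩
  · ext i j
    rw [J_pow_apply, Matrix.zero_apply, if_neg]
    omega
  · have h1 := congrFun (congrFun h ⟨0, hn⟩) ⟨n - 1, by omega⟩
    rw [J_pow_apply] at h1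
    simp at h1

/-- Conjugating a transvection `1 + x w φ`. -/
theorem conj_rank_one {g h h' : SpecialLinearGroup (Fin n) F} (w φ v ψ : Fin n → F) (x : F)
    (hh : (h : Matrix (Fin n) (Fin n) F) = 1 + x • vecMulVec w φ)
    (hh' : (h' : Matrix (Fin n) (Fin n) F) = 1 + x • vecMulVec v ψ)
    (hw : (g : Matrix (Fin n) (Fin n) F) *ᵥ w = v) (hφ : ψ ᵥ* (g : Matrix (Fin n) (Fin n) F) = φ) :
    h' = g * h * g⁻¹ := by
  rw [eq_mul_inv_iff_mul_eq]
  apply Subtype.ext
  change (h' : Matrix (Fin n) (Fin n) F) * (g : Matrix (Fin n) (Fin n) F) =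
    (g : Matrix (Fin n) (Fin n) F) * (h : Matrix (Fin n) (Fin n) F)
  rw [hh, hh', add_mul, mul_add, one_mul, mul_one, smul_mul_assoc, mul_smul_comm, vecMulVec_mul, mul_vecMulVec, hw, hφ]

theorem transv_eq {i j : Fin n} (h : i ≠ j) (x : F) :
    (SpecialLinearGroup.transvection h x : Matrix (Fin n) (Fin n) F) = 1 + x • vecMulVec (Pi.single i 1) (Pi.single j 1) := by
  rw [SpecialLinearGroup.transvection_coe]
  ext r s
  simp [vecMulVec_apply, Pi.single_apply, Matrix.single, eq_comm, ite_and]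
  split_ifs <;> rfl

/-- The element `1 + x w φ` when `φ w = 0`. -/
noncomputable def rankOne (w φ : Fin n → F) (h : φ ⬝ᵥ w = 0) (x : F) : SpecialLinearGroup (Fin n) F :=
  ⟨1 + x • vecMulVec w φ, by
    rw [← smul_vecMulVec, vecMulVec_eq Unit, Matrix.det_one_add_replicateCol_mul_replicateRow, dotProduct_smul, h, smul_zero, add_zero]⟩

theorem coe_rankOne (w φ : Fin n → F) (h : φ ⬝ᵥ w = 0) (x : F) :
    (rankOne w φ h x : Matrix (Fin n) (Fin n) F) = 1 + x • vecMulVec w φ := rfl

theorem rankOne_mul_left (w w' φ : Fin n → F) (h : φ ⬝ᵥ w = 0) (h' : φ ⬝ᵥ w' = 0) (x : F) :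
    rankOne w φ h x * rankOne w' φ h' x = rankOne (w + w') φ (by rw [dotProduct_add, h, h', add_zero]) x := by
  apply Subtype.ext
  change (1 + x • vecMulVec w φ) * (1 + x • vecMulVec w' φ) = 1 + x • vecMulVec (w + w') φ
  rw [mul_add, mul_one, add_mul, one_mul, smul_mul_assoc, mul_smul_comm, vecMulVec_mul_vecMulVec, h']
  simp [add_vecMulVec, smul_add, add_assoc]

theorem rankOne_mul_right (w φ φ' : Fin n → F) (h : φ ⬝ᵥ w = 0) (h' : φ' ⬝ᵥ w = 0) (x : F) :
    rankOne w φ h x * rankOne w φ' h' x = rankOne w (φ + φ') (by rw [add_dotProduct, h, h', add_zero]) x := by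
  apply Subtype.ext
  change (1 + x • vecMulVec w φ) * (1 + x • vecMulVec w φ') = 1 + x • vecMulVec w (φ + φ')
  rw [mul_add, mul_one, add_mul, one_mul, smul_mul_assoc, mul_smul_comm, vecMulVec_mul_vecMulVec, h]
  simp [vecMulVec_add, smul_add, add_assoc]

theorem rankOne_single {i j : Fin n} (h : i ≠ j) (x : F) :
    rankOne (Pi.single i 1) (Pi.single j 1) (by simp [h]) x = SpecialLinearGroup.transvection h x :=
  Subtype.ext (transv_eq h x).symm

/-- Everything is generated. -/
theorem eq_top [Fintype F] (hn : 4 ≤ n) (H : Subgroup (SpecialLinearGroup (Fin n) F)) {α : F}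
    (u' : SpecialLinearGroup (Fin n) F) (s : F) (hs : s ≠ 0)
    (hα : ∀ x : F, x ≠ 0 → ∃ k : ℕ, x = α * (s * α) ^ k)
    (hu : uMat n F ∈ H) (hu' : u' ∈ H)
    (hT : SpecialLinearGroup.transvection (show (⟨0, by omega⟩ : Fin n) ≠ ⟨2, by omega⟩ by simp [Fin.ext_iff]) α ∈ H)
    (hcol : (u' : Matrix (Fin n) (Fin n) F) *ᵥ Pi.single ⟨0, by omega⟩ 1 =
      Pi.single ⟨0, by omega⟩ 1 + s • Pi.single ⟨n - 1, by omega⟩ 1)
    (hrow : ∀ (k : Fin n) (hk : k.1 + 1 < n), 1 ≤ k.1 → Pi.single k (1 : F) ᵥ* (u' : Matrix (Fin n) (Fin n) F) =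
      Pi.single k 1 + Pi.single ⟨k.1 + 1, hk⟩ 1)
    (hrow0 : Pi.single (⟨0, by omega⟩ : Fin n) (1 : F) ᵥ* (u' : Matrix (Fin n) (Fin n) F) =
      Pi.single ⟨0, by omega⟩ 1)
    (hcoll : (u' : Matrix (Fin n) (Fin n) F) *ᵥ Pi.single ⟨n - 1, by omega⟩ 1 =
      Pi.single ⟨n - 1, by omega⟩ 1 + Pi.single ⟨n - 2, by omega⟩ 1)
    (hlast : Pi.single (⟨n - 1, by omega⟩ : Fin n) (1 : F) ᵥ* (u' : Matrix (Fin n) (Fin n) F) =
      Pi.single ⟨n - 1, by omega⟩ 1 + s • Pi.single ⟨0, by omega⟩ 1) : H = ⊤ := by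
  classical
  let i0 : Fin n := ⟨0, by omega⟩
  let i1 : Fin n := ⟨1, by omega⟩
  let i2 : Fin n := ⟨2, by omega⟩
  let il : Fin n := ⟨n - 1, by omega⟩
  -- `R i j x` : the elementary transvection lies in `H`
  let R : Fin n → Fin n → F → Prop := fun i j x => ∀ h : i ≠ j, SpecialLinearGroup.transvection h x ∈ H
  have hR : ∀ {i j : Fin n} (h : i ≠ j) (x : F),
      R i j x → rankOne (Pi.single i 1) (Pi.single j 1) (by simp [h]) x ∈ H := fun h x hx => by
    rw [rankOne_single h]; exact hx h
  have hcomm : ∀ {i j k : Fin n} (x y : F), i ≠ j → j ≠ k → i ≠ k → R i j x → R j k y → R i k (x * y) := by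
    intro i j k x y hij hjk hik hx hy h
    have e : SpecialLinearGroup.transvection hij x * SpecialLinearGroup.transvection hjk y *
        (SpecialLinearGroup.transvection hij x)⁻¹ * (SpecialLinearGroup.transvection hjk y)⁻¹ =
        SpecialLinearGroup.transvection h (x * y) := by
      rw [SpecialLinearGroup.transvection_inv, SpecialLinearGroup.transvection_inv]
      apply Subtype.ext
      simp [SpecialLinearGroup.coe_mul, SpecialLinearGroup.transvection_coe, mul_add, add_mul,
        Matrix.transvection, single_mul_single_of_ne, hij, hjk, hik, hij.symm, hjk.symm, hik.symm]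
      simp only [← single_neg]
      abel
    rw [← e]
    exact H.mul_mem (H.mul_mem (H.mul_mem (hx hij) (hy hjk)) (H.inv_mem (hx hij))) (H.inv_mem (hy hjk))
  have hneg : ∀ {i j : Fin n} (x : F), R i j x → R i j (-x) := fun x hx h => by
    rw [← SpecialLinearGroup.transvection_inv]
    exact H.inv_mem (hx h)
  -- the first row, columns `≥ 2`
  have hrow1 : ∀ x, R i0 i2 x → ∀ k : Fin n, 2 ≤ k.1 → R i0 k x := by
    intro x hx
    suffices ∀ m, ∀ k : Fin n, k.1 = m + 2 → R i0 k x from fun k hk => this (k.1 - 2) k (by omega)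
    intro m
    induction m with
    | zero => intro k hk; rw [show k = i2 from Fin.ext hk]; exact hx
    | succ m ih =>
      intro k hk h
      set j : Fin n := ⟨m + 2, by omega⟩
      have hj : i0 ≠ j := by simp [i0, j, Fin.ext_iff]
      -- conjugating by `u⁻¹` adds the next basis functional
      have hjk : Pi.single j (1 : F) ᵥ* (uMat n F : Matrix (Fin n) (Fin n) F) = Pi.single j 1 + Pi.single k 1 := by
        rw [coe_uMat, vecMul_add, vecMul_one, vecMul_J_of_lt j (by simp [j]; omega)]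
        congr 2
        exact Fin.ext (by simp [j]; omega)
      have hu0 : (uMat n F : Matrix (Fin n) (Fin n) F) *ᵥ Pi.single i0 1 = Pi.single i0 1 := by
        rw [coe_uMat, add_mulVec, one_mulVec, J_mulVec_zero i0 rfl, add_zero]
      have hd : (Pi.single j (1 : F) + Pi.single k 1 : Fin n → F) ⬝ᵥ Pi.single i0 1 = 0 := by
        simp [hj, h]
      have e1 := conj_rank_one (g := uMat n F) (h := rankOne (Pi.single i0 1) (Pi.single j 1 + Pi.single k 1) hd x)
        (h' := rankOne (Pi.single i0 1) (Pi.single j 1) (by simp [hj]) x) _ _ _ _ x rfl rfl hu0 hjk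
      have h1 : rankOne (Pi.single i0 1) (Pi.single j 1 + Pi.single k 1) hd x ∈ H := by
        have h0 := hR hj x (ih j rfl)
        rw [e1] at h0
        simpa [mul_assoc] using H.mul_mem (H.mul_mem (H.inv_mem hu) h0) hu
      rw [← rankOne_mul_right _ _ _ (by simp [hj]) (by simp [h]), H.mul_mem_cancel_left (hR hj x (ih j rfl)),
        rankOne_single h] at h1
      exact h1
  -- the last row, columns `2 ≤ k < n - 1`
  have hrowl : ∀ x, R i0 i2 x → ∀ k : Fin n, 2 ≤ k.1 → k.1 + 1 < n → R il k (s * x) := by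
    intro x hx k hk hk' h
    set k' : Fin n := ⟨k.1 + 1, hk'⟩
    have hk0 : i0 ≠ k := by simp [i0, Fin.ext_iff]; omega
    have hk0' : i0 ≠ k' := by simp [i0, k', Fin.ext_iff]
    have hd : (Pi.single k (1 : F) + Pi.single k' 1 : Fin n → F) ⬝ᵥ Pi.single i0 1 = 0 := by
      simp [add_dotProduct, hk0, hk0']
    have hsum : rankOne (Pi.single i0 1) (Pi.single k 1 + Pi.single k' 1) hd x ∈ H := by
      rw [← rankOne_mul_right _ _ _ (by simp [hk0]) (by simp [hk0'])]
      exact H.mul_mem (hR hk0 x (hrow1 x hx k hk)) (hR hk0' x (hrow1 x hx k' (by simp [k']; omega)))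
    have hd' : Pi.single k (1 : F) ⬝ᵥ (s • Pi.single il 1) = 0 := by simp [Pi.single_apply, h.symm]
    have e1 := conj_rank_one (g := u') (h := rankOne (Pi.single i0 1) (Pi.single k 1 + Pi.single k' 1) hd x)
      (h' := rankOne (Pi.single i0 1 + s • Pi.single il 1) (Pi.single k 1)
        (by rw [dotProduct_add, hd']; simp [hk0]) x) _ _ _ _ x rfl rfl hcol (hrow k hk' (by omega))
    have h1 : rankOne (Pi.single i0 1 + s • Pi.single il 1) (Pi.single k 1)
        (by rw [dotProduct_add, hd']; simp [hk0]) x ∈ H :=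
      e1 ▸ H.mul_mem (H.mul_mem hu' hsum) (H.inv_mem hu')
    rw [← rankOne_mul_left _ _ _ (by simp [hk0]) hd', H.mul_mem_cancel_left (hR hk0 x (hrow1 x hx k hk))] at h1
    have e2 : rankOne (s • Pi.single il 1) (Pi.single k 1) hd' x = SpecialLinearGroup.transvection h (s * x) := by
      apply Subtype.ext
      rw [coe_rankOne, transv_eq h, smul_vecMulVec, smul_smul, mul_comm]
    rwa [e2] at h1
  -- the first row is full
  have hi02 : i0 ≠ i2 := by simp [i0, i2, Fin.ext_iff]
  have hi0l : i0 ≠ il := by simp [i0, il, Fin.ext_iff]; omega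
  have hil2 : il ≠ i2 := by simp [il, i2, Fin.ext_iff]; omega
  have hzero : ∀ {i j : Fin n}, R i j 0 := fun {i j} h => by
    have : SpecialLinearGroup.transvection h (0 : F) = 1 := Subtype.ext (by simp [SpecialLinearGroup.transvection_coe])
    rw [this]; exact H.one_mem
  have hadd : ∀ {i j : Fin n} (x y : F), R i j x → R i j y → R i j (x + y) := fun x y hx hy h => by
    rw [SpecialLinearGroup.transvection_add]
    exact H.mul_mem (hx h) (hy h)
  have hfull : ∀ x, R i0 i2 x := by
    -- the set of good parameters is closed under multiplication by `s * α`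
    intro x
    have hstep : ∀ y, R i0 i2 y → ∀ m, R i0 i2 (y * (s * α) ^ m) := by
      intro y hy m
      induction m with
      | zero => simpa using hy
      | succ m ih =>
        have h2 := hcomm _ _ hi0l hil2 hi02 (hrow1 _ ih il (by simp [il]; omega))
          (hrowl α (fun h => hT) i2 le_rfl (by simp [i2]; omega))
        rw [pow_succ, ← mul_assoc]; exact h2
    rcases eq_or_ne x 0 with rfl | hx
    · exact hzero
    obtain ⟨k, rfl⟩ := hα x hx
    exact hstep α (fun h => hT) k
  have hr0 : ∀ (k : Fin n), 2 ≤ k.1 → ∀ x, R i0 k x := fun k hk x => hrow1 x (hfull x) k hk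
  have hrl : ∀ (k : Fin n), 2 ≤ k.1 → k.1 + 1 < n → ∀ x, R il k x := fun k hk hk' x => by
    have := hrowl (s⁻¹ * x) (hfull _) k hk hk'
    rwa [← mul_assoc, mul_inv_cancel₀ hs, one_mul] at this
  let iq : Fin n := ⟨n - 2, by omega⟩
  have hq0 : iq ≠ i0 := by simp [iq, i0, Fin.ext_iff]; omega
  have hql : iq ≠ il := by simp [iq, il, Fin.ext_iff]; omega
  have hlq : ∀ x, R il iq x := hrl iq (by simp [iq]; omega) (by simp [iq]; omega)
  have hrowq : Pi.single iq (1 : F) ᵥ* (u' : Matrix (Fin n) (Fin n) F) =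
      Pi.single iq 1 + Pi.single il 1 := by
    rw [hrow iq (by simp [iq]; omega) (by simp [iq]; omega)]
    congr 2
    exact Fin.ext (by simp [iq, il]; omega)
  have hrowz : Pi.single i0 (1 : F) ᵥ* (u' : Matrix (Fin n) (Fin n) F) = Pi.single i0 1 := by
    exact hrow0
  have hz : ∀ (φ : Fin n → F), φ iq = 0 → φ ⬝ᵥ Pi.single iq 1 = 0 := fun φ h => by simp [h]
  -- an element moving `e_l` to `e_q`
  have hmix : ∀ x, rankOne (Pi.single iq 1) (s • Pi.single i0 1 - Pi.single il 1)
      (hz _ (by simp [hq0, hql])) x ∈ H := by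
    intro x
    have hd : (s • Pi.single i0 (1 : F) - Pi.single il 1 + Pi.single iq 1) ⬝ᵥ
        (Pi.single il 1 + Pi.single iq 1) = 0 := by
      simp [dotProduct_add, add_dotProduct, sub_dotProduct, hq0, hql, hql.symm, hi0l, hi0l.symm, hq0.symm]
    have hcolq : (u' : Matrix (Fin n) (Fin n) F) *ᵥ Pi.single il 1 = Pi.single il 1 + Pi.single iq 1 := hcoll
    have e1 := conj_rank_one (g := u') (h := rankOne (Pi.single il 1) (Pi.single iq 1) (by simp [hql]) x)
      (h' := rankOne (Pi.single il 1 + Pi.single iq 1)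
        (s • Pi.single i0 1 - Pi.single il 1 + Pi.single iq 1) hd x) _ _ _ _ x rfl rfl hcolq (by
        rw [add_vecMul, sub_vecMul, smul_vecMul, hrowz, hrowq]
        erw [hlast]
        simp only [i0, il]
        abel)
    have h1 : rankOne (Pi.single il 1 + Pi.single iq 1)
        (s • Pi.single i0 1 - Pi.single il 1 + Pi.single iq 1) hd x ∈ H :=
      e1 ▸ H.mul_mem (H.mul_mem hu' (hR hql.symm x (hlq x))) (H.inv_mem hu')
    have e2 := conj_rank_one (g := SpecialLinearGroup.transvection hql.symm (-1 : F))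
      (h := rankOne (Pi.single il 1 + Pi.single iq 1)
        (s • Pi.single i0 1 - Pi.single il 1 + Pi.single iq 1) hd x)
      (h' := rankOne (Pi.single iq 1) (s • Pi.single i0 1 - Pi.single il 1)
        (hz _ (by simp [hq0, hql])) x) _ _ _ _ x rfl rfl (by
        rw [transv_eq, add_mulVec, one_mulVec, smul_mulVec, vecMulVec_mulVec]
        simp [mulVec_add, hql, hql.symm]) (by
        rw [transv_eq, vecMul_add, vecMul_one, vecMul_smul, vecMul_vecMulVec]
        simp [sub_dotProduct, hq0, hq0.symm, hi0l, hi0l.symm])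
    exact e2 ▸ H.mul_mem (H.mul_mem (hlq _ _) h1) (H.inv_mem (hlq _ _))
  have hqlR : ∀ x, R iq il x := by
    intro x h
    set y := s⁻¹ * x with hy
    have hd1 : (s • Pi.single i0 (1 : F) - (1 + s) • Pi.single il 1) ⬝ᵥ Pi.single iq 1 = 0 :=
      hz _ (by simp [hq0, hql])
    have e1 := conj_rank_one (g := SpecialLinearGroup.transvection hi0l (1 : F))
      (h := rankOne (Pi.single iq 1) (s • Pi.single i0 1 - Pi.single il 1)
        (hz _ (by simp [hq0, hql])) y)
      (h' := rankOne (Pi.single iq 1) (s • Pi.single i0 1 - (1 + s) • Pi.single il 1) hd1 y)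
      _ _ _ _ y rfl rfl (by
        rw [transv_eq, add_mulVec, one_mulVec, smul_mulVec, vecMulVec_mulVec]
        simp [hql]) (by
        rw [transv_eq, vecMul_add, vecMul_one, vecMul_smul, vecMul_vecMulVec]
        simp [sub_dotProduct, hi0l, hi0l.symm, smul_smul, sub_smul, add_smul]
        abel)
    have h1 : rankOne (Pi.single iq 1) (s • Pi.single i0 1 - (1 + s) • Pi.single il 1) hd1 y ∈ H :=
      e1 ▸ H.mul_mem (H.mul_mem (hr0 il (by simp [il]; omega) _ _) (hmix y))
        (H.inv_mem (hr0 il (by simp [il]; omega) _ _))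
    have hd2 : (s • Pi.single il (1 : F) : Fin n → F) ⬝ᵥ Pi.single iq 1 = 0 := by simp [hql.symm, hql]
    have e3 : rankOne (Pi.single iq 1) (s • Pi.single i0 1 - Pi.single il 1) (hz _ (by simp [hq0, hql])) y =
        rankOne (Pi.single iq 1) (s • Pi.single i0 1 - (1 + s) • Pi.single il 1) hd1 y *
          rankOne (Pi.single iq 1) (s • Pi.single il 1) hd2 y := by
      rw [rankOne_mul_right]
      apply Subtype.ext
      simp only [coe_rankOne, add_smul, one_smul]
      congr 3
      abel
    have h2 := hmix y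
    rw [e3, H.mul_mem_cancel_left h1] at h2
    have e4 : rankOne (Pi.single iq 1) (s • Pi.single il 1) hd2 y = SpecialLinearGroup.transvection h x := by
      apply Subtype.ext
      rw [coe_rankOne, transv_eq h, vecMulVec_smul, smul_smul, hy, mul_comm, ← mul_assoc, mul_inv_cancel₀ hs, one_mul]
    rwa [e4] at h2
  have hq0R : ∀ x, R iq i0 x := by
    intro x h
    have hd2 : (s • Pi.single i0 (1 : F) : Fin n → F) ⬝ᵥ Pi.single iq 1 = 0 := by simp [hq0.symm, hq0]
    have hd3 : (-Pi.single il (1 : F)) ⬝ᵥ Pi.single iq 1 = 0 := by simp [hql.symm, hql]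
    have h2 := hmix (s⁻¹ * x)
    have e5 : rankOne (Pi.single iq 1) (-Pi.single il 1) hd3 (s⁻¹ * x) =
        SpecialLinearGroup.transvection hql (-(s⁻¹ * x)) := by
      apply Subtype.ext
      rw [coe_rankOne, transv_eq hql, vecMulVec_neg, smul_neg, neg_smul]
    have e4 : rankOne (Pi.single iq 1) (s • Pi.single i0 1) hd2 (s⁻¹ * x) =
        SpecialLinearGroup.transvection h x := by
      apply Subtype.ext
      rw [coe_rankOne, transv_eq h, vecMulVec_smul, smul_smul, mul_comm, ← mul_assoc, mul_inv_cancel₀ hs, one_mul]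
    rw [show rankOne (Pi.single iq 1) (s • Pi.single i0 1 - Pi.single il 1) _ (s⁻¹ * x) =
        rankOne (Pi.single iq 1) (s • Pi.single i0 1) hd2 (s⁻¹ * x) *
          rankOne (Pi.single iq 1) (-Pi.single il 1) hd3 (s⁻¹ * x) from by
        rw [rankOne_mul_right]; exact Subtype.ext (by simp only [coe_rankOne, sub_eq_add_neg]),
      e5, e4, H.mul_mem_cancel_right (hqlR _ _)] at h2
    exact h2
  -- all rows, columns `≥ 2`
  have hrows : ∀ d, ∀ j : Fin n, 1 ≤ j.1 → j.1 + d + 1 = n → ∀ k : Fin n, 2 ≤ k.1 → ∀ x, R j k x := by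
    intro d
    induction d with
    | zero =>
      intro j _ hj k hk x h
      have e : j = il := Fin.ext (by simp [il]; omega)
      subst e
      exact hrl k hk (by
        have := h.symm
        simp [il, Fin.ext_iff] at this
        omega) x h
    | succ d ih =>
      intro i hi hij
      set j : Fin n := ⟨i.1 + 1, by omega⟩ with hjdef
      have hj := ih j (by simp [j]) (by simp [j]; omega)
      have hij' : i ≠ j := by simp [j, Fin.ext_iff]
      have huj : (uMat n F : Matrix (Fin n) (Fin n) F) *ᵥ Pi.single j 1 = Pi.single j 1 + Pi.single i 1 := by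
        rw [coe_uMat, add_mulVec, one_mulVec, J_mulVec_of_pos j i rfl]
      have main : ∀ k : Fin n, 2 ≤ k.1 → k ≠ j → ∀ x, R i k x := by
        intro k hk hkj x hik
        have fin : ∀ (φ : Fin n → F) (hd : φ ⬝ᵥ Pi.single j 1 = 0),
            Pi.single k (1 : F) ᵥ* (uMat n F : Matrix (Fin n) (Fin n) F) = φ →
            rankOne (Pi.single j 1) φ hd x ∈ H → SpecialLinearGroup.transvection hik x ∈ H := by
          intro φ hd hφ hm
          have e1 := conj_rank_one (g := uMat n F) (h := rankOne (Pi.single j 1) φ hd x)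
            (h' := rankOne (Pi.single j 1 + Pi.single i 1) (Pi.single k 1) (by simp [hkj.symm, hik]) x)
            _ _ _ _ x rfl rfl huj hφ
          have h1 : rankOne (Pi.single j 1 + Pi.single i 1) (Pi.single k 1) (by simp [hkj.symm, hik]) x ∈ H :=
            e1 ▸ H.mul_mem (H.mul_mem hu hm) (H.inv_mem hu)
          rw [← rankOne_mul_left _ _ _ (by simp [hkj.symm]) (by simp [hik]),
            H.mul_mem_cancel_left (hR hkj.symm x (hj k hk x)), rankOne_single hik] at h1
          exact h1
        by_cases hlt : k.1 + 1 < n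
        · set k' : Fin n := ⟨k.1 + 1, hlt⟩ with hk'def
          have hjk' : j ≠ k' := fun e => hik (Fin.ext (by simpa [j, k', Fin.ext_iff] using e))
          refine fin (Pi.single k 1 + Pi.single k' 1) (by simp [add_dotProduct, hkj.symm, hjk'])
            (by rw [coe_uMat, vecMul_add, vecMul_one, vecMul_J_of_lt k hlt]) ?_
          rw [← rankOne_mul_right _ _ _ (by simp [hkj.symm]) (by simp [hjk'])]
          exact H.mul_mem (hR hkj.symm x (hj k hk x)) (hR hjk' x (hj k' (by simp [k']; omega) x))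
        · refine fin (Pi.single k 1) (by simp [hkj.symm])
            (by rw [coe_uMat, vecMul_add, vecMul_one, vecMul_J_last k (by omega), add_zero]) ?_
          exact hR hkj.symm x (hj k hk x)
      intro k hk x
      by_cases hkj : k = j
      · subst hkj
        by_cases hjl : j.1 + 1 = n
        · have e1 : i = iq := Fin.ext (by simp [iq, j] at hjl ⊢; omega)
          have e2 : j = il := Fin.ext (by simp [il, j] at hjl ⊢; omega)
          rw [e2, e1]
          exact hqlR x
        · have hjl' : il ≠ j := by simp [il, Fin.ext_iff]; omega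
          have hil' : i ≠ il := by simp [il, Fin.ext_iff]; omega
          have := hcomm x 1 hil' hjl' hij' (main il (by simp [il]; omega) hjl' x)
            (hrl j hk (by simp [j] at hjl ⊢; omega) 1)
          rwa [mul_one] at this
      · exact main k hk hkj x
  have h2 : ∀ j k : Fin n, 2 ≤ k.1 → ∀ x, R j k x := by
    intro j k hk x
    by_cases hj : j.1 = 0
    · rw [show j = i0 from Fin.ext hj]; exact hr0 k hk x
    · exact hrows (n - 1 - j.1) j (by omega) (by omega) k hk x
  have h0 : ∀ j : Fin n, ∀ x, R j i0 x := by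
    intro j x h
    by_cases hjq : j = iq
    · subst hjq; exact hq0R x h
    · have := hcomm x 1 hjq hq0 h (h2 j iq (by simp [iq]; omega) x) (hq0R 1)
      rw [mul_one] at this
      exact this h
  have h1 : ∀ j : Fin n, 2 ≤ j.1 → ∀ x, R j i1 x := by
    intro j hj x h
    set i : Fin n := ⟨j.1 - 1, by omega⟩ with hidef
    have hi : i ≠ i0 := by simp [i, i0, Fin.ext_iff]; omega
    have hj0 : j ≠ i0 := by simp [i0, Fin.ext_iff]; omega
    have huj : (uMat n F : Matrix (Fin n) (Fin n) F) *ᵥ Pi.single j 1 = Pi.single j 1 + Pi.single i 1 := by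
      rw [coe_uMat, add_mulVec, one_mulVec, J_mulVec_of_pos j i (by simp [i]; omega)]
    have hu0 : Pi.single i0 (1 : F) ᵥ* (uMat n F : Matrix (Fin n) (Fin n) F) =
        Pi.single i0 1 + Pi.single i1 1 := by
      rw [coe_uMat, vecMul_add, vecMul_one, vecMul_J_of_lt i0 (by simp [i0]; omega)]
    have e1 := conj_rank_one (g := uMat n F)
      (h := rankOne (Pi.single j 1) (Pi.single i0 1 + Pi.single i1 1) (by simp [add_dotProduct, hj0, h]) x)
      (h' := rankOne (Pi.single j 1 + Pi.single i 1) (Pi.single i0 1) (by simp [hi, hj0]) x)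
      _ _ _ _ x rfl rfl huj hu0
    have m1 : rankOne (Pi.single j 1 + Pi.single i 1) (Pi.single i0 1) (by simp [hi, hj0]) x ∈ H := by
      rw [← rankOne_mul_left _ _ _ (by simp [hj0]) (by simp [hi])]
      exact H.mul_mem (hR hj0 x (h0 j x)) (hR hi x (h0 i x))
    rw [e1] at m1
    have m2 : rankOne (Pi.single j 1) (Pi.single i0 1 + Pi.single i1 1) (by simp [add_dotProduct, hj0, h]) x ∈ H := by
      simpa [mul_assoc] using H.mul_mem (H.mul_mem (H.inv_mem hu) m1) hu
    rw [← rankOne_mul_right _ _ _ (by simp [hj0]) (by simp [h]), H.mul_mem_cancel_left (hR hj0 x (h0 j x)),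
      rankOne_single h] at m2
    exact m2
  refine Cfsg.Lib.Classical.eq_top_of_transvection_mem H fun i j hij c => ?_
  by_cases hj : 2 ≤ j.1
  · exact h2 i j hj c hij
  by_cases hj0 : j.1 = 0
  · obtain rfl : j = i0 := Fin.ext hj0
    exact h0 i c hij
  obtain rfl : j = i1 := Fin.ext (by simp [i1]; omega)
  by_cases hi : 2 ≤ i.1
  · exact h1 i hi c hij
  have e : i = i0 := Fin.ext (by
    simp [i1, Fin.ext_iff] at hij
    simp [i0]; omega)
  subst e
  have := hcomm c 1 hi02 (show i2 ≠ i1 by simp [i1, i2, Fin.ext_iff]) hij (hfull c) (h1 i2 le_rfl 1)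
  rw [mul_one] at this
  exact this hij

/-- The monomial matrix shifting the basis. -/
def shiftMat (n : ℕ) (F : Type*) [Field F] (c : F) : Matrix (Fin n) (Fin n) F :=
  fun i j => if i.1 = j.1 + 1 then 1 else if i.1 = 0 ∧ j.1 + 1 = n then c else 0

theorem det_shiftMat (m : ℕ) (c : F) : (shiftMat (m + 1) F c).det = (-1) ^ m * c := by
  rw [Matrix.det_succ_row_zero, Finset.sum_eq_single (Fin.last m)]
  · have e : (shiftMat (m + 1) F c).submatrix Fin.succ (Fin.last m).succAbove = 1 := by
      ext i j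
      simp [shiftMat, Matrix.one_apply, Fin.ext_iff, Fin.succAbove_last, eq_comm]
    rw [e]
    simp [shiftMat]
  · intro b _ hb
    have : b.1 + 1 ≠ m + 1 := fun e => hb (Fin.ext (by simp; omega))
    have e : shiftMat (m + 1) F c 0 b = 0 := by
      simp only [shiftMat]
      rw [if_neg (by simp), if_neg (fun h => this h.2)]
    simp [e]
  · simp

/-- Three conjugates generate for `n ≥ 4`. -/
theorem exists_three [Fintype F] (hn : 4 ≤ n) : ∃ u g h : SpecialLinearGroup (Fin n) F,
    (IsNilpotent ((u : Matrix (Fin n) (Fin n) F) - 1) ∧ ((u : Matrix (Fin n) (Fin n) F) - 1) ^ (n - 1) ≠ 0) ∧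
      Subgroup.closure ({u, g * u * g⁻¹, h * u * h⁻¹} : Set (SpecialLinearGroup (Fin n) F)) = ⊤ := by
  classical
  obtain ⟨ω, hω⟩ := IsCyclic.exists_generator (α := Fˣ)
  obtain ⟨m, rfl⟩ : ∃ m, n = m + 1 := ⟨n - 1, by omega⟩
  set s : F := (-1) ^ m with hs
  have hss : s * s = 1 := by rw [hs, ← mul_pow]; simp
  have hs0 : s ≠ 0 := left_ne_zero_of_mul_eq_one hss
  let M : SpecialLinearGroup (Fin (m + 1)) F := ⟨shiftMat (m + 1) F s, by rw [det_shiftMat]; exact hss⟩
  let i0 : Fin (m + 1) := ⟨0, by omega⟩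
  let i1 : Fin (m + 1) := ⟨1, by omega⟩
  let i2 : Fin (m + 1) := ⟨2, by omega⟩
  let il : Fin (m + 1) := ⟨m + 1 - 1, by omega⟩
  let g : SpecialLinearGroup (Fin (m + 1)) F :=
    SpecialLinearGroup.transvection (show i0 ≠ i1 by simp [i0, i1, Fin.ext_iff]) (s * ω)
  have h02 : i0 ≠ i2 := by simp [i0, i2, Fin.ext_iff]
  set u : SpecialLinearGroup (Fin (m + 1)) F := uMat (m + 1) F with hu
  have hJ0 : (1 + J (m + 1) F) *ᵥ Pi.single i0 (1 : F) = Pi.single i0 1 := by
    rw [add_mulVec, one_mulVec, J_mulVec_zero i0 rfl, add_zero]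
  have hg : u * SpecialLinearGroup.transvection h02 (s * ω) = g * u * g⁻¹ := by
    rw [eq_mul_inv_iff_mul_eq]
    apply Subtype.ext
    have h01 : i0 ≠ i1 := by simp [i0, i1, Fin.ext_iff]
    change (1 + J (m + 1) F) * (SpecialLinearGroup.transvection h02 (s * ω.1) : Matrix (Fin (m + 1)) (Fin (m + 1)) F) *
      (SpecialLinearGroup.transvection h01 (s * ω.1) : Matrix (Fin (m + 1)) (Fin (m + 1)) F) =
      (SpecialLinearGroup.transvection h01 (s * ω.1) : Matrix (Fin (m + 1)) (Fin (m + 1)) F) * (1 + J (m + 1) F)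
    rw [transv_eq, transv_eq]
    have e1 : (1 + J (m + 1) F) *ᵥ Pi.single i0 (1 : F) = Pi.single i0 1 := by
      rw [add_mulVec, one_mulVec, J_mulVec_zero i0 rfl, add_zero]
    have e2 : Pi.single i1 (1 : F) ᵥ* (1 + J (m + 1) F) = Pi.single i1 1 + Pi.single i2 1 := by
      rw [vecMul_add, vecMul_one, vecMul_J_of_lt i1 (by simp [i1]; omega)]
    have d1 : Pi.single i2 (1 : F) ⬝ᵥ Pi.single i0 1 = 0 := by simp [h02]
    generalize 1 + J (m + 1) F = U at e1 e2 ⊢
    have dcol : (vecMulVec (Pi.single i0 (1 : F)) (Pi.single i2 (1 : F))).col i0 = 0 := by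
      ext i
      simp [vecMulVec_apply, h02]
    simp [mul_add, add_mul, mul_vecMulVec, vecMulVec_mul, e1, e2, dcol, vecMulVec_add, smul_add]
    abel
  set u' := M * u * M⁻¹ with hu'
  have hu'M : (u' : Matrix (Fin (m + 1)) (Fin (m + 1)) F) * shiftMat (m + 1) F s =
      shiftMat (m + 1) F s * (1 + J (m + 1) F) := by
    have : u' * M = M * u := by rw [hu']; group
    have := congrArg Subtype.val this
    exact this
  have hdet : IsUnit (shiftMat (m + 1) F s).det := by rw [det_shiftMat, hss]; exact isUnit_one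
  have hMrow : ∀ (k j : Fin (m + 1)), k.1 = j.1 + 1 → Pi.single k (1 : F) ᵥ* shiftMat (m + 1) F s = Pi.single j 1 := by
    intro k j hkj
    ext i
    rw [single_one_vecMul]
    simp only [Matrix.row_apply, Matrix.col_apply, shiftMat, Pi.single_apply, Fin.ext_iff]
    split_ifs <;> first | rfl | omega | tauto | (exfalso; simp_all; done) | (exfalso; simp_all; omega)
  have hMrow0 : Pi.single i0 (1 : F) ᵥ* shiftMat (m + 1) F s = s • Pi.single il 1 := by
    ext i
    rw [single_one_vecMul]
    simp only [Matrix.row_apply, Matrix.col_apply, shiftMat, Pi.single_apply, Pi.smul_apply, Fin.ext_iff, i0, il, smul_eq_mul, mul_ite, mul_one, mul_zero]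
    split_ifs <;> first | rfl | omega | tauto | (exfalso; simp_all; done) | (exfalso; simp_all; omega)
  have hrowgen : ∀ (k : Fin (m + 1)) (φ : Fin (m + 1) → F),
      φ ᵥ* shiftMat (m + 1) F s = Pi.single k 1 ᵥ* shiftMat (m + 1) F s ᵥ* (1 + J (m + 1) F) →
      Pi.single k 1 ᵥ* (u' : Matrix (Fin (m + 1)) (Fin (m + 1)) F) = φ := by
    intro k φ h
    apply vecMul_injective_of_isUnit ((Matrix.isUnit_iff_isUnit_det _).2 hdet)
    show (_ ᵥ* _) ᵥ* shiftMat (m + 1) F s = φ ᵥ* shiftMat (m + 1) F s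
    rw [vecMul_vecMul, hu'M, ← vecMul_vecMul, h]
  refine ⟨u, g, M, uMat_regular (by omega), ?_⟩
  refine eq_top hn _ (α := s * ω) u' s hs0 ?_ (Subgroup.subset_closure (Or.inl rfl))
    (Subgroup.subset_closure (Or.inr (Or.inr rfl))) ?_ ?_ ?_ ?_ ?_ ?_
  · intro x hx
    obtain ⟨k, hk⟩ := mem_powers_iff_mem_zpowers.mpr (hω (Units.mk0 (s⁻¹ * ω.1⁻¹ * x)
      (by simp [hs0, hx])))
    refine ⟨k, ?_⟩
    have hk' := congrArg Units.val hk
    simp only [Units.val_pow_eq_pow_val, Units.val_mk0] at hk'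
    rw [← mul_assoc, hss, one_mul, hk']
    field_simp
  · have hmem : u * SpecialLinearGroup.transvection h02 (s * ω) ∈
        Subgroup.closure ({u, g * u * g⁻¹, M * u * M⁻¹} : Set (SpecialLinearGroup (Fin (m + 1)) F)) :=
      Subgroup.subset_closure (by simp [hg])
    exact (Subgroup.mul_mem_cancel_left _ (Subgroup.subset_closure (by simp))).1 hmem
  · -- first column
    have e : Pi.single i0 (1 : F) = s • (shiftMat (m + 1) F s *ᵥ Pi.single il 1) := by
      ext i
      rw [mulVec_single_one]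
      simp only [Matrix.row_apply, Matrix.col_apply, shiftMat, Pi.single_apply, Pi.smul_apply, Fin.ext_iff, i0, il, smul_eq_mul, mul_ite, mul_one, mul_zero, hss]
      split_ifs <;> first | rfl | omega | tauto | (exfalso; simp_all; done) | (exfalso; simp_all; omega)
    have e2 : shiftMat (m + 1) F s *ᵥ Pi.single (⟨m - 1, by omega⟩ : Fin (m + 1)) 1 = Pi.single il 1 := by
      ext i
      rw [mulVec_single_one]
      simp only [Matrix.row_apply, Matrix.col_apply, shiftMat, Pi.single_apply, Fin.ext_iff, il]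
      split_ifs <;> first | rfl | omega | tauto | (exfalso; simp_all; done) | (exfalso; simp_all; omega)
    conv_lhs => rw [e, mulVec_smul, mulVec_mulVec, hu'M, ← mulVec_mulVec, add_mulVec, one_mulVec,
      J_mulVec_of_pos il ⟨m - 1, by omega⟩ (by simp [il]; omega), mulVec_add, e2, smul_add, ← e]
  · -- middle rows
    intro k hk hk1
    refine hrowgen k _ ?_
    rw [add_vecMul, hMrow k ⟨k.1 - 1, by omega⟩ (by simp; omega),
      hMrow ⟨k.1 + 1, hk⟩ k rfl, vecMul_add, vecMul_one, vecMul_J_of_lt _ (by simp; omega)]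
    congr 2
    exact Fin.ext (by simp; omega)
  · -- first row
    refine hrowgen _ _ ?_
    erw [hMrow0]
    rw [smul_vecMul, vecMul_add, vecMul_one, vecMul_J_last il (by simp [il]), add_zero]
  · -- last column
    have e2 : shiftMat (m + 1) F s *ᵥ Pi.single (⟨m - 1, by omega⟩ : Fin (m + 1)) 1 = Pi.single il 1 := by
      ext i
      rw [mulVec_single_one]
      simp only [Matrix.row_apply, Matrix.col_apply, shiftMat, Pi.single_apply, Fin.ext_iff, il]
      split_ifs <;> first | rfl | omega | tauto | (exfalso; simp_all; done) | (exfalso; simp_all; omega)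
    have e3 : shiftMat (m + 1) F s *ᵥ Pi.single (⟨m - 2, by omega⟩ : Fin (m + 1)) 1 =
        Pi.single (⟨m + 1 - 2, by omega⟩ : Fin (m + 1)) 1 := by
      ext i
      rw [mulVec_single_one]
      simp only [Matrix.row_apply, Matrix.col_apply, shiftMat, Pi.single_apply, Fin.ext_iff]
      split_ifs <;> first | rfl | omega | tauto | (exfalso; simp_all; done) | (exfalso; simp_all; omega)
    conv_lhs => rw [← e2, mulVec_mulVec, hu'M, ← mulVec_mulVec, add_mulVec, one_mulVec,
      J_mulVec_of_pos ⟨m - 1, _⟩ ⟨m - 2, by omega⟩ (by simp; omega), mulVec_add, e2, e3]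
  · refine hrowgen _ _ ?_
    rw [add_vecMul, smul_vecMul]
    erw [hMrow0]
    rw [hMrow ⟨m + 1 - 1, by omega⟩ ⟨m - 1, by omega⟩ (by show m + 1 - 1 = m - 1 + 1; omega), smul_smul, hss, one_smul, vecMul_add, vecMul_one,
      vecMul_J_of_lt _ (by show m - 1 + 1 < m + 1; omega)]
    congr 2
    exact Fin.ext (by show m + 1 - 1 = m - 1 + 1; omega)

end Cfsg.Lib.Known.ThreeUnipotents
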