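import Mathlib

namespace Cfsg.Lib.Known

open Polynomial Matrix

/-- A unit of an `F`-algebra of dimension at most `n` gives an invertible `n × n` matrix of the same order. -/
theorem exists_gl_orderOf_eq {F : Type*} [Field F] {R : Type*} [CommRing R] [Algebra F R] [Nontrivial R]
    [Module.Finite F R] (n : ℕ) (h : Module.finrank F R ≤ n) (u : Rˣ) :
    ∃ g : GL (Fin n) F, orderOf g = orderOf u := by
  classical
  let V := R × (Fin (n - Module.finrank F R) → F)
  have hV : Module.finrank F V = n := by
    simp [V, Module.finrank_prod]; omega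
  let b : Module.Basis (Fin n) F V := Module.finBasisOfFinrankEq F V hV
  let φ : R →* Module.End F V :=
    { toFun := fun r => LinearMap.prodMap (Algebra.lmul F R r) 1
      map_one' := by ext x <;> simp
      map_mul' := fun a c => by ext x <;> simp [mul_assoc] }
  have hφ : Function.Injective φ := by
    intro a c hac
    have := congrArg (fun f : Module.End F V => (f (1, 0)).1) hac
    change a * 1 = c * 1 at this
    simpa using this
  let ψ : R →* Matrix (Fin n) (Fin n) F :=
    ((LinearMap.toMatrixAlgEquiv b).toRingEquiv.toRingHom.toMonoidHom).comp φ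
  have hψ : Function.Injective ψ := (LinearMap.toMatrixAlgEquiv b).injective.comp hφ
  exact ⟨Units.map ψ u, orderOf_injective (Units.map ψ) (Units.map_injective hψ) u⟩

/-- A monoid element with `g ^ (p ^ (a+1)) = 1` but not `g ^ (p ^ a) = 1` in a truncated polynomial ring. -/
theorem exists_gl_orderOf_prime_pow {F : Type*} [Field F] (p : ℕ) [Fact p.Prime] [CharP F p] (n a : ℕ)
    (ha : p ^ a < n) (hn : n ≤ p ^ (a + 1)) : ∃ g : GL (Fin n) F, orderOf g = p ^ (a + 1) := by
  classical
  have hp := Fact.out (p := p.Prime)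
  let R := AdjoinRoot (X ^ n : F[X])
  have hm : (X ^ n : F[X]).Monic := monic_X_pow n
  have : Module.Finite F R := hm.finite_adjoinRoot
  have hn0 : n ≠ 0 := by omega
  have : Nontrivial R := AdjoinRoot.nontrivial _ (by simp; omega)
  have : CharP R p := charP_of_injective_algebraMap' F p
  let x : R := AdjoinRoot.root _
  have hxn : x ^ n = 0 := by
    change AdjoinRoot.mk (X ^ n : F[X]) X ^ n = 0
    rw [← map_pow, AdjoinRoot.mk_self]
  have hxk : ∀ k, k < n → x ^ k ≠ 0 := by
    intro k hk h0
    change AdjoinRoot.mk (X ^ n : F[X]) X ^ k = 0 at h0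
    rw [← map_pow, AdjoinRoot.mk_eq_zero] at h0
    have := natDegree_le_of_dvd h0 (pow_ne_zero _ X_ne_zero)
    simp at this; omega
  have e : ∀ k, (1 + x) ^ p ^ k = 1 + x ^ p ^ k := by
    intro k; rw [add_pow_char_pow, one_pow]
  have h1 : (1 + x) ^ p ^ (a + 1) = 1 := by
    rw [e, pow_eq_zero_of_le hn hxn, add_zero]
  have hu : IsUnit (1 + x) := IsUnit.of_pow_eq_one h1 (pow_ne_zero _ hp.ne_zero)
  have ho : orderOf hu.unit = p ^ (a + 1) := by
    refine orderOf_eq_prime_pow ?_ ?_
    · intro h
      have := congrArg Units.val h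
      simp [e] at this
      exact hxk _ ha this
    · ext; simpa using h1
  have hr : Module.finrank F R = n := by
    rw [(AdjoinRoot.powerBasis hm.ne_zero).finrank, AdjoinRoot.powerBasis_dim]; simp
  obtain ⟨g, hg⟩ := exists_gl_orderOf_eq (F := F) n hr.le hu.unit
  exact ⟨g, hg.trans ho⟩

/-- A cyclic torus of order `q ^ i - 1` in `GL n q`. -/
theorem exists_gl_orderOf_singer {F : Type*} [Field F] [Finite F] (n i : ℕ) (hi : 0 < i) (hin : i ≤ n) :
    ∃ g : GL (Fin n) F, orderOf g = Nat.card F ^ i - 1 := by
  classical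
  obtain ⟨p, hc⟩ := CharP.exists F
  have : Fact p.Prime := ⟨CharP.char_is_prime F p⟩
  have : NeZero i := ⟨hi.ne'⟩
  let K := FiniteField.Extension F p i
  obtain ⟨u, hu⟩ := IsCyclic.exists_ofOrder_eq_natCard (α := Kˣ)
  obtain ⟨g, hg⟩ := exists_gl_orderOf_eq (F := F) (R := K) n
    (by rw [FiniteField.finrank_extension]; exact hin) u
  exact ⟨g, by rw [hg, hu, Nat.card_units, FiniteField.natCard_extension]⟩

/-- Every monic irreducible polynomial `f ≠ X` over a finite field divides `X^(q^deg f - 1) - 1`. -/
theorem irreducible_dvd_X_pow_sub_one {F : Type*} [Field F] [Finite F] {f : F[X]} (hf : Irreducible f)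
    (hX : ¬ f ∣ X) : f ∣ X ^ (Nat.card F ^ f.natDegree - 1) - 1 := by
  have := Fact.mk hf
  have : Module.Finite F (AdjoinRoot f) := (AdjoinRoot.powerBasis hf.ne_zero).finite
  have : Finite (AdjoinRoot f) := Module.finite_of_finite F
  have := Fintype.ofFinite (AdjoinRoot f)
  have hr : AdjoinRoot.root f ≠ 0 := by
    rw [AdjoinRoot.root, Ne, AdjoinRoot.mk_eq_zero]; exact hX
  have h := FiniteField.pow_card_sub_one_eq_one (AdjoinRoot.root f) hr
  rw [Fintype.card_eq_nat_card, Module.natCard_eq_pow_finrank (K := F),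
    (AdjoinRoot.powerBasis hf.ne_zero).finrank, AdjoinRoot.powerBasis_dim] at h
  rw [← AdjoinRoot.mk_eq_zero, map_sub, map_pow, map_one, AdjoinRoot.mk_X, h, sub_self]

/-- The exponent bound: the `L`-th power of an invertible matrix is unipotent. -/
theorem exists_unipotent_pow {F : Type*} [Field F] [Finite F] (n L : ℕ) (hL : ∀ i, 0 < i → i ≤ n → Nat.card F ^ i - 1 ∣ L)
    (M : Matrix (Fin n) (Fin n) F) (hM : IsUnit M) : (M ^ L - 1) ^ n = 0 := by
  classical
  have hne : M.charpoly ≠ 0 := (charpoly_monic M).ne_zero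
  have hall : ∀ f ∈ UniqueFactorizationMonoid.normalizedFactors M.charpoly, f ∣ (X ^ L - 1 : F[X]) := by
    intro f hf
    have hirr := UniqueFactorizationMonoid.irreducible_of_normalized_factor f hf
    have hd := UniqueFactorizationMonoid.dvd_of_mem_normalizedFactors hf
    have hX : ¬ f ∣ X := by
      intro h
      have hass := hirr.associated_of_dvd irreducible_X h
      have hx : X ∣ M.charpoly := hass.symm.dvd.trans hd
      rw [X_dvd_iff] at hx
      have := det_eq_sign_charpoly_coeff M
      rw [hx, mul_zero] at this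
      exact ((Matrix.isUnit_iff_isUnit_det M).1 hM).ne_zero this
    have hdeg : f.natDegree ≤ n := by
      have := natDegree_le_of_dvd hd hne
      rwa [charpoly_natDegree_eq_dim, Fintype.card_fin] at this
    refine (irreducible_dvd_X_pow_sub_one hirr hX).trans ?_
    obtain ⟨t, ht⟩ := hL _ hirr.natDegree_pos hdeg
    rw [ht, pow_mul]
    exact sub_one_dvd_pow_sub_one _ _
  have hcard : Multiset.card (UniqueFactorizationMonoid.normalizedFactors M.charpoly) ≤ n := by
    have h1 := (UniqueFactorizationMonoid.prod_normalizedFactors hne).symm.dvd'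
    have h2 := natDegree_le_of_dvd h1 hne
    rw [charpoly_natDegree_eq_dim, Fintype.card_fin] at h2
    refine le_trans ?_ h2
    rw [natDegree_multiset_prod _ (UniqueFactorizationMonoid.zero_notMem_normalizedFactors _)]
    have h3 : ∀ d ∈ (UniqueFactorizationMonoid.normalizedFactors M.charpoly).map natDegree, 1 ≤ d := by
      intro d hd; obtain ⟨f, hf, rfl⟩ := Multiset.mem_map.1 hd
      exact (UniqueFactorizationMonoid.irreducible_of_normalized_factor f hf).natDegree_pos
    simpa using Multiset.card_nsmul_le_sum h3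
  have hdvd : M.charpoly ∣ (X ^ L - 1 : F[X]) ^ n := by
    refine (UniqueFactorizationMonoid.prod_normalizedFactors hne).symm.dvd.trans ?_
    have h := Multiset.prod_dvd_prod_of_dvd id (fun _ => (X ^ L - 1 : F[X])) hall
    simp at h
    exact h.trans (pow_dvd_pow _ hcard)
  obtain ⟨c, hc⟩ := hdvd
  have := congrArg (aeval M) hc
  simpa [Matrix.aeval_self_charpoly] using this

end Cfsg.Lib.Known
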