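import Mathlib
import Cfsg.Prelude.Def_Classical
import Cfsg.Prelude.Def_LieClassical
import Cfsg.Agent.Classical.Symp.Decomp

/-! Quadratic extensions of finite fields and restriction of scalars for forms. -/

set_option autoImplicit false
set_option linter.unusedSectionVars false

namespace Cfsg.Lib.FieldEmbed

universe u v w

theorem exists_quadratic {K : Type u} {F : Type v} [Field K] [Fintype K] [Field F] [Fintype F] {q : ℕ}
    (hK : Fintype.card K = q ^ 2) (hF : Fintype.card F = q) :
    ∃ _ : Algebra F K, Module.finrank F K = 2 := by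
  obtain ⟨p, hp⟩ := CharP.exists F
  haveI : Fact p.Prime := ⟨CharP.char_is_prime F p⟩
  obtain ⟨f, -, hf⟩ := FiniteField.card F p
  obtain ⟨p', hp'⟩ := CharP.exists K
  haveI : Fact p'.Prime := ⟨CharP.char_is_prime K p'⟩
  obtain ⟨j, -, hj⟩ := FiniteField.card K p'
  obtain rfl : p' = p := by
    have h : p' ∣ p ^ ((f : ℕ) * 2) := by
      rw [pow_mul, ← hf, hF, ← hK, hj]
      exact dvd_pow_self p' j.ne_zero
    exact (Nat.prime_dvd_prime_iff_eq Fact.out Fact.out).1 ((Fact.out : p'.Prime).dvd_of_dvd_pow h)
  letI := ZMod.algebra F p'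
  letI := ZMod.algebra K p'
  have h1 : Module.finrank (ZMod p') F = f := by
    have := Module.card_eq_pow_finrank (K := ZMod p') (V := F)
    rw [ZMod.card, hf] at this
    exact (Nat.pow_right_injective (Fact.out : p'.Prime).two_le this).symm
  have h2 : Module.finrank (ZMod p') K = (f : ℕ) * 2 := by
    have := Module.card_eq_pow_finrank (K := ZMod p') (V := K)
    rw [ZMod.card, hK, ← hF, hf, ← pow_mul] at this
    exact (Nat.pow_right_injective (Fact.out : p'.Prime).two_le this).symm
  obtain ⟨φ⟩ := FiniteField.nonempty_algHom_of_finrank_dvd (F := ZMod p') (K := F) (L := K) (by rw [h1, h2]; exact dvd_mul_right _ _)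
  letI : Algebra F K := φ.toRingHom.toAlgebra
  refine ⟨φ.toRingHom.toAlgebra, ?_⟩
  have := Module.card_eq_pow_finrank (K := F) (V := K)
  rw [hF, hK] at this
  exact (Nat.pow_right_injective (hF ▸ Fintype.one_lt_card) this).symm

variable {F : Type v} [Field F] [Fintype F] {K : Type u} [Field K] [Fintype K] [Algebra F K] {q : ℕ}

theorem add_pow_q (hF : Fintype.card F = q) (x y : K) : (x + y) ^ q = x ^ q + y ^ q := by
  obtain ⟨p, hp⟩ := CharP.exists F
  haveI : Fact p.Prime := ⟨CharP.char_is_prime F p⟩
  haveI := charP_of_injective_algebraMap (algebraMap F K).injective p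
  haveI : ExpChar K p := ExpChar.prime Fact.out
  obtain ⟨f, -, hf⟩ := FiniteField.card F p
  rw [← hF, hf]
  exact add_pow_char_pow x y p f

theorem sum_pow_q (hF : Fintype.card F = q) {ι : Type*} [Fintype ι] (x : ι → K) : (∑ i, x i) ^ q = ∑ i, x i ^ q :=
  map_sum (AddMonoidHom.mk' (fun z : K => z ^ q) (add_pow_q hF)) _ _

theorem algebraMap_pow_q (hF : Fintype.card F = q) (c : F) : (algebraMap F K c) ^ q = algebraMap F K c := by
  rw [← map_pow, ← hF, FiniteField.pow_card]

theorem pow_pow_q (hK : Fintype.card K = q ^ 2) (x : K) : (x ^ q) ^ q = x := by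
  rw [← pow_mul, ← sq, ← hK, FiniteField.pow_card]

theorem algebraMap_norm (hF : Fintype.card F = q) (hd : Module.finrank F K = 2) (x : K) :
    algebraMap F K (Algebra.norm F x) = x ^ q * x := by
  rw [FiniteField.algebraMap_norm_eq_prod_pow, hd, Finset.prod_range_succ, Finset.prod_range_one, pow_zero, pow_one,
    pow_one, Nat.card_eq_fintype_card, hF, mul_comm]

theorem algebraMap_trace (hF : Fintype.card F = q) (hd : Module.finrank F K = 2) (x : K) :
    algebraMap F K (Algebra.trace F K x) = x + x ^ q := by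
  rw [FiniteField.algebraMap_trace_eq_sum_pow, hd, Finset.sum_range_succ, Finset.sum_range_one, pow_zero, pow_one,
    pow_one, Nat.card_eq_fintype_card, hF]

theorem trace_nondeg {x : K} (h : ∀ k : K, Algebra.trace F K (x * k) = 0) : x = 0 :=
  (traceForm_nondegenerate F K).1 x fun k => by rw [Algebra.traceForm_apply]; exact h k

theorem exists_trace_zero (hd : Module.finrank F K = 2) : ∃ δ : K, δ ≠ 0 ∧ Algebra.trace F K δ = 0 := by
  have h1 := (Algebra.trace F K).finrank_range_add_finrank_ker
  have h2 := (LinearMap.range (Algebra.trace F K)).finrank_le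
  rw [Module.finrank_self] at h2
  obtain ⟨δ, hδ, hδ0⟩ := Submodule.exists_mem_ne_zero_of_ne_bot (p := LinearMap.ker (Algebra.trace F K))
    (fun e => by rw [e, finrank_bot] at h1; omega)
  exact ⟨δ, hδ0, hδ⟩

/-- The hermitian form, over `F`. -/
theorem herm_smul_left (hF : Fintype.card F = q) {n : ℕ} (c : F) (u v : Fin n → K) :
    Cfsg.hermForm n K q (c • u) v = c • Cfsg.hermForm n K q u v := by
  simp [Cfsg.hermForm, Finset.smul_sum]

theorem herm_smul_right (hF : Fintype.card F = q) {n : ℕ} (c : F) (u v : Fin n → K) :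
    Cfsg.hermForm n K q u (c • v) = c • Cfsg.hermForm n K q u v := by
  simp only [Cfsg.hermForm, Finset.smul_sum, Pi.smul_apply, Algebra.smul_def, mul_pow, algebraMap_pow_q hF, Finset.mul_sum]
  exact Finset.sum_congr rfl fun i _ => by ring

theorem herm_add_left {n : ℕ} (u u' v : Fin n → K) :
    Cfsg.hermForm n K q (u + u') v = Cfsg.hermForm n K q u v + Cfsg.hermForm n K q u' v := by
  simp [Cfsg.hermForm, add_mul, Finset.sum_add_distrib]

theorem herm_add_right (hF : Fintype.card F = q) {n : ℕ} (u v v' : Fin n → K) :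
    Cfsg.hermForm n K q u (v + v') = Cfsg.hermForm n K q u v + Cfsg.hermForm n K q u v' := by
  simp [Cfsg.hermForm, add_pow_q hF, mul_add, Finset.sum_add_distrib]

theorem herm_self (hF : Fintype.card F = q) (hd : Module.finrank F K = 2) {n : ℕ} (v : Fin n → K) :
    Cfsg.hermForm n K q v v = algebraMap F K (∑ i, Algebra.norm F (v i)) := by
  simp [Cfsg.hermForm, algebraMap_norm hF hd, mul_comm]

theorem herm_swap (hF : Fintype.card F = q) (hK : Fintype.card K = q ^ 2) {n : ℕ} (u v : Fin n → K) :
    Cfsg.hermForm n K q v u = Cfsg.hermForm n K q u v ^ q := by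
  simp [Cfsg.hermForm, sum_pow_q hF, mul_pow, pow_pow_q hK, mul_comm]

theorem q_pos (hF : Fintype.card F = q) : 0 < q := hF ▸ Fintype.card_pos

theorem herm_single (hF : Fintype.card F = q) {n : ℕ} (u : Fin n → K) (i : Fin n) (k : K) :
    Cfsg.hermForm n K q u (Pi.single i k) = u i * k ^ q := by
  rw [Cfsg.hermForm, Finset.sum_eq_single i (fun b _ hb => by simp [hb, zero_pow (q_pos hF).ne']) (by simp)]
  simp

theorem pow_q_surjective (hF : Fintype.card F = q) (hK : Fintype.card K = q ^ 2) (k : K) : ∃ z : K, z ^ q = k :=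
  ⟨k ^ q, pow_pow_q hK k⟩

/-- Restriction of scalars of an invertible-matrix representation. -/
noncomputable def resScalars {ι : Type} [Fintype ι] [DecidableEq ι] {G : Type w} [Group G]
    (f : G →* Matrix ι ι K) : G →* Module.End F (ι → K) where
  toFun a := (Matrix.toLin' (f a)).restrictScalars F
  map_one' := by simp; rfl
  map_mul' a b := by simp [Matrix.toLin'_mul]; rfl

theorem resScalars_apply {ι : Type} [Fintype ι] [DecidableEq ι] {G : Type w} [Group G]
    (f : G →* Matrix ι ι K) (a : G) (v : ι → K) : resScalars (F := F) f a v = (f a).mulVec v :=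
  Matrix.toLin'_apply _ _

theorem resScalars_injective {ι : Type} [Fintype ι] [DecidableEq ι] {G : Type w} [Group G]
    (f : G →* Matrix ι ι K) (hf : Function.Injective f) : Function.Injective (resScalars (F := F) f) := fun a b h =>
  hf (Matrix.toLin'.injective (LinearMap.restrictScalars_injective F h))

theorem mem_GU {n : ℕ} (g : Cfsg.GU n K q) (u v : Fin n → K) :
    Cfsg.hermForm n K q (((g : Matrix.GeneralLinearGroup (Fin n) K) : Matrix (Fin n) (Fin n) K).mulVec u)
      (((g : Matrix.GeneralLinearGroup (Fin n) K) : Matrix (Fin n) (Fin n) K).mulVec v) = Cfsg.hermForm n K q u v :=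
  g.2 u v

/-- The coordinate hom of GU. -/
noncomputable def guMat (n : ℕ) (K : Type u) [Field K] (q : ℕ) : Cfsg.GU n K q →* Matrix (Fin n) (Fin n) K :=
  (Units.coeHom _).comp (Subgroup.subtype _)

theorem guMat_injective (n : ℕ) (K : Type u) [Field K] (q : ℕ) : Function.Injective (guMat n K q) :=
  fun _ _ h => Subtype.ext (Units.ext h)

/-- A representation preserving a nondegenerate alternating form embeds in a symplectic group. -/
theorem exists_symplectic_hom {V : Type u} [AddCommGroup V] [Module F V] [Module.Finite F V] {G : Type w} [Group G]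
    (B : LinearMap.BilinForm F V) (hA : B.IsAlt) (hB : B.Nondegenerate) (ρ : G →* Module.End F V)
    (hρi : Function.Injective ρ) (hρ : ∀ a x y, B (ρ a x) (ρ a y) = B x y) {n : ℕ} (hn : Module.finrank F V = 2 * n) :
    ∃ φ : G →* ↥(Matrix.symplecticGroup (Fin n) F), Function.Injective φ := by
  classical
  obtain ⟨m, b, hm, h1, h2, h3⟩ := Cfsg.Lib.Classical.exists_symplectic_basis_nondegenerate hA hB
  obtain rfl : m = n := by omega
  have hG : LinearMap.toMatrix₂ b b B = -Matrix.J (Fin m) F := by
    ext i j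
    rw [LinearMap.toMatrix₂_apply]
    rcases i with i | i <;> rcases j with j | j
    · simpa [Matrix.J] using h2 i j
    · simp [Matrix.J, h1, Matrix.one_apply]
    · rw [← hA.neg_eq, h1]; simp [Matrix.J, Matrix.one_apply, eq_comm]
    · simpa [Matrix.J] using h3 i j
  let f : G →* Matrix (Fin m ⊕ Fin m) (Fin m ⊕ Fin m) F :=
    (LinearMap.toMatrixAlgEquiv b).toMonoidHom.comp ρ
  have hmem : ∀ a, f a ∈ Matrix.symplecticGroup (Fin m) F := by
    intro a
    rw [SymplecticGroup.mem_iff']
    have e : B.compl₁₂ (ρ a) (ρ a) = B := LinearMap.ext₂ fun x y => hρ a x y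
    have := congrArg (LinearMap.toMatrix₂ b b) e
    rw [LinearMap.toMatrix₂_compl₁₂ b b, hG] at this
    change (f a).transpose * -Matrix.J (Fin m) F * f a = -Matrix.J (Fin m) F at this
    simpa using this
  refine ⟨MonoidHom.codRestrict f _ hmem, fun a c h => hρi ((LinearMap.toMatrixAlgEquiv b).injective ?_)⟩
  exact congrArg Subtype.val h

end Cfsg.Lib.FieldEmbed
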