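import Mathlib

/-! A group of order `2 p ^ 3` embedded with trivial centraliser in large projective linear groups. -/

set_option autoImplicit false
set_option linter.unusedSectionVars false

open Matrix

namespace Cfsg.Lib.BrickEmb

variable {p : ℕ} [Fact p.Prime]

/-- The translation part. -/
abbrev T (p : ℕ) := Multiplicative (Fin 3 → ZMod p)

/-- The sign action. -/
def sgn (p : ℕ) : ℤˣ →* MulAut (T p) where
  toFun u :=
    { toFun := fun v => v ^ (u : ℤ)
      invFun := fun v => v ^ (u : ℤ)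
      left_inv := fun v => by
        show (v ^ (u : ℤ)) ^ (u : ℤ) = v
        rw [← _root_.zpow_mul, ← Units.val_mul, Int.units_mul_self, Units.val_one, zpow_one]
      right_inv := fun v => by
        show (v ^ (u : ℤ)) ^ (u : ℤ) = v
        rw [← _root_.zpow_mul, ← Units.val_mul, Int.units_mul_self, Units.val_one, zpow_one]
      map_mul' := fun a b => mul_zpow a b _ }
  map_one' := MulEquiv.ext fun v => zpow_one v
  map_mul' a b := MulEquiv.ext fun v => by
    show v ^ ((a * b : ℤˣ) : ℤ) = (v ^ (b : ℤ)) ^ (a : ℤ)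
    rw [← _root_.zpow_mul, Units.val_mul, mul_comm]

/-- The group. -/
abbrev H (p : ℕ) := T p ⋊[sgn p] ℤˣ

/-- The shift. -/
def J (r : ℕ) (K : Type) [Zero K] [One K] : Matrix (Fin r) (Fin r) K :=
  Matrix.of fun i j => if (i : ℕ) = (j : ℕ) + 1 then 1 else 0

/-- The bottom left block. -/
def blockOf (r : ℕ) (v : Fin 3 → ZMod p) : Matrix (Fin r) (Fin r) (ZMod p) :=
  v 0 • 1 + v 1 • J r (ZMod p) + v 2 • (J r (ZMod p))ᵀ

theorem blockOf_add (r : ℕ) (v w : Fin 3 → ZMod p) : blockOf r (v + w) = blockOf r v + blockOf r w := by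
  simp only [blockOf, Pi.add_apply, add_smul]; abel

theorem blockOf_injective {r : ℕ} (hr : 2 ≤ r) {v : Fin 3 → ZMod p} (h : blockOf r v = 0) : v = 0 := by
  have h00 := congrFun (congrFun h ⟨0, by omega⟩) ⟨0, by omega⟩
  have h10 := congrFun (congrFun h ⟨1, by omega⟩) ⟨0, by omega⟩
  have h01 := congrFun (congrFun h ⟨0, by omega⟩) ⟨1, by omega⟩
  simp [blockOf, J] at h00 h10 h01
  funext i
  fin_cases i <;> assumption

/-- A matrix commuting with the shift and its transpose is scalar. -/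
theorem scalar_of_commute {r : ℕ} (hr : 1 ≤ r) (P : Matrix (Fin r) (Fin r) (ZMod p))
    (h1 : P * J r (ZMod p) = J r (ZMod p) * P) (h2 : P * (J r (ZMod p))ᵀ = (J r (ZMod p))ᵀ * P) :
    P = P ⟨0, hr⟩ ⟨0, hr⟩ • 1 := by
  have hJ : ∀ (i j k : Fin r), (k : ℕ) = (j : ℕ) + 1 → (P * J r (ZMod p)) i j = P i k := fun i j k hk => by
    rw [Matrix.mul_apply, Finset.sum_eq_single k]
    · simp [J, hk]
    · intro b _ hb
      have : (b : ℕ) ≠ (j : ℕ) + 1 := fun e => hb (Fin.ext (e.trans hk.symm))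
      simp [J, this]
    · simp
  have hJ2 : ∀ (i j k : Fin r), (i : ℕ) = (k : ℕ) + 1 → (J r (ZMod p) * P) i j = P k j := fun i j k hk => by
    rw [Matrix.mul_apply, Finset.sum_eq_single k]
    · simp [J, hk]
    · intro b _ hb
      have : ¬ (i : ℕ) = (b : ℕ) + 1 := fun e => hb (Fin.ext (by omega))
      simp [J, this]
    · simp
  have hJ3 : ∀ (i j : Fin r), (i : ℕ) = 0 → (J r (ZMod p) * P) i j = 0 := fun i j hi => by
    rw [Matrix.mul_apply]
    exact Finset.sum_eq_zero fun b _ => by simp [J, hi]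
  have hJ4 : ∀ (i j k : Fin r), (j : ℕ) = (k : ℕ) + 1 → (P * (J r (ZMod p))ᵀ) i j = P i k := fun i j k hk => by
    rw [Matrix.mul_apply, Finset.sum_eq_single k]
    · simp [J, hk]
    · intro b _ hb
      have : ¬ (j : ℕ) = (b : ℕ) + 1 := fun e => hb (Fin.ext (by omega))
      simp [J, this]
    · simp
  have hJ5 : ∀ (i j : Fin r), (j : ℕ) = 0 → (P * (J r (ZMod p))ᵀ) i j = 0 := fun i j hj => by
    rw [Matrix.mul_apply]
    exact Finset.sum_eq_zero fun b _ => by simp [J, hj]
  have hJ6 : ∀ (i j k : Fin r), (k : ℕ) = (i : ℕ) + 1 → ((J r (ZMod p))ᵀ * P) i j = P k j := fun i j k hk => by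
    rw [Matrix.mul_apply, Finset.sum_eq_single k]
    · simp [J, hk]
    · intro b _ hb
      have : (b : ℕ) ≠ (i : ℕ) + 1 := fun e => hb (Fin.ext (e.trans hk.symm))
      simp [J, this]
    · simp
  have key : ∀ (n : ℕ) (i j : Fin r), (j : ℕ) = n → P i j = if i = j then P ⟨0, hr⟩ ⟨0, hr⟩ else 0 := by
    intro n
    induction n with
    | zero =>
      intro i j hj
      have hj0 : j = ⟨0, hr⟩ := Fin.ext hj
      subst hj0
      split_ifs with hi
      · rw [hi]
      · have hi0 : (i : ℕ) ≠ 0 := fun e => hi (Fin.ext e)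
        have h := congrFun (congrFun h2 ⟨(i : ℕ) - 1, by omega⟩) ⟨0, hr⟩
        rw [hJ5 _ _ rfl, hJ6 _ _ i (by simp; omega)] at h
        exact h.symm
    | succ n ih =>
      intro i j hj
      have hlt := j.isLt
      have h := congrFun (congrFun h1 i) ⟨n, by omega⟩
      rw [hJ i ⟨n, by omega⟩ j (by simp [hj])] at h
      by_cases hi0 : (i : ℕ) = 0
      · rw [h, hJ3 _ _ hi0, if_neg]
        intro e; rw [e] at hi0; omega
      · rw [h, hJ2 i ⟨n, by omega⟩ ⟨(i : ℕ) - 1, by omega⟩ (by simp; omega), ih _ _ rfl]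
        simp only [Fin.ext_iff]
        congr 1
        simp only [eq_iff_iff]
        omega
  ext i j
  rw [key _ i j rfl, Matrix.smul_apply, Matrix.one_apply]
  split_ifs <;> simp

/-- Sign matrix. -/
def sm (r : ℕ) (u : ℤˣ) : Matrix (Fin r ⊕ Fin r) (Fin r ⊕ Fin r) (ZMod p) :=
  Matrix.fromBlocks 1 0 0 (((u : ℤ) : ZMod p) • 1)

theorem sm_det {r : ℕ} (hr : Even r) (u : ℤˣ) : (sm (p := p) r u).det = 1 := by
  rw [sm, Matrix.det_fromBlocks_zero₂₁, Matrix.det_one, one_mul, Matrix.det_smul, Matrix.det_one, mul_one,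
    Fintype.card_fin]
  obtain ⟨k, rfl⟩ := hr
  rw [← two_mul, pow_mul, ← Int.cast_pow, ← Units.val_pow_eq_pow_val, Int.units_sq]
  simp

/-- The sign part. -/
def signHom {r : ℕ} (hr : Even r) : ℤˣ →* Matrix.SpecialLinearGroup (Fin r ⊕ Fin r) (ZMod p) where
  toFun u := ⟨sm r u, sm_det hr u⟩
  map_one' := Subtype.ext (by simp [sm])
  map_mul' a b := Subtype.ext (by
    show sm r (a * b) = sm r a * sm r b
    simp [sm, Matrix.fromBlocks_multiply, smul_smul, mul_comm])

/-- The unipotent part. -/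
def uniHom (r : ℕ) : T p →* Matrix.SpecialLinearGroup (Fin r ⊕ Fin r) (ZMod p) where
  toFun v := ⟨Matrix.fromBlocks 1 0 (blockOf r v.toAdd) 1, by rw [Matrix.det_fromBlocks_zero₁₂]; simp⟩
  map_one' := Subtype.ext (by simp [blockOf])
  map_mul' a b := Subtype.ext (by
    show Matrix.fromBlocks 1 0 (blockOf r (a * b).toAdd) 1 =
      Matrix.fromBlocks 1 0 (blockOf r a.toAdd) 1 * Matrix.fromBlocks 1 0 (blockOf r b.toAdd) 1
    simp [Matrix.fromBlocks_multiply, blockOf_add])

theorem blockOf_zpow (r : ℕ) (v : T p) (k : ℤ) : blockOf r (v ^ k).toAdd = (k : ZMod p) • blockOf r v.toAdd := by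
  rw [toAdd_zpow]
  simp only [blockOf, Pi.smul_apply, zsmul_eq_mul, smul_add, smul_smul]

/-- The representation. -/
def rep {r : ℕ} (hr : Even r) : H p →* Matrix.SpecialLinearGroup (Fin r ⊕ Fin r) (ZMod p) :=
  SemidirectProduct.lift (uniHom r) (signHom hr) fun u => MonoidHom.ext fun v => Subtype.ext (by
    show Matrix.fromBlocks 1 0 (blockOf r (v ^ (u : ℤ)).toAdd) 1 =
      ((signHom hr u * uniHom r v * (signHom hr u)⁻¹ : Matrix.SpecialLinearGroup (Fin r ⊕ Fin r) (ZMod p)) : Matrix (Fin r ⊕ Fin r) (Fin r ⊕ Fin r) (ZMod p))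
    rw [show (signHom (p := p) hr u)⁻¹ = signHom hr u by rw [← map_inv, Int.units_inv_eq_self]]
    show _ = sm r u * Matrix.fromBlocks 1 0 (blockOf r v.toAdd) 1 * sm r u
    rw [blockOf_zpow]
    simp [sm, Matrix.fromBlocks_multiply, smul_smul, ← Int.cast_mul, ← Units.val_mul, Int.units_mul_self])

theorem central_of_commute (hp : p ≠ 2) {r : ℕ} (hr : Even r) (hr1 : 1 ≤ r) (g : Matrix.SpecialLinearGroup (Fin r ⊕ Fin r) (ZMod p))
    (hg : ∀ h : H p, ∃ c : ZMod p, (g : Matrix (Fin r ⊕ Fin r) (Fin r ⊕ Fin r) (ZMod p)) * (rep hr h : Matrix (Fin r ⊕ Fin r) (Fin r ⊕ Fin r) (ZMod p)) =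
      c • ((rep hr h : Matrix (Fin r ⊕ Fin r) (Fin r ⊕ Fin r) (ZMod p)) * (g : Matrix (Fin r ⊕ Fin r) (Fin r ⊕ Fin r) (ZMod p)))) :
    g ∈ Subgroup.center (Matrix.SpecialLinearGroup (Fin r ⊕ Fin r) (ZMod p)) := by
  have h2 : (2 : ZMod p) ≠ 0 := by
    intro h
    have : ((2 : ℕ) : ZMod p) = 0 := by exact_mod_cast h
    rw [ZMod.natCast_eq_zero_iff] at this
    exact hp ((Nat.prime_dvd_prime_iff_eq (Fact.out : p.Prime) Nat.prime_two).1 this)
  set G := (g : Matrix (Fin r ⊕ Fin r) (Fin r ⊕ Fin r) (ZMod p)) with hG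
  have hGb : G = Matrix.fromBlocks G.toBlocks₁₁ G.toBlocks₁₂ G.toBlocks₂₁ G.toBlocks₂₂ := (fromBlocks_toBlocks G).symm
  set P := G.toBlocks₁₁
  set R := G.toBlocks₁₂
  set S := G.toBlocks₂₁
  set U := G.toBlocks₂₂
  have hdet : G.det = 1 := g.2
  haveI : Nonempty (Fin r) := ⟨⟨0, hr1⟩⟩
  have hu : ∀ v : Fin 3 → ZMod p, ∃ c : ZMod p, P + R * blockOf r v = c • P ∧ R = c • R ∧
      S + U * blockOf r v = c • (blockOf r v * P + S) ∧ U = c • (blockOf r v * R + U) := fun v => by
    obtain ⟨c, hc⟩ := hg (SemidirectProduct.inl (Multiplicative.ofAdd v))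
    rw [rep, SemidirectProduct.lift_inl] at hc
    refine ⟨c, ?_⟩
    change G * Matrix.fromBlocks 1 0 (blockOf r v) 1 = c • (Matrix.fromBlocks 1 0 (blockOf r v) 1 * G) at hc
    rw [hGb, Matrix.fromBlocks_multiply, Matrix.fromBlocks_multiply, Matrix.fromBlocks_smul,
      Matrix.fromBlocks_inj] at hc
    simpa using hc
  have hone : blockOf r (![1, 0, 0] : Fin 3 → ZMod p) = 1 := by simp [blockOf]
  obtain ⟨c, e1, e2, e3, e4⟩ := hu ![1, 0, 0]
  rw [hone, Matrix.mul_one] at e1
  rw [hone, Matrix.mul_one, Matrix.one_mul] at e3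
  rw [hone, Matrix.one_mul] at e4
  have hR : R = 0 := by
    by_contra hR
    obtain rfl : c = 1 := by
      by_contra hc
      refine hR ?_
      have : (1 - c) • R = 0 := by rw [sub_smul, one_smul, ← e2, sub_self]
      exact (smul_eq_zero.1 this).resolve_left (sub_ne_zero.2 (Ne.symm hc))
    rw [one_smul, add_eq_left] at e1
    exact hR e1
  have hc1 : c = 1 := by
    by_contra hc
    rw [hR, zero_add] at e4
    have hU : (1 - c) • U = 0 := by rw [sub_smul, one_smul, ← e4, sub_self]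
    have hU0 := (smul_eq_zero.1 hU).resolve_left (sub_ne_zero.2 (Ne.symm hc))
    rw [hGb, hR, Matrix.det_fromBlocks_zero₁₂, hU0, Matrix.det_zero, mul_zero] at hdet
    exact zero_ne_one hdet
  subst hc1
  rw [one_smul, add_comm S U] at e3
  have hUP : U = P := add_right_cancel e3
  have hcomm : ∀ v, P * blockOf r v = blockOf r v * P := fun v => by
    obtain ⟨c, f1, -, f3, f4⟩ := hu v
    rw [hR, Matrix.zero_mul, add_zero] at f1
    have hc : c = 1 := by
      by_contra hc
      have : (1 - c) • P = 0 := by rw [sub_smul, one_smul, ← f1, sub_self]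
      have hP0 := (smul_eq_zero.1 this).resolve_left (sub_ne_zero.2 (Ne.symm hc))
      rw [hGb, hR, Matrix.det_fromBlocks_zero₁₂, hP0, Matrix.det_zero, zero_mul] at hdet
      exact zero_ne_one hdet
    rw [hc, one_smul, hUP, add_comm S] at f3
    exact add_right_cancel f3
  have hJ1 : blockOf r (![0, 1, 0] : Fin 3 → ZMod p) = J r (ZMod p) := by simp [blockOf]
  have hJ2 : blockOf r (![0, 0, 1] : Fin 3 → ZMod p) = (J r (ZMod p))ᵀ := by simp [blockOf]
  have hP := scalar_of_commute hr1 P (by rw [← hJ1]; exact hcomm _) (by rw [← hJ2]; exact hcomm _)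
  set a := P ⟨0, hr1⟩ ⟨0, hr1⟩
  have ha : a ≠ 0 := by
    intro ha
    rw [hGb, hR, Matrix.det_fromBlocks_zero₁₂, hP, ha, zero_smul, Matrix.det_zero, zero_mul] at hdet
    exact zero_ne_one hdet
  obtain ⟨d, hd⟩ := hg (SemidirectProduct.inr (-1))
  rw [rep, SemidirectProduct.lift_inr] at hd
  change G * sm r (-1) = d • (sm r (-1) * G) at hd
  rw [hGb, sm, Matrix.fromBlocks_multiply, Matrix.fromBlocks_multiply, Matrix.fromBlocks_smul,
    Matrix.fromBlocks_inj] at hd
  obtain ⟨d1, -, d3, -⟩ := hd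
  simp [hP] at d1 d3
  have hd1 : d = 1 := by
    have h00 := congrFun (congrFun d1 ⟨0, hr1⟩) ⟨0, hr1⟩
    simp [ha] at h00
    exact h00
  have hS : S = 0 := by
    rw [hd1, one_smul] at d3
    have h' : (2 : ZMod p) • S = 0 := by rw [two_smul]; nth_rewrite 1 [d3]; rw [neg_add_cancel]
    exact (smul_eq_zero.1 h').resolve_left h2
  rw [Matrix.SpecialLinearGroup.mem_center_iff]
  refine ⟨a, ?_, ?_⟩
  · have hscal : G = Matrix.scalar (Fin r ⊕ Fin r) a := by
      rw [hGb, hR, hS, hUP, hP, Matrix.scalar_apply, ← Matrix.smul_one_eq_diagonal, ← Matrix.fromBlocks_one,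
        Matrix.fromBlocks_smul]
      simp
    rw [hscal, Matrix.scalar_apply, Matrix.det_diagonal, Finset.prod_const, Finset.card_univ] at hdet
    exact hdet
  · show Matrix.scalar (Fin r ⊕ Fin r) a = G
    rw [hGb, hR, hS, hUP, hP, Matrix.scalar_apply, ← Matrix.smul_one_eq_diagonal, ← Matrix.fromBlocks_one,
      Matrix.fromBlocks_smul]
    simp

theorem rep_scalar (hp : p ≠ 2) {r : ℕ} (hr : Even r) (hr2 : 2 ≤ r) (h : H p) (a : ZMod p)
    (he : (rep hr h : Matrix (Fin r ⊕ Fin r) (Fin r ⊕ Fin r) (ZMod p)) = Matrix.scalar (Fin r ⊕ Fin r) a) : h = 1 := by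
  change Matrix.fromBlocks 1 0 (blockOf r h.left.toAdd) 1 * sm r h.right = _ at he
  rw [sm, Matrix.fromBlocks_multiply, Matrix.scalar_apply, ← Matrix.smul_one_eq_diagonal, ← Matrix.fromBlocks_one,
    Matrix.fromBlocks_smul, Matrix.fromBlocks_inj] at he
  simp at he
  obtain ⟨e1, e2, e3⟩ := he
  have h00 := congrFun (congrFun e1 ⟨0, by omega⟩) ⟨0, by omega⟩
  have h11 := congrFun (congrFun e3 ⟨0, by omega⟩) ⟨0, by omega⟩
  simp at h00 h11
  rw [← h00] at h11
  have hv : h.left.toAdd = 0 := blockOf_injective hr2 e2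
  have hu : h.right = 1 := by
    rcases Int.units_eq_one_or h.right with e | e
    · exact e
    · exfalso
      rw [e] at h11
      simp at h11
      have : ((2 : ℕ) : ZMod p) = 0 := by push_cast; linear_combination -h11
      rw [ZMod.natCast_eq_zero_iff] at this
      exact hp ((Nat.prime_dvd_prime_iff_eq (Fact.out : p.Prime) Nat.prime_two).1 this)
  exact SemidirectProduct.ext hv hu

/-- Reindexing special linear groups. -/
def reSL {ι κ : Type} [Fintype ι] [DecidableEq ι] [Fintype κ] [DecidableEq κ] (e : ι ≃ κ) (K : Type) [CommRing K] :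
    Matrix.SpecialLinearGroup ι K ≃* Matrix.SpecialLinearGroup κ K where
  toFun A := ⟨Matrix.reindex e e (A : Matrix ι ι K), by rw [Matrix.det_reindex_self]; exact A.2⟩
  invFun A := ⟨Matrix.reindex e.symm e.symm (A : Matrix κ κ K), by rw [Matrix.det_reindex_self]; exact A.2⟩
  left_inv A := Subtype.ext (by simp)
  right_inv A := Subtype.ext (by simp)
  map_mul' A B := Subtype.ext (by
    show Matrix.reindex e e ((A : Matrix ι ι K) * (B : Matrix ι ι K)) = Matrix.reindex e e (A : Matrix ι ι K) * Matrix.reindex e e (B : Matrix ι ι K)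
    simp)

end Cfsg.Lib.BrickEmb
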