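import Mathlib

/-!
A subgroup of bounded order of a large symmetric group centralises a big alternating group.
-/

namespace Cfsg.Lib.Known

open Equiv

/-- If `H` acts on `α` with many points, then some `r` distinct orbits have representatives with the same
stabiliser. -/
theorem exists_same_stabilizer {α : Type*} [Fintype α] (H : Type*) [Group H] [MulAction H α]
    [Finite H] (r : ℕ) (hcard : 2 ^ Nat.card H * (Nat.card H * r) < Fintype.card α) :
    ∃ x : Fin r → α, (∀ i j, x i ∈ MulAction.orbit H (x j) → i = j) ∧
      ∀ i j, MulAction.stabilizer H (x i) = MulAction.stabilizer H (x j) := by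
  classical
  have := Fintype.ofFinite H
  let t : α → Finset H := fun a => Finset.univ.filter (fun h => h • a = a)
  obtain ⟨s, -, hs⟩ := Finset.exists_lt_card_fiber_of_mul_lt_card_of_maps_to (s := Finset.univ)
    (t := (Finset.univ : Finset (Finset H))) (f := t) (n := Nat.card H * r)
    (fun a _ => Finset.mem_univ _)
    (by rw [Finset.card_univ, Fintype.card_finset, Finset.card_univ, ← Nat.card_eq_fintype_card (α := H)]; exact hcard)
  set A := Finset.univ.filter (fun a => t a = s) with hA
  let q : α → MulAction.orbitRel.Quotient H α := Quotient.mk''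
  have hfib : A.card ≤ Nat.card H * (A.image q).card := by
    refine Finset.card_le_mul_card_image A _ (fun o ho => ?_)
    obtain ⟨a, -, rfl⟩ := Finset.mem_image.1 ho
    have hsub : A.filter (fun b => q b = q a) ⊆ Finset.univ.image (fun h : H => h • a) := by
      intro b hb
      obtain ⟨h, hh⟩ := MulAction.orbitRel_apply.1 (Quotient.eq''.1 (Finset.mem_filter.1 hb).2)
      exact Finset.mem_image.2 ⟨h, Finset.mem_univ _, hh⟩
    refine (Finset.card_le_card hsub).trans (Finset.card_image_le.trans ?_)
    rw [Finset.card_univ, Nat.card_eq_fintype_card]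
  have hr : r ≤ Fintype.card ↥(A.image q) := by
    rw [Fintype.card_coe]
    refine Nat.le_of_lt ?_
    by_contra hlt
    push Not at hlt
    exact absurd (hfib.trans (Nat.mul_le_mul_left _ hlt)) (not_le.2 hs)
  obtain ⟨e⟩ := Function.Embedding.nonempty_of_card_le (α := Fin r) (β := ↥(A.image q))
    (by rwa [Fintype.card_fin])
  have hsel : ∀ i, ∃ a ∈ A, q a = (e i).1 := fun i => Finset.mem_image.1 (e i).2
  choose x hxA hx using hsel
  refine ⟨x, fun i j hij => e.injective (Subtype.ext ?_), fun i j => ?_⟩
  · rw [← hx i, ← hx j]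
    exact Quotient.sound (MulAction.orbitRel_apply.2 hij)
  · have hi := (Finset.mem_filter.1 (hxA i)).2
    have hj := (Finset.mem_filter.1 (hxA j)).2
    ext h
    have h1 := congrArg (h ∈ ·) (hi.trans hj.symm)
    simpa [t] using h1

/-- The permutation group of `r` isomorphic orbits commutes with the action; even permutations give even ones. -/
theorem exists_commuting_alternating {α : Type*} [Fintype α] [DecidableEq α] (H : Type*) [Group H] [MulAction H α]
    [Finite H] (r : ℕ) (x : Fin r → α) (horb : ∀ i j, x i ∈ MulAction.orbit H (x j) → i = j)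
    (hstab : ∀ i j, MulAction.stabilizer H (x i) = MulAction.stabilizer H (x j)) :
    ∃ f : alternatingGroup (Fin r) →* alternatingGroup α, Function.Injective f ∧
      ∀ σ (h : H) (a : α), (f σ : Perm α) (h • a) = h • (f σ : Perm α) a := by
  classical
  rcases Nat.eq_zero_or_pos r with hr | hr
  · subst hr
    exact ⟨1, fun a b _ => Subsingleton.elim a b, fun σ h a => by simp⟩
  let U := MulAction.stabilizer H (x ⟨0, hr⟩)
  have : Fintype (H ⧸ U) := Fintype.ofFinite _
  let e : (H ⧸ U) × Fin r → α := fun p => Quotient.liftOn' p.1 (fun h => h • x p.2) fun a b hab => by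
    rw [QuotientGroup.leftRel_apply] at hab
    have h1 : a⁻¹ * b ∈ MulAction.stabilizer H (x p.2) := hstab p.2 ⟨0, hr⟩ ▸ hab
    rw [MulAction.mem_stabilizer_iff, mul_smul, inv_smul_eq_iff] at h1
    exact h1.symm
  have he : Function.Injective e := by
    rintro ⟨c, i⟩ ⟨d, j⟩ hij
    induction c using QuotientGroup.induction_on with
    | H a =>
      induction d using QuotientGroup.induction_on with
      | H b =>
        change a • x i = b • x j at hij
        obtain rfl := horb i j ⟨a⁻¹ * b, by
          change (a⁻¹ * b) • x j = x i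
          rw [mul_smul, ← hij, inv_smul_smul]⟩
        refine Prod.ext (QuotientGroup.eq.2 ?_) rfl
        change a⁻¹ * b ∈ MulAction.stabilizer H (x ⟨0, hr⟩)
        rw [← hstab i, MulAction.mem_stabilizer_iff, mul_smul, ← hij, inv_smul_smul]
  let ι : (H ⧸ U) × Fin r ↪ α := ⟨e, he⟩
  let g : Perm (Fin r) →* Perm ((H ⧸ U) × Fin r) :=
    { toFun := fun σ => Equiv.prodCongrRight fun _ => σ
      map_one' := by ext p <;> rfl
      map_mul' := fun a b => by ext p <;> rfl }
  let φ := (Perm.viaEmbeddingHom ι).comp g
  have hφinj : Function.Injective φ := by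
    refine (Perm.viaEmbeddingHom_injective ι).comp fun a b hab => ?_
    ext i
    exact congrArg Fin.val (congrArg (fun f : Perm ((H ⧸ U) × Fin r) => (f (((1 : H) : H ⧸ U), i)).2) hab)
  have hsign : ∀ σ : alternatingGroup (Fin r), φ σ ∈ alternatingGroup α := by
    intro σ
    rw [Perm.mem_alternatingGroup]
    simp only [φ, MonoidHom.comp_apply, Perm.viaEmbeddingHom_apply, Perm.viaEmbedding]
    have h1 : Perm.sign (g σ) = 1 := by
      change Perm.sign (Equiv.prodCongrRight fun _ : H ⧸ U => (σ : Perm (Fin r))) = 1
      rw [Perm.sign_prodCongrRight]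
      simp [Perm.mem_alternatingGroup.1 σ.2]
    convert h1 using 1
    convert Perm.sign_extendDomain (g σ) (Equiv.ofInjective ι.1 ι.2)
  refine ⟨(φ.comp (alternatingGroup (Fin r)).subtype).codRestrict _ hsign,
    fun a b hab => Subtype.ext (hφinj (congrArg Subtype.val hab)), fun σ h a => ?_⟩
  change φ σ (h • a) = h • φ σ a
  simp only [φ, MonoidHom.comp_apply, Perm.viaEmbeddingHom_apply]
  by_cases ha : a ∈ Set.range ι
  · obtain ⟨⟨c, i⟩, rfl⟩ := ha
    induction c using QuotientGroup.induction_on with
    | H b =>
      have h2 : h • ι ((b : H ⧸ U), i) = ι ((↑(h * b) : H ⧸ U), i) := (mul_smul h b (x i)).symm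
      rw [h2, Perm.viaEmbedding_apply, Perm.viaEmbedding_apply]
      exact mul_smul h b (x ((σ : Perm (Fin r)) i))
  · rw [Perm.viaEmbedding_apply_of_notMem _ _ _ ha, Perm.viaEmbedding_apply_of_notMem]
    rintro ⟨⟨c, i⟩, hc⟩
    induction c using QuotientGroup.induction_on with
    | H b =>
      refine ha ⟨((↑(h⁻¹ * b) : H ⧸ U), i), ?_⟩
      change (h⁻¹ * b) • x i = a
      rw [mul_smul]
      exact inv_smul_eq_iff.2 hc

end Cfsg.Lib.Known
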