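import Cfsg.Agent.Known.ChevFixed
import Cfsg.Agent.BN.Extra

/-! Twisted conjugacy for an involutory field automorphism in characteristic two. -/

set_option autoImplicit false

open Cfsg.Lie Cfsg.Lib.Chev
open scoped Pointwise

namespace Cfsg.Lib.Known.ChevFixed

variable {D : ChevalleyDatum} {C : Cert} {F : Type*} [Field F]

theorem tG_injective_of_two [CharP F 2] (S : Struct D C) (M : Fin D.rank → Fin D.rank → ℤ)
    (hM : ∀ i k : Fin D.rank, ∑ j : Fin D.rank, D.cartan i (D.simple j) * M j k = if i = k then 2 else 0) :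
    Function.Injective (Ok.tG D F) := by
  refine (injective_iff_map_eq_one _).2 fun c hc => funext fun k => ?_
  have h1 : ∀ j : Fin D.rank, (∏ i, c i ^ D.cartan i (D.simple j)) = 1 := by
    intro j
    have hj : D.simple j < D.nroots := S.ok.sr_eq j.isLt ▸ S.ok.sr_lt j.isLt
    have e1 := congrArg (fun M : GL D.Idx F => (M : Matrix D.Idx D.Idx F) (Sum.inr ⟨_, hj⟩) (Sum.inr ⟨_, hj⟩)) hc
    simp only [Ok.tG_val, Units.val_one, Matrix.diagonal_apply_eq, Matrix.one_apply_eq, Sum.elim_inr] at e1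
    exact Units.val_eq_one.1 e1
  have h2 : (∏ j : Fin D.rank, (∏ i, c i ^ D.cartan i (D.simple j)) ^ M j k) = 1 := by simp [h1]
  have h3 : ∀ i : Fin D.rank, (∏ j : Fin D.rank, c i ^ (D.cartan i (D.simple j) * M j k)) =
      if i = k then c i ^ 2 else 1 := by
    intro i
    have : (∏ j : Fin D.rank, c i ^ (D.cartan i (D.simple j) * M j k)) = c i ^ (∑ j : Fin D.rank, D.cartan i (D.simple j) * M j k) := by
      induction (Finset.univ : Finset (Fin D.rank)) using Finset.induction with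
      | empty => simp
      | insert a s ha ih => rw [Finset.prod_insert ha, Finset.sum_insert ha, zpow_add, ih]
    rw [this, hM]
    split_ifs <;> simp [zpow_ofNat]
  simp only [← Finset.prod_zpow, ← zpow_mul] at h2
  rw [Finset.prod_comm] at h2
  simp only [h3, Finset.prod_ite_eq', Finset.mem_univ, if_true] at h2
  apply Units.ext
  have h4 : ((c k : F) - 1) ^ 2 = 0 := by
    rw [sub_sq, one_pow, mul_one, show (2 : F) = 0 from CharTwo.two_eq_zero, zero_mul, sub_zero,
      ← Units.val_pow_eq_pow_val, h2, Units.val_one]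
    exact CharTwo.add_self_eq_zero 1
  rw [Pi.one_apply, Units.val_one]
  exact sub_eq_zero.1 (pow_eq_zero_iff two_ne_zero |>.1 h4)

theorem mem_borel_of_normalizer (S : Struct D C) (hN : okNeg D = true) {g : GL D.Idx F} (hgG : g ∈ D.group F)
    (hgn : g ∈ Subgroup.normalizer (D.posUnipotent F : Set (GL D.Idx F))) : g ∈ D.borelSubgroup F := by
  obtain ⟨P, hPB, -, hPS⟩ := S.exists_bnPair (F := F) (fun i j h => S.simple_ne hN i j h)
  set M := (Subgroup.normalizer (D.posUnipotent F : Set (GL D.Idx F))).subgroupOf (D.group F)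
  have hBM : P.B ≤ M := fun x hx => by
    rw [hPB, Subgroup.mem_subgroupOf] at hx
    exact (sup_le Subgroup.le_normalizer S.diag_normalises_U :
      D.borelSubgroup F ≤ Subgroup.normalizer (D.posUnipotent F : Set (GL D.Idx F))) hx
  have hM : (⟨g, hgG⟩ : ↥(D.group F)) ∈ M := hgn
  rw [Cfsg.Lib.BN.eq_parabolic hBM] at hM
  refine (show P.parabolic {s | s ∈ P.S ∧ s ∈ M} ≤ (D.borelSubgroup F).subgroupOf (D.group F) from
    sup_le (le_of_eq hPB) ((Subgroup.closure_le _).2 ?_)) hM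
  rintro x ⟨hxS, hxM⟩
  exfalso
  rw [hPS] at hxS
  obtain ⟨j, hj, hx⟩ := hxS
  have hsj := S.ok.sr_lt hj
  have h1 : S.ok.xG (C.sr j) (1 : F) ∈ D.posUnipotent F := S.xG_mem_U (S.sr_pos hj) hsj 1
  have hxn : (x : GL D.Idx F) = S.ok.nG (D.simple j) 1 := Units.ext (by rw [hx, S.ok.val_nG])
  have hxM' : (x : GL D.Idx F) ∈ Subgroup.normalizer (D.posUnipotent F : Set (GL D.Idx F)) := hxM
  have h2 := (Subgroup.mem_normalizer_iff.1 hxM' _).1 h1
  rw [hxn, S.ok.conj_nG_xG hj hsj, (S.ok.refl_simple hj).1, S.ok.neg_eq hsj] at h2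
  have hnegneg := S.neg_lt_half hsj (S.sr_pos hj)
  have h3 : S.ok.xG (D.neg (C.sr j)) ((C.eta j (C.sr j) : F) * 1) ∈
      D.borelSubgroup F ⊓ D.negUnipotent F :=
    Subgroup.mem_inf.2 ⟨S.B_le_of h2, Subgroup.subset_closure
      ⟨_, _, S.isNeg_iff.2 hnegneg, S.ok.val_xG _ _⟩⟩
  rw [S.B_inf_V hN, Subgroup.mem_bot] at h3
  exact mul_ne_zero (Ok.eta_ne_zero C j _) one_ne_zero (S.xG_eq_one (by omega) h3)

theorem exists_sylow_pos [Fintype F] [CharP F 2] (S : Struct D C) (hN : okNeg D = true) :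
    ∃ P : Sylow 2 ↥(D.group F), (P : Subgroup ↥(D.group F)) = (D.posUnipotent F).subgroupOf (D.group F) := by
  haveI : Fact (Nat.Prime 2) := ⟨Nat.prime_two⟩
  set U := (D.posUnipotent F).subgroupOf (D.group F) with hU
  have hUle : D.posUnipotent F ≤ D.group F := fun u hu => S.borel_le_group (S.B_le_of hu)
  obtain ⟨k, hp, hk⟩ := FiniteField.card F 2
  have hcardU : Nat.card ↥U = 2 ^ (k.val * (D.nroots / 2)) := by
    rw [Nat.card_congr (Subgroup.subgroupOfEquivOfLe hUle).toEquiv, S.card_posUnipotent, hk, ← pow_mul]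
  have hUp : IsPGroup 2 ↥U := IsPGroup.of_card hcardU
  obtain ⟨P, hUP⟩ := hUp.exists_le_sylow
  refine ⟨P, le_antisymm ?_ hUP⟩
  by_contra hlt
  have hUP' : U < (P : Subgroup ↥(D.group F)) := lt_of_le_not_ge hUP hlt
  haveI : Group.IsNilpotent ↥(P : Subgroup ↥(D.group F)) := P.isPGroup'.isNilpotent
  have hgrow := normalizerCondition_of_isNilpotent (U.subgroupOf (P : Subgroup ↥(D.group F)))
    (lt_top_iff_ne_top.2 (fun h => hlt (Subgroup.subgroupOf_eq_top.1 h)))
  obtain ⟨x, hxN, hxU⟩ := SetLike.exists_of_lt hgrow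
  have hxG : ((x : ↥(D.group F)) : GL D.Idx F) ∈ D.borelSubgroup F := by
    refine mem_borel_of_normalizer S hN (x : ↥(D.group F)).2 (Subgroup.mem_normalizer_iff.2 fun y => ?_)
    have key := fun z : ↥(P : Subgroup ↥(D.group F)) => Subgroup.mem_normalizer_iff.1 hxN z
    simp only [Subgroup.mem_subgroupOf, hU, Subgroup.coe_mul, InvMemClass.coe_inv] at key
    constructor
    · intro hy
      exact (key ⟨⟨y, hUle hy⟩, hUP hy⟩).1 hy
    · intro hy
      set x' := ((x : ↥(D.group F)) : GL D.Idx F)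
      have hy' : y ∈ D.group F := by
        have := mul_mem (mul_mem (inv_mem (x : ↥(D.group F)).2) (hUle hy)) (x : ↥(D.group F)).2
        simpa [x', mul_assoc] using this
      have hyP : (⟨y, hy'⟩ : ↥(D.group F)) ∈ (P : Subgroup ↥(D.group F)) := by
        have hz : (⟨x' * y * x'⁻¹, hUle hy⟩ : ↥(D.group F)) ∈ (P : Subgroup ↥(D.group F)) := hUP hy
        have := mul_mem (mul_mem (inv_mem x.2) hz) x.2
        convert this using 1
        apply Subtype.ext
        simp [x', mul_assoc]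
      exact (key ⟨⟨y, hy'⟩, hyP⟩).2 hy
  obtain ⟨u, hu, d, hd, hud⟩ := S.borel_decomp hxG
  have hdP : (⟨d, S.diag_le_group hd⟩ : ↥(D.group F)) ∈ (P : Subgroup ↥(D.group F)) := by
    have := mul_mem (inv_mem (hUP (show (⟨u, hUle hu⟩ : ↥(D.group F)) ∈ U from hu))) x.2
    convert this using 1
    apply Subtype.ext
    simp [hud]
  obtain ⟨j, hj⟩ := P.isPGroup' ⟨_, hdP⟩
  have hd2 : d ^ 2 ^ j = 1 := congrArg (fun z : ↥(P : Subgroup ↥(D.group F)) => ((z : ↥(D.group F)) : GL D.Idx F)) hj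
  rw [S.ok.diagonalSubgroup_eq] at hd
  obtain ⟨c, rfl⟩ := hd
  have hc1 : Ok.tG D F c ^ (Fintype.card F - 1) = 1 := by
    rw [← map_pow, show c ^ (Fintype.card F - 1) = 1 from funext fun i => Units.ext (by
      simpa using FiniteField.pow_card_sub_one_eq_one (c i : F) (c i).ne_zero), map_one]
  have hco : Nat.Coprime (2 ^ j) (Fintype.card F - 1) := by
    refine Nat.Coprime.pow_left _ (Nat.prime_two.coprime_iff_not_dvd.2 fun h => ?_)
    have : 2 ∣ Fintype.card F := by rw [hk]; exact dvd_pow_self _ k.ne_zero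
    have := Fintype.card_pos (α := F)
    omega
  have hone : Ok.tG D F c = 1 := by
    have := pow_gcd_eq_one.2 ⟨hd2, hc1⟩
    rwa [hco.gcd_eq_one, pow_one] at this
  rw [hone, mul_one] at hud
  apply hxU
  rw [Subgroup.mem_subgroupOf, hU, Subgroup.mem_subgroupOf, hud]
  exact hu

theorem twist_unipotent [CharP F 2] (S : Struct D C) (σ : F →+* F) (hσ : ∀ t, σ (σ t) = t)
    {a : F} (ha : a + σ a ≠ 0) : ∀ (d k : ℕ), d + k = D.nroots → D.nroots / 2 ≤ k →
      ∀ u ∈ S.Ugen F k, u * mapGL D σ u = 1 → ∃ b ∈ D.posUnipotent F, u = b⁻¹ * mapGL D σ b := by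
  intro d
  induction d with
  | zero =>
    intro k hk _ u hu _
    rw [S.Ugen_top (by omega), Subgroup.mem_bot] at hu
    exact ⟨1, one_mem _, by rw [hu, map_one, inv_one, one_mul]⟩
  | succ d ih =>
    intro k hk hkp u hu he
    have hkn : k < D.nroots := by omega
    obtain ⟨t, v, hv, rfl⟩ := S.Ugen_split hkn hkp hu
    have hσv : mapGL D σ v ∈ S.Ugen F (k + 1) := by
      have hle : S.Ugen F (k + 1) ≤ (S.Ugen F (k + 1)).comap (mapGL D σ) := by
        refine (Subgroup.closure_le _).2 ?_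
        rintro g ⟨r, s, e1, e2, rfl⟩
        exact Subgroup.subset_closure ⟨r, σ s, e1, e2, map_xG S σ r s⟩
      exact hle hv
    have hnorm : ∀ (c : F) (w : GL D.Idx F), w ∈ S.Ugen F (k + 1) → S.ok.xG k c * w * (S.ok.xG k c)⁻¹ ∈ S.Ugen F (k + 1) :=
      fun c w hw => S.conj_Ugen hkn hkp (by omega) c hw
    rw [map_mul, map_xG S] at he
    have ht : σ t = t := by
      have hmem : S.ok.xG k (t + σ t) ∈ S.Ugen F (k + 1) := by
        have h1 := inv_mem (mul_mem (hnorm (-σ t) v hv) hσv)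
        have h2 : S.ok.xG k (t + σ t) = (S.ok.xG k (-σ t) * v * (S.ok.xG k (-σ t))⁻¹ * mapGL D σ v)⁻¹ := by
          rw [eq_inv_iff_mul_eq_one, ← S.ok.xG_inv, inv_inv, ← S.ok.xG_mul]
          calc _ = S.ok.xG k t * v * (S.ok.xG k (σ t) * mapGL D σ v) := by group
            _ = 1 := he
        rw [h2]; exact h1
      have h3 := S.xG_inf_Ugen hkn hkp hmem
      exact (CharTwo.add_eq_zero.1 h3).symm
    have hae : σ (a + σ a) = a + σ a := by rw [map_add, hσ, add_comm]
    set s := a * (t / (a + σ a)) with hs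
    have hst : s + σ s = t := by
      rw [hs, map_mul, map_div₀, ht, hae, ← add_mul, mul_div_cancel₀ _ ha]
    have hx : s + t - σ s = 0 := by
      rw [CharTwo.sub_eq_add]
      calc s + t + σ s = s + σ s + t := by ring
        _ = 0 := by rw [hst, CharTwo.add_self_eq_zero]
    clear_value s
    set u' := S.ok.xG k s * (S.ok.xG k t * v) * (S.ok.xG k (σ s))⁻¹ with hu'
    have hu'mem : u' ∈ S.Ugen F (k + 1) := by
      have : u' = S.ok.xG k (s + t - σ s) * (S.ok.xG k (σ s) * v * (S.ok.xG k (σ s))⁻¹) := by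
        rw [sub_eq_add_neg, ← S.ok.xG_mul, ← S.ok.xG_mul, ← S.ok.xG_inv, hu']
        group
      rw [this, hx, S.xG_zero, one_mul]
      exact hnorm _ _ hv
    have he' : u' * mapGL D σ u' = 1 := by
      rw [hu', map_mul, map_mul, map_mul, map_inv, map_xG S, map_xG S, map_xG S, hσ]
      calc _ = S.ok.xG k s * (S.ok.xG k t * v * (S.ok.xG k (σ t) * mapGL D σ v)) * (S.ok.xG k s)⁻¹ := by group
        _ = 1 := by rw [he]; group
    obtain ⟨b, hb, hbe⟩ := ih (k + 1) (by omega) (by omega) u' hu'mem he'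
    refine ⟨b * S.ok.xG k s, mul_mem hb (S.xG_mem_U hkp hkn s), ?_⟩
    rw [map_mul, map_xG S]
    calc S.ok.xG k t * v = (S.ok.xG k s)⁻¹ * u' * S.ok.xG k (σ s) := by rw [hu']; group
      _ = _ := by rw [hbe]; group

/-- Twisted conjugacy: `g * φ g = 1` implies `g = h⁻¹ * φ h`. -/
theorem exists_eq_inv_mul [Fintype F] [CharP F 2] (S : Struct D C) (hN : okNeg D = true)
    (hinj : Function.Injective (Ok.tG D F)) (φ : MulAut ↥(D.group F)) (σ : F ≃+* F) (hσne : σ ≠ 1)
    (hσ : ∀ t, σ (σ t) = t) (hval : ∀ g, (φ g : GL D.Idx F) = mapGL D σ.toRingHom (g : GL D.Idx F))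
    (g : ↥(D.group F)) (hg : g * φ g = 1) : ∃ h : ↥(D.group F), g = h⁻¹ * φ h := by
  classical
  haveI : Fact (Nat.Prime 2) := ⟨Nat.prime_two⟩
  obtain ⟨P0, hP0⟩ := exists_sylow_pos (F := F) S hN
  have hUle : D.posUnipotent F ≤ D.group F := fun u hu => S.borel_le_group (S.B_le_of hu)
  have hφφ : ∀ x : ↥(D.group F), φ (φ x) = x := by
    intro x
    apply Subtype.ext
    rw [hval, hval]
    apply Units.ext
    change ((((x : GL D.Idx F) : Matrix D.Idx D.Idx F)).map σ.toRingHom).map σ.toRingHom = _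
    rw [Matrix.map_map]
    ext i j
    exact hσ _
  have hφP : φ • P0 = P0 := by
    apply Sylow.ext
    rw [Sylow.pointwise_smul_def, hP0]
    ext x
    rw [Subgroup.mem_pointwise_smul_iff_inv_smul_mem, MulAut.smul_def, Subgroup.mem_subgroupOf, Subgroup.mem_subgroupOf]
    have hinv : φ⁻¹ x = φ x := by
      apply φ.injective
      rw [hφφ]
      exact φ.apply_symm_apply x
    rw [hinv, hval]
    refine ⟨fun h => ?_, map_pos S σ.toRingHom⟩
    have h' := map_pos S σ.toRingHom h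
    rw [← hval, ← hval, hφφ] at h'
    exact h'
  set ψ : MulAut ↥(D.group F) := MulAut.conj g * φ with hψ
  have hψ2 : ψ ^ (2 : ℕ) = 1 := by
    refine MulEquiv.ext fun x => ?_
    rw [pow_two, MulAut.mul_apply, hψ, MulAut.mul_apply, MulAut.mul_apply, MulAut.conj_apply, MulAut.conj_apply,
      map_mul, map_mul, map_inv, hφφ, MulAut.one_apply]
    calc g * (φ g * x * (φ g)⁻¹) * g⁻¹ = (g * φ g) * x * (g * φ g)⁻¹ := by group
      _ = x := by rw [hg]; group
  let Z := Subgroup.zpowers ψ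
  have hZ : IsPGroup 2 ↥Z := by
    rintro ⟨z, m, rfl⟩
    refine ⟨1, Subtype.ext ?_⟩
    change (ψ ^ m) ^ (2 ^ 1 : ℕ) = 1
    rw [pow_one, ← zpow_natCast (ψ ^ m), ← zpow_mul, mul_comm, zpow_mul, zpow_natCast, hψ2, one_zpow]
  have hne : (MulAction.fixedPoints ↥Z (Sylow 2 ↥(D.group F))).Nonempty := by
    refine hZ.nonempty_fixed_point_of_prime_not_dvd_card _ ?_
    intro h
    have := card_sylow_modEq_one 2 ↥(D.group F)
    unfold Nat.ModEq at this
    omega
  obtain ⟨P, hP⟩ := hne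
  obtain ⟨k, rfl⟩ := MulAction.exists_smul_eq ↥(D.group F) P0 P
  have hfix : ψ • (k • P0) = k • P0 := hP ⟨ψ, Subgroup.mem_zpowers ψ⟩
  have hB : ((k⁻¹ * g * φ k : ↥(D.group F)) : GL D.Idx F) ∈ D.borelSubgroup F := by
    have h1 : (k⁻¹ * g * φ k) • P0 = P0 := by
      have e : ψ • (k • P0) = (g * φ k) • P0 := by
        rw [Sylow.smul_def, Sylow.smul_def, ← mul_smul]
        conv_rhs => rw [← hφP]
        rw [← mul_smul]
        congr 1
        refine MulEquiv.ext fun x => ?_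
        simp only [hψ, MulAut.mul_apply, MulAut.conj_apply, map_mul, map_inv]
      rw [e] at hfix
      rw [mul_assoc, mul_smul, hfix, inv_smul_smul]
    have h2 := Subgroup.mem_normalizer_iff.1 (Sylow.smul_eq_iff_mem_normalizer.1 h1)
    set y := k⁻¹ * g * φ k
    refine mem_borel_of_normalizer S hN y.2 (Subgroup.mem_normalizer_iff.2 fun x => ⟨fun hx => ?_, fun hx => ?_⟩)
    · have := (h2 ⟨x, hUle hx⟩).1 (hP0.ge hx)
      exact hP0.le this
    · have hx' : x ∈ D.group F := by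
        have := mul_mem (mul_mem (inv_mem y.2) (hUle hx)) y.2
        simpa [mul_assoc] using this
      exact hP0.le ((h2 ⟨x, hx'⟩).2 (hP0.ge hx))
  set σ' : F →+* F := σ.toRingHom with hσ'
  have hg' : ((k⁻¹ * g * φ k : ↥(D.group F)) : GL D.Idx F) * mapGL D σ' ((k⁻¹ * g * φ k : ↥(D.group F)) : GL D.Idx F) = 1 := by
    rw [← hval, ← Subgroup.coe_mul]
    refine congrArg Subtype.val (show _ = (1 : ↥(D.group F)) from ?_)
    rw [map_mul, map_mul, map_inv, hφφ]
    calc _ = k⁻¹ * (g * φ g) * k := by group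
      _ = 1 := by rw [hg]; group
  obtain ⟨u, hu, d, hd, hud⟩ := S.borel_decomp hB
  rw [hud, map_mul] at hg'
  have hdd : d * mapGL D σ' d = 1 := by
    have hmem : d * mapGL D σ' d ∈ D.posUnipotent F ⊓ D.diagonalSubgroup F := by
      refine Subgroup.mem_inf.2 ⟨?_, mul_mem hd (map_diag S σ' hd)⟩
      have h1 : d * mapGL D σ' u * d⁻¹ ∈ D.posUnipotent F :=
        (Subgroup.mem_normalizer_iff.1 (S.diag_normalises_U hd) _).1 (map_pos S σ' hu)
      have h2 : d * mapGL D σ' d = (u * (d * mapGL D σ' u * d⁻¹))⁻¹ := by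
        rw [eq_inv_iff_mul_eq_one]
        have : (u * (d * mapGL D σ' u * d⁻¹)) * (d * mapGL D σ' d) = 1 := by
          rw [← hg']; group
        exact mul_eq_one_comm.1 this
      rw [h2]
      exact inv_mem (mul_mem hu h1)
    rwa [S.U_inf_H, Subgroup.mem_bot] at hmem
  rw [S.ok.diagonalSubgroup_eq] at hd
  obtain ⟨c, rfl⟩ := hd
  rw [map_tG, ← map_mul, ← map_one (Ok.tG D F)] at hdd
  have hc := hinj hdd
  have hy : ∀ i, ∃ y : Fˣ, σ (y : F) * (c i : F) = y := by
    intro i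
    have hci : (c i : F) * σ (c i : F) = 1 := congrArg Units.val (congrFun hc i)
    by_cases h1 : (c i : F) = 1
    · exact ⟨1, by simp [h1]⟩
    · have hne : 1 + (c i : F) ≠ 0 := fun h => h1 (CharTwo.add_eq_zero.1 h).symm
      refine ⟨Units.mk0 _ hne, ?_⟩
      rw [Units.val_mk0, map_add, map_one, add_mul, one_mul, mul_comm (σ _), hci, add_comm]
  choose y hy using hy
  set h0 := Ok.tG D F y with hh0
  have hh0mem : h0 ∈ D.diagonalSubgroup F := by rw [S.ok.diagonalSubgroup_eq]; exact ⟨y, rfl⟩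
  have hh : Ok.tG D F c * mapGL D σ' h0 = h0 := by
    rw [hh0, map_tG, ← map_mul]
    congr 1
    funext i
    apply Units.ext
    change (c i : F) * σ (y i : F) = y i
    rw [mul_comm, hy]
  set v := h0⁻¹ * u * h0 with hv
  have hvU : v ∈ D.posUnipotent F := by
    have := (Subgroup.mem_normalizer_iff.1 (S.diag_normalises_U (inv_mem hh0mem)) u).1 hu
    simpa [hv] using this
  have hveq : v = h0⁻¹ * (u * Ok.tG D F c) * mapGL D σ' h0 := by
    rw [hv, mul_assoc _ (u * _), mul_assoc u, hh, mul_assoc]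
  have hσσ : ∀ t, σ' (σ' t) = t := hσ
  have hmm : mapGL D σ' (mapGL D σ' h0) = h0 := by
    apply Units.ext
    change (((h0 : GL D.Idx F) : Matrix D.Idx D.Idx F).map σ').map σ' = _
    rw [Matrix.map_map]
    ext i j
    exact hσσ _
  have hvv : v * mapGL D σ' v = 1 := by
    rw [hveq, map_mul, map_mul, map_mul, map_inv, hmm]
    calc _ = h0⁻¹ * (u * Ok.tG D F c * (mapGL D σ' u * mapGL D σ' (Ok.tG D F c))) * h0 := by group
      _ = 1 := by rw [hg']; group
  have ha : ∃ a, a + σ' a ≠ 0 := by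
    by_contra hno
    push Not at hno
    exact hσne (RingEquiv.ext fun t => (CharTwo.add_eq_zero.1 (hno t)).symm)
  obtain ⟨a, ha⟩ := ha
  have hs := S.hsum
  obtain ⟨b, hb, hbe⟩ := twist_unipotent S σ' hσσ ha (D.nroots - D.nroots / 2) (D.nroots / 2) (by omega) le_rfl v
    (S.posUnipotent_eq (F := F) ▸ hvU) hvv
  let b' : ↥(D.group F) := ⟨b, hUle hb⟩
  let h' : ↥(D.group F) := ⟨h0, S.diag_le_group hh0mem⟩
  refine ⟨b' * h'⁻¹ * k⁻¹, ?_⟩
  have hk : k⁻¹ * g * φ k = h' * b'⁻¹ * φ b' * (φ h')⁻¹ := by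
    apply Subtype.ext
    simp only [Subgroup.coe_mul, Subgroup.coe_inv, hval] at hud ⊢
    rw [hud, show u * Ok.tG D F c = h0 * v * (mapGL D σ' h0)⁻¹ by rw [hveq]; group, hbe]
    simp [b', h', σ', mul_assoc]
  rw [map_mul, map_mul, map_inv, map_inv]
  calc g = k * (k⁻¹ * g * φ k) * (φ k)⁻¹ := by group
    _ = _ := by rw [hk]; group

end Cfsg.Lib.Known.ChevFixed
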