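import Cfsg.Agent.Chev.Order
import Cfsg.Agent.Chev.More
import Cfsg.Agent.Chev.Bruhat
import Cfsg.Agent.Chev.Basic
import Cfsg.Prelude.Def_ChevAutomorphisms
import Cfsg.Prelude.Def_EvenType

/-! Fixed points of field automorphisms of Chevalley groups. -/

set_option autoImplicit false

open Cfsg.Lie Cfsg.Lib.Chev

namespace Cfsg.Lib.Known.ChevFixed

variable {D : ChevalleyDatum} {C : Cert} {F : Type*} [Field F] {K : Type*} [Field K]

/-- Entrywise map of `GL`. -/
noncomputable abbrev mapGL (D : ChevalleyDatum) (f : K →+* F) : GL D.Idx K →* GL D.Idx F :=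
  Matrix.GeneralLinearGroup.map f

theorem mapGL_injective (f : K →+* F) : Function.Injective (mapGL D f) := by
  intro a b hab
  apply Units.ext
  exact Matrix.map_injective f.injective (congrArg (fun g : GL D.Idx F => (g : Matrix D.Idx D.Idx F)) hab)

theorem map_xG (S : Struct D C) (f : K →+* F) (r : ℕ) (t : K) :
    mapGL D f (S.ok.xG r t) = S.ok.xG r (f t) :=
  Units.ext (Ok.map_x D f r t)

theorem map_nG (S : Struct D C) (f : K →+* F) (r : ℕ) (t : K) :
    mapGL D f (S.ok.nG r t) = S.ok.nG r (f t) := by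
  rw [Ok.nG, Ok.nG, map_mul, map_mul, map_xG S, map_xG S, map_neg, map_inv₀]

theorem map_nL (S : Struct D C) (f : K →+* F) (L : List (Fin D.rank)) :
    mapGL D f (S.nL K L) = S.nL F L := by
  rw [Struct.nL, Struct.nL, map_list_prod, List.map_map]
  congr 1
  refine List.map_congr_left fun i _ => ?_
  rw [Function.comp_apply, map_nG S, map_one]

theorem map_tG (f : K →+* F) (c : Fin D.rank → Kˣ) :
    mapGL D f (Ok.tG D K c) = Ok.tG D F (fun i => Units.map f.toMonoidHom (c i)) := by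
  apply Units.ext
  change ((Ok.tG D K c : GL D.Idx K) : Matrix D.Idx D.Idx K).map f = _
  rw [Ok.tG_val, Ok.tG_val, Matrix.diagonal_map (map_zero f)]
  congr 1
  funext x
  rcases x with a | s
  · simp
  · simp only [Function.comp_apply, Sum.elim_inr]
    have := congrArg Units.val (map_prod (Units.map f.toMonoidHom) (fun i => c i ^ D.cartan i.val s.val) Finset.univ)
    simp only [map_zpow] at this
    exact this

theorem map_diag (S : Struct D C) (f : K →+* F) {g : GL D.Idx K} (hg : g ∈ D.diagonalSubgroup K) :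
    mapGL D f g ∈ D.diagonalSubgroup F := by
  rw [S.ok.diagonalSubgroup_eq] at hg ⊢
  obtain ⟨c, rfl⟩ := hg
  exact ⟨_, (map_tG f c).symm⟩

theorem map_pos (S : Struct D C) (f : K →+* F) {g : GL D.Idx K} (hg : g ∈ D.posUnipotent K) :
    mapGL D f g ∈ D.posUnipotent F := by
  revert g
  change D.posUnipotent K ≤ (D.posUnipotent F).comap (mapGL D f)
  refine (Subgroup.closure_le _).2 ?_
  rintro g ⟨r, t, hr, hg⟩
  refine Subgroup.subset_closure ⟨r, f t, hr, ?_⟩
  rw [S.ok.eq_xG hg, map_xG S, S.ok.val_xG]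

theorem map_borel (S : Struct D C) (f : K →+* F) {g : GL D.Idx K} (hg : g ∈ D.borelSubgroup K) :
    mapGL D f g ∈ D.borelSubgroup F := by
  obtain ⟨u, hu, d, hd, rfl⟩ := S.borel_decomp hg
  rw [map_mul]
  exact mul_mem (Subgroup.mem_sup_left (map_pos S f hu)) (Subgroup.mem_sup_right (map_diag S f hd))

theorem map_UPsi (S : Struct D C) (f : K →+* F) (Ψ : Fin D.nroots → Prop) {g : GL D.Idx K}
    (hg : g ∈ S.UPsi K Ψ) : mapGL D f g ∈ S.UPsi F Ψ := by
  revert g
  change S.UPsi K Ψ ≤ (S.UPsi F Ψ).comap (mapGL D f)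
  refine (Subgroup.closure_le _).2 ?_
  rintro g ⟨r, t, a, b, rfl⟩
  exact Subgroup.subset_closure ⟨r, f t, a, b, map_xG S f _ _⟩

theorem map_group_le (S : Struct D C) (f : K →+* F) : (D.group K).map (mapGL D f) ≤ D.group F := by
  rw [ChevalleyDatum.group, MonoidHom.map_closure]
  refine (Subgroup.closure_le _).2 ?_
  rintro _ ⟨g, ⟨r, t, hg⟩, rfl⟩
  have hx : (g : Matrix D.Idx D.Idx K) = D.x K r t := by simpa [ChevalleyDatum.x] using hg
  rw [S.ok.eq_xG hx, map_xG S]
  exact S.ok.xG_mem_group _ _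

theorem pos_fixed (S : Struct D C) (σ : F →+* F) (ι : K →+* F) (hfix : ∀ x, σ x = x → ∃ y, ι y = x)
    {u : GL D.Idx F} (hu : u ∈ D.posUnipotent F) (he : mapGL D σ u = u) :
    u ∈ (D.group K).map (mapGL D ι) := by
  classical
  have hs := S.hsum
  rw [S.posUnipotent_eq] at hu
  obtain ⟨t, rfl⟩ := S.exists_pw (D.nroots - D.nroots / 2) (D.nroots / 2) (by omega) le_rfl u hu
  have hm : mapGL D σ (S.pw (D.nroots / 2) t) = S.pw (D.nroots / 2) (fun r => σ (t r)) := by
    rw [Struct.pw, Struct.pw, map_list_prod, List.map_map]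
    congr 1
    exact List.map_congr_left fun r _ => map_xG S σ r _
  rw [hm] at he
  have ht := S.pw_inj (D.nroots - D.nroots / 2) (D.nroots / 2) (by omega) le_rfl _ _ he
  let t0 : ℕ → K := fun r => if h : σ (t r) = t r then (hfix _ h).choose else 0
  refine ⟨S.pw (D.nroots / 2) t0, list_prod_mem fun g hg => ?_, ?_⟩
  · obtain ⟨r, -, rfl⟩ := List.mem_map.1 hg
    exact S.ok.xG_mem_group _ _
  · have h0 : mapGL D ι (S.pw (D.nroots / 2) t0) = S.pw (D.nroots / 2) (fun r => ι (t0 r)) := by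
      rw [Struct.pw, Struct.pw, map_list_prod, List.map_map]
      congr 1
      exact List.map_congr_left fun r _ => map_xG S ι r _
    rw [h0]
    refine S.pw_congr fun r a b => ?_
    simp only [t0, dif_pos (ht r a b)]
    exact (hfix _ (ht r a b)).choose_spec

theorem diag_fixed (S : Struct D C) (σ : F →+* F) (ι : K →+* F) (hfix : ∀ x, σ x = x → ∃ y, ι y = x)
    (hinj : Function.Injective (Ok.tG D F)) {d : GL D.Idx F} (hd : d ∈ D.diagonalSubgroup F)
    (he : mapGL D σ d = d) : d ∈ (D.group K).map (mapGL D ι) := by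
  rw [S.ok.diagonalSubgroup_eq] at hd
  obtain ⟨c, rfl⟩ := hd
  rw [map_tG] at he
  have hc := hinj he
  have hex : ∀ i, ∃ y : Kˣ, Units.map ι.toMonoidHom y = c i := by
    intro i
    have h := congrArg Units.val (congrFun hc i)
    obtain ⟨y, hy⟩ := hfix _ h
    have hy0 : y ≠ 0 := fun e => (c i).ne_zero (by rw [← hy, e, map_zero])
    exact ⟨Units.mk0 y hy0, Units.ext hy⟩
  choose y hy using hex
  refine ⟨Ok.tG D K y, S.diag_le_group (by rw [S.ok.diagonalSubgroup_eq]; exact ⟨y, rfl⟩), ?_⟩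
  rw [map_tG]
  exact congrArg _ (funext hy)

/-- An element fixed by an entrywise automorphism lies in the group over the fixed field. -/
theorem mem_of_fixed (S : Struct D C) (hN : okNeg D = true) (σ : F →+* F) (ι : K →+* F)
    (hfix : ∀ x, σ x = x → ∃ y, ι y = x) (hinj : Function.Injective (Ok.tG D F))
    {g : GL D.Idx F} (hg : g ∈ D.group F) (he : mapGL D σ g = g) : g ∈ (D.group K).map (mapGL D ι) := by
  obtain ⟨b, hb, n, hn, L, hact, u, hu, rfl⟩ := S.normal_form hN hg
  obtain ⟨h', hh', L', rfl⟩ := S.exists_word hn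
  have hact' : Act S.ok (h' * S.nL F L') (S.wpL L') := by
    simpa using S.act_mul (S.act_diag hh') (S.act_nL (F := F) L')
  have hw := S.act_unique hact hact'
  rw [hw] at hu
  have hb' : b * h' ∈ D.borelSubgroup F := mul_mem hb (Subgroup.mem_sup_right hh')
  rw [← mul_assoc b h' (S.nL F L')] at he ⊢
  have e1 : b * h' * S.nL F L' * u = mapGL D σ (b * h') * S.nL F L' * mapGL D σ u := by
    conv_lhs => rw [← he, map_mul, map_mul, map_nL S σ]
  obtain ⟨eb, eu⟩ := S.normal_form_unique hN hb' (map_borel S σ hb') (S.act_nL L') hu (map_UPsi S σ _ hu) e1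
  obtain ⟨u0, hu0, d, hd, ebd⟩ := S.borel_decomp hb'
  rw [ebd, map_mul] at eb
  have hz : u0⁻¹ * mapGL D σ u0 = 1 := by
    have hmem : u0⁻¹ * mapGL D σ u0 ∈ D.posUnipotent F ⊓ D.diagonalSubgroup F := by
      refine Subgroup.mem_inf.2 ⟨mul_mem (inv_mem hu0) (map_pos S σ hu0), ?_⟩
      rw [show u0⁻¹ * mapGL D σ u0 = d * (mapGL D σ d)⁻¹ from by
        rw [eq_mul_inv_iff_mul_eq, mul_assoc, ← eb, inv_mul_cancel_left]]
      exact mul_mem hd (inv_mem (map_diag S σ hd))
    rwa [S.U_inf_H, Subgroup.mem_bot] at hmem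
  have hu0f : mapGL D σ u0 = u0 := (inv_mul_eq_one.1 hz).symm
  rw [hu0f] at eb
  rw [ebd]
  refine mul_mem (mul_mem (mul_mem (pos_fixed S σ ι hfix hu0 hu0f)
    (diag_fixed S σ ι hfix hinj hd (mul_left_cancel eb).symm)) ?_) (pos_fixed S σ ι hfix (S.UPsi_le _ hu) eu.symm)
  exact ⟨S.nL K L', S.mono_le_group (S.nL_mem_mono L'), map_nL S ι L'⟩

theorem tG_injective_of_inverse (S : Struct D C) (M : Fin D.rank → Fin D.rank → ℤ)
    (hM : ∀ i k : Fin D.rank, ∑ j : Fin D.rank, D.cartan i (D.simple j) * M j k = if i = k then 1 else 0) :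
    Function.Injective (Ok.tG D F) := by
  refine (injective_iff_map_eq_one _).2 fun c hc => funext fun k => ?_
  have h1 : ∀ j : Fin D.rank, (∏ i, c i ^ D.cartan i (D.simple j)) = 1 := by
    intro j
    have hj : D.simple j < D.nroots := S.ok.sr_eq j.isLt ▸ S.ok.sr_lt j.isLt
    have e1 := congrArg (fun M : GL D.Idx F => (M : Matrix D.Idx D.Idx F) (Sum.inr ⟨_, hj⟩) (Sum.inr ⟨_, hj⟩)) hc
    simp only [Ok.tG_val, Units.val_one, Matrix.diagonal_apply_eq, Matrix.one_apply_eq, Sum.elim_inr] at e1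
    exact Units.val_eq_one.1 e1
  have h2 : (∏ j : Fin D.rank, (∏ i, c i ^ D.cartan i (D.simple j)) ^ M j k) = 1 := by simp [h1]
  rw [Pi.one_apply, ← h2]
  simp only [← Finset.prod_zpow, ← zpow_mul]
  rw [Finset.prod_comm]
  have h3 : ∀ i : Fin D.rank, (∏ j : Fin D.rank, c i ^ (D.cartan i (D.simple j) * M j k)) =
      if i = k then c i else 1 := by
    intro i
    have : (∏ j : Fin D.rank, c i ^ (D.cartan i (D.simple j) * M j k)) = c i ^ (∑ j : Fin D.rank, D.cartan i (D.simple j) * M j k) := by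
      induction (Finset.univ : Finset (Fin D.rank)) using Finset.induction with
      | empty => simp
      | insert a s ha ih => rw [Finset.prod_insert ha, Finset.sum_insert ha, zpow_add, ih]
    rw [this, hM]
    split_ifs <;> simp
  simp [h3]

/-- The automorphism given by `IsFieldAut` is entrywise. -/
theorem val_fieldAut (S : Struct D C) (φ : ↥(D.group F) ≃* ↥(D.group F)) (σ : F ≃+* F)
    (hσ : ∀ (g : ↥(D.group F)) (r : ℕ) (t : F), r < D.nroots →
      ((g : GL D.Idx F) : Matrix D.Idx D.Idx F) = D.x F r t →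
        ((φ g : GL D.Idx F) : Matrix D.Idx D.Idx F) = D.x F r (σ t)) (g : ↥(D.group F)) :
    (φ g : GL D.Idx F) = mapGL D σ.toRingHom (g : GL D.Idx F) := by
  let E : Subgroup ↥(D.group F) := MonoidHom.eqLocus ((D.group F).subtype.comp φ.toMonoidHom)
    ((mapGL D σ.toRingHom).comp (D.group F).subtype)
  have hle : D.group F ≤ E.map (D.group F).subtype := by
    conv_lhs => unfold ChevalleyDatum.group
    refine (Subgroup.closure_le _).2 ?_
    rintro a ⟨r, t, ha⟩
    have hx : (a : Matrix D.Idx D.Idx F) = D.x F r t := by simpa [ChevalleyDatum.x] using ha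
    rw [S.ok.eq_xG hx]
    refine ⟨⟨S.ok.xG r t, S.ok.xG_mem_group _ _⟩, ?_, rfl⟩
    change (φ _ : GL D.Idx F) = mapGL D σ.toRingHom (S.ok.xG r t)
    rw [map_xG S]
    exact Units.ext (hσ _ r t r.isLt rfl)
  obtain ⟨z, hz, hze⟩ := hle g.2
  rw [show g = z from Subtype.ext hze.symm]
  exact hz

theorem pow_fieldAut (φ : MulAut ↥(D.group F)) (σ : F ≃+* F)
    (h : ∀ g, (φ g : GL D.Idx F) = mapGL D σ.toRingHom (g : GL D.Idx F)) :
    ∀ (k : ℕ) (g : ↥(D.group F)), ((φ ^ k) g : GL D.Idx F) = mapGL D (σ ^ k : F ≃+* F).toRingHom (g : GL D.Idx F) := by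
  intro k
  induction k with
  | zero =>
    intro g
    apply Units.ext
    exact (Matrix.map_id ((g : GL D.Idx F) : Matrix D.Idx D.Idx F)).symm
  | succ k ih =>
    intro g
    rw [pow_succ', MulAut.mul_apply, h, ih]
    apply Units.ext
    rw [pow_succ']
    exact Matrix.map_map

/-- Fixed points of a field automorphism of prime order. -/
theorem exists_fixed_iso [Fintype F] (S : Struct D C) (hN : okNeg D = true) (hrank : 0 < D.rank)
    (hinj : Function.Injective (Ok.tG D F)) (φ : MulAut ↥(D.group F)) (hφ : D.IsFieldAut φ)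
    (r : ℕ) (hr : r.Prime) (ho : orderOf φ = r) :
    ∃ (F₀ : Type) (_ : Field F₀) (_ : Fintype F₀), Fintype.card F = Fintype.card F₀ ^ r ∧
      Nonempty (↥(Cfsg.fixedSubgroup φ) ≃* ↥(D.group F₀)) := by
  classical
  obtain ⟨σ, hσ⟩ := hφ
  have hval := val_fieldAut S φ σ hσ
  have hpow := pow_fieldAut φ σ hval
  haveI : Fact r.Prime := ⟨hr⟩
  have hσr : orderOf σ = r := by
    refine orderOf_eq_prime (RingEquiv.ext fun t => ?_) ?_
    · have hs := S.ok.sr_lt hrank
      have h1 := hpow r ⟨S.ok.xG (C.sr 0) t, S.ok.xG_mem_group _ _⟩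
      rw [← ho, pow_orderOf_eq_one, ho, map_xG S] at h1
      have h2 : S.ok.xG (C.sr 0) ((σ ^ r : F ≃+* F) t - t) = (1 : GL D.Idx F) := by
        apply Units.ext
        rw [S.ok.val_xG, sub_eq_add_neg, ← S.ok.x_mul, ← S.ok.val_xG, ← S.ok.val_xG, ← Units.val_mul]
        have h3 : S.ok.xG (C.sr 0) ((σ ^ r : F ≃+* F) t) = S.ok.xG (C.sr 0) t := h1.symm
        rw [h3, ← S.ok.xG_inv, mul_inv_cancel]
      exact sub_eq_zero.1 (S.xG_eq_one hs h2)
    · intro h
      subst h
      refine hr.one_lt.ne (ho ▸ (orderOf_eq_one_iff.2 (MulEquiv.ext fun g => Subtype.ext ?_)).symm :)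
      rw [hval]
      apply Units.ext
      exact Matrix.map_id ((g : GL D.Idx F) : Matrix D.Idx D.Idx F)
  haveI : Finite (F ≃+* F) := Finite.of_injective (fun e => (e : F → F)) DFunLike.coe_injective
  let H : Subgroup (F ≃+* F) := Subgroup.zpowers σ
  let K0 := FixedPoints.subfield H F
  haveI : FaithfulSMul H F := ⟨fun {a b} h => Subtype.ext (RingEquiv.ext h)⟩
  haveI : Fintype H := Fintype.ofFinite H
  have hdim : Module.finrank K0 F = r := by
    rw [FixedPoints.finrank_eq_card H F, ← Nat.card_eq_fintype_card, Nat.card_zpowers, hσr]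
  obtain ⟨F₀, hF₀, ⟨e⟩⟩ : ∃ (F₀ : Type) (_ : Field F₀), Nonempty (F₀ ≃+* K0) := by
    obtain ⟨m, ⟨eq⟩⟩ := Finite.exists_equiv_fin K0
    letI : Field (Fin m) := eq.symm.field
    exact ⟨Fin m, inferInstance, ⟨eq.symm.ringEquiv⟩⟩
  haveI : Finite F₀ := Finite.of_equiv K0 e.symm.toEquiv
  letI : Fintype F₀ := Fintype.ofFinite F₀
  refine ⟨F₀, hF₀, inferInstance, ?_, ?_⟩
  · rw [← Nat.card_eq_fintype_card, ← Nat.card_eq_fintype_card,
      Module.natCard_eq_pow_finrank (K := K0) (V := F), hdim, Nat.card_congr e.toEquiv]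
  let ι : F₀ →+* F := K0.subtype.comp e.toRingHom
  have hfix : ∀ x, σ.toRingHom x = x → ∃ y, ι y = x := by
    intro x hx
    have hmem : x ∈ K0 := by
      rintro ⟨τ, hτ⟩
      have hst : σ ∈ MulAction.stabilizer (F ≃+* F) x := hx
      exact (Subgroup.zpowers_le.2 hst hτ : τ ∈ MulAction.stabilizer (F ≃+* F) x)
    exact ⟨e.symm ⟨x, hmem⟩, by simp [ι]⟩
  have hι : σ.toRingHom.comp ι = ι := RingHom.ext fun y => (e y).2 ⟨σ, Subgroup.mem_zpowers σ⟩
  have hmem : ∀ g ∈ D.group F₀, mapGL D ι g ∈ D.group F := fun g hg => map_group_le S ι ⟨g, hg, rfl⟩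
  let Φ : ↥(D.group F₀) →* ↥(Cfsg.fixedSubgroup φ) :=
    (((mapGL D ι).comp (D.group F₀).subtype).codRestrict (D.group F) (fun g => hmem g g.2)).codRestrict _ (fun g => by
      refine Subtype.ext ?_
      rw [hval]
      apply Units.ext
      change (((g : GL D.Idx F₀) : Matrix D.Idx D.Idx F₀).map ι).map σ.toRingHom = _
      rw [Matrix.map_map, ← RingHom.coe_comp, hι]
      rfl)
  refine ⟨(MulEquiv.ofBijective Φ ⟨?_, ?_⟩).symm⟩
  · intro a b h
    exact Subtype.ext (mapGL_injective ι (congrArg (fun x : ↥(Cfsg.fixedSubgroup φ) => ((x : ↥(D.group F)) : GL D.Idx F)) h))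
  · rintro ⟨g, hg⟩
    have hg' : mapGL D σ.toRingHom (g : GL D.Idx F) = g := by rw [← hval]; exact congrArg Subtype.val hg
    obtain ⟨g0, hg0, he⟩ := mem_of_fixed S hN σ.toRingHom ι hfix hinj g.2 hg'
    exact ⟨⟨g0, hg0⟩, Subtype.ext (Subtype.ext he)⟩

end Cfsg.Lib.Known.ChevFixed
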