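import Cfsg.Agent.Known.SemisimpleCharpoly
import Mathlib

/-! Bounds for the number of conjugacy classes of the general linear group over a finite field. -/

set_option autoImplicit false
set_option linter.style.haveILetI false

open Polynomial Matrix
open scoped DirectSum

namespace Cfsg.Lib.ClassNumberGL

/-- The truncated convolution used in the recursion. -/
def tailSum (q K : ℕ) (a : ℕ → ℕ) (n : ℕ) : ℕ :=
  ∑ j ∈ Finset.range (n / K), q ^ j * a (n - K * (j + 1))

theorem tailSum_le {q : ℕ} (hq : 2 ≤ q) (N : ℕ) (a : ℕ → ℕ) (h0 : a 0 ≤ 1)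
    (ha : ∀ m, 1 ≤ m → q ^ N * a m ≤ (q ^ N - 1) * q ^ m) (n : ℕ) (hn : N + 1 ≤ n) :
    tailSum q (N + 1) a n ≤ q ^ (n - (N + 1)) := by
  induction n using Nat.strong_induction_on with
  | _ n ih =>
  set K := N + 1 with hK
  have hpos : 0 < K := by omega
  have hle : ∀ m, 1 ≤ m → a m ≤ q ^ m := fun m hm => by
    refine Nat.le_of_mul_le_mul_left ((ha m hm).trans ?_) (pow_pos (by omega) N)
    exact Nat.mul_le_mul_right _ (Nat.sub_le _ _)
  have hdiv : n / K = (n - K) / K + 1 := Nat.div_eq_sub_div hpos hn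
  have hrec : tailSum q K a n = a (n - K) + q * tailSum q K a (n - K) := by
    rw [tailSum, hdiv, Finset.sum_range_succ', tailSum, Finset.mul_sum, add_comm]
    congr 1
    · simp
    · refine Finset.sum_congr rfl fun j _ => ?_
      rw [show n - K * (j + 1 + 1) = n - K - K * (j + 1) by rw [Nat.sub_sub]; ring_nf]
      ring
  rw [hrec]
  by_cases h2 : n - K < K
  · rw [show tailSum q K a (n - K) = 0 by rw [tailSum, Nat.div_eq_of_lt h2, Finset.sum_range_zero], mul_zero,
      add_zero]
    rcases Nat.eq_zero_or_pos (n - K) with h | h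
    · rw [h, pow_zero]; exact h0
    · exact hle _ h
  · have h3 := ih (n - K) (by omega) (by omega)
    have hm : 1 ≤ n - K := by omega
    have h1 := ha (n - K) hm
    refine Nat.le_of_mul_le_mul_left ?_ (pow_pos (show 0 < q by omega) N)
    have e : q ^ N * (q * q ^ (n - K - K)) = q ^ (n - K) := by
      rw [← mul_assoc, ← pow_succ, ← pow_add]
      congr 1
      omega
    have hN : 1 ≤ q ^ N := Nat.one_le_pow _ _ (by omega)
    calc q ^ N * (a (n - K) + q * tailSum q K a (n - K))
        = q ^ N * a (n - K) + q ^ N * (q * tailSum q K a (n - K)) := by ring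
      _ ≤ (q ^ N - 1) * q ^ (n - K) + q ^ N * (q * q ^ (n - K - K)) :=
          Nat.add_le_add h1 (Nat.mul_le_mul_left _ (Nat.mul_le_mul_left _ h3))
      _ = ((q ^ N - 1) + 1) * q ^ (n - K) := by rw [e]; ring
      _ = q ^ N * q ^ (n - K) := by rw [Nat.sub_add_cancel hN]

theorem bound_step {q : ℕ} (hq : 2 ≤ q) (N : ℕ) (a b : ℕ → ℕ) (h0 : a 0 ≤ 1)
    (ha : ∀ m, 1 ≤ m → q ^ N * a m ≤ (q ^ N - 1) * q ^ m)
    (hb : ∀ n, b n ≤ a n + (q - 1) * tailSum q (N + 1) a n) (n : ℕ) (hn : 1 ≤ n) :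
    q ^ (N + 1) * b n ≤ (q ^ (N + 1) - 1) * q ^ n := by
  have hN : 1 ≤ q ^ N := Nat.one_le_pow _ _ (by omega)
  have hT : q ^ (N + 1) * tailSum q (N + 1) a n ≤ q ^ n := by
    by_cases h : N + 1 ≤ n
    · refine (Nat.mul_le_mul_left _ (tailSum_le hq N a h0 ha n h)).trans_eq ?_
      rw [← pow_add]; congr 1; omega
    · rw [show tailSum q (N + 1) a n = 0 by rw [tailSum, Nat.div_eq_of_lt (by omega), Finset.sum_range_zero],
        mul_zero]
      exact Nat.zero_le _
  calc q ^ (N + 1) * b n ≤ q ^ (N + 1) * (a n + (q - 1) * tailSum q (N + 1) a n) :=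
        Nat.mul_le_mul_left _ (hb n)
    _ = q * (q ^ N * a n) + (q - 1) * (q ^ (N + 1) * tailSum q (N + 1) a n) := by ring
    _ ≤ q * ((q ^ N - 1) * q ^ n) + (q - 1) * q ^ n :=
        Nat.add_le_add (Nat.mul_le_mul_left _ (ha n hn)) (Nat.mul_le_mul_left _ hT)
    _ = (q * (q ^ N - 1) + (q - 1)) * q ^ n := by ring
    _ = (q ^ (N + 1) - 1) * q ^ n := by
        congr 1
        rw [Nat.mul_sub, mul_one, ← pow_succ']
        have : q ≤ q ^ (N + 1) := Nat.le_self_pow (by omega) q
        omega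

variable (F : Type*) [Field F]

/-- Admissible tuples: the elementary divisors grouped by exponent. -/
def Tup (N n : ℕ) : Type _ :=
  {G : Fin N → F[X] // (∀ i, (G i).Monic ∧ (G i).coeff 0 ≠ 0) ∧ ∑ i : Fin N, ((i : ℕ) + 1) * (G i).natDegree = n}

variable [Fintype F]

theorem tup_card (N : ℕ) : (∀ n, Finite (Tup F N n)) ∧ Nat.card (Tup F N 0) ≤ 1 ∧
    ∀ n, 1 ≤ n → Fintype.card F ^ N * Nat.card (Tup F N n) ≤ (Fintype.card F ^ N - 1) * Fintype.card F ^ n := by
  classical
  have hq : 2 ≤ Fintype.card F := Fintype.one_lt_card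
  induction N with
  | zero =>
    have hs : ∀ n, Subsingleton (Tup F 0 n) := fun n => ⟨fun G G' => Subtype.ext (Subsingleton.elim _ _)⟩
    refine ⟨fun n => inferInstance, Finite.card_le_one_iff_subsingleton.2 (hs 0), fun n hn => ?_⟩
    have : IsEmpty (Tup F 0 n) := ⟨fun G => by have := G.2.2; simp at this; omega⟩
    simp [Nat.card_of_isEmpty]
  | succ N ih =>
    obtain ⟨hfin, h0, hb⟩ := ih
    let M : ℕ → Type _ := fun j => {f : F[X] // f.Monic ∧ f.natDegree = j + 1 ∧ f.coeff 0 ≠ 0}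
    have hM : ∀ j, Nat.card (M j) = (Fintype.card F - 1) * Fintype.card F ^ j := fun j => by
      rw [show Nat.card (M j) = _ from SemisimpleCharpoly.card_monic j (fun a : F => a ≠ 0),
        Nat.card_eq_fintype_card, Nat.card_eq_fintype_card, Fintype.card_subtype_compl, Fintype.card_subtype_eq]
    have hMfin : ∀ j, Finite (M j) := fun j => Nat.finite_of_card_ne_zero (by
      rw [hM]; exact Nat.mul_ne_zero (by omega) (pow_ne_zero _ (by omega)))
    have step : ∀ n, Finite (Tup F (N + 1) n) ∧ Nat.card (Tup F (N + 1) n) ≤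
        Nat.card (Tup F N n) + (Fintype.card F - 1) * tailSum (Fintype.card F) (N + 1) (fun m => Nat.card (Tup F N m)) n := by
      intro n
      let T := Tup F N n ⊕ (Σ j : Fin (n / (N + 1)), M j × Tup F N (n - (N + 1) * ((j : ℕ) + 1)))
      haveI := hfin
      haveI := hMfin
      have hsum : ∀ G : Tup F (N + 1) n, ∑ i : Fin N, ((i : ℕ) + 1) * (G.1 i.castSucc).natDegree +
          (N + 1) * (G.1 (Fin.last N)).natDegree = n := fun G => by
        have h := G.2.2
        rw [Fin.sum_univ_castSucc] at h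
        simpa using h
      let Φ : Tup F (N + 1) n → T := fun G =>
        if h : (G.1 (Fin.last N)).natDegree = 0 then
          Sum.inl ⟨fun i => G.1 i.castSucc, fun i => G.2.1 _, by have := hsum G; rw [h, mul_zero, add_zero] at this; exact this⟩
        else Sum.inr ⟨⟨(G.1 (Fin.last N)).natDegree - 1, by
              have := hsum G
              rw [Nat.lt_iff_add_one_le, Nat.le_div_iff_mul_le (by omega), Nat.sub_add_cancel (by omega), mul_comm]
              omega⟩,
            ⟨G.1 (Fin.last N), (G.2.1 _).1, (Nat.sub_add_cancel (by omega)).symm, (G.2.1 _).2⟩,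
            ⟨fun i => G.1 i.castSucc, fun i => G.2.1 _, by
              have := hsum G
              simp only
              rw [Nat.sub_add_cancel (by omega)]
              omega⟩⟩
      let Ψ : T → (Fin (N + 1) → F[X]) :=
        fun t => Sum.elim (fun H => Fin.snoc (α := fun _ => F[X]) H.1 1) (fun x => Fin.snoc (α := fun _ => F[X]) x.2.2.1 x.2.1.1) t
      have hΨ : ∀ G, Ψ (Φ G) = G.1 := by
        intro G
        funext i
        by_cases h : (G.1 (Fin.last N)).natDegree = 0
        · rw [show Φ G = _ from dif_pos h]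
          refine Fin.lastCases ?_ (fun i => ?_) i
          · exact (Fin.snoc_last (α := fun _ => F[X]) (1 : F[X]) (fun i : Fin N => G.1 i.castSucc)).trans ((G.2.1 _).1.natDegree_eq_zero.1 h).symm
          · exact Fin.snoc_castSucc (α := fun _ => F[X]) (1 : F[X]) (fun i : Fin N => G.1 i.castSucc) i
        · rw [show Φ G = _ from dif_neg h]
          refine Fin.lastCases ?_ (fun i => ?_) i
          · exact Fin.snoc_last (α := fun _ => F[X]) (G.1 (Fin.last N)) (fun i : Fin N => G.1 i.castSucc)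
          · exact Fin.snoc_castSucc (α := fun _ => F[X]) (G.1 (Fin.last N)) (fun i : Fin N => G.1 i.castSucc) i
      have hinj : Function.Injective Φ := fun G G' e => Subtype.ext (by rw [← hΨ G, ← hΨ G', e])
      refine ⟨Finite.of_injective Φ hinj, (Nat.card_le_card_of_injective Φ hinj).trans_eq ?_⟩
      rw [Nat.card_sum]
      congr 1
      rw [Nat.card_sigma, tailSum, Finset.mul_sum, Finset.sum_range]
      refine Finset.sum_congr rfl fun j _ => ?_
      rw [Nat.card_prod, hM]
      ring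
    refine ⟨fun n => (step n).1, ?_, fun n hn => bound_step hq N _ _ h0 hb (fun m => (step m).2) n hn⟩
    refine (step 0).2.trans ?_
    simp only [tailSum, Nat.zero_div, Finset.sum_range_zero, mul_zero, add_zero]
    exact h0

theorem tup_le (n : ℕ) : Nat.card (Tup F n n) ≤ Fintype.card F ^ n := by
  obtain ⟨-, h0, hb⟩ := tup_card F n
  rcases Nat.eq_zero_or_pos n with rfl | hn
  · simpa using h0
  · refine Nat.le_of_mul_le_mul_left ((hb n hn).trans ?_) (pow_pos Fintype.card_pos n)
    exact Nat.mul_le_mul_right _ (Nat.sub_le _ _)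

omit [Fintype F] in
theorem finrank_quotient_monic {g : F[X]} (hg : g.Monic) :
    Module.finrank F (F[X] ⧸ Ideal.span {g}) = g.natDegree :=
  (PowerBasis.finrank (AdjoinRoot.powerBasis' hg)).trans rfl

universe u

omit [Fintype F] in
/-- The module of a matrix, up to isomorphism, from elementary divisors. -/
theorem exists_decomp {F : Type u} [Field F] {n : ℕ} (A : Matrix (Fin n) (Fin n) F) (hA : A.det ≠ 0) :
    ∃ (ι : Type u) (_ : Fintype ι) (P : ι → F[X]) (e : ι → ℕ),
      (∀ j, (P j).Monic ∧ Irreducible (P j) ∧ (P j).coeff 0 ≠ 0 ∧ 1 ≤ e j) ∧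
      ∑ j, e j * (P j).natDegree = n ∧
      Nonempty (Module.AEval' (Matrix.toLin' A) ≃ₗ[F[X]] ((j : ι) → F[X] ⧸ Ideal.span {P j ^ e j})) := by
  classical
  set a : Module.End F (Fin n → F) := Matrix.toLin' A with hadef
  obtain ⟨ι, hι, p, hp, e, ⟨Φ⟩⟩ := Module.equiv_directSum_of_isTorsion
    (Module.AEval.isTorsion_of_finiteDimensional F (Fin n → F) a)
  let P : ι → F[X] := fun j => p j * C (p j).leadingCoeff⁻¹
  have hm : ∀ j, (P j).Monic := fun j => monic_mul_leadingCoeff_inv (hp j).ne_zero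
  have hass : ∀ j, Associated (p j) (P j) := fun j =>
    ⟨(Polynomial.isUnit_C.2 (isUnit_iff_ne_zero.2 (inv_ne_zero (leadingCoeff_ne_zero.2 (hp j).ne_zero)))).unit,
      rfl⟩
  have hi : ∀ j, Irreducible (P j) := fun j => (hass j).irreducible (hp j)
  have hsp : ∀ j, Submodule.span F[X] {p j ^ e j} = Ideal.span {P j ^ e j} := fun j =>
    Ideal.span_singleton_eq_span_singleton.2 ((hass j).pow_pow)
  let Ψ : Module.AEval' a ≃ₗ[F[X]] ((j : ι) → F[X] ⧸ Ideal.span {P j ^ e j}) :=
    (Φ.trans (DirectSum.linearEquivFunOnFintype F[X] ι (fun j => F[X] ⧸ Submodule.span F[X] {p j ^ e j}))).trans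
      (LinearEquiv.piCongrRight fun j => Submodule.quotEquivOfEq _ _ (hsp j))
  have hsub : ∀ j, ¬ e j ≠ 0 → Subsingleton (F[X] ⧸ Ideal.span {P j ^ e j}) := fun j hj => by
    rw [not_not] at hj
    rw [hj, pow_zero, Ideal.span_singleton_one]
    infer_instance
  let r : ((j : ι) → F[X] ⧸ Ideal.span {P j ^ e j}) →ₗ[F[X]] ((j : {j // e j ≠ 0}) → F[X] ⧸ Ideal.span {P j.1 ^ e j.1}) :=
    LinearMap.pi fun j => LinearMap.proj j.1
  have hr : Function.Bijective r := by
    constructor
    · intro x y hxy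
      funext j
      by_cases hj : e j ≠ 0
      · exact congrFun hxy ⟨j, hj⟩
      · exact (hsub j hj).elim _ _
    · intro y
      refine ⟨fun j => if hj : e j ≠ 0 then y ⟨j, hj⟩ else 0, funext fun j => ?_⟩
      show (if hj : e j.1 ≠ 0 then y ⟨j.1, hj⟩ else 0) = y j
      rw [dif_pos j.2]
  let Ω := Ψ.trans (LinearEquiv.ofBijective r hr)
  refine ⟨{j // e j ≠ 0}, inferInstance, fun j => P j.1, fun j => e j.1,
    fun j => ⟨hm _, hi _, ?_, Nat.one_le_iff_ne_zero.2 j.2⟩, ?_, ⟨Ω⟩⟩
  · intro h0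
    have hX : P j.1 = X := by
      refine eq_of_monic_of_associated (hm _) monic_X ?_
      exact ((Polynomial.prime_X).irreducible.associated_of_dvd (hi _) (X_dvd_iff.2 h0)).symm
    set w : Module.AEval' a := Ω.symm (Pi.single j (Ideal.Quotient.mk _ (P j.1 ^ (e j.1 - 1)))) with hw
    have hXw : (X : F[X]) • w = 0 := by
      rw [hw, ← map_smul, ← Pi.single_smul]
      rw [← map_zero Ω.symm, ← Pi.single_zero j]
      congr 2
      show Ideal.Quotient.mk _ (X * P j.1 ^ (e j.1 - 1)) = 0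
      rw [Ideal.Quotient.eq_zero_iff_mem, Ideal.mem_span_singleton, hX, ← pow_succ', Nat.sub_add_cancel
        (Nat.one_le_iff_ne_zero.2 j.2)]
    have hw0 : w ≠ 0 := by
      intro e0
      rw [hw, LinearEquiv.map_eq_zero_iff, Pi.single_eq_zero_iff, Ideal.Quotient.eq_zero_iff_mem,
        Ideal.mem_span_singleton, pow_dvd_pow_iff (hi _).ne_zero (hi _).not_isUnit] at e0
      have := j.2
      omega
    obtain ⟨v, hv⟩ : ∃ v, Module.AEval'.of a v = w := ⟨_, (Module.AEval'.of a).apply_symm_apply w⟩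
    rw [← hv, Module.AEval'.X_smul_of, LinearEquiv.map_eq_zero_iff] at hXw
    have hv0 : v ≠ 0 := fun e0 => hw0 (by rw [← hv, e0, map_zero])
    exact hA (Matrix.exists_mulVec_eq_zero_iff.1 ⟨v, hv0, hXw⟩)
  · have hf : ∀ j : {j // e j ≠ 0}, Module.Finite F (F[X] ⧸ Ideal.span {P j.1 ^ e j.1}) := fun j =>
      ((hm _).pow _).finite_quotient
    have h1 := (((Module.AEval'.of a).trans (Ω.restrictScalars F))).finrank_eq
    rw [Module.finrank_fin_fun, Module.finrank_pi_fintype] at h1
    refine Eq.trans (Finset.sum_congr rfl fun j _ => ?_) h1.symm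
    rw [finrank_quotient_monic F ((hm j.1).pow _), natDegree_pow]

/-- The tuple attached to a family of elementary divisors. -/
noncomputable def tupOf {F : Type u} [Field F] {ι : Type u} [Fintype ι] (n : ℕ) (P : ι → F[X]) (e : ι → ℕ)
    (i : Fin n) : F[X] :=
  ((Finset.univ.filter fun j => e j = (i : ℕ) + 1).val.map P).prod

/-- The conditions satisfied by a family of elementary divisors of an invertible matrix. -/
def IsDivisors {F : Type u} [Field F] {ι : Type u} [Fintype ι] (n : ℕ) (P : ι → F[X]) (e : ι → ℕ) : Prop :=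
  (∀ j, (P j).Monic ∧ Irreducible (P j) ∧ (P j).coeff 0 ≠ 0 ∧ 1 ≤ e j) ∧ ∑ j, e j * (P j).natDegree = n

omit [Fintype F] in
theorem le_of_isDivisors {F : Type u} [Field F] {ι : Type u} [Fintype ι] {n : ℕ} {P : ι → F[X]} {e : ι → ℕ}
    (h : IsDivisors n P e) (j : ι) : e j ≤ n := by
  refine le_trans ?_ ((Finset.single_le_sum (f := fun j => e j * (P j).natDegree)
    (fun k _ => Nat.zero_le _) (Finset.mem_univ j)).trans_eq h.2)
  exact Nat.le_mul_of_pos_right _ (h.1 j).2.1.natDegree_pos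

omit [Fintype F] in
theorem tupOf_mem {F : Type u} [Field F] {ι : Type u} [Fintype ι] {n : ℕ} {P : ι → F[X]} {e : ι → ℕ}
    (h : IsDivisors n P e) : (∀ i, (tupOf n P e i).Monic ∧ (tupOf n P e i).coeff 0 ≠ 0) ∧
      ∑ i : Fin n, ((i : ℕ) + 1) * (tupOf n P e i).natDegree = n := by
  classical
  refine ⟨fun i => ⟨monic_prod_of_monic _ _ fun j _ => (h.1 j).1, ?_⟩, ?_⟩
  · show (∏ j ∈ Finset.univ.filter (fun j => e j = (i : ℕ) + 1), P j).coeff 0 ≠ 0
    rw [coeff_zero_prod]
    exact Finset.prod_ne_zero_iff.2 fun j _ => (h.1 j).2.2.1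
  · let slot : ι → Fin n := fun j =>
      ⟨e j - 1, by have := (h.1 j).2.2.2; have := le_of_isDivisors h j; omega⟩
    refine Eq.trans ?_ h.2
    rw [← Finset.sum_fiberwise Finset.univ slot]
    refine Finset.sum_congr rfl fun i _ => ?_
    show _ * (∏ j ∈ Finset.univ.filter (fun j => e j = (i : ℕ) + 1), P j).natDegree = _
    rw [natDegree_prod_of_monic _ _ (fun j _ => (h.1 j).1), Finset.mul_sum]
    refine Finset.sum_congr (Finset.ext fun j => ?_) fun j hj => ?_
    · have := (h.1 j).2.2.2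
      simp only [Finset.mem_filter, Finset.mem_univ, true_and, slot, Fin.ext_iff]
      omega
    · have := (h.1 j).2.2.2
      simp only [Finset.mem_filter, Finset.mem_univ, true_and, slot, Fin.ext_iff] at hj
      congr 1
      omega

omit [Fintype F] in
/-- Equal tuples give conjugate elements. -/
theorem isConj_of_tupOf_eq {F : Type u} [Field F] {n : ℕ} (g g' : GL (Fin n) F)
    {ι ι' : Type u} [Fintype ι] [Fintype ι'] {P : ι → F[X]} {e : ι → ℕ} {P' : ι' → F[X]} {e' : ι' → ℕ}
    (h : IsDivisors n P e) (h' : IsDivisors n P' e')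
    (Ω : Module.AEval' (Matrix.toLin' (g : Matrix (Fin n) (Fin n) F)) ≃ₗ[F[X]] ((j : ι) → F[X] ⧸ Ideal.span {P j ^ e j}))
    (Ω' : Module.AEval' (Matrix.toLin' (g' : Matrix (Fin n) (Fin n) F)) ≃ₗ[F[X]] ((j : ι') → F[X] ⧸ Ideal.span {P' j ^ e' j}))
    (hGe : tupOf n P e = tupOf n P' e') : IsConj g g' := by
  classical
  let key : ι → ℕ × F[X] := fun j => (e j, P j)
  let key' : ι' → ℕ × F[X] := fun j => (e' j, P' j)
  have hfib : ∀ x : ℕ × F[X], Nat.card {j // key j = x} = Nat.card {j // key' j = x} := by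
    rintro ⟨m, Q⟩
    have hcount : ∀ (κ : Type u) [Fintype κ] (p : κ → F[X]) (d : κ → ℕ), Nat.card {j // (d j, p j) = (m, Q)} =
        Multiset.count Q ((Finset.univ.filter fun j => d j = m).val.map p) := by
      intro κ _ p d
      rw [Multiset.count_map, Nat.card_eq_fintype_card, Fintype.card_subtype, ← Finset.filter_val,
        Finset.filter_filter, Finset.card_val]
      congr 1
      exact Finset.filter_congr fun j _ => by simp [eq_comm]
    rw [hcount ι P e, hcount ι' P' e']
    congr 1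
    by_cases hm : 1 ≤ m ∧ m ≤ n
    · have e1 := congrFun hGe ⟨m - 1, by omega⟩
      simp only [tupOf, Nat.sub_add_cancel hm.1] at e1
      have hfac : ∀ (κ : Type u) [Fintype κ] (p : κ → F[X]) (d : κ → ℕ), IsDivisors n p d →
          UniqueFactorizationMonoid.normalizedFactors ((Finset.univ.filter fun j => d j = m).val.map p).prod =
          (Finset.univ.filter fun j => d j = m).val.map p := by
        intro κ _ p d hd
        rw [UniqueFactorizationMonoid.normalizedFactors_prod_eq _ (fun x hx => by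
          obtain ⟨j, -, rfl⟩ := Multiset.mem_map.1 hx; exact (hd.1 j).2.1), Multiset.map_map]
        exact Multiset.map_congr rfl fun j _ => (hd.1 j).1.normalize_eq_self
      rw [← hfac ι P e h, e1, hfac ι' P' e' h']
    · have hz : ∀ (κ : Type u) [Fintype κ] (p : κ → F[X]) (d : κ → ℕ), IsDivisors n p d →
          (Finset.univ.filter fun j => d j = m) = ∅ := fun κ _ p d hd =>
        Finset.filter_eq_empty_iff.2 fun j _ ej => hm ⟨ej ▸ (hd.1 j).2.2.2, ej ▸ le_of_isDivisors hd j⟩
      simp [hz ι P e h, hz ι' P' e' h']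
  have hfe : ∀ x, Nonempty ({j // key j = x} ≃ {j // key' j = x}) := fun x => Finite.card_eq.1 (hfib x)
  let σ : ι ≃ ι' := Equiv.ofFiberEquiv fun x => (hfe x).some
  have hσ : ∀ j, key' (σ j) = key j := Equiv.ofFiberEquiv_map _
  let Θ : ((j : ι) → F[X] ⧸ Ideal.span {P j ^ e j}) ≃ₗ[F[X]] ((j : ι') → F[X] ⧸ Ideal.span {P' j ^ e' j}) :=
    (LinearEquiv.piCongrRight fun j => Submodule.quotEquivOfEq _ (Ideal.span {P' (σ j) ^ e' (σ j)}) (by
      have h := hσ j
      simp only [key, key', Prod.mk.injEq] at h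
      rw [h.1, h.2])).trans (LinearEquiv.piCongrLeft F[X] (fun j => F[X] ⧸ Ideal.span {P' j ^ e' j}) σ)
  let Λ := (Ω.trans Θ).trans Ω'.symm
  let T : (Fin n → F) ≃ₗ[F] (Fin n → F) :=
    ((Module.AEval'.of (Matrix.toLin' (g : Matrix (Fin n) (Fin n) F))).trans (Λ.restrictScalars F)).trans
      (Module.AEval'.of (Matrix.toLin' (g' : Matrix (Fin n) (Fin n) F))).symm
  have hT : ∀ v, T ((g : Matrix (Fin n) (Fin n) F) *ᵥ v) = (g' : Matrix (Fin n) (Fin n) F) *ᵥ (T v) := by
    intro v
    apply (Module.AEval'.of (Matrix.toLin' (g' : Matrix (Fin n) (Fin n) F))).injective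
    simp only [T, LinearEquiv.trans_apply, LinearEquiv.apply_symm_apply, LinearEquiv.restrictScalars_apply]
    rw [← Matrix.toLin'_apply (g' : Matrix (Fin n) (Fin n) F), ← Module.AEval'.X_smul_of,
      LinearEquiv.apply_symm_apply, ← map_smul, Module.AEval'.X_smul_of, Matrix.toLin'_apply]
  let M : GL (Fin n) F := Matrix.GeneralLinearGroup.mkOfDetNeZero
    (LinearMap.toMatrix' (T : (Fin n → F) →ₗ[F] (Fin n → F)))
    (by rw [LinearMap.det_toMatrix']; exact (LinearEquiv.isUnit_det' T).ne_zero)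
  refine isConj_iff.2 ⟨M, ?_⟩
  rw [mul_inv_eq_iff_eq_mul]
  refine Units.ext ?_
  show LinearMap.toMatrix' (T : (Fin n → F) →ₗ[F] (Fin n → F)) * (g : Matrix (Fin n) (Fin n) F) =
    (g' : Matrix (Fin n) (Fin n) F) * LinearMap.toMatrix' (T : (Fin n → F) →ₗ[F] (Fin n → F))
  refine Matrix.toLin'.injective ?_
  rw [Matrix.toLin'_mul, Matrix.toLin'_mul, Matrix.toLin'_toMatrix']
  refine LinearMap.ext fun v => ?_
  simpa using hT v

omit [Fintype F] in
theorem card_classes_le [Fintype F] (n : ℕ) :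
    Nat.card (ConjClasses (GL (Fin n) F)) ≤ Fintype.card F ^ n := by
  classical
  have hdet : ∀ g : GL (Fin n) F, (g : Matrix (Fin n) (Fin n) F).det ≠ 0 := fun g =>
    ((Matrix.isUnit_iff_isUnit_det _).1 g.isUnit).ne_zero
  choose ι hι P e hP hsum Ω using fun g : GL (Fin n) F => exists_decomp (g : Matrix (Fin n) (Fin n) F) (hdet g)
  haveI := (tup_card F n).1 n
  let Φ : ConjClasses (GL (Fin n) F) → Tup F n n := fun c =>
    ⟨tupOf n (P (Quotient.out c)) (e (Quotient.out c)), tupOf_mem ⟨hP _, hsum _⟩⟩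
  refine le_trans (Nat.card_le_card_of_injective Φ ?_) (tup_le F n)
  intro c c' hcc
  rw [← Quotient.out_eq c, ← Quotient.out_eq c']
  exact Quotient.sound (isConj_of_tupOf_eq _ _ ⟨hP _, hsum _⟩ ⟨hP _, hsum _⟩ (Ω _).some (Ω _).some
    (congrArg Subtype.val hcc))

theorem le_card_classes (n : ℕ) (hn : 1 ≤ n) :
    Fintype.card F ^ n - Fintype.card F ^ (n - 1) ≤ Nat.card (ConjClasses (GL (Fin n) F)) := by
  classical
  obtain ⟨p, hc⟩ := CharP.exists F
  haveI : Fact p.Prime := ⟨CharP.char_is_prime F p⟩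
  have hcard := SemisimpleCharpoly.card_monic (F := F) (n - 1) (fun a : F => a ≠ 0)
  have h2 : Nat.card {a : F // a ≠ 0} = Fintype.card F - 1 := by
    rw [Nat.card_eq_fintype_card, Fintype.card_subtype_compl, Fintype.card_subtype_eq]
  rw [Nat.sub_add_cancel hn, h2, Nat.card_eq_fintype_card (α := F)] at hcard
  have hge := fun f : {f : F[X] // f.Monic ∧ f.natDegree = n ∧ f.coeff 0 ≠ 0} =>
    SemisimpleCharpoly.exists_GL p f.1 f.2.1 f.2.2.1 f.2.2.2
  choose g hg1 hg2 using hge
  refine le_trans (le_of_eq ?_) (Nat.card_le_card_of_injective (fun f => ConjClasses.mk (g f)) ?_)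
  · rw [hcard, Nat.sub_mul, one_mul, ← pow_succ', Nat.sub_add_cancel hn]
  · intro f f' h
    obtain ⟨c, hc⟩ := isConj_iff.1 (ConjClasses.mk_eq_mk_iff_isConj.1 h)
    apply Subtype.ext
    rw [← hg2 f, ← hg2 f', ← hc, Units.val_mul, Units.val_mul, Matrix.coe_units_inv, Matrix.charpoly_units_conj]

end Cfsg.Lib.ClassNumberGL
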