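import Cfsg.Agent.Known.OmegaRank
import Cfsg.Agent.Known.MinusExtend
import Mathlib

/-! Splitting in `Ω` of classes of involutions, characteristic two. -/

set_option autoImplicit false
set_option linter.style.haveILetI false
set_option linter.unusedSectionVars false

namespace Cfsg.Lib.OmegaCls

open Cfsg.Lib.Classical Cfsg.Lib.Classical.Refl Matrix

universe u

variable {F : Type u} [Field F] [Fintype F] [CharP F 2] {ι : Type} [Fintype ι] [DecidableEq ι]
  {Q : QuadraticForm F (ι → F)}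

theorem refl_commute (t : Cfsg.isometryGroup F (⇑Q)) {v : ι → F} (hv : Q v ≠ 0) (ht : mat Q t *ᵥ v = v) :
    refl Q v hv * t = t * refl Q v hv := by
  refine ext_mulVec _ fun x => ?_
  show mat Q (refl Q v hv * t) *ᵥ x = mat Q (t * refl Q v hv) *ᵥ x
  rw [mulVec_mul, mulVec_mul]
  show Cfsg.reflectionMatrix (⇑Q) v *ᵥ (mat Q t *ᵥ x) = mat Q t *ᵥ (Cfsg.reflectionMatrix (⇑Q) v *ᵥ x)
  rw [mulVec_eq, mulVec_eq, Matrix.mulVec_sub, Matrix.mulVec_smul, ht]
  congr 3
  conv_lhs => rw [← ht]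
  simp only [QuadraticMap.polar, ← Matrix.mulVec_add]
  rw [(mem_iff Q).mp t.2, (mem_iff Q).mp t.2, (mem_iff Q).mp t.2]

theorem exists_conj_omega (hQ : (QuadraticMap.polarBilin Q).Nondegenerate) (hn : 1 ≤ Fintype.card ι)
    (h : Fintype.card F ≠ 2 ∨ Fintype.card ι ≠ 4) {t s : Cfsg.isometryGroup F (⇑Q)} {v : ι → F} (hv : Q v ≠ 0)
    (ht : mat Q t *ᵥ v = v) (hconj : IsConj t s) : ∃ g ∈ Cfsg.Omega F (⇑Q), g * t * g⁻¹ = s := by
  obtain ⟨g, hg⟩ := isConj_iff.1 hconj
  rcases Int.units_eq_one_or (dickson Q hQ g) with hd | hd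
  · exact ⟨g, (dickson_iff hQ hn h g).2 hd, hg⟩
  · refine ⟨g * refl Q v hv, (dickson_iff hQ hn h _).2 (by rw [map_mul, hd, dickson_refl]; decide), ?_⟩
    rw [_root_.mul_inv_rev, mul_assoc g, refl_commute t hv ht]
    simp only [mul_assoc, mul_inv_cancel_left]
    rw [← mul_assoc]; exact hg

/-- The fixed space of an involution. -/
noncomputable def fixed (t : Cfsg.isometryGroup F (⇑Q)) : Submodule F (ι → F) :=
  LinearMap.ker (Matrix.toLin' (mat Q t - 1))

theorem mem_fixed {t : Cfsg.isometryGroup F (⇑Q)} {v : ι → F} : v ∈ fixed t ↔ mat Q t *ᵥ v = v := by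
  rw [fixed, LinearMap.mem_ker, Matrix.toLin'_apply, Matrix.sub_mulVec, Matrix.one_mulVec, sub_eq_zero]

theorem range_le_fixed {t : Cfsg.isometryGroup F (⇑Q)} (ht : t * t = 1) :
    LinearMap.range (Matrix.toLin' (mat Q t - 1)) ≤ fixed t := by
  rintro _ ⟨x, rfl⟩
  rw [mem_fixed, Matrix.toLin'_apply, Matrix.sub_mulVec, Matrix.one_mulVec, Matrix.mulVec_sub, ← mulVec_mul, ht,
    Subgroup.coe_one, Units.val_one, Matrix.one_mulVec]
  funext i
  simp only [Pi.sub_apply, CharTwo.sub_eq_add, add_comm]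

/-- An involution fixing singular vectors only has a maximal singular subspace as axis. -/
theorem fixed_isMax (hQ : (QuadraticMap.polarBilin Q).Nondegenerate) {m : ℕ} (hι : Fintype.card ι = 2 * m)
    {t : Cfsg.isometryGroup F (⇑Q)} (ht : t * t = 1) (hall : ∀ v, mat Q t *ᵥ v = v → Q v = 0) :
    HypQuad.IsMax Q m (fixed t) ∧ LinearMap.range (Matrix.toLin' (mat Q t - 1)) = fixed t := by
  have hsing : ∀ w ∈ fixed t, Q w = 0 := fun w hw => hall w (mem_fixed.1 hw)
  have hV : Module.finrank F (ι → F) = 2 * m := by simp [hι]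
  have h1 := Submodule.finrank_mono (HypQuad.le_perp Q hsing)
  rw [HypQuad.finrank_perp Q hQ, hV] at h1
  have h2 := LinearMap.finrank_range_add_finrank_ker (Matrix.toLin' (mat Q t - 1))
  rw [hV] at h2
  have h3 := Submodule.finrank_mono (range_le_fixed ht)
  have h4 : Module.finrank F (fixed t) = m := by
    unfold fixed at h1 h3 ⊢
    omega
  refine ⟨⟨h4, hsing⟩, Submodule.eq_of_le_of_finrank_le (range_le_fixed ht) ?_⟩
  unfold fixed at h4 ⊢
  omega

theorem split (hQ : (QuadraticMap.polarBilin Q).Nondegenerate) {m : ℕ} (hm : 1 ≤ m) (hι : Fintype.card ι = 2 * m)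
    (h : Fintype.card F ≠ 2 ∨ Fintype.card ι ≠ 4) {t s : Cfsg.isometryGroup F (⇑Q)} (ht : t * t = 1)
    (htO : t ∈ Cfsg.Omega F (⇑Q)) (hconj : IsConj t s) :
    (¬ ((mat Q t - 1).rank = m ∧ ∀ v, Q (v + mat Q t *ᵥ v) = 0) → ∃ g ∈ Cfsg.Omega F (⇑Q), g * t * g⁻¹ = s) ∧
      (((mat Q t - 1).rank = m ∧ ∀ v, Q (v + mat Q t *ᵥ v) = 0) →
        ((∃ g ∈ Cfsg.Omega F (⇑Q), g * t * g⁻¹ = s) ↔ Even (Module.finrank F
          ↥(LinearMap.range (Matrix.toLin' (mat Q t - 1)) ⊓ LinearMap.range (Matrix.toLin' (mat Q s - 1)))))) := by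
  have hadd : ∀ v, v + mat Q t *ᵥ v = Matrix.toLin' (mat Q t - 1) v := fun v => by
    rw [Matrix.toLin'_apply, Matrix.sub_mulVec, Matrix.one_mulVec]
    funext i
    simp only [Pi.sub_apply, Pi.add_apply, CharTwo.sub_eq_add, add_comm]
  refine ⟨fun hnot => ?_, fun ⟨hr, hsing⟩ => ?_⟩
  · by_cases hex : ∃ v, mat Q t *ᵥ v = v ∧ Q v ≠ 0
    · obtain ⟨v, hv1, hv2⟩ := hex
      exact exists_conj_omega hQ (by omega) h hv2 hv1 hconj
    · push Not at hex
      obtain ⟨hmax, heq⟩ := fixed_isMax hQ hι ht hex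
      refine absurd ⟨?_, fun v => ?_⟩ hnot
      · rw [Matrix.rank, ← Matrix.toLin'_apply', heq, hmax.1]
      · rw [hadd]; exact hmax.2 _ (heq ▸ LinearMap.mem_range_self _ v)
  · have hker : LinearMap.range (Matrix.toLin' (mat Q t - 1)) = fixed t := by
      refine Submodule.eq_of_le_of_finrank_le (range_le_fixed ht) ?_
      have h2 := LinearMap.finrank_range_add_finrank_ker (Matrix.toLin' (mat Q t - 1))
      rw [Matrix.rank, ← Matrix.toLin'_apply'] at hr
      rw [hr, Module.finrank_fintype_fun_eq_card, hι] at h2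
      rw [hr, fixed]
      omega
    have hU : HypQuad.IsMax Q m (LinearMap.range (Matrix.toLin' (mat Q t - 1))) := by
      refine ⟨?_, ?_⟩
      · rw [Matrix.rank, ← Matrix.toLin'_apply'] at hr; exact hr
      · rintro _ ⟨v, rfl⟩; rw [← hadd]; exact hsing v
    have heven : Even m := by
      rw [← hr]
      exact (omega_iff_rank_even hQ (by omega) h t).1 htO
    have key : ∀ g, g * t * g⁻¹ = s → (g ∈ Cfsg.Omega F (⇑Q) ↔ Even (Module.finrank F
        ↥(LinearMap.range (Matrix.toLin' (mat Q t - 1)) ⊓ LinearMap.range (Matrix.toLin' (mat Q s - 1))))) := by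
      intro g hg
      have hmap : LinearMap.range (Matrix.toLin' (mat Q s - 1)) =
          (LinearMap.range (Matrix.toLin' (mat Q t - 1))).map (Matrix.mulVecLin (mat Q g)) := by
        have hgi : mat Q g * mat Q g⁻¹ = 1 := by
          show mat Q (g * g⁻¹) = 1
          rw [mul_inv_cancel]; rfl
        have hsurj : LinearMap.range (Matrix.toLin' (mat Q g⁻¹)) = ⊤ :=
          LinearMap.range_eq_top.2 fun x => ⟨mat Q g *ᵥ x, by
            rw [Matrix.toLin'_apply, ← mulVec_mul, inv_mul_cancel, Subgroup.coe_one, Units.val_one, Matrix.one_mulVec]⟩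
        have e : mat Q s - 1 = mat Q g * (mat Q t - 1) * mat Q g⁻¹ := by
          rw [mul_sub, sub_mul, mul_one, hgi, ← hg]; rfl
        rw [e, Matrix.toLin'_mul, LinearMap.range_comp, hsurj, Submodule.map_top, Matrix.toLin'_mul,
          LinearMap.range_comp]
        rfl
      have hp := parity_dickson hQ hι h hU g
      rw [← hmap, ← dickson_iff hQ (by omega) h g] at hp
      rw [← hp]
      have hle := Submodule.finrank_mono (inf_le_left :
        LinearMap.range (Matrix.toLin' (mat Q t - 1)) ⊓ LinearMap.range (Matrix.toLin' (mat Q s - 1)) ≤ _)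
      rw [hU.1] at hle
      rw [Nat.even_sub hle]
      simp [heven]
    obtain ⟨g0, hg0⟩ := isConj_iff.1 hconj
    exact ⟨fun ⟨g, hg, hge⟩ => (key g hge).1 hg, fun hev => ⟨g0, (key g0 hg0).2 hev, hg0⟩⟩

end Cfsg.Lib.OmegaCls
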