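import Cfsg.Agent.Known.ClassNumberSLBound
import Cfsg.Agent.Classical.SL
import Mathlib

/-! Bounds for the number of conjugacy classes of the projective special linear group. -/

set_option autoImplicit false
set_option linter.style.haveILetI false

open Polynomial Matrix

namespace Cfsg.Lib.ClassNumberPSL

open ClassNumberGL ClassNumberSL DivisorScaling

universe u

variable {F : Type u} [Field F] [Fintype F] {n : ℕ}

omit [Fintype F] in
theorem expand_of_scale {ζ : F} (hζ : ζ ≠ 0) {G : F[X]} (hG : G.Monic) (h0 : G.coeff 0 ≠ 0) (h : scale ζ G = G) :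
    orderOf ζ ∣ G.natDegree ∧ (0 < orderOf ζ → expand F (orderOf ζ) (contract (orderOf ζ) G) = G) := by
  have hk : ∀ k, G.coeff k ≠ 0 → ζ ^ k = ζ ^ G.natDegree := by
    intro k hk
    have := congrArg (fun p : F[X] => p.coeff k) h
    simp only [scale, coeff_C_mul, comp_C_mul_X_coeff] at this
    have hne : ζ ^ G.natDegree ≠ 0 := pow_ne_zero _ hζ
    field_simp at this
    exact this
  have hd : ζ ^ G.natDegree = 1 := by rw [← hk 0 h0, pow_zero]
  refine ⟨orderOf_dvd_of_pow_eq_one hd, fun hr => ?_⟩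
  ext k
  rw [coeff_expand hr]
  split_ifs with hdv
  · rw [coeff_contract hr.ne', Nat.div_mul_cancel hdv]
  · by_contra hne
    exact hdv (orderOf_dvd_of_pow_eq_one ((hk k (fun e => hne e.symm)).trans hd))

/-- Tuples of determinant one fixed by scaling. -/
def TupFix (n : ℕ) (ζ : F) : Type u := {T : Tup1 F n // ∀ i, scale ζ (T.1.1 i) = T.1.1 i}

theorem exists_index (hn : 1 ≤ n) {ζ : F} (hζ : ζ ≠ 0) (T : TupFix n ζ) :
    ∃ i : Fin n, (T.1.1.1 i).natDegree ≠ 0 ∧ (i : ℕ) + 1 ≤ n / orderOf ζ := by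
  classical
  obtain ⟨i, -, hi⟩ : ∃ i ∈ (Finset.univ : Finset (Fin n)), ((i : ℕ) + 1) * (T.1.1.1 i).natDegree ≠ 0 :=
    Finset.exists_ne_zero_of_sum_ne_zero (by rw [T.1.1.2.2]; omega)
  have hd : (T.1.1.1 i).natDegree ≠ 0 := fun e => hi (by rw [e, mul_zero])
  refine ⟨i, hd, ?_⟩
  have hdv := (expand_of_scale hζ (T.1.1.2.1 i).1 (T.1.1.2.1 i).2 (T.2 i)).1
  have hle : ((i : ℕ) + 1) * (T.1.1.1 i).natDegree ≤ n :=
    (Finset.single_le_sum (f := fun j : Fin n => ((j : ℕ) + 1) * (T.1.1.1 j).natDegree)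
      (fun _ _ => Nat.zero_le _) (Finset.mem_univ i)).trans_eq T.1.1.2.2
  have hr : 0 < orderOf ζ := Nat.pos_of_ne_zero fun e => hd (by rw [e] at hdv; exact Nat.eq_zero_of_zero_dvd hdv)
  rw [Nat.le_div_iff_mul_le hr]
  exact (Nat.mul_le_mul_left _ (Nat.le_of_dvd (by omega) hdv)).trans hle

theorem card_tupFix (hn : 1 ≤ n) {ζ : F} (hζ : ζ ≠ 0) :
    Nat.card (TupFix n ζ) ≤ Fintype.card F ^ (n / orderOf ζ) := by
  classical
  haveI : NeZero n := ⟨by omega⟩
  haveI := Fintype.ofFinite Fˣ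
  have hr : 0 < orderOf ζ := by
    rw [show ζ = ((Units.mk0 ζ hζ : Fˣ) : F) from rfl, orderOf_units]
    exact orderOf_pos _
  haveI := (tup_card F n).1 (n / orderOf ζ)
  have key := fun (T : TupFix n ζ) (i : Fin n) => expand_of_scale hζ (T.1.1.2.1 i).1 (T.1.1.2.1 i).2 (T.2 i)
  have hdeg : ∀ (T : TupFix n ζ) (i : Fin n),
      (contract (orderOf ζ) (T.1.1.1 i)).natDegree * orderOf ζ = (T.1.1.1 i).natDegree := fun T i => by
    conv_rhs => rw [← (key T i).2 hr, natDegree_expand]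
  let Φ : TupFix n ζ → Tup F n (n / orderOf ζ) := fun T =>
    ⟨fun i => contract (orderOf ζ) (T.1.1.1 i), fun i => ⟨?_, ?_⟩, ?_⟩
  · refine le_trans (Nat.card_le_card_of_injective Φ fun T T' e => ?_) ?_
    · refine Subtype.ext (Subtype.ext (Subtype.ext (funext fun i => ?_)))
      rw [← (key T i).2 hr, ← (key T' i).2 hr]
      exact congrArg _ (congrFun (congrArg Subtype.val e) i)
    · obtain ⟨-, h0, hb⟩ := tup_card F n
      rcases Nat.eq_zero_or_pos (n / orderOf ζ) with e | e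
      · rw [e]; simpa using h0
      · exact Nat.le_of_mul_le_mul_left ((hb _ e).trans (Nat.mul_le_mul_right _ (Nat.sub_le _ _)))
          (pow_pos Fintype.card_pos n)
  · have h := (T.1.1.2.1 i).1
    rw [← (key T i).2 hr] at h
    exact (monic_expand_iff hr).1 h
  · rw [coeff_contract hr.ne', zero_mul]; exact (T.1.1.2.1 i).2
  · refine (Nat.div_eq_of_eq_mul_left hr ?_).symm
    rw [Finset.sum_mul]
    refine T.1.1.2.2.symm.trans (Finset.sum_congr rfl fun i _ => ?_)
    rw [mul_assoc, hdeg]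

/-- Two-dimensional case. -/
theorem card_tupFix_two {ζ : F} (hζ : ζ ≠ 0) (h1 : orderOf ζ = 2) : Nat.card (TupFix 2 ζ) ≤ 1 := by
  classical
  haveI : Subsingleton (TupFix 2 ζ) := by
    refine ⟨fun T T' => Subtype.ext (Subtype.ext (Subtype.ext (funext fun i => ?_)))⟩
    have shape : ∀ T : TupFix 2 ζ, T.1.1.1 0 = X ^ 2 + 1 ∧ T.1.1.1 1 = 1 := by
      intro T
      have hs := T.1.1.2.2
      simp [Fin.sum_univ_two] at hs
      have hd0 := (expand_of_scale hζ (T.1.1.2.1 0).1 (T.1.1.2.1 0).2 (T.2 0)).1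
      have hd1 := (expand_of_scale hζ (T.1.1.2.1 1).1 (T.1.1.2.1 1).2 (T.2 1)).1
      rw [h1] at hd0 hd1
      have hn1 : T.1.1.1 1 = 1 := eq_one_of_natDegree T.1.1 (by omega)
      have hdeg : (T.1.1.1 0).natDegree = 2 := by
        rw [hn1, natDegree_one] at hs; omega
      have hdet := T.1.2
      rw [detTup, Fin.prod_univ_two, hn1] at hdet
      have hc : (T.1.1.1 0).coeff 0 = 1 := by simpa [sgnConst, hdeg] using hdet
      refine ⟨?_, hn1⟩
      have he := (expand_of_scale hζ (T.1.1.2.1 0).1 (T.1.1.2.1 0).2 (T.2 0)).2 (by omega)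
      rw [h1] at he
      have hm : (contract 2 (T.1.1.1 0)).Monic := (monic_expand_iff (by omega : 0 < 2)).1 (by rw [he]; exact (T.1.1.2.1 0).1)
      have hd : (contract 2 (T.1.1.1 0)).natDegree = 1 := by
        have := congrArg natDegree he
        rw [natDegree_expand, hdeg] at this
        omega
      rw [← he, hm.eq_X_add_C hd, coeff_contract (by omega), zero_mul, hc, map_add, expand_X, C_1, map_one]
    fin_cases i
    · exact (shape T).1.trans (shape T').1.symm
    · exact (shape T).2.trans (shape T').2.symm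
  exact Finite.card_le_one_iff_subsingleton.2 inferInstance

theorem exists_fix_bound (n : ℕ) (hn : 1 ≤ n) (z : Subgroup.center (Matrix.SpecialLinearGroup (Fin n) F)) :
    ∃ ζ : F, ζ ≠ 0 ∧ ζ ^ n = 1 ∧ ((z : Matrix.SpecialLinearGroup (Fin n) F) : Matrix (Fin n) (Fin n) F) = Matrix.scalar (Fin n) ζ ∧
      ∀ S : Set (ConjClasses (Matrix.SpecialLinearGroup (Fin n) F)),
        (∀ C ∈ S, ConjClasses.mk ((z : Matrix.SpecialLinearGroup (Fin n) F) * Quotient.out C) = C) →
        Nat.card S ≤ n / orderOf ζ * Nat.card (TupFix n ζ) := by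
  classical
  haveI : NeZero n := ⟨by omega⟩
  obtain ⟨ζ, hζn, hζ⟩ := Matrix.SpecialLinearGroup.mem_center_iff.1 z.2
  rw [Fintype.card_fin] at hζn
  have hζ0 : ζ ≠ 0 := fun e => by rw [e, zero_pow (by omega)] at hζn; exact zero_ne_one hζn
  refine ⟨ζ, hζ0, hζn, hζ.symm, fun S hS => ?_⟩
  obtain ⟨w, hw1, -, Φ, hΦ, hΦs⟩ := exists_coloured (F := F) n
  haveI := finite_tup1 (F := F) n
  haveI : Finite (TupFix n ζ) := Subtype.finite
  letI := Fintype.ofFinite (TupFix n ζ)
  have hfix : ∀ C : S, ∀ i, scale ζ ((Φ C.1).1.1.1 i) = (Φ C.1).1.1.1 i := by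
    intro C i
    have h := hS C.1 C.2
    conv at h => rhs; rw [← Quotient.out_eq C.1]
    obtain ⟨x, hx⟩ := isConj_iff.1 (ConjClasses.mk_eq_mk_iff_isConj.1 h).symm
    refine hΦs C.1 (Matrix.SpecialLinearGroup.toGL x) ζ hζ0 ?_ i
    have h2 := congrArg (fun y : Matrix.SpecialLinearGroup (Fin n) F => (Matrix.SpecialLinearGroup.toGL y : Matrix (Fin n) (Fin n) F)) hx
    simp only [map_mul, map_inv, Units.val_mul] at h2
    rw [show (ζ • ((Quotient.out C.1 : Matrix.SpecialLinearGroup (Fin n) F) : Matrix (Fin n) (Fin n) F)) =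
      Matrix.scalar (Fin n) ζ * ((Quotient.out C.1 : Matrix.SpecialLinearGroup (Fin n) F) : Matrix (Fin n) (Fin n) F) by
        rw [Matrix.scalar_apply, ← Matrix.smul_eq_diagonal_mul], hζ]
    exact h2
  let R : S → Σ T : TupFix n ζ, Fin (w T.1) := fun C => ⟨⟨(Φ C.1).1, hfix C⟩, (Φ C.1).2⟩
  have hR : Function.Injective R := by
    intro C C' e
    apply Subtype.ext
    apply hΦ
    have h2 := congrArg (fun x : Σ T : TupFix n ζ, Fin (w T.1) => (⟨x.1.1, x.2⟩ : Σ T : Tup1 F n, Fin (w T))) e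
    exact h2
  refine (Nat.card_le_card_of_injective R hR).trans ?_
  rw [Nat.card_sigma, mul_comm, Nat.card_eq_fintype_card, ← Finset.card_univ, ← smul_eq_mul]
  refine Finset.sum_le_card_nsmul _ _ _ fun T _ => ?_
  rw [Nat.card_fin]
  obtain ⟨i, hi, hle⟩ := exists_index hn hζ0 T
  exact ((hw1 T.1 i hi).trans (rootsCount_le _ (by omega)).1).trans hle

/-- The orbit count. -/
theorem exists_fix (n : ℕ) : ∃ fix : Subgroup.center (Matrix.SpecialLinearGroup (Fin n) F) →
    Set (ConjClasses (Matrix.SpecialLinearGroup (Fin n) F)),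
    (∀ z, ∀ C ∈ fix z, ConjClasses.mk ((z : Matrix.SpecialLinearGroup (Fin n) F) * Quotient.out C) = C) ∧
    (letI := Fintype.ofFinite (Subgroup.center (Matrix.SpecialLinearGroup (Fin n) F));
      ∑ z, Nat.card (fix z) = Nat.card (Subgroup.center (Matrix.SpecialLinearGroup (Fin n) F)) *
        Nat.card (ConjClasses (Matrix.ProjectiveSpecialLinearGroup (Fin n) F))) ∧
    Nat.card (ConjClasses (Matrix.SpecialLinearGroup (Fin n) F)) ≤
      Nat.card (Subgroup.center (Matrix.SpecialLinearGroup (Fin n) F)) *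
        Nat.card (ConjClasses (Matrix.ProjectiveSpecialLinearGroup (Fin n) F)) := by
  classical
  let Z := Subgroup.center (Matrix.SpecialLinearGroup (Fin n) F)
  letI := Fintype.ofFinite Z
  have hcomm : ∀ (z : Z) (g : Matrix.SpecialLinearGroup (Fin n) F), g * z.1 = z.1 * g := fun z g =>
    Subgroup.mem_center_iff.1 z.2 g
  letI act : MulAction Z (ConjClasses (Matrix.SpecialLinearGroup (Fin n) F)) :=
    { smul := fun z => Quotient.map (fun g => (z : Matrix.SpecialLinearGroup (Fin n) F) * g) (fun a b h => by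
        obtain ⟨c, hc⟩ := isConj_iff.1 h
        refine isConj_iff.2 ⟨c, ?_⟩
        rw [← hc, ← mul_assoc, hcomm z c]
        group)
      one_smul := fun C => Quotient.inductionOn C fun g => congrArg ConjClasses.mk (one_mul g)
      mul_smul := fun z z' C => Quotient.inductionOn C fun g => congrArg ConjClasses.mk (mul_assoc _ _ g) }
  have hsmul : ∀ (z : Z) g, z • ConjClasses.mk g = ConjClasses.mk ((z : Matrix.SpecialLinearGroup (Fin n) F) * g) :=
    fun z g => rfl
  let ψ : ConjClasses (Matrix.SpecialLinearGroup (Fin n) F) → ConjClasses (Matrix.ProjectiveSpecialLinearGroup (Fin n) F) :=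
    ConjClasses.map (QuotientGroup.mk' Z)
  have hψ : ∀ C C', ψ C = ψ C' ↔ ∃ z : Z, z • C' = C := by
    intro C C'
    induction C using Quotient.inductionOn with | _ g => ?_
    induction C' using Quotient.inductionOn with | _ g' => ?_
    constructor
    · intro h
      obtain ⟨c, hc⟩ := isConj_iff.1 (ConjClasses.mk_eq_mk_iff_isConj.1 h)
      obtain ⟨c, rfl⟩ := QuotientGroup.mk'_surjective Z c
      rw [← map_inv, ← map_mul, ← map_mul] at hc
      obtain ⟨z, hz, e⟩ := (QuotientGroup.mk'_eq_mk' Z).1 hc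
      refine ⟨(⟨z, hz⟩ : Z)⁻¹, ?_⟩
      show ConjClasses.mk _ = ConjClasses.mk g
      refine ConjClasses.mk_eq_mk_iff_isConj.2 (IsConj.symm (isConj_iff.2 ⟨c, ?_⟩))
      rw [← e]
      show c * g * c⁻¹ = z⁻¹ * (c * g * c⁻¹ * z)
      rw [hcomm ⟨z, hz⟩ (c * g * c⁻¹), inv_mul_cancel_left]
    · rintro ⟨z, hz⟩
      rw [← hz]
      refine ConjClasses.mk_eq_mk_iff_isConj.2 ?_
      rw [map_mul, show QuotientGroup.mk' Z (z : Matrix.SpecialLinearGroup (Fin n) F) = 1 from
        (QuotientGroup.eq_one_iff _).2 z.2, one_mul]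
  have hsurj : Function.Surjective ψ := fun D => by
    obtain ⟨x, rfl⟩ := ConjClasses.mk_surjective D
    obtain ⟨g, rfl⟩ := QuotientGroup.mk'_surjective Z x
    exact ⟨ConjClasses.mk g, rfl⟩
  let Ω := Quotient (MulAction.orbitRel Z (ConjClasses (Matrix.SpecialLinearGroup (Fin n) F)))
  let Θ : Ω → ConjClasses (Matrix.ProjectiveSpecialLinearGroup (Fin n) F) :=
    Quotient.lift ψ fun C C' h => (hψ C C').2 h
  have hΘ : Function.Bijective Θ := by
    refine ⟨fun a b => Quotient.inductionOn₂ a b fun C C' h => Quotient.sound ((hψ C C').1 h), fun D => ?_⟩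
    obtain ⟨C, hC⟩ := hsurj D
    exact ⟨Quotient.mk _ C, hC⟩
  haveI : Finite (ConjClasses (Matrix.SpecialLinearGroup (Fin n) F)) := Finite.of_surjective _ ConjClasses.mk_surjective
  letI := Fintype.ofFinite (ConjClasses (Matrix.SpecialLinearGroup (Fin n) F))
  letI := Fintype.ofFinite Ω
  refine ⟨fun z => MulAction.fixedBy _ z, fun z C hC => ?_, ?_, ?_⟩
  · refine Eq.trans ?_ hC
    rw [← hsmul]
    exact congrArg (z • ·) (Quotient.out_eq C)
  · have h := MulAction.sum_card_fixedBy_eq_card_orbits_mul_card_group Z (ConjClasses (Matrix.SpecialLinearGroup (Fin n) F))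
    rw [mul_comm] at h
    rw [← Nat.card_eq_of_bijective Θ hΘ]
    simp only [Nat.card_eq_fintype_card]
    exact h
  · choose z hz using fun C : ConjClasses (Matrix.SpecialLinearGroup (Fin n) F) =>
      (hψ C (hsurj (ψ C)).choose).1 (hsurj (ψ C)).choose_spec.symm
    rw [← Nat.card_prod]
    refine Nat.card_le_card_of_injective (fun C => (z C, ψ C)) fun C C' e => ?_
    obtain ⟨e1, e2⟩ := Prod.mk.injEq _ _ _ _ ▸ e
    rw [← hz C, ← hz C', e1]
    congr 1
    congr 1
    rw [e2]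

theorem arith_one (q : ℕ) (hq : 3 ≤ q) (n : ℕ) (hn : 7 ≤ n) : n / 2 * q ^ (n / 2) ≤ q ^ (n - 2) := by
  have h : ∀ m, 7 ≤ m → m / 2 * 3 ^ (m / 2) ≤ 3 ^ (m - 2) := by
    intro m
    induction m using Nat.strong_induction_on with
    | _ m ih =>
      intro hm
      rcases (show m = 7 ∨ m = 8 ∨ 9 ≤ m by omega) with rfl | rfl | h9
      · norm_num
      · norm_num
      · have := ih (m - 2) (by omega) (by omega)
        rw [show m / 2 = (m - 2) / 2 + 1 by omega, pow_succ, show m - 2 = (m - 2 - 2) + 1 + 1 by omega, pow_succ, pow_succ]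
        rw [show (m - 2 - 2 + 1 + 1) / 2 = (m - 2) / 2 by congr 1; omega]
        have h3 : 1 ≤ (m - 2) / 2 := by omega
        nlinarith [Nat.zero_le (3 ^ ((m - 2) / 2))]
  have h' := h n hn
  rw [show 3 ^ (n - 2) = 3 ^ (n - 2 - n / 2) * 3 ^ (n / 2) by rw [← pow_add]; congr 1; omega] at h'
  rw [show q ^ (n - 2) = q ^ (n - 2 - n / 2) * q ^ (n / 2) by rw [← pow_add]; congr 1; omega]
  exact Nat.mul_le_mul_right _ ((Nat.le_of_mul_le_mul_right h' (pow_pos (by omega) _)).trans (Nat.pow_le_pow_left hq _))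

theorem arith_two (q : ℕ) (hq : 3 ≤ q) (n : ℕ) (hn : 7 ≤ n) : n * (n / 3) * q ^ (n / 3) ≤ q ^ (n - 2) := by
  have h : ∀ m, 7 ≤ m → m * (m / 3) * 3 ^ (m / 3) ≤ 3 ^ (m - 2) := by
    intro m
    induction m using Nat.strong_induction_on with
    | _ m ih =>
      intro hm
      rcases (show m = 7 ∨ m = 8 ∨ m = 9 ∨ 10 ≤ m by omega) with rfl | rfl | rfl | h10
      · norm_num
      · norm_num
      · norm_num
      · obtain ⟨k, rfl⟩ : ∃ k, m = k + 3 := ⟨m - 3, by omega⟩
        have := ih k (by omega) (by omega)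
        rw [show (k + 3) / 3 = k / 3 + 1 by omega, pow_succ, show k + 3 - 2 = (k - 2) + 3 by omega, pow_add]
        have h4 : 2 ≤ k / 3 := by omega
        have h5 : (k + 3) * (k / 3 + 1) ≤ 9 * (k * (k / 3)) := by nlinarith
        nlinarith [Nat.mul_le_mul_right (3 ^ (k / 3)) h5]
  have h' := h n hn
  rw [show 3 ^ (n - 2) = 3 ^ (n - 2 - n / 3) * 3 ^ (n / 3) by rw [← pow_add]; congr 1; omega] at h'
  rw [show q ^ (n - 2) = q ^ (n - 2 - n / 3) * q ^ (n / 3) by rw [← pow_add]; congr 1; omega]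
  exact Nat.mul_le_mul_right _ ((Nat.le_of_mul_le_mul_right h' (pow_pos (by omega) _)).trans (Nat.pow_le_pow_left hq _))

theorem card_PSL_bounds (n : ℕ) (hn : 2 ≤ n) :
    Fintype.card F ^ (n - 1) ≤ Nat.gcd n (Fintype.card F - 1) * Nat.card (ConjClasses (Matrix.ProjectiveSpecialLinearGroup (Fin n) F)) ∧
      Nat.gcd n (Fintype.card F - 1) * Nat.card (ConjClasses (Matrix.ProjectiveSpecialLinearGroup (Fin n) F)) ≤
        Fintype.card F ^ (n - 1) + 5 * Fintype.card F ^ (n - 2) := by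
  classical
  haveI : NeZero n := ⟨by omega⟩
  obtain ⟨fix, hfix, hsum, hle⟩ := exists_fix (F := F) n
  obtain ⟨hSL1, hSL2, hSL3⟩ := card_SL_bounds (F := F) n hn
  have hd : Nat.card (Subgroup.center (Matrix.SpecialLinearGroup (Fin n) F)) = Nat.gcd n (Fintype.card F - 1) := by
    rw [Cfsg.Lib.Classical.card_center_SL, Fintype.card_fin, Nat.card_eq_fintype_card]
  rw [hd] at hsum hle
  refine ⟨hSL1.le.trans hle, ?_⟩
  letI := Fintype.ofFinite (Subgroup.center (Matrix.SpecialLinearGroup (Fin n) F))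
  rw [← hsum, ← Finset.add_sum_erase _ _ (Finset.mem_univ 1)]
  haveI : Finite (ConjClasses (Matrix.SpecialLinearGroup (Fin n) F)) := Finite.of_surjective _ ConjClasses.mk_surjective
  have h1 : Nat.card (fix 1) ≤ Nat.card (ConjClasses (Matrix.SpecialLinearGroup (Fin n) F)) :=
    Nat.card_le_card_of_injective Subtype.val Subtype.val_injective
  set q := Fintype.card F with hq
  set d := Nat.gcd n (q - 1) with hdd
  have hq2 : 2 ≤ q := Fintype.one_lt_card
  set E := (Finset.univ : Finset (Subgroup.center (Matrix.SpecialLinearGroup (Fin n) F))).erase 1 with hE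
  have hEcard : E.card = d - 1 := by
    rw [hE, Finset.card_erase_of_mem (Finset.mem_univ _), Finset.card_univ, ← Nat.card_eq_fintype_card, hd]
  have hdn : d ≤ n := Nat.le_of_dvd (by omega) (Nat.gcd_dvd_left _ _)
  have hdq : d ≤ q - 1 := Nat.le_of_dvd (by omega) (Nat.gcd_dvd_right _ _)
  -- order at least two, and three with one exception
  have hz : ∀ z ∈ E, ∃ r, 2 ≤ r ∧ r ∣ n ∧ Nat.card (fix z) ≤ n / r * q ^ (n / r) ∧ (n = 2 → Nat.card (fix z) ≤ 1) ∧
      (r = 2 → ((z : Matrix.SpecialLinearGroup (Fin n) F) : Matrix (Fin n) (Fin n) F) = Matrix.scalar (Fin n) (-1 : F)) := by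
    intro z hz
    obtain ⟨ζ, h0, hζn, hζ, hb⟩ := exists_fix_bound n (by omega) z
    have hr1 : orderOf ζ ≠ 1 := fun e => (Finset.ne_of_mem_erase hz) (by
      apply Subtype.ext
      apply Subtype.ext
      rw [hζ, orderOf_eq_one_iff.1 e, map_one]
      rfl)
    have hdv : orderOf ζ ∣ n := orderOf_dvd_of_pow_eq_one hζn
    have hr : 2 ≤ orderOf ζ := by
      have := Nat.pos_of_dvd_of_pos hdv (by omega)
      omega
    refine ⟨orderOf ζ, hr, hdv, (hb _ (hfix z)).trans (Nat.mul_le_mul_left _ (card_tupFix (by omega) h0)), ?_, ?_⟩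
    · rintro rfl
      have h2 : orderOf ζ = 2 := le_antisymm (Nat.le_of_dvd (by omega) hdv) hr
      refine (hb _ (hfix z)).trans ((Nat.mul_le_mul_left _ (card_tupFix_two h0 h2)).trans_eq ?_)
      rw [h2]
    · intro h2
      rw [hζ]
      congr 1
      have h3 : ζ ^ 2 = 1 := h2 ▸ pow_orderOf_eq_one ζ
      rcases sq_eq_one_iff.1 h3 with e | e
      · rw [e, orderOf_one] at hr1; exact absurd rfl hr1
      · exact e
  have hmono : ∀ r s, 1 ≤ s → s ≤ r → n / r * q ^ (n / r) ≤ n / s * q ^ (n / s) := fun r s hs hsr =>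
    Nat.mul_le_mul (Nat.div_le_div_left hsr hs) (Nat.pow_le_pow_right (by omega) (Nat.div_le_div_left hsr hs))
  rcases (show d = 1 ∨ 2 ≤ d by have := Nat.gcd_pos_of_pos_left (q - 1) (show 0 < n by omega); omega) with hd1 | hd2
  · rw [Finset.sum_eq_zero (fun z hz => by
      rw [Finset.card_eq_zero.1 (show E.card = 0 by rw [hEcard, hd1])] at hz
      exact absurd hz (Finset.notMem_empty _)), add_zero]
    refine h1.trans ?_
    rcases (show n = 2 ∨ 3 ≤ n by omega) with rfl | h3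
    · simp only [show (2 : ℕ) - 1 = 1 from rfl, show (2 : ℕ) - 2 = 0 from rfl, pow_one, pow_zero] at hSL2 ⊢
      have h2 := ClassNumberSL.card_SL_two (F := F)
      obtain ⟨g1, -⟩ := rootsCount_le (F := F) 2 (by omega)
      have := Nat.mul_le_mul g1 g1
      omega
    · exact (hSL3 h3).trans (by omega)
  -- the exceptional element
  have hsplit : ∃ z₀ ∈ E, ∀ z ∈ E, z ≠ z₀ → Nat.card (fix z) ≤ n / 3 * q ^ (n / 3) := by
    obtain ⟨w, hw⟩ : E.Nonempty := Finset.card_pos.1 (by omega)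
    by_cases h : ∃ z ∈ E, ((z : Matrix.SpecialLinearGroup (Fin n) F) : Matrix (Fin n) (Fin n) F) = Matrix.scalar (Fin n) (-1 : F)
    · obtain ⟨z₀, h0, he⟩ := h
      refine ⟨z₀, h0, fun z hzE hne => ?_⟩
      obtain ⟨r, hr, -, hb, -, h2⟩ := hz z hzE
      refine hb.trans (hmono r 3 (by omega) ?_)
      rcases (show r = 2 ∨ 3 ≤ r by omega) with e | e
      · exact absurd (Subtype.ext (Subtype.ext ((h2 e).trans he.symm))) hne
      · exact e
    · refine ⟨w, hw, fun z hzE _ => ?_⟩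
      obtain ⟨r, hr, -, hb, -, h2⟩ := hz z hzE
      refine hb.trans (hmono r 3 (by omega) ?_)
      rcases (show r = 2 ∨ 3 ≤ r by omega) with e | e
      · exact absurd ⟨z, hzE, h2 e⟩ h
      · exact e
  obtain ⟨z₀, hz₀, hrest⟩ := hsplit
  rw [← Finset.add_sum_erase _ _ hz₀]
  have hR : ∑ z ∈ E.erase z₀, Nat.card (fix z) ≤ (d - 2) * (n / 3 * q ^ (n / 3)) := by
    refine (Finset.sum_le_card_nsmul _ _ _ fun z hzE =>
      hrest z (Finset.mem_of_mem_erase hzE) (Finset.ne_of_mem_erase hzE)).trans_eq ?_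
    rw [smul_eq_mul, Finset.card_erase_of_mem hz₀, hEcard]
    congr 1
  obtain ⟨r, hr, hrn, hA, hA2, -⟩ := hz z₀ hz₀
  have hA' := hA.trans (hmono r 2 (by omega) hr)
  have hq4 : q = 4 → ¬ 2 ∣ d := fun e h2 => by
    have := h2.trans (Nat.gcd_dvd_right n (q - 1))
    rw [e] at this
    omega
  rcases (show n = 2 ∨ 3 ≤ n by omega) with rfl | h3n
  · have h2 := ClassNumberSL.card_SL_two (F := F)
    obtain ⟨g1, -⟩ := rootsCount_le (F := F) 2 (by omega)
    have := Nat.mul_le_mul g1 g1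
    have hA1 := hA2 rfl
    simp only [show (2 : ℕ) / 3 = 0 from rfl, zero_mul, mul_zero, Nat.le_zero] at hR
    simp only [show (2 : ℕ) - 1 = 1 from rfl, show (2 : ℕ) - 2 = 0 from rfl, pow_one, pow_zero, ← hq] at *
    omega
  refine le_trans (Nat.add_le_add h1 (Nat.add_le_add hA hR)) ?_
  rcases (show n = 3 ∨ n = 4 ∨ n = 5 ∨ n = 6 ∨ 7 ≤ n by omega) with h | h | h | h | h
  · subst h
    obtain rfl : r = 3 := by
      have := Nat.le_of_dvd (by omega) hrn
      rcases (show r = 2 ∨ r = 3 by omega) with rfl | rfl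
      · omega
      · rfl
    have h2 := ClassNumberSL.card_SL_three (F := F)
    obtain ⟨g1, -⟩ := rootsCount_le (F := F) 3 (by omega)
    have := Nat.mul_le_mul g1 g1
    have hd3 : d = 3 := by
      rcases (Nat.dvd_prime Nat.prime_three).1 (Nat.gcd_dvd_left 3 (q - 1)) with e | e <;> omega
    simp only [show (3 : ℕ) - 1 = 2 from rfl, show (3 : ℕ) - 2 = 1 from rfl, show (3 : ℕ) / 3 = 1 from rfl,
      pow_one, one_mul, hd3, ← hq] at *
    omega
  · subst h
    have hd4 : d = 2 ∨ d = 4 := by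
      have h4 : d ∣ 4 := Nat.gcd_dvd_left 4 (q - 1)
      rcases (show d = 2 ∨ d = 3 ∨ d = 4 by omega) with e | e | e
      · exact Or.inl e
      · rw [e] at h4; omega
      · exact Or.inr e
    have h2 := ClassNumberSL.card_SL_four (F := F)
    obtain ⟨g1, g2⟩ := rootsCount_le (F := F) 4 (by omega)
    obtain ⟨f1, -⟩ := rootsCount_le (F := F) 2 (by omega)
    have := Nat.mul_le_mul g1 g1
    have := Nat.mul_le_mul g2 g2
    have := Nat.mul_le_mul f1 (Nat.mul_le_mul_right q f1)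
    have h4 := hmono r 2 (by omega) hr
    simp only [show (4 : ℕ) - 1 = 3 from rfl, show (4 : ℕ) - 2 = 2 from rfl, show (4 : ℕ) / 2 = 2 from rfl,
      show (4 : ℕ) / 3 = 1 from rfl, pow_one, one_mul, ← hq] at *
    have eq2 : q ^ 2 = q * q := sq q
    have eq1 : q * (q - 1) + q = q * q := by
      calc q * (q - 1) + q = q * (q - 1 + 1) := by ring
        _ = q * q := by rw [Nat.sub_add_cancel (by omega)]
    rcases (show q = 3 ∨ 5 ≤ q by
      have hne : q ≠ 4 := fun e => hq4 e (by rcases hd4 with e' | e' <;> omega)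
      omega) with e | e
    · have hd : d = 2 := by omega
      have z1 : (d - 2) * q = 0 := by rw [hd, Nat.sub_self, zero_mul]
      have z2 : q * q = 9 := by rw [e]
      have z3 : (q - 1) * (q - 1) = 4 := by rw [e]
      omega
    · have z1 : (d - 2) * q ≤ 2 * q := Nat.mul_le_mul_right _ (by omega)
      have z2 : 5 * q ≤ q * q := Nat.mul_le_mul_right _ e
      omega
  · subst h
    have h5 := hSL3 (by omega)
    have h4 := hmono r 2 (by omega) hr
    have hd5 : d - 2 ≤ 3 := by omega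
    have h6 : (d - 2) * (5 / 3 * q ^ (5 / 3)) ≤ 3 * q := by
      simp only [show (5 : ℕ) / 3 = 1 from rfl, pow_one, one_mul]
      exact Nat.mul_le_mul_right _ hd5
    simp only [show (5 : ℕ) - 1 = 4 from rfl, show (5 : ℕ) - 2 = 3 from rfl, show (5 : ℕ) / 2 = 2 from rfl] at *
    nlinarith
  · subst h
    have h5 := hSL3 (by omega)
    have h4 := hmono r 2 (by omega) hr
    simp only [show (6 : ℕ) - 1 = 5 from rfl, show (6 : ℕ) - 2 = 4 from rfl, show (6 : ℕ) / 2 = 3 from rfl,
      show (6 : ℕ) / 3 = 2 from rfl] at *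
    rcases (show q = 3 ∨ 4 ≤ q by omega) with e | e
    · have hd : d = 2 := by omega
      have z1 : (d - 2) * (2 * q ^ 2) = 0 := by rw [hd, Nat.sub_self, zero_mul]
      have z2 : q ^ 3 = 27 := by rw [e]; rfl
      have z3 : q ^ 4 = 81 := by rw [e]; rfl
      omega
    · have h6 : (d - 2) * (2 * q ^ 2) ≤ 4 * (2 * q ^ 2) := Nat.mul_le_mul_right _ (by omega)
      have h7 : 3 * q ^ 3 + 8 * q ^ 2 ≤ 2 * q ^ 4 := by nlinarith
      omega
  · have e1 := arith_one q (by omega) n h
    have e2 := arith_two q (by omega) n h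
    have e3 : (d - 2) * (n / 3 * q ^ (n / 3)) ≤ n * (n / 3) * q ^ (n / 3) := by
      rw [mul_assoc]; exact Nat.mul_le_mul_right _ (by omega)
    have h3 := hSL3 (by omega)
    have h4 := hmono r 2 (by omega) hr
    omega

end Cfsg.Lib.ClassNumberPSL
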