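import Cfsg.Agent.Known.ClassNumberGL
import Mathlib

/-! Elementary divisors of a matrix similar to a scalar multiple of itself. -/

set_option autoImplicit false
set_option linter.style.haveILetI false

open Polynomial Matrix

namespace Cfsg.Lib.DivisorScaling

open ClassNumberGL

universe u

variable {F : Type u} [Field F] [Fintype F]

omit [Fintype F] in
theorem quotient_finite {g : F[X]} (hg : g.Monic) : Module.Finite F (F[X] ⧸ Ideal.span {g}) := hg.finite_quotient

theorem card_quotient {g : F[X]} (hg : g.Monic) :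
    Nat.card (F[X] ⧸ Ideal.span {g}) = Fintype.card F ^ g.natDegree := by
  haveI := quotient_finite hg
  rw [Module.natCard_eq_pow_finrank (K := F), finrank_quotient_monic F hg, Nat.card_eq_fintype_card]

theorem card_range_block {P p : F[X]} (hP : P.Monic) (hPi : Irreducible P) (hp : p.Monic) (hpi : Irreducible p)
    (e s : ℕ) [Decidable (P = p)] :
    Nat.card (Set.range fun x : F[X] ⧸ Ideal.span {P ^ e} => (p ^ s) • x) =
      Fintype.card F ^ ((if P = p then e - s else e) * P.natDegree) := by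
  split_ifs with h
  · subst h
    rw [← natDegree_pow, ← card_quotient (hP.pow (e - s))]
    let φ : F[X] →ₗ[F[X]] F[X] ⧸ Ideal.span {P ^ e} :=
      LinearMap.toSpanSingleton F[X] _ (Ideal.Quotient.mk _ (P ^ s))
    have hker : LinearMap.ker φ = Ideal.span {P ^ (e - s)} := by
      ext y
      rw [LinearMap.mem_ker, Ideal.mem_span_singleton]
      show y • Ideal.Quotient.mk (Ideal.span {P ^ e}) (P ^ s) = 0 ↔ _
      rw [← Ideal.Quotient.mk_eq_mk, ← Submodule.Quotient.mk_smul, Submodule.Quotient.mk_eq_zero,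
        Ideal.mem_span_singleton, smul_eq_mul]
      rcases le_total e s with hes | hes
      · rw [Nat.sub_eq_zero_of_le hes, pow_zero]
        exact iff_of_true (Dvd.dvd.mul_left (pow_dvd_pow _ hes) _) (one_dvd _)
      · constructor
        · intro hd
          rw [show P ^ e = P ^ (e - s) * P ^ s by rw [← pow_add, Nat.sub_add_cancel hes]] at hd
          exact (mul_dvd_mul_iff_right (pow_ne_zero _ hP.ne_zero)).1 hd
        · intro hd
          rw [show P ^ e = P ^ (e - s) * P ^ s by rw [← pow_add, Nat.sub_add_cancel hes]]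
          exact mul_dvd_mul_right hd _
    rw [← hker, Nat.card_congr (φ.quotKerEquivRange).toEquiv]
    refine Nat.card_congr (Equiv.setCongr (Set.ext fun x => ⟨?_, ?_⟩))
    · rintro ⟨y, rfl⟩
      obtain ⟨z, rfl⟩ := Ideal.Quotient.mk_surjective y
      exact ⟨z, show z • Ideal.Quotient.mk (Ideal.span {P ^ e}) (P ^ s) = (P ^ s) • Ideal.Quotient.mk _ z by
        rw [← Ideal.Quotient.mk_eq_mk, ← Ideal.Quotient.mk_eq_mk, ← Submodule.Quotient.mk_smul,
          ← Submodule.Quotient.mk_smul, smul_eq_mul, smul_eq_mul, mul_comm]⟩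
    · rintro ⟨z, rfl⟩
      exact ⟨Ideal.Quotient.mk _ z, show (P ^ s) • Ideal.Quotient.mk (Ideal.span {P ^ e}) z = z • Ideal.Quotient.mk _ (P ^ s) by
        rw [← Ideal.Quotient.mk_eq_mk, ← Ideal.Quotient.mk_eq_mk, ← Submodule.Quotient.mk_smul,
          ← Submodule.Quotient.mk_smul, smul_eq_mul, smul_eq_mul, mul_comm]⟩
  · rw [← natDegree_pow, ← card_quotient (hP.pow e), Set.range_eq_univ.2 ?_]
    · exact Nat.card_congr (Equiv.Set.univ _)
    · intro x
      have hcop : IsCoprime (p ^ s) (P ^ e) := by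
        refine IsCoprime.pow ?_
        refine (hpi.coprime_iff_not_dvd).2 fun hd => h ?_
        exact (eq_of_monic_of_associated hp hP (hpi.associated_of_dvd hPi hd)).symm
      obtain ⟨a, b, hab⟩ := hcop
      refine ⟨a • x, ?_⟩
      show (p ^ s) • a • x = x
      obtain ⟨z, rfl⟩ := Ideal.Quotient.mk_surjective x
      rw [smul_smul, ← Ideal.Quotient.mk_eq_mk, ← Submodule.Quotient.mk_smul, Submodule.Quotient.eq,
        Ideal.mem_span_singleton, smul_eq_mul]
      exact ⟨-(b * z), by linear_combination z * hab⟩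

variable {n : ℕ}

/-- The size of the image of a polynomial in a matrix. -/
noncomputable def imageCard (A : Matrix (Fin n) (Fin n) F) (f : F[X]) : ℕ :=
  Nat.card (Set.range fun v => (aeval A f) *ᵥ v)

variable {ι : Type u} [Fintype ι] {P : ι → F[X]} {e : ι → ℕ}

theorem imageCard_pow [DecidableEq F] (h : IsDivisors n P e) (A : Matrix (Fin n) (Fin n) F)
    (Ω : Module.AEval' (Matrix.toLin' A) ≃ₗ[F[X]] ((j : ι) → F[X] ⧸ Ideal.span {P j ^ e j}))
    {p : F[X]} (hp : p.Monic) (hpi : Irreducible p) (s : ℕ) :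
    imageCard A (p ^ s) = Fintype.card F ^ ∑ j, (if P j = p then e j - s else e j) * (P j).natDegree := by
  rw [← Finset.prod_pow_eq_pow_sum,
    ← Finset.prod_congr rfl (fun j _ => card_range_block (h.1 j).1 (h.1 j).2.1 hp hpi (e j) s), ← Nat.card_pi]
  let E : (Fin n → F) ≃ ((j : ι) → F[X] ⧸ Ideal.span {P j ^ e j}) :=
    (Module.AEval'.of (Matrix.toLin' A)).toEquiv.trans Ω.toEquiv
  have hE : ∀ v, E ((aeval A (p ^ s)) *ᵥ v) = (p ^ s) • E v := by
    intro v
    show Ω (Module.AEval'.of (Matrix.toLin' A) ((aeval A (p ^ s)) *ᵥ v)) =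
      (p ^ s) • Ω (Module.AEval'.of (Matrix.toLin' A) v)
    rw [← map_smul]
    congr 1
    apply (Module.AEval'.of (Matrix.toLin' A)).symm.injective
    rw [Module.AEval.of_symm_smul, LinearEquiv.symm_apply_apply, LinearEquiv.symm_apply_apply,
      show Matrix.toLin' A = (Matrix.toLinAlgEquiv' (R := F) (n := Fin n)).toAlgHom A from rfl,
      Polynomial.aeval_algHom_apply]
    rfl
  refine Nat.card_congr ((Equiv.Set.image E _ E.injective).trans ((Equiv.setCongr ?_).trans (Equiv.Set.univPi _)))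
  ext y
  constructor
  · rintro ⟨_, ⟨v, rfl⟩, rfl⟩ j -
    exact ⟨E v j, (congrFun (hE v) j).symm⟩
  · intro hy
    choose x hx using fun j => hy j (Set.mem_univ j)
    refine ⟨_, ⟨E.symm x, rfl⟩, ?_⟩
    rw [hE, E.apply_symm_apply]
    exact funext hx

theorem imageCard_conj (A : Matrix (Fin n) (Fin n) F) (c : GL (Fin n) F) (f : F[X]) :
    imageCard ((c : Matrix (Fin n) (Fin n) F) * A * ((c⁻¹ : GL (Fin n) F) : Matrix (Fin n) (Fin n) F)) f =
      imageCard A f := by
  let φ : Matrix (Fin n) (Fin n) F →ₐ[F] Matrix (Fin n) (Fin n) F :=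
    { toFun := fun M => (c : Matrix (Fin n) (Fin n) F) * M * ((c⁻¹ : GL (Fin n) F) : Matrix (Fin n) (Fin n) F)
      map_one' := by rw [mul_one, ← Units.val_mul, mul_inv_cancel, Units.val_one]
      map_mul' := fun M M' => by simp only [mul_assoc, Units.inv_mul_cancel_left]
      map_zero' := by simp
      map_add' := fun M M' => by simp [mul_add, add_mul]
      commutes' := fun r => by
        rw [Algebra.algebraMap_eq_smul_one, mul_smul_comm, smul_mul_assoc, mul_one, ← Units.val_mul,
          mul_inv_cancel, Units.val_one] }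
  unfold imageCard
  rw [show (c : Matrix (Fin n) (Fin n) F) * A * ((c⁻¹ : GL (Fin n) F) : Matrix (Fin n) (Fin n) F) = φ A from rfl,
    Polynomial.aeval_algHom_apply]
  let E : (Fin n → F) ≃ (Fin n → F) :=
    { toFun := fun v => (c : Matrix (Fin n) (Fin n) F) *ᵥ v
      invFun := fun v => ((c⁻¹ : GL (Fin n) F) : Matrix (Fin n) (Fin n) F) *ᵥ v
      left_inv := fun v => by simp [mulVec_mulVec, ← Units.val_mul]
      right_inv := fun v => by simp [mulVec_mulVec, ← Units.val_mul] }
  refine (Nat.card_congr ((Equiv.Set.image E _ E.injective).trans (Equiv.setCongr ?_))).symm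
  ext y
  constructor
  · rintro ⟨_, ⟨v, rfl⟩, rfl⟩
    refine ⟨E v, ?_⟩
    show ((c : Matrix (Fin n) (Fin n) F) * aeval A f * ((c⁻¹ : GL (Fin n) F) : Matrix (Fin n) (Fin n) F)) *ᵥ
      ((c : Matrix (Fin n) (Fin n) F) *ᵥ v) = (c : Matrix (Fin n) (Fin n) F) *ᵥ (aeval A f *ᵥ v)
    rw [mulVec_mulVec, Units.inv_mul_cancel_right, mulVec_mulVec]
  · rintro ⟨v, rfl⟩
    refine ⟨_, ⟨E.symm v, rfl⟩, ?_⟩
    show (c : Matrix (Fin n) (Fin n) F) *ᵥ (aeval A f *ᵥ (((c⁻¹ : GL (Fin n) F) : Matrix (Fin n) (Fin n) F) *ᵥ v)) = _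
    rw [mulVec_mulVec, mulVec_mulVec]
    first | rfl | (rw [← mul_assoc]; rfl) | (rw [mul_assoc]; rfl)

/-- Scaling of the variable, normalised to keep monic polynomials monic. -/
noncomputable def scale (ζ : F) (p : F[X]) : F[X] := C ((ζ ^ p.natDegree)⁻¹) * p.comp (C ζ * X)

omit [Fintype F] in
theorem scale_monic {ζ : F} (hζ : ζ ≠ 0) {p : F[X]} (hp : p.Monic) :
    (scale ζ p).Monic ∧ (scale ζ p).natDegree = p.natDegree := by
  have hc : (p.comp (C ζ * X)).natDegree = p.natDegree := by
    rw [natDegree_comp, natDegree_C_mul_X _ hζ, mul_one]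
  have hl : (p.comp (C ζ * X)).leadingCoeff = ζ ^ p.natDegree := by
    rw [leadingCoeff_comp (by rw [natDegree_C_mul_X _ hζ]; omega), hp.leadingCoeff, one_mul, leadingCoeff_C_mul_X]
  refine ⟨?_, ?_⟩
  · rw [Monic, scale, leadingCoeff_mul, leadingCoeff_C, hl, inv_mul_cancel₀ (pow_ne_zero _ hζ)]
  · rw [scale, natDegree_C_mul (inv_ne_zero (pow_ne_zero _ hζ)), hc]

omit [Fintype F] in
theorem scale_mul {ζ : F} {p p' : F[X]} (hp : p ≠ 0) (hp' : p' ≠ 0) :
    scale ζ (p * p') = scale ζ p * scale ζ p' := by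
  rw [scale, scale, scale, natDegree_mul hp hp', pow_add, mul_inv, map_mul, mul_comp]
  ring

omit [Fintype F] in
theorem scale_scale {ζ η : F} (h : ζ * η = 1) {p : F[X]} (hp : p.Monic) : scale η (scale ζ p) = p := by
  have hz : ζ ≠ 0 := left_ne_zero_of_mul_eq_one h
  rw [scale, (scale_monic hz hp).2, scale, mul_comp, C_comp, comp_assoc, mul_comp, C_comp, X_comp, ← mul_assoc,
    ← mul_assoc, ← C_mul, ← C_mul, h, C_1, one_mul, comp_X, ← mul_inv, ← mul_pow, mul_comm η ζ, h, one_pow,
    inv_one, C_1, one_mul]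

omit [Fintype F] in
theorem scale_irreducible {ζ : F} (hζ : ζ ≠ 0) {p : F[X]} (hp : p.Monic) (hi : Irreducible p) :
    Irreducible (scale ζ p) := by
  refine ((scale_monic hζ hp).1.irreducible_iff_natDegree).2 ⟨?_, fun f g hf hg hfg => ?_⟩
  · intro e
    have h1 := (scale_monic hζ hp).2
    rw [e, natDegree_one] at h1
    have := hi.natDegree_pos
    omega
  · have h2 : scale ζ⁻¹ f * scale ζ⁻¹ g = p := by
      rw [← scale_mul hf.ne_zero hg.ne_zero, hfg, scale_scale (mul_inv_cancel₀ hζ) hp]
    rcases (hp.irreducible_iff_natDegree.1 hi).2 _ _ (scale_monic (inv_ne_zero hζ) hf).1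
      (scale_monic (inv_ne_zero hζ) hg).1 h2 with e | e
    · exact Or.inl (by rwa [(scale_monic (inv_ne_zero hζ) hf).2] at e)
    · exact Or.inr (by rwa [(scale_monic (inv_ne_zero hζ) hg).2] at e)

/-- A matrix similar to a scalar multiple of itself has scale-invariant elementary divisors. -/
theorem scale_tupOf (h : IsDivisors n P e) (g : GL (Fin n) F)
    (Ω : Module.AEval' (Matrix.toLin' (g : Matrix (Fin n) (Fin n) F)) ≃ₗ[F[X]] ((j : ι) → F[X] ⧸ Ideal.span {P j ^ e j}))
    {ζ : F} (hζ : ζ ≠ 0) (c : GL (Fin n) F)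
    (hc : (c : Matrix (Fin n) (Fin n) F) * g * ((c⁻¹ : GL (Fin n) F) : Matrix (Fin n) (Fin n) F) =
      ζ • (g : Matrix (Fin n) (Fin n) F)) (i : Fin n) :
    scale ζ (tupOf n P e i) = tupOf n P e i := by
  classical
  set A := (g : Matrix (Fin n) (Fin n) F) with hA
  have hE : ∀ p : F[X], p.Monic → Irreducible p → ∀ s,
      ∑ j, (if P j = p then e j - s else e j) * (P j).natDegree =
        ∑ j, (if P j = scale ζ p then e j - s else e j) * (P j).natDegree := by
    intro p hp hi s
    apply Nat.pow_right_injective (Fintype.one_lt_card (α := F))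
    simp only
    rw [← imageCard_pow h A Ω hp hi s, ← imageCard_pow h A Ω (scale_monic hζ hp).1 (scale_irreducible hζ hp hi) s,
      ← imageCard_conj A c, hc]
    unfold imageCard
    have e1 : aeval A (scale ζ p ^ s) = (((ζ ^ p.natDegree)⁻¹) ^ s) • aeval (ζ • A) (p ^ s) := by
      rw [scale, mul_pow, map_mul, map_pow, aeval_C, map_pow, aeval_comp, map_mul, aeval_C, aeval_X,
        ← map_pow, ← Algebra.smul_def, ← Algebra.smul_def, map_pow]
    rw [e1]
    have hne : ((ζ ^ p.natDegree)⁻¹) ^ s ≠ 0 := pow_ne_zero _ (inv_ne_zero (pow_ne_zero _ hζ))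
    refine Nat.card_congr (Equiv.setCongr (Set.ext fun y => ⟨?_, ?_⟩))
    · rintro ⟨v, rfl⟩
      refine ⟨(((ζ ^ p.natDegree)⁻¹) ^ s)⁻¹ • v, ?_⟩
      show _ *ᵥ _ = _
      simp only [mulVec_smul, smul_mulVec, inv_smul_smul₀ hne, smul_inv_smul₀ hne]
    · rintro ⟨v, rfl⟩
      refine ⟨(((ζ ^ p.natDegree)⁻¹) ^ s) • v, ?_⟩
      show _ *ᵥ _ = _
      simp only [mulVec_smul, smul_mulVec]
  have hgt : ∀ p : F[X], p.Monic → Irreducible p → ∀ s,
      (Finset.univ.filter fun j => P j = p ∧ s < e j).card =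
        (Finset.univ.filter fun j => P j = scale ζ p ∧ s < e j).card := by
    intro p hp hi s
    have hdiff : ∀ p' : F[X], p'.natDegree = p.natDegree →
        (∑ j, (if P j = p' then e j - (s + 1) else e j) * (P j).natDegree) +
          p.natDegree * (Finset.univ.filter fun j => P j = p' ∧ s < e j).card =
        ∑ j, (if P j = p' then e j - s else e j) * (P j).natDegree := by
      intro p' hd
      rw [Finset.card_filter, Finset.mul_sum, ← Finset.sum_add_distrib]
      refine Finset.sum_congr rfl fun j _ => ?_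
      by_cases hj : P j = p'
      · rw [if_pos hj, if_pos hj, hj, hd]
        by_cases hs : s < e j
        · rw [if_pos ⟨rfl, hs⟩, show e j - s = e j - (s + 1) + 1 by omega]
          ring
        · rw [if_neg (fun hh => hs hh.2), mul_zero, add_zero, show e j - (s + 1) = e j - s by omega]
      · rw [if_neg hj, if_neg hj, if_neg (fun hh => hj hh.1), mul_zero, add_zero]
    have h1 := hdiff p rfl
    have h2 := hdiff (scale ζ p) (scale_monic hζ hp).2
    rw [hE p hp hi (s + 1), hE p hp hi s, ← h2] at h1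
    exact Nat.eq_of_mul_eq_mul_left hi.natDegree_pos (Nat.add_left_cancel h1)
  let S := (Finset.univ.filter fun j => e j = (i : ℕ) + 1).val.map P
  have hS : ∀ Q ∈ S, Q.Monic ∧ Irreducible Q := fun Q hQ => by
    obtain ⟨j, -, rfl⟩ := Multiset.mem_map.1 hQ; exact ⟨(h.1 j).1, (h.1 j).2.1⟩
  have hcount : ∀ p : F[X], p.Monic → Irreducible p → Multiset.count p S = Multiset.count (scale ζ p) S := by
    intro p hp hi
    have key : ∀ p' : F[X], Multiset.count p' S + (Finset.univ.filter fun j => P j = p' ∧ (i : ℕ) + 1 < e j).card =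
        (Finset.univ.filter fun j => P j = p' ∧ (i : ℕ) < e j).card := by
      intro p'
      rw [Multiset.count_map, ← Finset.filter_val, Finset.filter_filter, Finset.card_val, Finset.card_filter,
        Finset.card_filter, Finset.card_filter, ← Finset.sum_add_distrib]
      refine Finset.sum_congr rfl fun j _ => ?_
      by_cases hj : P j = p'
      · subst hj
        simp only [true_and, and_true]
        split_ifs <;> omega
      · rw [if_neg (fun hh => hj hh.2.symm), if_neg (fun hh => hj hh.1), if_neg (fun hh => hj hh.1)]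
    have k1 := key p
    have k2 := key (scale ζ p)
    have := hgt p hp hi ((i : ℕ) + 1)
    have := hgt p hp hi i
    omega
  have hmap : S.map (scale ζ) = S := by
    refine Multiset.ext.2 fun Q => ?_
    by_cases hQ : Q.Monic ∧ Irreducible Q
    · have hm := (scale_monic (inv_ne_zero hζ) hQ.1).1
      have hback : scale ζ (scale ζ⁻¹ Q) = Q := scale_scale (inv_mul_cancel₀ hζ) hQ.1
      rw [Multiset.count_map, Multiset.filter_congr (q := fun a => scale ζ⁻¹ Q = a) (fun a ha => ⟨fun he => by
          rw [he, scale_scale (mul_inv_cancel₀ hζ) (hS a ha).1], fun he => by rw [← he, hback]⟩),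
        ← Multiset.count_eq_card_filter_eq, hcount _ hm (scale_irreducible (inv_ne_zero hζ) hQ.1 hQ.2), hback]
    · rw [Multiset.count_eq_zero_of_notMem, Multiset.count_eq_zero_of_notMem (fun hm => hQ (hS Q hm))]
      intro hm
      obtain ⟨a, ha, rfl⟩ := Multiset.mem_map.1 hm
      exact hQ ⟨(scale_monic hζ (hS a ha).1).1, scale_irreducible hζ (hS a ha).1 (hS a ha).2⟩
  show scale ζ S.prod = S.prod
  conv_rhs => rw [← hmap]
  clear_value S
  clear hcount hmap
  induction S using Multiset.induction with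
  | empty => simp [scale]
  | cons a t ih =>
    rw [Multiset.prod_cons, Multiset.map_cons, Multiset.prod_cons, scale_mul (hS a (Multiset.mem_cons_self a t)).1.ne_zero,
      ih fun Q hQ => hS Q (Multiset.mem_cons_of_mem hQ)]
    have hm := monic_multiset_prod_of_monic t id fun Q hQ => (hS Q (Multiset.mem_cons_of_mem hQ)).1
    rw [Multiset.map_id] at hm
    exact hm.ne_zero

end Cfsg.Lib.DivisorScaling
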