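import Cfsg.Agent.Known.DivisorDet
import Cfsg.Agent.Known.DivisorScaling
import Mathlib

/-! Bounds for the number of conjugacy classes of the special linear group over a finite field. -/

set_option autoImplicit false
set_option linter.style.haveILetI false

open Polynomial Matrix

namespace Cfsg.Lib.ClassNumberSL

open ClassNumberGL DivisorDet DivisorScaling

universe u

variable {F : Type u} [Field F]

/-- The determinant contributed by a monic polynomial. -/
def sgnConst (P : F[X]) : F := (-1) ^ P.natDegree * P.coeff 0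

/-- The determinant of a tuple. -/
noncomputable def detTup {N : ℕ} (G : Fin N → F[X]) : F := ∏ i : Fin N, sgnConst (G i) ^ ((i : ℕ) + 1)

theorem sgnConst_tupOf {ι : Type u} [Fintype ι] {n : ℕ} {P : ι → F[X]} {e : ι → ℕ} (h : IsDivisors n P e) :
    ∏ j, sgnConst (P j) ^ e j = detTup (tupOf n P e) := by
  classical
  let slot : ι → Fin n := fun j =>
    ⟨e j - 1, by have := (h.1 j).2.2.2; have := le_of_isDivisors h j; omega⟩
  rw [← Finset.prod_fiberwise Finset.univ slot]
  refine Finset.prod_congr rfl fun i _ => ?_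
  show _ = sgnConst (∏ j ∈ Finset.univ.filter (fun j => e j = (i : ℕ) + 1), P j) ^ ((i : ℕ) + 1)
  rw [sgnConst, natDegree_prod_of_monic _ _ (fun j _ => (h.1 j).1), coeff_zero_prod, ← Finset.prod_pow_eq_pow_sum,
    ← Finset.prod_mul_distrib, ← Finset.prod_pow]
  refine Finset.prod_congr (Finset.ext fun j => ?_) fun j hj => ?_
  · have := (h.1 j).2.2.2
    simp only [Finset.mem_filter, Finset.mem_univ, true_and, slot, Fin.ext_iff]
    omega
  · simp only [Finset.mem_filter, Finset.mem_univ, true_and] at hj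
    rw [hj]
    rfl

variable [Fintype F]

/-- The number of `k`-th roots of unity. -/
noncomputable def rootsCount (F : Type*) [Field F] (k : ℕ) : ℕ := Nat.card {a : F // a ^ k = 1}

theorem rootsCount_le (k : ℕ) (hk : 1 ≤ k) : rootsCount F k ≤ k ∧ rootsCount F k ≤ Fintype.card F - 1 := by
  classical
  constructor
  · rw [rootsCount, Nat.card_eq_fintype_card, Fintype.card_subtype]
    calc (Finset.univ.filter fun a : F => a ^ k = 1).card ≤ (Polynomial.nthRootsFinset k (1 : F)).card :=
          Finset.card_le_card fun a ha => by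
            rw [Polynomial.mem_nthRootsFinset (by omega)]
            exact (Finset.mem_filter.1 ha).2
      _ ≤ k := by
          rw [Polynomial.nthRootsFinset_def]
          exact (Multiset.toFinset_card_le _).trans (Polynomial.card_nthRoots _ _)
  · have h : rootsCount F k ≤ Nat.card {a : F // a ≠ 0} :=
      Nat.card_le_card_of_injective (fun a => ⟨a.1, fun h => by have := a.2; rw [h, zero_pow (by omega)] at this; exact zero_ne_one this⟩)
        (fun a b h => Subtype.ext (congrArg (fun x : {a : F // a ≠ 0} => x.1) h))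
    rwa [Nat.card_eq_fintype_card, Fintype.card_subtype_compl, Fintype.card_subtype_eq] at h

omit [Fintype F] in
theorem exists_norm_pow [Finite F] {P : F[X]} (hP : P.Monic) (hi : Irreducible P) (x : F) :
    ∃ f : F[X], Algebra.norm F (AdjoinRoot.mk P f) = x := by
  haveI := Fact.mk hi
  haveI : Module.Finite F (AdjoinRoot P) := hP.finite_adjoinRoot
  haveI : Finite (AdjoinRoot P) := Module.finite_of_finite F
  obtain ⟨y, hy⟩ := FiniteField.norm_surjective F (AdjoinRoot P) x
  obtain ⟨f, rfl⟩ := AdjoinRoot.mk_surjective y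
  exact ⟨f, hy⟩

/-- The classification of classes of `GL` by tuples, with determinants. -/
theorem exists_classifier (n : ℕ) :
    ∃ G : GL (Fin n) F → Tup F n n, (∀ g g', G g = G g' → IsConj g g') ∧
      (∀ g : GL (Fin n) F, detTup (G g).1 = (g : Matrix (Fin n) (Fin n) F).det) ∧
      (∀ (g : GL (Fin n) F) (i : Fin n), ((G g).1 i).natDegree ≠ 0 → ∀ x : Fˣ, ∃ c : GL (Fin n) F,
        c * g = g * c ∧ Matrix.GeneralLinearGroup.det c = x ^ ((i : ℕ) + 1)) ∧
      ∀ (g c : GL (Fin n) F) (ζ : F), ζ ≠ 0 →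
        (c : Matrix (Fin n) (Fin n) F) * g * ((c⁻¹ : GL (Fin n) F) : Matrix (Fin n) (Fin n) F) =
          ζ • (g : Matrix (Fin n) (Fin n) F) → ∀ i, scale ζ ((G g).1 i) = (G g).1 i := by
  classical
  have hdet : ∀ g : GL (Fin n) F, (g : Matrix (Fin n) (Fin n) F).det ≠ 0 := fun g =>
    ((Matrix.isUnit_iff_isUnit_det _).1 g.isUnit).ne_zero
  choose ι hι P e hP hsum Ω using fun g : GL (Fin n) F => exists_decomp (g : Matrix (Fin n) (Fin n) F) (hdet g)
  refine ⟨fun g => ⟨tupOf n (P g) (e g), tupOf_mem ⟨hP g, hsum g⟩⟩, fun g g' h =>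
    isConj_of_tupOf_eq g g' ⟨hP g, hsum g⟩ ⟨hP g', hsum g'⟩ (Ω g).some (Ω g').some (congrArg Subtype.val h),
    fun g => ?_, fun g i hi x => ?_,
    fun g c ζ hζ hc i => scale_tupOf ⟨hP g, hsum g⟩ g (Ω g).some hζ c hc i⟩
  · obtain ⟨M, -, hMd, hMA⟩ := exists_commuting (P g) (e g) (fun j => (hP g j).1) _ (Ω g).some (fun _ => X)
    show detTup (tupOf n (P g) (e g)) = _
    rw [← sgnConst_tupOf ⟨hP g, hsum g⟩, ← hMA fun _ => rfl, hMd]
    exact Finset.prod_congr rfl fun j _ => by rw [norm_mk_X _ (hP g j).1]; rfl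
  · obtain ⟨j, hj⟩ : ∃ j, e g j = (i : ℕ) + 1 := by
      by_contra hne
      apply hi
      show (tupOf n (P g) (e g) i).natDegree = 0
      rw [tupOf, Finset.filter_eq_empty_iff.2 fun j _ hj => hne ⟨j, hj⟩]
      simp
    obtain ⟨f, hf⟩ := exists_norm_pow (hP g j).1 (hP g j).2.1 (x : F)
    obtain ⟨M, hMc, hMd, -⟩ := exists_commuting (P g) (e g) (fun j => (hP g j).1) _ (Ω g).some
      (Function.update (fun _ => (1 : F[X])) j f)
    have hdM : M.det = (x : F) ^ ((i : ℕ) + 1) := by
      rw [hMd, Finset.prod_eq_single j (fun k _ hk => by rw [Function.update_of_ne hk]; simp)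
        (fun h => absurd (Finset.mem_univ j) h), Function.update_self, hf, hj]
    refine ⟨Matrix.GeneralLinearGroup.mkOfDetNeZero M (by rw [hdM]; exact pow_ne_zero _ x.ne_zero), Units.ext ?_,
      Units.ext ?_⟩
    · rw [Units.val_mul, Units.val_mul]; exact hMc
    · rw [Matrix.GeneralLinearGroup.val_det_apply, Units.val_pow_eq_pow_val]; exact hdM

/-- Tuples of determinant one. -/
def Tup1 (F : Type u) [Field F] (n : ℕ) : Type u := {G : Tup F n n // detTup G.1 = 1}

theorem finite_tup1 (n : ℕ) : Finite (Tup1 F n) := by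
  haveI := (tup_card F n).1 n
  exact Subtype.finite

/-- The classes of `SL`, embedded into coloured tuples. -/
theorem exists_coloured (n : ℕ) : ∃ w : Tup1 F n → ℕ,
    (∀ (G : Tup1 F n) (i : Fin n), (G.1.1 i).natDegree ≠ 0 → w G ≤ rootsCount F ((i : ℕ) + 1)) ∧
    (∀ G, w G ≤ Fintype.card F - 1) ∧
    ∃ Φ : ConjClasses (Matrix.SpecialLinearGroup (Fin n) F) → Σ T : Tup1 F n, Fin (w T), Function.Injective Φ ∧
      ∀ C (c : GL (Fin n) F) (ζ : F), ζ ≠ 0 →
        (c : Matrix (Fin n) (Fin n) F) * ((Quotient.out C : Matrix.SpecialLinearGroup (Fin n) F) : Matrix (Fin n) (Fin n) F) *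
            ((c⁻¹ : GL (Fin n) F) : Matrix (Fin n) (Fin n) F) =
          ζ • ((Quotient.out C : Matrix.SpecialLinearGroup (Fin n) F) : Matrix (Fin n) (Fin n) F) →
        ∀ i, scale ζ ((Φ C).1.1.1 i) = (Φ C).1.1.1 i := by
  classical
  obtain ⟨G, hGc, hGd, hGi, hGs⟩ := exists_classifier (F := F) n
  haveI := finite_tup1 (F := F) n
  letI := Fintype.ofFinite (Tup1 F n)
  let D : Tup1 F n → Subgroup Fˣ := fun T =>
    if h : ∃ g, G g = T.1 then (Subgroup.centralizer {h.choose}).map Matrix.GeneralLinearGroup.det else ⊤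
  have hroots : ∀ k, 1 ≤ k → Nat.card (powMonoidHom k : Fˣ →* Fˣ).ker ≤ rootsCount F k := by
    intro k _
    refine Nat.card_le_card_of_injective
      (fun a => ⟨((a.1 : Fˣ) : F), by rw [← Units.val_pow_eq_pow_val, show a.1 ^ k = 1 from a.2, Units.val_one]⟩) ?_
    intro a b h
    exact Subtype.ext (Units.ext (congrArg Subtype.val h))
  refine ⟨fun T => (D T).index, fun T i hi => ?_, fun T => ?_, ?_⟩
  · refine le_trans ?_ (hroots _ (by omega))
    have hle : (powMonoidHom ((i : ℕ) + 1) : Fˣ →* Fˣ).range ≤ D T := by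
      rintro _ ⟨x, rfl⟩
      simp only [D]
      split_ifs with h
      · obtain ⟨c, hc, hcd⟩ := hGi h.choose i (by rw [h.choose_spec]; exact hi) x
        exact ⟨c, Subgroup.mem_centralizer_singleton_iff.2 hc, hcd⟩
      · exact Subgroup.mem_top _
    refine le_trans (Nat.le_of_dvd (Nat.pos_of_ne_zero Subgroup.index_ne_zero_of_finite)
      (Subgroup.index_dvd_of_le hle)) (le_of_eq ?_)
    refine Nat.eq_of_mul_eq_mul_left (n := Nat.card (powMonoidHom ((i : ℕ) + 1) : Fˣ →* Fˣ).range) Nat.card_pos ?_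
    rw [Subgroup.card_mul_index, Subgroup.card_eq_card_quotient_mul_card_subgroup
      (powMonoidHom ((i : ℕ) + 1) : Fˣ →* Fˣ).ker,
      Nat.card_congr (QuotientGroup.quotientKerEquivRange (powMonoidHom ((i : ℕ) + 1) : Fˣ →* Fˣ)).toEquiv]
  · refine le_trans (Nat.le_of_dvd Nat.card_pos (Subgroup.index_dvd_card _)) ?_
    rw [Nat.card_eq_fintype_card, Fintype.card_units]
  · have hdetGL : ∀ h : Matrix.SpecialLinearGroup (Fin n) F,
        detTup (G (Matrix.SpecialLinearGroup.toGL h)).1 = 1 := fun h => by rw [hGd]; exact h.2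
    let T : Matrix.SpecialLinearGroup (Fin n) F → Tup1 F n := fun h => ⟨G (Matrix.SpecialLinearGroup.toGL h), hdetGL h⟩
    have hex : ∀ h, ∃ g, G g = (T h).1 := fun h => ⟨_, rfl⟩
    have hM : ∀ h, ∃ M : GL (Fin n) F, M * Matrix.SpecialLinearGroup.toGL h * M⁻¹ = (hex h).choose := fun h =>
      isConj_iff.1 (hGc _ _ (hex h).choose_spec.symm)
    choose M hM using hM
    let Φ : ConjClasses (Matrix.SpecialLinearGroup (Fin n) F) → Σ T : Tup1 F n, Fˣ ⧸ D T := fun c =>
      ⟨T (Quotient.out c), QuotientGroup.mk (Matrix.GeneralLinearGroup.det (M (Quotient.out c)))⟩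
    let eT : ∀ T : Tup1 F n, Fˣ ⧸ D T ≃ Fin (D T).index := fun T => Finite.equivFinOfCardEq rfl
    let R := fun c => (Equiv.sigmaCongrRight eT) (Φ c)
    refine ⟨R, (Equiv.sigmaCongrRight eT).injective.comp ?_,
      fun C c ζ hζ hc i => hGs _ c ζ hζ hc i⟩
    intro c c' hcc
    rw [← Quotient.out_eq c, ← Quotient.out_eq c']
    simp only [Φ] at hcc
    generalize Quotient.out c = g at hcc ⊢
    generalize Quotient.out c' = g' at hcc ⊢
    apply Quotient.sound
    have hT : T g = T g' := congrArg Sigma.fst hcc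
    have hch : (hex g).choose = (hex g').choose := by
      have : ∀ (A B : Tup1 F n) (hA : ∃ x, G x = A.1) (hB : ∃ x, G x = B.1), A = B → hA.choose = hB.choose := by
        rintro A B hA hB rfl; rfl
      exact this _ _ _ _ hT
    have hq : ∀ (A B : Tup1 F n) (a : Fˣ ⧸ D A) (b : Fˣ ⧸ D B), (⟨A, a⟩ : Σ T, Fˣ ⧸ D T) = ⟨B, b⟩ →
        ∀ x y : Fˣ, a = QuotientGroup.mk x → b = QuotientGroup.mk y → x⁻¹ * y ∈ D A := by
      rintro A B a b e x y rfl hb
      cases e
      exact QuotientGroup.eq.1 hb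
    have hmem := hq _ _ _ _ hcc _ _ rfl rfl
    have hD : D (T g) = (Subgroup.centralizer {(hex g).choose}).map Matrix.GeneralLinearGroup.det := dif_pos (hex g)
    rw [hD] at hmem
    obtain ⟨z, hz, hzd⟩ := hmem
    have hz' : z * (hex g).choose = (hex g).choose * z := Subgroup.mem_centralizer_singleton_iff.1 hz
    set U : GL (Fin n) F := (M g')⁻¹ * z * M g with hU
    have hUg : U * Matrix.SpecialLinearGroup.toGL g * U⁻¹ = Matrix.SpecialLinearGroup.toGL g' := by
      calc U * Matrix.SpecialLinearGroup.toGL g * U⁻¹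
          = (M g')⁻¹ * (z * (M g * Matrix.SpecialLinearGroup.toGL g * (M g)⁻¹) * z⁻¹) * M g' := by rw [hU]; group
        _ = (M g')⁻¹ * (M g' * Matrix.SpecialLinearGroup.toGL g' * (M g')⁻¹) * M g' := by
            rw [hM g, hM g', ← hch, hz', mul_inv_cancel_right]
        _ = _ := by group
    have hUd : Matrix.GeneralLinearGroup.det U = 1 := by
      rw [hU, map_mul, map_mul, map_inv, hzd]
      rw [mul_assoc ((Matrix.GeneralLinearGroup.det (M g'))⁻¹), mul_comm _ (Matrix.GeneralLinearGroup.det (M g))]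
      rw [mul_inv_cancel_left, inv_mul_cancel]
    obtain ⟨V, hV⟩ : ∃ V : Matrix.SpecialLinearGroup (Fin n) F, Matrix.SpecialLinearGroup.toGL V = U :=
      ⟨⟨(U : Matrix (Fin n) (Fin n) F), by rw [← Matrix.GeneralLinearGroup.val_det_apply, hUd, Units.val_one]⟩,
        Units.ext rfl⟩
    refine isConj_iff.2 ⟨V, Matrix.SpecialLinearGroup.toGL_injective ?_⟩
    rw [map_mul, map_mul, map_inv, hV]
    exact hUg

/-- The classes of `SL`, counted by weighted tuples. -/
theorem card_classes_SL_le (n : ℕ) : ∃ w : Tup1 F n → ℕ,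
    (∀ (G : Tup1 F n) (i : Fin n), (G.1.1 i).natDegree ≠ 0 → w G ≤ rootsCount F ((i : ℕ) + 1)) ∧
    (∀ G, w G ≤ Fintype.card F - 1) ∧
    (letI := finite_tup1 (F := F) n; letI := Fintype.ofFinite (Tup1 F n);
      Nat.card (ConjClasses (Matrix.SpecialLinearGroup (Fin n) F)) ≤ ∑ G, w G) := by
  obtain ⟨w, h1, h2, Φ, hΦ, -⟩ := exists_coloured (F := F) n
  haveI := finite_tup1 (F := F) n
  letI := Fintype.ofFinite (Tup1 F n)
  refine ⟨w, h1, h2, (Nat.card_le_card_of_injective Φ hΦ).trans_eq ?_⟩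
  rw [Nat.card_sigma]
  exact Finset.sum_congr rfl fun T _ => Nat.card_fin _

end Cfsg.Lib.ClassNumberSL
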