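import Cfsg.Agent.Known.ClassNumberSL
import Mathlib

/-! The numerical bounds for the class number of the special linear group. -/

set_option autoImplicit false
set_option linter.style.haveILetI false

open Polynomial Matrix

namespace Cfsg.Lib.ClassNumberSL

open ClassNumberGL

universe u

variable {F : Type u} [Field F] {N : ℕ} [NeZero N]

/-- Tuples without elementary divisors of exponent one. -/
def TupB (F : Type u) [Field F] (N : ℕ) [NeZero N] (m : ℕ) : Type u :=
  {G : Tup F N m // (G.1 0).natDegree = 0}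

theorem eq_one_of_natDegree {m : ℕ} (G : Tup F N m) {i : Fin N} (h : (G.1 i).natDegree = 0) : G.1 i = 1 :=
  (G.2.1 i).1.natDegree_eq_zero.1 h

theorem detTup_update (G : Fin N → F[X]) (P : F[X]) (h0 : G 0 = 1) :
    detTup (Function.update G 0 P) = sgnConst P * detTup G := by
  rw [detTup, detTup, ← Finset.mul_prod_erase _ _ (Finset.mem_univ (0 : Fin N)),
    ← Finset.mul_prod_erase _ _ (Finset.mem_univ (0 : Fin N)), Function.update_self, h0]
  have h1 : sgnConst (1 : F[X]) = 1 := by simp [sgnConst]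
  simp only [h1, Fin.val_zero, zero_add, pow_one, one_mul]
  congr 1
  exact Finset.prod_congr rfl fun i hi => by rw [Function.update_of_ne (Finset.ne_of_mem_erase hi)]

theorem sum_update {m : ℕ} (G : Tup F N m) (i : Fin N) (hi : (G.1 i).natDegree = 0) (P : F[X]) :
    ∑ j : Fin N, ((j : ℕ) + 1) * (Function.update G.1 i P j).natDegree = m + ((i : ℕ) + 1) * P.natDegree := by
  have h := G.2.2
  rw [← Finset.add_sum_erase _ _ (Finset.mem_univ i)] at h ⊢
  rw [hi, mul_zero, zero_add] at h
  rw [Function.update_self, add_comm]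
  congr 1
  refine Eq.trans (Finset.sum_congr rfl fun j hj => ?_) h
  rw [Function.update_of_ne (Finset.ne_of_mem_erase hj)]

theorem sum_update_one {m : ℕ} (G : Tup F N m) (i : Fin N) :
    ∑ j : Fin N, ((j : ℕ) + 1) * (Function.update G.1 i 1 j).natDegree + ((i : ℕ) + 1) * (G.1 i).natDegree = m := by
  have h := G.2.2
  rw [← Finset.add_sum_erase _ _ (Finset.mem_univ i)] at h ⊢
  rw [Function.update_self, natDegree_one, mul_zero, zero_add]
  have e : ∑ j ∈ Finset.univ.erase i, ((j : ℕ) + 1) * (Function.update G.1 i 1 j).natDegree =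
      ∑ j ∈ Finset.univ.erase i, ((j : ℕ) + 1) * (G.1 j).natDegree :=
    Finset.sum_congr rfl fun j hj => by rw [Function.update_of_ne (Finset.ne_of_mem_erase hj)]
  rw [e, add_comm]
  exact h

variable [Fintype F]

theorem finite_tupB (m : ℕ) : Finite (TupB F N m) := by
  haveI := (tup_card F N).1 m
  exact Subtype.finite

/-- The number of tuples of determinant one with an elementary divisor of exponent one. -/
noncomputable def mainTerm (F : Type u) [Field F] [Fintype F] (N : ℕ) [NeZero N] (m : ℕ) : ℕ :=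
  ∑ d ∈ Finset.range m, Fintype.card F ^ d * Nat.card (TupB F N (m - (d + 1)))

theorem card_monic_ne (d : ℕ) : Nat.card {f : F[X] // f.Monic ∧ f.natDegree = d + 1 ∧ f.coeff 0 ≠ 0} =
    (Fintype.card F - 1) * Fintype.card F ^ d := by
  classical
  rw [SemisimpleCharpoly.card_monic d (fun a : F => a ≠ 0), Nat.card_eq_fintype_card, Nat.card_eq_fintype_card,
    Fintype.card_subtype_compl, Fintype.card_subtype_eq]

theorem finite_monic (d : ℕ) : Finite {f : F[X] // f.Monic ∧ f.natDegree = d + 1 ∧ f.coeff 0 ≠ 0} := by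
  have := Fintype.one_lt_card (α := F)
  exact Nat.finite_of_card_ne_zero (by rw [card_monic_ne]; exact Nat.mul_ne_zero (by omega) (pow_ne_zero _ (by omega)))

theorem mass_le (m : ℕ) (hm : 1 ≤ m) :
    (Fintype.card F - 1) * mainTerm F N m + Nat.card (TupB F N m) ≤ Fintype.card F ^ m := by
  classical
  haveI := fun k => finite_tupB (F := F) (N := N) k
  haveI := fun d => finite_monic (F := F) d
  haveI := (tup_card F N).1 m
  let S := TupB F N m ⊕ (Σ d : Fin m, {f : F[X] // f.Monic ∧ f.natDegree = (d : ℕ) + 1 ∧ f.coeff 0 ≠ 0} × TupB F N (m - ((d : ℕ) + 1)))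
  have hmem : ∀ x : Σ d : Fin m, {f : F[X] // f.Monic ∧ f.natDegree = (d : ℕ) + 1 ∧ f.coeff 0 ≠ 0} × TupB F N (m - ((d : ℕ) + 1)),
      (∀ i, (Function.update x.2.2.1.1 0 x.2.1.1 i).Monic ∧ (Function.update x.2.2.1.1 0 x.2.1.1 i).coeff 0 ≠ 0) ∧
        ∑ i : Fin N, ((i : ℕ) + 1) * (Function.update x.2.2.1.1 0 x.2.1.1 i).natDegree = m := by
    intro x
    refine ⟨fun i => ?_, ?_⟩
    · by_cases hi : i = 0
      · rw [hi, Function.update_self]; exact ⟨x.2.1.2.1, x.2.1.2.2.2⟩
      · rw [Function.update_of_ne hi]; exact x.2.2.1.2.1 i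
    · rw [sum_update _ _ x.2.2.2, x.2.1.2.2.1, Fin.val_zero, zero_add, one_mul]
      have := x.1.isLt
      omega
  let Φ : S → Tup F N m := Sum.elim (fun G => G.1) (fun x => ⟨_, hmem x⟩)
  have hinj : Function.Injective Φ := by
    rintro (G | ⟨d, f, G⟩) (G' | ⟨d', f', G'⟩) e
    · exact congrArg _ (Subtype.ext e)
    · exfalso
      have h1 : G.1.1 0 = Function.update G'.1.1 0 f'.1 0 := congrFun (congrArg Subtype.val e) 0
      have h2 := f'.2.2.1
      have h3 := G.2
      rw [h1, Function.update_self] at h3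
      omega
    · exfalso
      have h1 : Function.update G.1.1 0 f.1 0 = G'.1.1 0 := congrFun (congrArg Subtype.val e) 0
      have h2 := f.2.2.1
      have h3 := G'.2
      rw [← h1, Function.update_self] at h3
      omega
    · have h1 : Function.update G.1.1 0 f.1 = Function.update G'.1.1 0 f'.1 := congrArg Subtype.val e
      have hf : f.1 = f'.1 := by simpa using congrFun h1 0
      have hd : d = d' := Fin.ext (by have := f.2.2.1; have := f'.2.2.1; rw [hf] at *; omega)
      subst hd
      have hff : f = f' := Subtype.ext hf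
      subst hff
      have hG : G = G' := by
        refine Subtype.ext (Subtype.ext (funext fun i => ?_))
        by_cases hi : i = 0
        · rw [hi, eq_one_of_natDegree _ G.2, eq_one_of_natDegree _ G'.2]
        · have := congrFun h1 i
          rwa [Function.update_of_ne hi, Function.update_of_ne hi] at this
      rw [hG]
  have h := Nat.card_le_card_of_injective Φ hinj
  obtain ⟨-, -, hb⟩ := tup_card F N
  refine le_trans (le_of_eq ?_) (h.trans (Nat.le_of_mul_le_mul_left
    ((hb m hm).trans (Nat.mul_le_mul_right _ (Nat.sub_le _ _))) (pow_pos Fintype.card_pos N)))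
  rw [Nat.card_sum, Nat.card_sigma, mainTerm, Finset.mul_sum, Finset.sum_range, add_comm]
  congr 1
  refine Finset.sum_congr rfl fun d _ => ?_
  rw [Nat.card_prod, card_monic_ne]
  ring

theorem one_le_tupB_zero : 1 ≤ Nat.card (TupB F N 0) := by
  haveI := finite_tupB (F := F) (N := N) 0
  haveI : Nonempty (TupB F N 0) := ⟨⟨⟨fun _ => 1, fun i => ⟨monic_one, by simp⟩, by simp⟩, by simp⟩⟩
  exact Nat.card_pos

theorem single_le (i : Fin N) (hi : i ≠ 0) (d : ℕ) :
    (Fintype.card F - 1) * Fintype.card F ^ d ≤ Nat.card (TupB F N (((i : ℕ) + 1) * (d + 1))) := by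
  classical
  haveI := finite_tupB (F := F) (N := N) (((i : ℕ) + 1) * (d + 1))
  let one : Tup F N 0 := ⟨fun _ => 1, fun i => ⟨monic_one, by simp⟩, by simp⟩
  rw [← card_monic_ne d]
  refine Nat.card_le_card_of_injective (fun f => ⟨⟨Function.update one.1 i f.1, fun j => ?_, ?_⟩, ?_⟩) ?_
  · by_cases hj : j = i
    · rw [hj, Function.update_self]; exact ⟨f.2.1, f.2.2.2⟩
    · rw [Function.update_of_ne hj]; exact one.2.1 j
  · rw [sum_update one i (by simp [one]), f.2.2.1, zero_add]
  · show (Function.update one.1 i f.1 0).natDegree = 0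
    rw [Function.update_of_ne (Ne.symm hi)]; simp [one]
  · intro f f' e
    have := congrFun (congrArg (fun x : TupB F N _ => x.1.1) e) i
    simp only [Function.update_self] at this
    exact Subtype.ext this

theorem four_le (hN : 4 ≤ N) : Fintype.card F ^ 2 - 1 ≤ Nat.card (TupB F N 4) := by
  classical
  haveI := finite_tupB (F := F) (N := N) 4
  haveI := fun d => finite_monic (F := F) d
  let one : Tup F N 0 := ⟨fun _ => 1, fun i => ⟨monic_one, by simp⟩, by simp⟩
  have mk : ∀ (i : Fin N) (d : ℕ) (f : {f : F[X] // f.Monic ∧ f.natDegree = d + 1 ∧ f.coeff 0 ≠ 0}), i ≠ 0 →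
      ((i : ℕ) + 1) * (d + 1) = 4 → ∃ G : TupB F N 4, G.1.1 = Function.update one.1 i f.1 := by
    intro i d f hi hid
    refine ⟨⟨⟨Function.update one.1 i f.1, fun j => ?_, ?_⟩, ?_⟩, rfl⟩
    · by_cases hj : j = i
      · rw [hj, Function.update_self]; exact ⟨f.2.1, f.2.2.2⟩
      · rw [Function.update_of_ne hj]; exact one.2.1 j
    · rw [sum_update one i (by simp [one]), f.2.2.1, zero_add, hid]
    · show (Function.update one.1 i f.1 0).natDegree = 0
      rw [Function.update_of_ne (Ne.symm hi)]; simp [one]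
  choose g hg using fun f => mk ⟨1, by omega⟩ 1 f (by simp [Fin.ext_iff]) rfl
  choose g' hg' using fun f => mk ⟨3, by omega⟩ 0 f (by simp [Fin.ext_iff]) rfl
  have hcard : Nat.card ({f : F[X] // f.Monic ∧ f.natDegree = 1 + 1 ∧ f.coeff 0 ≠ 0} ⊕
      {f : F[X] // f.Monic ∧ f.natDegree = 0 + 1 ∧ f.coeff 0 ≠ 0}) = Fintype.card F ^ 2 - 1 := by
    rw [Nat.card_sum, card_monic_ne, card_monic_ne, ← Nat.mul_add]
    have := Fintype.one_lt_card (α := F)
    obtain ⟨c, hc⟩ := Nat.exists_eq_add_of_le (show 1 ≤ Fintype.card F by omega)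
    rw [hc, Nat.add_sub_cancel_left]
    symm
    apply Nat.sub_eq_of_eq_add
    ring
  rw [← hcard]
  refine Nat.card_le_card_of_injective (Sum.elim g g') ?_
  rintro (f | f) (f' | f') e
  · have := congrFun (congrArg (fun x : TupB F N 4 => x.1.1) e) ⟨1, by omega⟩
    simp only [Sum.elim_inl, hg, Function.update_self] at this
    exact congrArg _ (Subtype.ext this)
  · exfalso
    have := congrFun (congrArg (fun x : TupB F N 4 => x.1.1) e) ⟨1, by omega⟩
    simp only [Sum.elim_inl, Sum.elim_inr, hg, hg', Function.update_self] at this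
    rw [Function.update_of_ne (by simp [Fin.ext_iff])] at this
    have h2 := f.2.2.1
    rw [this] at h2
    simp [one] at h2
  · exfalso
    have := congrFun (congrArg (fun x : TupB F N 4 => x.1.1) e) ⟨1, by omega⟩
    simp only [Sum.elim_inl, Sum.elim_inr, hg, hg', Function.update_self] at this
    rw [Function.update_of_ne (by simp [Fin.ext_iff])] at this
    have h2 := f'.2.2.1
    rw [← this] at h2
    simp [one] at h2
  · have := congrFun (congrArg (fun x : TupB F N 4 => x.1.1) e) ⟨3, by omega⟩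
    simp only [Sum.elim_inr, hg', Function.update_self] at this
    exact congrArg _ (Subtype.ext this)

/-- A set of tuples concentrated in one exponent. -/
theorem card_concentrated_le {m : ℕ} {S : Type*} (G : S → Tup F N m) (hG : Function.Injective G) (i : Fin N) (d : ℕ)
    (P : F → Prop) (h : ∀ s, (∀ j, j ≠ i → ((G s).1 j).natDegree = 0) ∧ ((G s).1 i).natDegree = d + 1 ∧
      P (((G s).1 i).coeff 0)) : Nat.card S ≤ Nat.card {a : F // P a} * Fintype.card F ^ d := by
  classical
  haveI := (tup_card F N).1 m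
  haveI : Finite S := Finite.of_injective G hG
  haveI : Finite {f : F[X] // f.Monic ∧ f.natDegree = d + 1 ∧ P (f.coeff 0)} := by
    rcases isEmpty_or_nonempty {f : F[X] // f.Monic ∧ f.natDegree = d + 1 ∧ P (f.coeff 0)} with he | ⟨⟨f⟩⟩
    · infer_instance
    · refine Nat.finite_of_card_ne_zero ?_
      rw [SemisimpleCharpoly.card_monic d P]
      haveI : Nonempty {a : F // P a} := ⟨⟨_, f.2.2.2⟩⟩
      exact Nat.mul_ne_zero Nat.card_pos.ne' (pow_ne_zero _ Nat.card_pos.ne')
  rw [← Nat.card_eq_fintype_card (α := F), ← SemisimpleCharpoly.card_monic d P]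
  refine Nat.card_le_card_of_injective (fun s => ⟨(G s).1 i, ((G s).2.1 i).1, (h s).2.1, (h s).2.2⟩) ?_
  intro s s' e
  refine hG (Subtype.ext (funext fun j => ?_))
  by_cases hj : j = i
  · subst hj; exact congrArg Subtype.val e
  · rw [eq_one_of_natDegree _ ((h s).1 j hj), eq_one_of_natDegree _ ((h s').1 j hj)]

theorem card_sgnConst (d : ℕ) (v : F) (k : ℕ) :
    Nat.card {a : F // ((-1 : F) ^ d * a) ^ k = v} = Nat.card {a : F // a ^ k = v} :=
  Nat.card_congr ((Equiv.mulLeft₀ ((-1 : F) ^ d) (pow_ne_zero _ (neg_ne_zero.2 one_ne_zero))).subtypeEquiv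
    fun a => Iff.rfl)

theorem card_main_le (n : ℕ) [NeZero n] :
    Nat.card {T : Tup1 F n // (T.1.1 0).natDegree ≠ 0} ≤ mainTerm F n n := by
  classical
  haveI := fun k => finite_tupB (F := F) (N := n) k
  let M : (d : ℕ) → TupB F n (n - (d + 1)) → Type u := fun d G =>
    {f : F[X] // f.Monic ∧ f.natDegree = d + 1 ∧ (-1 : F) ^ (d + 1) * f.coeff 0 * detTup G.1.1 = 1}
  have hM : ∀ d G, Nat.card (M d G) = Fintype.card F ^ d := by
    intro d G
    have hne : (-1 : F) ^ (d + 1) ≠ 0 := pow_ne_zero _ (neg_ne_zero.2 one_ne_zero)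
    have hD : detTup G.1.1 ≠ 0 := Finset.prod_ne_zero_iff.2 fun i _ => pow_ne_zero _
      (mul_ne_zero (pow_ne_zero _ (neg_ne_zero.2 one_ne_zero)) (G.1.2.1 i).2)
    haveI : Unique {a : F // (-1 : F) ^ (d + 1) * a * detTup G.1.1 = 1} :=
      { default := ⟨((-1 : F) ^ (d + 1))⁻¹ * (detTup G.1.1)⁻¹, by
          rw [← mul_assoc, mul_inv_cancel₀ hne, one_mul, inv_mul_cancel₀ hD]⟩
        uniq := fun a => Subtype.ext (by
          show a.1 = _
          have := a.2
          field_simp at this ⊢
          linear_combination this) }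
    rw [show Nat.card (M d G) = _ from SemisimpleCharpoly.card_monic d (fun a : F => (-1 : F) ^ (d + 1) * a * detTup G.1.1 = 1),
      Nat.card_unique, one_mul, Nat.card_eq_fintype_card]
  haveI : ∀ d G, Finite (M d G) := fun d G => Nat.finite_of_card_ne_zero (by
    rw [hM]; exact pow_ne_zero _ (by have := Fintype.one_lt_card (α := F); omega))
  have hsum := fun T : {T : Tup1 F n // (T.1.1 0).natDegree ≠ 0} => sum_update_one T.1.1 0
  let R : (T : {T : Tup1 F n // (T.1.1 0).natDegree ≠ 0}) → TupB F n (n - ((T.1.1.1 0).natDegree - 1 + 1)) := fun T =>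
    ⟨⟨Function.update T.1.1.1 0 1, fun i => by
        by_cases hi : i = 0
        · rw [hi, Function.update_self]; exact ⟨monic_one, by simp⟩
        · rw [Function.update_of_ne hi]; exact T.1.1.2.1 i, by
        have h := hsum T
        have h0 := T.2
        rw [Fin.val_zero, zero_add, one_mul] at h
        omega⟩, by simp⟩
  let Φ : {T : Tup1 F n // (T.1.1 0).natDegree ≠ 0} → Σ d : Fin n, Σ G : TupB F n (n - ((d : ℕ) + 1)), M d G :=
    fun T => ⟨⟨(T.1.1.1 0).natDegree - 1, by
        have h := hsum T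
        have h0 := T.2
        rw [Fin.val_zero, zero_add, one_mul] at h
        omega⟩, R T, T.1.1.1 0, (T.1.1.2.1 0).1, (Nat.sub_add_cancel (Nat.one_le_iff_ne_zero.2 T.2)).symm, by
        have h := detTup_update (Function.update T.1.1.1 0 1) (T.1.1.1 0) (Function.update_self _ _ _)
        rw [Function.update_idem, Function.update_eq_self, T.1.2] at h
        show (-1 : F) ^ ((T.1.1.1 0).natDegree - 1 + 1) * (T.1.1.1 0).coeff 0 *
          detTup (Function.update T.1.1.1 0 1) = 1
        rw [Nat.sub_add_cancel (Nat.one_le_iff_ne_zero.2 T.2)]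
        exact h.symm⟩
  let Ψ : (Σ d : Fin n, Σ G : TupB F n (n - ((d : ℕ) + 1)), M d G) → Fin n → F[X] := fun x =>
    Function.update x.2.1.1.1 0 x.2.2.1
  have hΨ : ∀ T, Ψ (Φ T) = T.1.1.1 := fun T => by
    show Function.update (Function.update T.1.1.1 0 1) 0 (T.1.1.1 0) = _
    rw [Function.update_idem, Function.update_eq_self]
  have hinj : Function.Injective Φ := fun T T' e =>
    Subtype.ext (Subtype.ext (Subtype.ext (by rw [← hΨ T, ← hΨ T', e])))
  refine (Nat.card_le_card_of_injective Φ hinj).trans_eq ?_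
  rw [Nat.card_sigma, mainTerm, Finset.sum_range]
  refine Finset.sum_congr rfl fun d _ => ?_
  letI := Fintype.ofFinite (TupB F n (n - ((d : ℕ) + 1)))
  rw [Nat.card_sigma, Finset.sum_congr rfl (fun G _ => hM d G), Finset.sum_const, Finset.card_univ, smul_eq_mul,
    Nat.card_eq_fintype_card (α := TupB F n (n - ((d : ℕ) + 1))), mul_comm]

/-- Main reduction: the class number of `SL` by the main term and the exceptional tuples. -/
theorem card_SL_le_main (n : ℕ) [NeZero n] : ∃ w : Tup1 F n → ℕ,
    (∀ (G : Tup1 F n) (i : Fin n), (G.1.1 i).natDegree ≠ 0 → w G ≤ rootsCount F ((i : ℕ) + 1)) ∧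
    (∀ G, w G ≤ Fintype.card F - 1) ∧
    (letI := finite_tup1 (F := F) n; letI := Fintype.ofFinite {T : Tup1 F n // (T.1.1 0).natDegree = 0};
      Nat.card (ConjClasses (Matrix.SpecialLinearGroup (Fin n) F)) ≤
        mainTerm F n n + ∑ T : {T : Tup1 F n // (T.1.1 0).natDegree = 0}, w T.1) := by
  classical
  obtain ⟨w, hw1, hw2, hk⟩ := card_classes_SL_le (F := F) n
  refine ⟨w, hw1, hw2, ?_⟩
  haveI := finite_tup1 (F := F) n
  letI := Fintype.ofFinite (Tup1 F n)
  letI := Fintype.ofFinite {T : Tup1 F n // (T.1.1 0).natDegree = 0}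
  refine le_trans hk ?_
  rw [← Finset.sum_filter_add_sum_filter_not Finset.univ (fun T : Tup1 F n => (T.1.1 0).natDegree = 0), add_comm]
  refine Nat.add_le_add (le_trans (Finset.sum_le_card_nsmul _ _ 1 fun T hT => ?_) ?_) (le_of_eq ?_)
  · refine (hw1 T 0 (Finset.mem_filter.1 hT).2).trans ?_
    simpa using (rootsCount_le (F := F) 1 le_rfl).1
  · rw [smul_eq_mul, mul_one]
    refine le_trans (le_of_eq ?_) (card_main_le (F := F) n)
    rw [Nat.card_eq_fintype_card, Fintype.card_subtype]
  · exact Finset.sum_subtype _ (fun T => by simp) w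

end Cfsg.Lib.ClassNumberSL

namespace Cfsg.Lib.ClassNumberSL

open ClassNumberGL

universe v

variable {F : Type v} [Field F] [Fintype F]

theorem card_SL_general (m : ℕ) :
    Nat.card (ConjClasses (Matrix.SpecialLinearGroup (Fin (m + 5)) F)) ≤
      Fintype.card F ^ (m + 4) + 3 * Fintype.card F ^ (m + 3) := by
  classical
  obtain ⟨w, -, hw2, hk⟩ := card_SL_le_main (F := F) (m + 5)
  haveI := finite_tup1 (F := F) (m + 5)
  haveI := finite_tupB (F := F) (N := m + 5) (m + 5)
  letI := Fintype.ofFinite {T : Tup1 F (m + 5) // (T.1.1 0).natDegree = 0}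
  set q := Fintype.card F with hq
  have hq2 : 2 ≤ q := Fintype.one_lt_card
  set W := mainTerm F (m + 5) (m + 5) with hW
  set B := Nat.card (TupB F (m + 5) (m + 5)) with hB
  have hB1 : Nat.card (ConjClasses (Matrix.SpecialLinearGroup (Fin (m + 5)) F)) ≤ W + (q - 1) * B := by
    refine hk.trans (Nat.add_le_add_left ?_ _)
    refine (Finset.sum_le_card_nsmul _ _ (q - 1) fun T _ => hw2 T.1).trans ?_
    rw [smul_eq_mul, mul_comm, Finset.card_univ, ← Nat.card_eq_fintype_card]
    refine Nat.mul_le_mul_left _ (Nat.card_le_card_of_injective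
      (fun T => (⟨T.1.1, T.2⟩ : TupB F (m + 5) (m + 5))) ?_)
    intro T T' e
    exact Subtype.ext (Subtype.ext (congrArg (fun x : TupB F (m + 5) (m + 5) => x.1) e : T.1.1 = T'.1.1))
  have hmass := mass_le (F := F) (N := m + 5) (m + 5) (by omega)
  have hlow : q ^ (m + 4) + q ^ (m + 2) * (q - 1) + q ^ (m + 1) * (q - 1) + q ^ m * (q ^ 2 - 1) ≤ W := by
    have h0 := one_le_tupB_zero (F := F) (N := m + 5)
    have h2 := single_le (F := F) (N := m + 5) ⟨1, by omega⟩ (by simp [Fin.ext_iff]) 0
    have h3 := single_le (F := F) (N := m + 5) ⟨2, by omega⟩ (by simp [Fin.ext_iff]) 0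
    have h4 := four_le (F := F) (N := m + 5) (by omega)
    simp only [pow_zero, mul_one] at h2 h3
    rw [hW, mainTerm, Finset.sum_range_succ, Finset.sum_range_succ, Finset.sum_range_succ, Finset.sum_range_succ,
      Finset.sum_range_succ]
    rw [show m + 5 - (m + 4 + 1) = 0 by omega, show m + 5 - (m + 3 + 1) = 1 by omega,
      show m + 5 - (m + 2 + 1) = 2 by omega, show m + 5 - (m + 1 + 1) = 3 by omega, show m + 5 - (m + 1) = 4 by omega]
    have e4 := Nat.mul_le_mul_left (q ^ m) h4
    have e3 : q ^ (m + 1) * (q - 1) ≤ q ^ (m + 1) * Nat.card (TupB F (m + 5) 3) := Nat.mul_le_mul_left _ h3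
    have e2 : q ^ (m + 2) * (q - 1) ≤ q ^ (m + 2) * Nat.card (TupB F (m + 5) 2) := Nat.mul_le_mul_left _ h2
    have e0 := Nat.mul_le_mul_left (q ^ (m + 4)) h0
    rw [mul_one] at e0
    simp only [← hq] at *
    omega
  obtain ⟨c, hc⟩ := Nat.exists_eq_add_of_le hq2
  rw [show q ^ (m + 2) = q ^ m * q ^ 2 by ring, show q ^ (m + 1) = q ^ m * q by ring,
    show q ^ (m + 4) = q ^ m * q ^ 4 by ring] at hlow
  rw [show q ^ (m + 5) = q ^ m * q ^ 5 by ring] at hmass
  rw [show q ^ (m + 4) = q ^ m * q ^ 4 by ring, show q ^ (m + 3) = q ^ m * q ^ 3 by ring]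
  rw [show q - 1 = c + 1 by omega] at hlow hmass hB1
  rw [show q ^ 2 - 1 = c ^ 2 + 4 * c + 3 by apply Nat.sub_eq_of_eq_add; rw [hc]; ring] at hlow
  rw [hc] at hlow hmass ⊢
  refine hB1.trans ?_
  change (c + 1) * W + B ≤ _ at hmass
  nlinarith [Nat.mul_le_mul_left (c ^ 2 + 2 * c) hlow, Nat.mul_le_mul_left (c + 1) hmass,
    Nat.zero_le ((2 + c) ^ m * ((2 + c) ^ 2 + 2 * (2 + c)))]

theorem card_concentrated_one_le {n : ℕ} [NeZero n] {S : Type*} (G : S → {T : Tup1 F n // (T.1.1 0).natDegree = 0})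
    (hG : Function.Injective G) (i : Fin n) (d : ℕ)
    (h : ∀ s, (∀ j, j ≠ i → ((G s).1.1.1 j).natDegree = 0) ∧ ((G s).1.1.1 i).natDegree = d + 1) :
    Nat.card S ≤ rootsCount F ((i : ℕ) + 1) * Fintype.card F ^ d := by
  refine (card_concentrated_le (fun s => (G s).1.1) (fun s s' e => hG (Subtype.ext (Subtype.ext e))) i d
    (fun a => ((-1 : F) ^ (d + 1) * a) ^ ((i : ℕ) + 1) = 1) fun s => ⟨(h s).1, (h s).2, ?_⟩).trans
    (le_of_eq ?_)
  · have hd := (G s).1.2
    rw [detTup, Finset.prod_eq_single i (fun j _ hj => by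
      rw [eq_one_of_natDegree _ ((h s).1 j hj)]; simp [sgnConst]) (fun hh => absurd (Finset.mem_univ i) hh),
      sgnConst, (h s).2] at hd
    exact hd
  · rw [card_sgnConst]
    rfl

theorem tupB_one (N : ℕ) [NeZero N] : Nat.card (TupB F N 1) = 0 := by
  haveI : IsEmpty (TupB F N 1) := ⟨fun G => by
    have h := G.1.2.2
    have h0 := G.2
    have : ∀ i : Fin N, ((i : ℕ) + 1) * (G.1.1 i).natDegree ≤ 1 := fun i => by
      exact (Finset.single_le_sum (f := fun j : Fin N => ((j : ℕ) + 1) * (G.1.1 j).natDegree)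
        (fun _ _ => Nat.zero_le _) (Finset.mem_univ i)).trans_eq h
    have hz : ∑ i : Fin N, ((i : ℕ) + 1) * (G.1.1 i).natDegree = 0 := Finset.sum_eq_zero fun i _ => by
      by_cases hi : i = 0
      · rw [hi, h0, mul_zero]
      · have hi' : (i : ℕ) ≠ 0 := fun e => hi (Fin.ext e)
        have := this i
        rcases Nat.eq_zero_or_pos (G.1.1 i).natDegree with e | e
        · rw [e, mul_zero]
        · have := Nat.le_mul_of_pos_right ((i : ℕ) + 1) e
          omega
    omega⟩
  exact Nat.card_of_isEmpty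

theorem tupB_zero_le (N : ℕ) [NeZero N] : Nat.card (TupB F N 0) ≤ 1 := by
  haveI := (tup_card F N).1 0
  exact le_trans (Nat.card_le_card_of_injective (fun G : TupB F N 0 => G.1) fun a b e => Subtype.ext e) (tup_card F N).2.1

theorem card_SL_two : Nat.card (ConjClasses (Matrix.SpecialLinearGroup (Fin 2) F)) ≤
    Fintype.card F + rootsCount F 2 * rootsCount F 2 := by
  classical
  obtain ⟨w, hw1, -, hk⟩ := card_SL_le_main (F := F) 2
  haveI := finite_tup1 (F := F) 2
  letI := Fintype.ofFinite {T : Tup1 F 2 // (T.1.1 0).natDegree = 0}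
  have hshape : ∀ T : {T : Tup1 F 2 // (T.1.1 0).natDegree = 0},
      (∀ j, j ≠ 1 → (T.1.1.1 j).natDegree = 0) ∧ (T.1.1.1 1).natDegree = 0 + 1 := fun T => by
    have h := T.1.1.2.2
    have h0 := T.2
    simp [Fin.sum_univ_two] at h
    refine ⟨fun j hj => ?_, by omega⟩
    fin_cases j
    · exact h0
    · exact absurd rfl hj
  refine hk.trans (Nat.add_le_add ?_ ?_)
  · simp only [mainTerm, Finset.sum_range_succ, Finset.sum_range_zero, zero_add, pow_zero, one_mul, pow_one]
    rw [show (2 : ℕ) - 1 = 1 from rfl, show (2 : ℕ) - (1 + 1) = 0 from rfl, tupB_one, zero_add]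
    exact (Nat.mul_le_mul_left _ (tupB_zero_le 2)).trans_eq (mul_one _)
  · refine (Finset.sum_le_card_nsmul _ _ (rootsCount F 2) fun T _ => hw1 T.1 1 (by rw [(hshape T).2]; omega)).trans ?_
    rw [smul_eq_mul, Finset.card_univ, ← Nat.card_eq_fintype_card]
    exact Nat.mul_le_mul_right _ ((card_concentrated_one_le id Function.injective_id 1 0 hshape).trans_eq (by simp))

theorem tupB_two_le (N : ℕ) [NeZero N] (hN : 2 ≤ N) (hN4 : N ≤ 4) :
    Nat.card (TupB F N 2) ≤ Fintype.card F - 1 := by
  classical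
  obtain rfl | rfl | rfl : N = 2 ∨ N = 3 ∨ N = 4 := by omega
  all_goals
    refine (card_concentrated_le (fun G : TupB F _ 2 => G.1) (fun a b e => Subtype.ext e) 1 0 (fun a => a ≠ 0)
      fun G => ?_).trans_eq ?_
    · have h := G.1.2.2
      have h0 := G.2
      simp [Fin.sum_univ_two, Fin.sum_univ_three, Fin.sum_univ_four] at h
      refine ⟨fun j hj => ?_, by omega, (G.1.2.1 1).2⟩
      fin_cases j <;> first | exact h0 | exact absurd rfl hj | (simp only [Fin.reduceFinMk] at *; omega)
    · rw [pow_zero, mul_one, Nat.card_eq_fintype_card, Fintype.card_subtype_compl, Fintype.card_subtype_eq]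

theorem tupB_three_le : Nat.card (TupB F 4 3) ≤ Fintype.card F - 1 := by
  classical
  refine (card_concentrated_le (fun G : TupB F 4 3 => G.1) (fun a b e => Subtype.ext e) 2 0 (fun a => a ≠ 0)
    fun G => ?_).trans_eq ?_
  · have h := G.1.2.2
    have h0 := G.2
    simp [Fin.sum_univ_four] at h
    refine ⟨fun j hj => ?_, by omega, (G.1.2.1 2).2⟩
    fin_cases j <;> first | exact h0 | exact absurd rfl hj | (simp only [Fin.reduceFinMk] at *; omega)
  · rw [pow_zero, mul_one, Nat.card_eq_fintype_card, Fintype.card_subtype_compl, Fintype.card_subtype_eq]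

theorem card_SL_three : Nat.card (ConjClasses (Matrix.SpecialLinearGroup (Fin 3) F)) ≤
    Fintype.card F ^ 2 + (Fintype.card F - 1) + rootsCount F 3 * rootsCount F 3 := by
  classical
  obtain ⟨w, hw1, -, hk⟩ := card_SL_le_main (F := F) 3
  haveI := finite_tup1 (F := F) 3
  letI := Fintype.ofFinite {T : Tup1 F 3 // (T.1.1 0).natDegree = 0}
  have hshape : ∀ T : {T : Tup1 F 3 // (T.1.1 0).natDegree = 0},
      (∀ j, j ≠ 2 → (T.1.1.1 j).natDegree = 0) ∧ (T.1.1.1 2).natDegree = 0 + 1 := fun T => by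
    have h := T.1.1.2.2
    have h0 := T.2
    simp [Fin.sum_univ_three] at h
    refine ⟨fun j hj => ?_, by omega⟩
    fin_cases j <;> first | exact h0 | exact absurd rfl hj | (simp only [Fin.reduceFinMk] at *; omega)
  refine hk.trans (Nat.add_le_add ?_ ?_)
  · simp only [mainTerm, Finset.sum_range_succ, Finset.sum_range_zero, zero_add, pow_zero, one_mul, pow_one]
    rw [show (3 : ℕ) - 1 = 2 from rfl, show (3 : ℕ) - (1 + 1) = 1 from rfl, show (3 : ℕ) - (2 + 1) = 0 from rfl,
      tupB_one, mul_zero, add_zero, add_comm]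
    exact Nat.add_le_add ((Nat.mul_le_mul_left _ (tupB_zero_le 3)).trans_eq (mul_one _))
      (tupB_two_le 3 (by omega) (by omega))
  · refine (Finset.sum_le_card_nsmul _ _ (rootsCount F 3) fun T _ => hw1 T.1 2 (by rw [(hshape T).2]; omega)).trans ?_
    rw [smul_eq_mul, Finset.card_univ, ← Nat.card_eq_fintype_card]
    exact Nat.mul_le_mul_right _ ((card_concentrated_one_le id Function.injective_id 2 0 hshape).trans_eq (by simp))

theorem card_SL_four : Nat.card (ConjClasses (Matrix.SpecialLinearGroup (Fin 4) F)) ≤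
    Fintype.card F ^ 3 + Fintype.card F * (Fintype.card F - 1) + (Fintype.card F - 1) +
      (rootsCount F 2 * (rootsCount F 2 * Fintype.card F) + rootsCount F 4 * rootsCount F 4) := by
  classical
  obtain ⟨w, hw1, -, hk⟩ := card_SL_le_main (F := F) 4
  haveI := finite_tup1 (F := F) 4
  letI := Fintype.ofFinite {T : Tup1 F 4 // (T.1.1 0).natDegree = 0}
  have hcase : ∀ T : {T : Tup1 F 4 // (T.1.1 0).natDegree = 0},
      ((∀ j, j ≠ 1 → (T.1.1.1 j).natDegree = 0) ∧ (T.1.1.1 1).natDegree = 1 + 1) ∨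
      ((∀ j, j ≠ 3 → (T.1.1.1 j).natDegree = 0) ∧ (T.1.1.1 3).natDegree = 0 + 1) := fun T => by
    have h := T.1.1.2.2
    have h0 := T.2
    simp [Fin.sum_univ_four] at h
    rcases Nat.eq_zero_or_pos (T.1.1.1 3).natDegree with e | e
    · refine Or.inl ⟨fun j hj => ?_, by omega⟩
      fin_cases j <;> first | exact h0 | exact absurd rfl hj | exact e | (simp only [Fin.reduceFinMk] at *; omega)
    · refine Or.inr ⟨fun j hj => ?_, by omega⟩
      fin_cases j <;> first | exact h0 | exact absurd rfl hj | (simp only [Fin.reduceFinMk] at *; omega)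
  refine hk.trans (Nat.add_le_add ?_ ?_)
  · simp only [mainTerm, Finset.sum_range_succ, Finset.sum_range_zero, zero_add, pow_zero, one_mul, pow_one]
    rw [show (4 : ℕ) - 1 = 3 from rfl, show (4 : ℕ) - (1 + 1) = 2 from rfl, show (4 : ℕ) - (2 + 1) = 1 from rfl,
      show (4 : ℕ) - (3 + 1) = 0 from rfl, tupB_one, mul_zero, add_zero]
    have e0 := Nat.mul_le_mul_left (Fintype.card F ^ 3) (tupB_zero_le (F := F) 4)
    have e2 := Nat.mul_le_mul_left (Fintype.card F) (tupB_two_le (F := F) 4 (by omega) (by omega))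
    have e3 := tupB_three_le (F := F)
    rw [mul_one] at e0
    omega
  · rw [← Finset.sum_filter_add_sum_filter_not Finset.univ
      (fun T : {T : Tup1 F 4 // (T.1.1 0).natDegree = 0} => (T.1.1.1 1).natDegree = 2)]
    refine Nat.add_le_add ?_ ?_
    · refine (Finset.sum_le_card_nsmul _ _ (rootsCount F 2) fun T hT => hw1 T.1 1 (by
        rw [(Finset.mem_filter.1 hT).2]; omega)).trans ?_
      rw [smul_eq_mul, mul_comm]
      refine Nat.mul_le_mul_left _ ?_
      rw [← Fintype.card_subtype, ← Nat.card_eq_fintype_card]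
      refine (card_concentrated_one_le Subtype.val Subtype.val_injective 1 1 fun T => ?_).trans_eq (by simp)
      rcases hcase T.1 with h | h
      · exact h
      · exact absurd T.2 (by rw [h.1 1 (by decide)]; omega)
    · have hb : ∀ T : {T : Tup1 F 4 // (T.1.1 0).natDegree = 0}, ¬ (T.1.1.1 1).natDegree = 2 →
          (∀ j, j ≠ 3 → (T.1.1.1 j).natDegree = 0) ∧ (T.1.1.1 3).natDegree = 0 + 1 := fun T hT => by
        rcases hcase T with h | h
        · exact absurd h.2 hT
        · exact h
      refine (Finset.sum_le_card_nsmul _ _ (rootsCount F 4) fun T hT => hw1 T.1 3 (by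
        rw [(hb T (Finset.mem_filter.1 hT).2).2]; omega)).trans ?_
      rw [smul_eq_mul]
      refine Nat.mul_le_mul_right _ ?_
      rw [← Fintype.card_subtype, ← Nat.card_eq_fintype_card]
      exact (card_concentrated_one_le Subtype.val Subtype.val_injective 3 0 fun T => hb T.1 T.2).trans_eq (by simp)

theorem lt_card_SL (n : ℕ) (hn : 2 ≤ n) :
    Fintype.card F ^ (n - 1) < Nat.card (ConjClasses (Matrix.SpecialLinearGroup (Fin n) F)) := by
  classical
  obtain ⟨p, hp⟩ := CharP.exists F
  haveI : Fact p.Prime := ⟨CharP.char_is_prime F p⟩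
  let S := {f : F[X] // f.Monic ∧ f.natDegree = n ∧ f.coeff 0 = (-1 : F) ^ n}
  have hne : ((-1 : F) ^ n) ≠ 0 := pow_ne_zero _ (neg_ne_zero.2 one_ne_zero)
  have hS : Nat.card S = Fintype.card F ^ (n - 1) := by
    have h := SemisimpleCharpoly.card_monic (n - 1) (fun a : F => a = (-1 : F) ^ n)
    rw [Nat.sub_add_cancel (by omega)] at h
    rw [show Nat.card S = _ from h, Nat.card_eq_fintype_card, Nat.card_eq_fintype_card,
      Fintype.card_subtype_eq, one_mul]
  have hge := fun f : S => SemisimpleCharpoly.exists_GL p f.1 f.2.1 f.2.2.1 (by rw [f.2.2.2]; exact hne)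
  choose g hg1 hg2 using hge
  have hd : ∀ f, (g f : Matrix (Fin n) (Fin n) F).det = 1 := fun f => by
    rw [Matrix.det_eq_sign_charpoly_coeff, hg2, f.2.2.2, Fintype.card_fin, ← mul_pow]
    simp
  let s : S → Matrix.SpecialLinearGroup (Fin n) F := fun f => ⟨(g f : Matrix (Fin n) (Fin n) F), hd f⟩
  have hij : (⟨0, by omega⟩ : Fin n) ≠ ⟨1, by omega⟩ := by simp [Fin.ext_iff]
  let t : Matrix.SpecialLinearGroup (Fin n) F :=
    ⟨Matrix.transvection ⟨0, by omega⟩ ⟨1, by omega⟩ 1, Matrix.det_transvection_of_ne _ _ hij 1⟩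
  have hpow : ∀ k : ℕ, ((t ^ k : Matrix.SpecialLinearGroup (Fin n) F) : Matrix (Fin n) (Fin n) F) =
      Matrix.transvection ⟨0, by omega⟩ ⟨1, by omega⟩ (k : F) := by
    intro k
    induction k with
    | zero => simp
    | succ k ih =>
      rw [pow_succ, Matrix.SpecialLinearGroup.coe_mul, ih]
      show Matrix.transvection _ _ (k : F) * Matrix.transvection _ _ 1 = _
      rw [Matrix.transvection_mul_transvection_same _ _ hij, Nat.cast_succ]
  have htp : t ^ p = 1 := Subtype.ext (by
    rw [hpow, CharP.cast_eq_zero, Matrix.transvection_zero]; rfl)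
  have ht1 : t ≠ 1 := fun e => by
    have := congrFun (congrFun (congrArg Subtype.val e) ⟨0, by omega⟩) ⟨1, by omega⟩
    simp [t, Matrix.transvection, Matrix.single, hij] at this
  let φ : Option S → ConjClasses (Matrix.SpecialLinearGroup (Fin n) F) :=
    fun o => ConjClasses.mk (o.elim t s)
  have hφ : Function.Injective φ := by
    have key : ∀ f, ¬ IsConj (s f) t := by
      intro f hc
      obtain ⟨c, hc⟩ := isConj_iff.1 hc
      have h1 : orderOf (s f) = orderOf t := by
        rw [← hc]
        exact (orderOf_injective (MulAut.conj c).toMonoidHom (MulAut.conj c).injective (s f)).symm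
      have h2 : orderOf (s f) = orderOf (g f) := by
        rw [← orderOf_injective Matrix.SpecialLinearGroup.toGL Matrix.SpecialLinearGroup.toGL_injective (s f)]
        congr 1
        exact Units.ext rfl
      have h3 : orderOf t = p := orderOf_eq_prime htp ht1
      have := hg1 f
      rw [← h2, h1, h3, Nat.coprime_self] at this
      exact (Fact.out : p.Prime).one_lt.ne' this
    have same : ∀ f f', IsConj (s f) (s f') → f = f' := by
      intro f f' hc
      obtain ⟨c, hc⟩ := isConj_iff.1 hc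
      apply Subtype.ext
      have h := congrArg (fun x : Matrix.SpecialLinearGroup (Fin n) F => (Matrix.SpecialLinearGroup.toGL x : Matrix (Fin n) (Fin n) F).charpoly) hc
      simp only [map_mul, map_inv, Units.val_mul] at h
      rw [Matrix.coe_units_inv, Matrix.charpoly_units_conj] at h
      rw [← hg2 f, ← hg2 f']
      exact h
    rintro (_ | f) (_ | f') e
    · rfl
    · exact absurd (ConjClasses.mk_eq_mk_iff_isConj.1 e).symm (key f')
    · exact absurd (ConjClasses.mk_eq_mk_iff_isConj.1 e) (key f)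
    · exact congrArg some (same f f' (ConjClasses.mk_eq_mk_iff_isConj.1 e))
  have h := Nat.card_le_card_of_injective φ hφ
  haveI : Finite S := Nat.finite_of_card_ne_zero (by
    rw [hS]; exact pow_ne_zero _ (by have := Fintype.one_lt_card (α := F); omega))
  rw [Finite.card_option, hS] at h
  omega

theorem card_SL_bounds (n : ℕ) (hn : 2 ≤ n) :
    Fintype.card F ^ (n - 1) < Nat.card (ConjClasses (Matrix.SpecialLinearGroup (Fin n) F)) ∧
    2 * Nat.card (ConjClasses (Matrix.SpecialLinearGroup (Fin n) F)) ≤ 5 * Fintype.card F ^ (n - 1) ∧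
      (3 ≤ n → Nat.card (ConjClasses (Matrix.SpecialLinearGroup (Fin n) F)) ≤
        Fintype.card F ^ (n - 1) + 3 * Fintype.card F ^ (n - 2)) := by
  have hq2 : 2 ≤ Fintype.card F := Fintype.one_lt_card
  have main : 3 ≤ n → Nat.card (ConjClasses (Matrix.SpecialLinearGroup (Fin n) F)) ≤
      Fintype.card F ^ (n - 1) + 3 * Fintype.card F ^ (n - 2) := by
    intro h3
    rcases (show n = 3 ∨ n = 4 ∨ 5 ≤ n by omega) with rfl | rfl | h5
    · refine card_SL_three.trans ?_
      obtain ⟨h1, h2⟩ := rootsCount_le (F := F) 3 (by omega)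
      simp only [show (3 : ℕ) - 1 = 2 from rfl, show (3 : ℕ) - 2 = 1 from rfl, pow_one]
      have hr := Nat.mul_le_mul h1 h1
      have hr' := Nat.mul_le_mul h2 h2
      rcases (show Fintype.card F = 2 ∨ Fintype.card F = 3 ∨ 4 ≤ Fintype.card F by omega) with e | e | e
      · rw [e] at hr' ⊢; omega
      · rw [e] at hr' ⊢; omega
      · omega
    · refine card_SL_four.trans ?_
      obtain ⟨h1, h2⟩ := rootsCount_le (F := F) 4 (by omega)
      obtain ⟨g1, g2⟩ := rootsCount_le (F := F) 2 (by omega)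
      simp only [show (4 : ℕ) - 1 = 3 from rfl, show (4 : ℕ) - 2 = 2 from rfl]
      have hr := Nat.mul_le_mul h1 h1
      have hr' := Nat.mul_le_mul h2 h2
      have gr := Nat.mul_le_mul g1 (Nat.mul_le_mul_right (Fintype.card F) g1)
      have gr' := Nat.mul_le_mul g2 (Nat.mul_le_mul_right (Fintype.card F) g2)
      rcases (show Fintype.card F = 2 ∨ Fintype.card F = 3 ∨ 4 ≤ Fintype.card F by omega) with e | e | e
      · rw [e] at hr' gr' ⊢; omega
      · rw [e] at hr' gr' ⊢; omega
      · obtain ⟨c, hc⟩ := Nat.exists_eq_add_of_le e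
        rw [hc] at gr ⊢
        rw [show 4 + c - 1 = c + 3 by omega]
        nlinarith
    · obtain ⟨m, rfl⟩ := Nat.exists_eq_add_of_le h5
      rw [add_comm 5 m]
      exact card_SL_general m
  refine ⟨lt_card_SL n hn, ?_, main⟩
  rcases (show n = 2 ∨ 3 ≤ n by omega) with rfl | h3
  · have h := card_SL_two (F := F)
    obtain ⟨g1, g2⟩ := rootsCount_le (F := F) 2 (by omega)
    have hr := Nat.mul_le_mul g1 g1
    have hr' := Nat.mul_le_mul g2 g2
    simp only [show (2 : ℕ) - 1 = 1 from rfl, pow_one]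
    rcases (show Fintype.card F = 2 ∨ 3 ≤ Fintype.card F by omega) with e | e
    · rw [e] at hr' h ⊢; omega
    · omega
  · have h := main h3
    rw [show n - 1 = (n - 2) + 1 by omega, pow_succ] at h ⊢
    nlinarith

end Cfsg.Lib.ClassNumberSL
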