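import Cfsg.Agent.Known.PrimeOrderPoly
import Mathlib

/-! Self-dual polynomials whose roots are `r`-th roots of unity. -/

set_option autoImplicit false
set_option linter.style.haveILetI false
set_option linter.unusedSectionVars false

open Polynomial UniqueFactorizationMonoid

namespace Cfsg.Lib.DualPoly

open PrimeOrderPoly

variable {F : Type*} [Field F]

/-- The polynomial whose roots are the inverses of the conjugated roots. -/
noncomputable def dual (σ : F →+* F) (f : F[X]) : F[X] := C (σ (f.coeff 0))⁻¹ * (f.map σ).reverse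

variable {σ : F →+* F}

theorem dual_mul (f g : F[X]) : dual σ (f * g) = dual σ f * dual σ g := by
  rw [dual, dual, dual, Polynomial.map_mul, reverse_mul_of_domain, mul_coeff_zero, map_mul, mul_inv, map_mul]
  ring

theorem dual_C_one : dual σ (1 : F[X]) = 1 := by
  rw [dual, Polynomial.map_one, coeff_one_zero, map_one, inv_one, C_1, one_mul, ← C_1, reverse_C]

theorem dual_prod (M : Multiset F[X]) : dual σ M.prod = (M.map (dual σ)).prod := by
  induction M using Multiset.induction with
  | empty => simp [dual_C_one]
  | cons a M ih => rw [Multiset.prod_cons, Multiset.map_cons, Multiset.prod_cons, dual_mul, ih]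

theorem dual_monic {f : F[X]} (h0 : f.coeff 0 ≠ 0) : (dual σ f).Monic := by
  have h : (f.map σ).coeff 0 ≠ 0 := by rw [coeff_map]; simpa using h0
  rw [dual, Monic, leadingCoeff_mul, leadingCoeff_C, reverse_leadingCoeff, trailingCoeff,
    natTrailingDegree_eq_zero.2 (Or.inr h), coeff_map, inv_mul_cancel₀]
  simpa using h0

theorem dual_coeff_zero {f : F[X]} (hf : f.Monic) : (dual σ f).coeff 0 = (σ (f.coeff 0))⁻¹ := by
  rw [dual, coeff_C_mul, coeff_zero_reverse, (hf.map σ).leadingCoeff, mul_one]

theorem dual_natDegree {f : F[X]} (h0 : f.coeff 0 ≠ 0) : (dual σ f).natDegree = f.natDegree := by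
  have h : (f.map σ).coeff 0 ≠ 0 := by rw [coeff_map]; simpa using h0
  rw [dual, natDegree_C_mul (inv_ne_zero (by simpa using h0)), reverse_natDegree, natTrailingDegree_eq_zero.2 (Or.inr h),
    Nat.sub_zero, natDegree_map]

theorem dual_dual (hσ : ∀ a, σ (σ a) = a) {f : F[X]} (hf : f.Monic) (h0 : f.coeff 0 ≠ 0) :
    dual σ (dual σ f) = f := by
  ext k
  conv_lhs => rw [dual, dual_coeff_zero hf, coeff_C_mul, coeff_reverse, coeff_map, natDegree_map, dual_natDegree h0, dual,
    coeff_C_mul, coeff_reverse, coeff_map, natDegree_map]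
  rw [Polynomial.revAt_invol, map_inv₀, hσ, inv_inv, map_mul, map_inv₀, hσ, hσ, ← mul_assoc, mul_inv_cancel₀ h0, one_mul]

theorem dual_X_sub_one : dual σ (X - C (1 : F)) = X - C 1 := by
  ext k
  simp only [dual, coeff_C_mul, coeff_reverse, coeff_map, natDegree_map, natDegree_X_sub_C]
  rcases k with _ | _ | k
  · rw [revAt_le (by omega)]; simp [coeff_X, coeff_one]
  · rw [revAt_le le_rfl]; simp [coeff_X, coeff_one]
  · rw [revAt_eq_self_of_lt (by omega)]; simp [coeff_X, coeff_one]

theorem dual_irreducible (hσ : ∀ a, σ (σ a) = a) {g : F[X]} (hg : g.Monic) (hgi : Irreducible g) (h0 : g.coeff 0 ≠ 0) :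
    Irreducible (dual σ g) := by
  have hm := dual_monic (σ := σ) h0
  refine hm.irreducible_iff_natDegree.2 ⟨fun e => ?_, fun u v hu hv huv => ?_⟩
  · have := hgi.natDegree_pos
    rw [← dual_natDegree (σ := σ) h0, e, natDegree_one] at this
    omega
  · have h00 : (dual σ g).coeff 0 ≠ 0 := by rw [dual_coeff_zero hg]; simpa using h0
    rw [← huv, mul_coeff_zero] at h00
    have e : g = dual σ u * dual σ v := by rw [← dual_mul, huv, dual_dual hσ hg h0]
    rcases hgi.isUnit_or_isUnit e with h | h
    · left; rw [← dual_natDegree (σ := σ) (left_ne_zero_of_mul h00)]; exact natDegree_eq_zero_of_isUnit h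
    · right; rw [← dual_natDegree (σ := σ) (right_ne_zero_of_mul h00)]; exact natDegree_eq_zero_of_isUnit h

variable [Fintype F] {p r : ℕ} [Fact p.Prime] [CharP F p] [Fact r.Prime]

theorem coeff_zero_factor {g : F[X]} (hg : g ∈ factorSet F r) : g.coeff 0 ≠ 0 := fun h => by
  obtain ⟨-, -, hd⟩ := mem_factorSet g hg
  obtain ⟨c, hc⟩ := hd
  have e := congrArg (fun f => f.coeff 0) hc
  simp only [mul_coeff_zero, h, zero_mul, cyclotomic_coeff_zero F (Fact.out : r.Prime).one_lt] at e
  exact one_ne_zero e

theorem dual_mem (hσ : ∀ a, σ (σ a) = a) (hrp : r ≠ p) {g : F[X]} (hg : g ∈ factorSet F r) : dual σ g ∈ factorSet F r := by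
  obtain ⟨hm, hi, hd⟩ := mem_factorSet g hg
  have h0 := coeff_zero_factor hg
  refine ((irreducible_dvd _ (dual_monic h0) (dual_irreducible hσ hm hi h0)).1 ?_).resolve_left fun e => one_notMem (F := F) hrp ?_
  · obtain ⟨c, hc⟩ := hd.trans (cyclotomic.dvd_X_pow_sub_one r F)
    have hr1 : (1 : ℕ) ≤ r := (Fact.out : r.Prime).one_le
    have hX : dual σ (X ^ r - 1 : F[X]) = X ^ r - 1 := by
      ext k
      simp only [dual, coeff_C_mul, coeff_reverse, coeff_map, natDegree_map]
      rw [← C_1, natDegree_X_pow_sub_C]
      have h0r : ¬ (0 = r) := (Fact.out : r.Prime).ne_zero.symm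
      have hr0 : ¬ (r = 0) := (Fact.out : r.Prime).ne_zero
      rcases Nat.eq_zero_or_pos k with rfl | hk
      · rw [revAt_le (by omega)]; simp [coeff_X_pow, coeff_one, h0r, hr0]
      · rcases lt_trichotomy k r with hkr | rfl | hkr
        · rw [revAt_le hkr.le]; simp [coeff_X_pow, coeff_one, h0r, hkr.ne, hk.ne', show ¬ r - k = r by omega, show ¬ r - k = 0 by omega]
        · rw [revAt_le le_rfl]; simp [coeff_X_pow, coeff_one, h0r, hr0]
        · rw [revAt_eq_self_of_lt hkr]; simp [coeff_X_pow, coeff_one, h0r, hkr.ne', hk.ne']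
    exact ⟨dual σ c, by rw [← dual_mul, ← hc, hX]⟩
  · rw [← dual_X_sub_one (σ := σ), ← e, dual_dual hσ hm h0]; exact hg

/-- The fixed factors: all of them or none. -/
theorem dual_fixed_iff (hσ : ∀ a, σ (σ a) = a) {k : ℕ} (hk : ∀ a, σ a = a ^ p ^ k) (hrp : r ≠ p) {g : F[X]}
    (hg : g ∈ factorSet F r) : dual σ g = g ↔ ∃ j : ℕ, r ∣ Fintype.card F ^ j + p ^ k := by
  obtain ⟨hm, hgi, hd⟩ := mem_factorSet g hg
  haveI := Fact.mk hgi
  haveI : Module.Finite F (AdjoinRoot g) := hm.finite_adjoinRoot
  haveI : Finite (AdjoinRoot g) := Module.finite_of_finite F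
  haveI : CharP (AdjoinRoot g) p := charP_of_injective_algebraMap (algebraMap F (AdjoinRoot g)).injective p
  set ζ := AdjoinRoot.root g with hζ
  have hz : aeval ζ g = 0 := by rw [hζ, AdjoinRoot.aeval_eq, AdjoinRoot.mk_self]
  have hζr : ζ ^ r = 1 := by
    obtain ⟨c, hc⟩ := hd.trans (cyclotomic.dvd_X_pow_sub_one r F)
    have := congrArg (aeval ζ) hc
    rw [map_mul, hz, zero_mul, map_sub, map_pow, aeval_X, map_one, sub_eq_zero] at this
    exact this
  have hζ1 : ζ ≠ 1 := fun h => by
    apply one_notMem hrp (F := F)
    have hdd : g ∣ X - C 1 := by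
      rw [← AdjoinRoot.mk_eq_zero, map_sub, AdjoinRoot.mk_X, ← hζ, h, C_1, map_one, sub_self]
    rwa [← eq_of_monic_of_associated hm (monic_X_sub_C 1) (hgi.associated_of_dvd (irreducible_X_sub_C 1) hdd)]
  have hord : orderOf ζ = r := orderOf_eq_prime hζr hζ1
  have hζ0 : ζ ≠ 0 := fun h => by rw [h, zero_pow (Fact.out : r.Prime).ne_zero] at hζr; exact zero_ne_one hζr
  set η := (ζ ^ p ^ k)⁻¹ with hη
  have hdualη : aeval η (dual σ g) = 0 := by
    have h1 : aeval (ζ ^ p ^ k) (g.map σ) = 0 := by
      have e : (iterateFrobenius (AdjoinRoot g) p k) (aeval ζ g) = aeval (ζ ^ p ^ k) (g.map σ) := by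
        rw [aeval_def, hom_eval₂, aeval_def, eval₂_map, iterateFrobenius_def]
        congr 1
        refine RingHom.ext fun a => ?_
        rw [RingHom.comp_apply, RingHom.comp_apply, iterateFrobenius_def, hk, map_pow]
      rw [← e, hz, map_zero]
    rw [dual, map_mul, aeval_def η, aeval_def η]
    letI : Invertible (ζ ^ p ^ k) := invertibleOfNonzero (pow_ne_zero _ hζ0)
    have h2 := (eval₂_reverse_eq_zero_iff (algebraMap F (AdjoinRoot g)) (ζ ^ p ^ k) (g.map σ)).2 h1
    rw [invOf_eq_inv] at h2
    rw [hη, h2, mul_zero]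
  constructor
  · intro h
    rw [h] at hdualη
    let φ : AdjoinRoot g →ₐ[F] AdjoinRoot g := AdjoinRoot.liftAlgHom g (Algebra.ofId F (AdjoinRoot g)) η hdualη
    obtain ⟨j, hj⟩ := (FiniteField.bijective_frobeniusAlgHom_pow F (AdjoinRoot g)).2 φ
    refine ⟨j, hord ▸ orderOf_dvd_of_pow_eq_one ?_⟩
    have e : η = ζ ^ Fintype.card F ^ (j : ℕ) := by
      have h1 : φ ζ = η := AdjoinRoot.liftAlgHom_root _ _ _ _
      rw [← h1, ← hj]
      simp only [AlgHom.coe_pow, FiniteField.coe_frobeniusAlgHom, pow_iterate]
    rw [pow_add, ← e, hη, inv_mul_cancel₀ (pow_ne_zero _ hζ0)]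
  · rintro ⟨j, hj⟩
    have e : η = ζ ^ Fintype.card F ^ j := by
      rw [← hord, orderOf_dvd_iff_pow_eq_one, pow_add] at hj
      rw [hη]
      exact (eq_inv_of_mul_eq_one_left hj).symm
    have hgη : aeval η g = 0 := by
      rw [e]
      clear hj e
      induction j with
      | zero => rw [pow_zero, pow_one]; exact hz
      | succ j ih =>
        rw [pow_succ, pow_mul]
        have := congrArg (FiniteField.frobeniusAlgHom F (AdjoinRoot g)) ih
        rw [map_zero, ← aeval_algHom_apply] at this
        exact this
    obtain ⟨hm', hi', -⟩ := mem_factorSet _ (dual_mem hσ hrp hg)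
    exact (minpoly.eq_of_irreducible_of_monic hi' hdualη hm').trans (minpoly.eq_of_irreducible_of_monic hgi hgη hm).symm

open scoped Classical in
/-- Products of atoms. -/
theorem card_atoms {A : Type*} [Fintype A] (w : A → Multiset F[X]) (u : A → F[X]) {D : ℕ} (hD : 0 < D)
    (hw : ∀ a, ∀ g ∈ w a, g.Monic ∧ Irreducible g ∧ g ≠ X - C 1) (hdeg : ∀ a, ((w a).map natDegree).sum = D)
    (hu : ∀ a, u a ≠ X - C 1) (hcount : ∀ a b, Multiset.count (u a) (w b) = if a = b then 1 else 0) (n : ℕ) :
    Nat.card {f : F[X] // ∃ M : Multiset A, D * Multiset.card M ≤ n ∧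
      f = (X - C 1) ^ (n - D * Multiset.card M) * (M.bind w).prod} = Nat.choose (n / D + Fintype.card A) (Fintype.card A) := by
  classical
  set N := n / D with hN
  let T := {f : F[X] // ∃ M : Multiset A, D * Multiset.card M ≤ n ∧
      f = (X - C 1) ^ (n - D * Multiset.card M) * (M.bind w).prod}
  have hle : ∀ M : Multiset A, D * Multiset.card M ≤ n ↔ Multiset.card M ≤ N := fun M => by
    rw [hN, Nat.le_div_iff_mul_le hD, mul_comm]
  let Φ : {M : Multiset A // Multiset.card M ≤ N} → T := fun M => ⟨_, M.1, (hle _).2 M.2, rfl⟩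
  have hΦ : Function.Bijective Φ := by
    constructor
    · intro M M' h
      have h' := congrArg normalizedFactors (congrArg Subtype.val h)
      have hnf : ∀ M : Multiset A, normalizedFactors ((X - C (1 : F)) ^ (n - D * Multiset.card M) * (M.bind w).prod) =
          Multiset.replicate (n - D * Multiset.card M) (X - C 1) + M.bind w := fun M => by
        rw [← Multiset.prod_replicate, ← Multiset.prod_add, normalizedFactors_prod_eq]
        · conv_rhs => rw [← Multiset.map_id (Multiset.replicate (n - D * Multiset.card M) (X - C (1 : F)) + M.bind w)]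
          refine Multiset.map_congr rfl fun g hg => ?_
          rcases Multiset.mem_add.1 hg with h | h
          · rw [Multiset.eq_of_mem_replicate h]; exact (monic_X_sub_C 1).normalize_eq_self
          · obtain ⟨a, -, ha⟩ := Multiset.mem_bind.1 h
            exact (hw a g ha).1.normalize_eq_self
        · intro g hg
          rcases Multiset.mem_add.1 hg with h | h
          · rw [Multiset.eq_of_mem_replicate h]; exact irreducible_X_sub_C 1
          · obtain ⟨a, -, ha⟩ := Multiset.mem_bind.1 h
            exact (hw a g ha).2.1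
      have hc : ∀ (M : Multiset A) a, Multiset.count (u a) (Multiset.replicate (n - D * Multiset.card M) (X - C 1) + M.bind w) =
          Multiset.count a M := fun M a => by
        rw [Multiset.count_add, Multiset.count_replicate, if_neg (Ne.symm (hu a)), zero_add]
        induction M using Multiset.induction with
        | empty => simp
        | cons b M ih => rw [Multiset.cons_bind, Multiset.count_add, ih, hcount, Multiset.count_cons, add_comm]
      refine Subtype.ext (Multiset.ext.2 fun a => ?_)
      rw [← hc M.1 a, ← hc M'.1 a, ← hnf M.1, ← hnf M'.1]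
      exact congrArg (Multiset.count (u a)) h'
    · rintro ⟨f, M, hM, rfl⟩
      exact ⟨⟨M, (hle M).1 hM⟩, rfl⟩
  let Ψ : {M : Multiset A // Multiset.card M ≤ N} ≃ Sym (Option A) N :=
    { toFun := fun M => ⟨Multiset.replicate (N - Multiset.card M.1) none + M.1.map some, by
        have := M.2; simp; omega⟩
      invFun := fun s => ⟨(s : Multiset (Option A)).filterMap id, by
        have key : ∀ t : Multiset (Option A), Multiset.card (t.filterMap id) ≤ Multiset.card t := fun t => by
          induction t using Multiset.induction with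
          | empty => simp
          | cons o t ih => rcases o with _ | a <;> simp <;> omega
        exact (key _).trans_eq s.2⟩
      left_inv := fun M => by
        refine Subtype.ext ?_
        show Multiset.filterMap id (Multiset.replicate (N - Multiset.card M.1) none + M.1.map some) = M.1
        rw [Multiset.filterMap_add, Multiset.filterMap_map]
        have e : Multiset.filterMap id (Multiset.replicate (N - Multiset.card M.1) (none : Option A)) = 0 := by
          induction (N - Multiset.card M.1) with
          | zero => simp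
          | succ d ih => rw [Multiset.replicate_succ, Multiset.filterMap_cons_none _ _ rfl, ih]
        rw [e, zero_add]
        exact Multiset.filterMap_some M.1
      right_inv := fun s => by
        refine Sym.coe_injective ?_
        show Multiset.replicate (N - Multiset.card ((s : Multiset (Option A)).filterMap id)) none +
          ((s : Multiset (Option A)).filterMap id).map some = (s : Multiset (Option A))
        have key : ∀ t : Multiset (Option A), Multiset.card (t.filterMap id) ≤ Multiset.card t ∧
            Multiset.replicate (Multiset.card t - Multiset.card (t.filterMap id)) none + (t.filterMap id).map some = t := fun t => by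
          induction t using Multiset.induction with
          | empty => simp
          | cons o t ih =>
            rcases o with _ | a
            · rw [Multiset.filterMap_cons_none _ _ rfl, Multiset.card_cons, Nat.succ_sub ih.1, Multiset.replicate_succ, Multiset.cons_add, ih.2]
              exact ⟨Nat.le_succ_of_le ih.1, rfl⟩
            · rw [Multiset.filterMap_cons_some (f := id) _ _ (show id (some a) = some a from rfl), Multiset.card_cons,
                Multiset.card_cons, Nat.add_sub_add_right, Multiset.map_cons, Multiset.add_cons, ih.2]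
              exact ⟨Nat.succ_le_succ ih.1, rfl⟩
        have := (key (s : Multiset (Option A))).2
        rwa [Sym.card_coe] at this }
  rw [← Nat.card_eq_of_bijective Φ hΦ, Nat.card_congr Ψ, Nat.card_eq_fintype_card, Sym.card_sym_eq_choose,
    Fintype.card_option, show Fintype.card A + 1 + N = N + Fintype.card A + 1 by ring, Nat.add_sub_cancel,
    Nat.choose_symm_add]

/-- An involution without fixed points has a set of representatives of half the size. -/
theorem exists_reps {α : Type*} [DecidableEq α] (ι : α → α) (S : Finset α) (hm : ∀ a ∈ S, ι a ∈ S) (hi : ∀ a ∈ S, ι (ι a) = a)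
    (hf : ∀ a ∈ S, ι a ≠ a) :
    ∃ R : Finset α, R ⊆ S ∧ 2 * R.card = S.card ∧ (∀ a ∈ S, a ∈ R ∨ ι a ∈ R) ∧ ∀ a ∈ R, ι a ∉ R := by
  induction S using Finset.strongInduction with
  | H S ih =>
    rcases S.eq_empty_or_nonempty with rfl | ⟨a, ha⟩
    · exact ⟨∅, by simp⟩
    set S' := (S.erase a).erase (ι a) with hS'
    have hmem : ∀ b, b ∈ S' ↔ b ∈ S ∧ b ≠ a ∧ b ≠ ι a := fun b => by simp [hS']; tauto
    have hne : ι a ∈ S.erase a := Finset.mem_erase.2 ⟨hf a ha, hm a ha⟩
    have hsub : S' ⊂ S := Finset.ssubset_iff_subset_ne.2 ⟨fun b hb => ((hmem b).1 hb).1, fun e => by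
      have := ((hmem a).1 (e ▸ ha)).2.1
      exact this rfl⟩
    have hclosed : ∀ b ∈ S', ι b ∈ S' := fun b hb => by
      obtain ⟨hb, h1, h2⟩ := (hmem b).1 hb
      exact (hmem _).2 ⟨hm b hb, fun e => h2 (by rw [← e, hi b hb]), fun e => h1 (by
        have := congrArg ι e
        rwa [hi b hb, hi a ha] at this)⟩
    obtain ⟨R, hR, hcard, hcov, hdis⟩ := ih S' hsub hclosed (fun b hb => hi b ((hmem b).1 hb).1) (fun b hb => hf b ((hmem b).1 hb).1)
    have haR : a ∉ R := fun h => ((hmem a).1 (hR h)).2.1 rfl
    refine ⟨insert a R, Finset.insert_subset ha (hR.trans hsub.1), ?_, fun b hb => ?_, fun b hb => ?_⟩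
    · rw [Finset.card_insert_of_notMem haR, Nat.mul_add, hcard, hS', Finset.card_erase_of_mem hne, Finset.card_erase_of_mem ha]
      have h2 : 2 ≤ S.card := Finset.one_lt_card.2 ⟨a, ha, ι a, hm a ha, Ne.symm (hf a ha)⟩
      omega
    · by_cases h1 : b = a
      · exact Or.inl (h1 ▸ Finset.mem_insert_self _ _)
      by_cases h2 : b = ι a
      · right; rw [h2, hi a ha]; exact Finset.mem_insert_self _ _
      rcases hcov b ((hmem b).2 ⟨hb, h1, h2⟩) with h | h
      · exact Or.inl (Finset.mem_insert_of_mem h)
      · exact Or.inr (Finset.mem_insert_of_mem h)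
    · rw [Finset.mem_insert] at hb
      rw [Finset.mem_insert, not_or]
      rcases hb with rfl | hb
      · exact ⟨hf b ha, fun h => ((hmem _).1 (hR h)).2.2 rfl⟩
      · refine ⟨fun e => ?_, hdis b hb⟩
        obtain ⟨hbS, -, h2⟩ := (hmem b).1 (hR hb)
        exact h2 (by rw [← e, hi b hbS])

open scoped Classical in
/-- The self-dual polynomials with roots of order dividing `r`. -/
theorem card_self_dual (hσ : ∀ a, σ (σ a) = a) {k : ℕ} (hk : ∀ a, σ a = a ^ p ^ k) (hrp : r ≠ p) {i : ℕ}
    (hi : i = orderOf (Fintype.card F : ZMod r)) (hi0 : 0 < i) (n : ℕ) :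
    Nat.card {f : F[X] // f.Monic ∧ f.natDegree = n ∧ (∀ g, g.Monic → Irreducible g → g ∣ f → g ∣ X ^ r - 1) ∧
      dual σ f = f} =
      if ∃ j : ℕ, r ∣ Fintype.card F ^ j + p ^ k then Nat.choose (n / i + (factorSet F r).card) (factorSet F r).card
      else Nat.choose (n / (2 * i) + (factorSet F r).card / 2) ((factorSet F r).card / 2) := by
  classical
  set S := factorSet F r with hS
  have hne1 : ∀ g ∈ S, g ≠ X - C 1 := fun g hg e => one_notMem hrp (e ▸ hg)
  -- shared direction
  have main : ∀ (A : Type _) [Fintype A] (w : A → Multiset F[X]) (u : A → F[X]) (D : ℕ), 0 < D →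
      (∀ a, ∀ g ∈ w a, g ∈ S) → (∀ a, ((w a).map natDegree).sum = D) → (∀ a, u a ∈ S) →
      (∀ a b, Multiset.count (u a) (w b) = if a = b then 1 else 0) → (∀ a, (w a).map (dual σ) = w a) →
      (∀ g ∈ S, ∃ a, g = u a ∨ g = dual σ (u a)) →
      Nat.card {f : F[X] // f.Monic ∧ f.natDegree = n ∧ (∀ g, g.Monic → Irreducible g → g ∣ f → g ∣ X ^ r - 1) ∧
        dual σ f = f} = Nat.choose (n / D + Fintype.card A) (Fintype.card A) := by
    intro A _ w u D hD hwS hdeg huS hcount hinv hcov
    have hmem : ∀ (c : ℕ) (M : Multiset A), ∀ g ∈ Multiset.replicate c (X - C 1) + M.bind w,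
        g.Monic ∧ Irreducible g ∧ g ∣ X ^ r - 1 := by
      intro c M g hg
      rcases Multiset.mem_add.1 hg with h | h
      · rw [Multiset.eq_of_mem_replicate h]
        exact ⟨monic_X_sub_C 1, irreducible_X_sub_C 1, (irreducible_dvd _ (monic_X_sub_C 1) (irreducible_X_sub_C 1)).2 (Or.inl rfl)⟩
      · obtain ⟨a, -, ha⟩ := Multiset.mem_bind.1 h
        obtain ⟨h1, h2, -⟩ := mem_factorSet g (hwS a g ha)
        exact ⟨h1, h2, (irreducible_dvd g h1 h2).2 (Or.inr (hwS a g ha))⟩
    rw [← card_atoms w u hD (fun a g hg => ⟨(mem_factorSet g (hwS a g hg)).1, (mem_factorSet g (hwS a g hg)).2.1, hne1 g (hwS a g hg)⟩)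
      hdeg (fun a => hne1 _ (huS a)) hcount n]
    refine Nat.card_congr (Equiv.subtypeEquivRight fun f => ⟨?_, ?_⟩)
    · rintro ⟨hf, hd, hfac, hdual⟩
      set L := normalizedFactors f with hL
      have hL1 : ∀ g ∈ L, g.Monic ∧ Irreducible g ∧ (g = X - C 1 ∨ g ∈ S) := fun g hg => by
        have hgi := irreducible_of_normalized_factor g hg
        have hgm : g.Monic := by rw [← normalize_normalized_factor g hg]; exact Polynomial.monic_normalize hgi.ne_zero
        exact ⟨hgm, hgi, (irreducible_dvd g hgm hgi).1 (hfac g hgm hgi (dvd_of_mem_normalizedFactors hg))⟩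
      have hprod : L.prod = f := by rw [prod_normalizedFactors_eq hf.ne_zero, hf.normalize_eq_self]
      have hLd : L.map (dual σ) = L := by
        have h1 : ∀ g ∈ L, (dual σ g).Monic ∧ Irreducible (dual σ g) := fun g hg => by
          obtain ⟨hm, hgi, rfl | hgS⟩ := hL1 g hg
          · rw [dual_X_sub_one]; exact ⟨monic_X_sub_C 1, irreducible_X_sub_C 1⟩
          · exact ⟨dual_monic (coeff_zero_factor hgS), dual_irreducible hσ hm hgi (coeff_zero_factor hgS)⟩
        have e : normalizedFactors (L.map (dual σ)).prod = L.map (dual σ) := by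
          rw [normalizedFactors_prod_eq _ (fun g hg => by obtain ⟨g', hg', rfl⟩ := Multiset.mem_map.1 hg; exact (h1 g' hg').2)]
          rw [Multiset.map_map]
          exact Multiset.map_congr rfl fun g hg => (h1 g hg).1.normalize_eq_self
        rw [← dual_prod, hprod, hdual] at e
        exact e.symm
      have hcd : ∀ g, g ∈ S → Multiset.count (dual σ g) L = Multiset.count g L := fun g hg => by
        conv_lhs => rw [← hLd]
        rw [Multiset.count_map, Multiset.count_eq_card_filter_eq]
        congr 1
        refine Multiset.filter_congr fun b hb => ⟨fun e => ?_, fun e => by rw [e]⟩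
        obtain ⟨hm, -, rfl | hbS⟩ := hL1 b hb
        · rw [dual_X_sub_one] at e
          exact absurd e (hne1 _ (dual_mem hσ hrp hg))
        · rw [← dual_dual hσ (mem_factorSet g hg).1 (coeff_zero_factor hg), e, dual_dual hσ hm (coeff_zero_factor hbS)]
      let M : Multiset A := ∑ a, Multiset.count (u a) L • ({a} : Multiset A)
      have hMc : ∀ a, Multiset.count a M = Multiset.count (u a) L := fun a => by
        simp [M, Multiset.count_sum', Multiset.count_singleton]
      have hB : L.filter (fun g => g ∈ S) = M.bind w := by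
        refine Multiset.ext.2 fun g => ?_
        by_cases hg : g ∈ S
        · obtain ⟨a, ha⟩ := hcov g hg
          rw [Multiset.count_filter_of_pos hg]
          have hu' : Multiset.count (u a) (M.bind w) = Multiset.count a M := by
            induction M using Multiset.induction with
            | empty => simp
            | cons b N ih => rw [Multiset.cons_bind, Multiset.count_add, ih, hcount, Multiset.count_cons, add_comm]
          rcases ha with rfl | rfl
          · rw [hu', hMc]
          · rw [hcd _ (huS a), Multiset.count_bind]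
            have hinj : ∀ b, Multiset.count (dual σ (u a)) (w b) = Multiset.count (u a) (w b) := fun b => by
              conv_lhs => rw [← hinv b]
              rw [Multiset.count_map, Multiset.count_eq_card_filter_eq]
              congr 1
              refine Multiset.filter_congr fun c hc => ⟨fun e => ?_, fun e => by rw [e]⟩
              rw [← dual_dual hσ (mem_factorSet _ (huS a)).1 (coeff_zero_factor (huS a)), e,
                dual_dual hσ (mem_factorSet c (hwS b c hc)).1 (coeff_zero_factor (hwS b c hc))]
            simp only [hinj]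
            rw [← Multiset.count_bind, hu', hMc]
        · rw [Multiset.count_filter_of_neg hg, Multiset.count_eq_zero.2]
          intro h
          obtain ⟨b, -, hb⟩ := Multiset.mem_bind.1 h
          exact hg (hwS b g hb)
      have hrest : L.filter (fun g => ¬ g ∈ S) = Multiset.replicate (L.filter (fun g => ¬ g ∈ S)).card (X - C 1) :=
        Multiset.eq_replicate_card.2 fun g hg =>
          (hL1 g (Multiset.mem_filter.1 hg).1).2.2.resolve_right (Multiset.mem_filter.1 hg).2
      have hsplit : L = Multiset.replicate (L.filter (fun g => ¬ g ∈ S)).card (X - C 1) + M.bind w := by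
        conv_lhs => rw [← Multiset.filter_add_not (fun g => g ∈ S) L, hrest, hB, add_comm]
      have hnd : n = (L.filter (fun g => ¬ g ∈ S)).card + D * Multiset.card M := by
        rw [← hd, ← hprod, natDegree_multiset_prod_of_monic _ (fun a ha => (hL1 a ha).1)]
        conv_lhs => rw [hsplit, Multiset.map_add, Multiset.sum_add, Multiset.map_replicate, Multiset.sum_replicate,
          natDegree_X_sub_C, smul_eq_mul, mul_one, Multiset.map_bind, Multiset.sum_bind]
        simp only [hdeg, Multiset.map_const', Multiset.sum_replicate, smul_eq_mul, mul_comm]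
      refine ⟨M, by omega, ?_⟩
      rw [← hprod]
      conv_lhs => rw [hsplit]
      rw [Multiset.prod_add, Multiset.prod_replicate, show n - D * Multiset.card M = (L.filter (fun g => ¬ g ∈ S)).card by omega]
    · rintro ⟨M, hM, rfl⟩
      set L := Multiset.replicate (n - D * Multiset.card M) (X - C 1) + M.bind w with hL
      have hp : (X - C (1 : F)) ^ (n - D * Multiset.card M) * (M.bind w).prod = L.prod := by
        rw [hL, Multiset.prod_add, Multiset.prod_replicate]
      rw [hp]
      have hmon : L.prod.Monic := by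
        have := monic_multiset_prod_of_monic L id (fun a ha => (hmem _ M a ha).1)
        rwa [Multiset.map_id] at this
      refine ⟨hmon, ?_, fun g hg hgi hgd => ?_, ?_⟩
      · rw [natDegree_multiset_prod_of_monic _ (fun a ha => (hmem _ M a ha).1), Multiset.map_add, Multiset.sum_add,
          Multiset.map_replicate, Multiset.sum_replicate, natDegree_X_sub_C, smul_eq_mul, mul_one, Multiset.map_bind,
          Multiset.sum_bind]
        simp only [hdeg, Multiset.map_const', Multiset.sum_replicate, smul_eq_mul, mul_comm _ D]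
        omega
      · obtain ⟨g', hg', ha⟩ := exists_mem_normalizedFactors_of_dvd hmon.ne_zero hgi hgd
        rw [normalizedFactors_prod_eq _ (fun a ha => (hmem _ M a ha).2.1)] at hg'
        obtain ⟨g'', hg'', rfl⟩ := Multiset.mem_map.1 hg'
        rw [(hmem _ M g'' hg'').1.normalize_eq_self] at ha
        rw [eq_of_monic_of_associated hg (hmem _ M g'' hg'').1 ha]
        exact (hmem _ M g'' hg'').2.2
      · rw [dual_prod, hL, Multiset.map_add, Multiset.map_replicate, dual_X_sub_one, Multiset.map_bind]
        simp only [hinv]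
  split_ifs with hfix
  · rw [← Fintype.card_coe S]
    refine main {g // g ∈ S} (fun g => {g.1}) (fun g => g.1) i hi0 (fun a g hg => by rw [Multiset.mem_singleton.1 hg]; exact a.2)
      (fun a => by simp [natDegree_factorSet hrp a.1 a.2, hi]) (fun a => a.2) (fun a b => ?_) (fun a => ?_)
      (fun g hg => ⟨⟨g, hg⟩, Or.inl rfl⟩)
    · rw [Multiset.count_singleton]; simp only [Subtype.ext_iff]
    · rw [Multiset.map_singleton, (dual_fixed_iff hσ hk hrp a.2).2 hfix]
  · obtain ⟨R, hR, hcard, hcov, hdis⟩ := exists_reps (dual σ) S (fun g hg => dual_mem hσ hrp hg)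
      (fun g hg => dual_dual hσ (mem_factorSet g hg).1 (coeff_zero_factor hg))
      (fun g hg e => hfix ((dual_fixed_iff hσ hk hrp hg).1 e))
    rw [show S.card / 2 = R.card by omega, ← Fintype.card_coe R]
    refine main {g // g ∈ R} (fun g => {g.1, dual σ g.1}) (fun g => g.1) (2 * i) (by omega) (fun a g hg => ?_)
      (fun a => ?_) (fun a => hR a.2) (fun a b => ?_) (fun a => ?_) (fun g hg => ?_)
    · simp only [Multiset.insert_eq_cons, Multiset.mem_cons, Multiset.mem_singleton] at hg
      rcases hg with rfl | rfl
      · exact hR a.2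
      · exact dual_mem hσ hrp (hR a.2)
    · simp [natDegree_factorSet hrp a.1 (hR a.2), natDegree_factorSet hrp _ (dual_mem hσ hrp (hR a.2)), hi, two_mul]
    · rw [Multiset.insert_eq_cons, Multiset.count_cons, Multiset.count_singleton]
      have hno : a.1 ≠ dual σ b.1 := fun e => hdis b.1 b.2 (e ▸ a.2)
      rw [if_neg hno, zero_add]
      simp only [Subtype.ext_iff]
    · simp [dual_dual hσ (mem_factorSet a.1 (hR a.2)).1 (coeff_zero_factor (hR a.2)), ]
      exact Multiset.pair_comm _ _
    · rcases hcov g hg with h | h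
      · exact ⟨⟨g, h⟩, Or.inl rfl⟩
      · exact ⟨⟨_, h⟩, Or.inr (dual_dual hσ (mem_factorSet g hg).1 (coeff_zero_factor hg)).symm⟩

end Cfsg.Lib.DualPoly
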