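import Cfsg.Agent.Known.UnipotentClasses
import Mathlib

/-! The Jordan type of a nilpotent matrix, read off from kernels. -/

set_option autoImplicit false

open Matrix

namespace Cfsg.Lib.UnipClasses

variable {F : Type*} [Field F] {n : ℕ}

/-- `N` has Jordan type `μ`. -/
def HasType (N : Matrix (Fin n) (Fin n) F) (μ : Nat.Partition n) : Prop :=
  ∀ j, Nat.card {v : Fin n → F // N ^ j *ᵥ v = 0} = Nat.card F ^ ∑ i, min j (lens μ i)

theorem card_ker_conj {ι : Type*} [Fintype ι] [DecidableEq ι] (P : (Matrix ι ι F)ˣ) {M M' : Matrix ι ι F}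
    (h : (P : Matrix ι ι F) * M = M' * (P : Matrix ι ι F)) :
    Nat.card {v : ι → F // M *ᵥ v = 0} = Nat.card {v : ι → F // M' *ᵥ v = 0} :=
  Nat.card_congr
    { toFun := fun v => ⟨(P : Matrix ι ι F) *ᵥ v.1, by rw [mulVec_mulVec, ← h, ← mulVec_mulVec, v.2, mulVec_zero]⟩
      invFun := fun v => ⟨((P⁻¹ : (Matrix ι ι F)ˣ) : Matrix ι ι F) *ᵥ v.1, by
        have e : M * ((P⁻¹ : (Matrix ι ι F)ˣ) : Matrix ι ι F) = ((P⁻¹ : (Matrix ι ι F)ˣ) : Matrix ι ι F) * M' := by
          rw [Units.mul_inv_eq_iff_eq_mul, mul_assoc, ← h, ← mul_assoc, Units.inv_mul, one_mul]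
        rw [mulVec_mulVec, e, ← mulVec_mulVec, v.2, mulVec_zero]⟩
      left_inv := fun v => Subtype.ext (by simp only; rw [mulVec_mulVec, Units.inv_mul, one_mulVec])
      right_inv := fun v => Subtype.ext (by simp only; rw [mulVec_mulVec, Units.mul_inv, one_mulVec]) }

variable [Finite F]

theorem hasType_std (μ : Nat.Partition n) : HasType (std F μ) μ := card_ker_std μ

theorem HasType.conj {N N' : Matrix (Fin n) (Fin n) F} {μ : Nat.Partition n} (h : HasType N μ) (P : GL (Fin n) F)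
    (hP : (P : Matrix (Fin n) (Fin n) F) * N = N' * (P : Matrix (Fin n) (Fin n) F)) : HasType N' μ := fun j => by
  rw [← h j]
  exact (card_ker_conj P (SemiconjBy.pow_right (show SemiconjBy (P : Matrix (Fin n) (Fin n) F) N N' from hP) j).eq).symm

theorem HasType.unique {N : Matrix (Fin n) (Fin n) F} {μ ν : Nat.Partition n} (h : HasType N μ) (h' : HasType N ν) :
    μ = ν := by
  refine Nat.Partition.ext ?_
  rw [← map_lens μ, ← map_lens ν]
  refine counts_eq _ _ (fun i => μ.parts_pos (lens_mem μ i)) (fun i => ν.parts_pos (lens_mem ν i)) fun j => ?_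
  exact Nat.pow_right_injective (Finite.one_lt_card : 1 < Nat.card F) ((h j).symm.trans (h' j))

theorem HasType.nilpotent {N : Matrix (Fin n) (Fin n) F} {μ : Nat.Partition n} (h : HasType N μ) {m : ℕ}
    (hm : ∀ a ∈ μ.parts, a ≤ m) : N ^ m = 0 := by
  classical
  haveI := Fintype.ofFinite F
  have h1 := h m
  rw [Finset.sum_congr rfl (fun i _ => min_eq_right (hm _ (lens_mem μ i))), Finset.sum_eq_multiset_sum, map_lens,
    μ.parts_sum] at h1
  have h2 : Nat.card (Fin n → F) = Nat.card F ^ n := by rw [Nat.card_fun, Nat.card_fin]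
  have hall : ∀ v : Fin n → F, N ^ m *ᵥ v = 0 := by
    intro v
    have hb := ((Fintype.bijective_iff_injective_and_card
      (Subtype.val : {v : Fin n → F // N ^ m *ᵥ v = 0} → Fin n → F)).2
      ⟨Subtype.val_injective, by rw [← Nat.card_eq_fintype_card, ← Nat.card_eq_fintype_card, h1, h2]⟩).2 v
    obtain ⟨w, rfl⟩ := hb
    exact w.2
  exact Matrix.ext_of_mulVec_single fun i => by rw [hall, zero_mulVec]

theorem exists_type {N : Matrix (Fin n) (Fin n) F} {m : ℕ} (hN : N ^ m = 0) :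
    ∃ μ : Nat.Partition n, (∀ a ∈ μ.parts, a ≤ m) ∧ HasType N μ := by
  obtain ⟨μ, P, hμ, hP⟩ := exists_std N hN
  exact ⟨μ, hμ, (hasType_std μ).conj P hP.symm⟩

theorem similar_of_type {N N' : Matrix (Fin n) (Fin n) F} {μ : Nat.Partition n} (h : HasType N μ)
    (h' : HasType N' μ) :
    ∃ T : GL (Fin n) F, (T : Matrix (Fin n) (Fin n) F) * N = N' * (T : Matrix (Fin n) (Fin n) F) := by
  have hn := h.nilpotent (m := n) fun a ha => parts_le μ ha
  have hn' := h'.nilpotent (m := n) fun a ha => parts_le μ ha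
  obtain ⟨α, P, -, hP⟩ := exists_std N hn
  obtain ⟨β, Q, -, hQ⟩ := exists_std N' hn'
  obtain rfl : α = μ := ((hasType_std α).conj P hP.symm).unique h
  obtain rfl : β = α := ((hasType_std β).conj Q hQ.symm).unique h'
  refine ⟨Q * P⁻¹, ?_⟩
  rw [Units.val_mul, mul_assoc]
  have e : ((P⁻¹ : GL (Fin n) F) : Matrix (Fin n) (Fin n) F) * N = std F β * ((P⁻¹ : GL (Fin n) F) : Matrix (Fin n) (Fin n) F) := by
    rw [Units.eq_mul_inv_iff_mul_eq, mul_assoc, hP, ← mul_assoc, Units.inv_mul, one_mul]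
  rw [e, ← mul_assoc, ← hQ, mul_assoc]

end Cfsg.Lib.UnipClasses
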