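import Cfsg.Agent.Known.NormEngine
import Cfsg.Agent.Known.UnipotentType
import Cfsg.Agent.Classical.Unitary.Matrix
import Mathlib

/-! Conjugacy in unitary groups from linear conjugacy; models of unipotent elements. -/

set_option autoImplicit false
set_option linter.style.haveILetI false

open Matrix

namespace Cfsg.Lib.UnitaryConj

variable {K : Type*} [Field K] (σ : K →+* K) {ι : Type*} [Fintype ι] [DecidableEq ι]

/-- Conjugate transpose. -/
def cst (M : Matrix ι ι K) : Matrix ι ι K := (M.map σ)ᵀ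

theorem cst_mul (M N : Matrix ι ι K) : cst σ (M * N) = cst σ N * cst σ M := by
  rw [cst, cst, cst, Matrix.map_mul, transpose_mul]

theorem cst_one : cst σ (1 : Matrix ι ι K) = 1 := by
  rw [cst, Matrix.map_one σ (map_zero σ) (map_one σ), transpose_one]

theorem cst_add (M N : Matrix ι ι K) : cst σ (M + N) = cst σ M + cst σ N := by
  rw [cst, cst, cst, Matrix.map_add σ (map_add σ), transpose_add]

theorem cst_smul (c : K) (M : Matrix ι ι K) : cst σ (c • M) = σ c • cst σ M := by
  ext i j; simp [cst]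

theorem cst_sub (M N : Matrix ι ι K) : cst σ (M - N) = cst σ M - cst σ N := by
  ext i j; simp [cst]

theorem det_cst (M : Matrix ι ι K) : (cst σ M).det = σ M.det := by
  rw [cst, det_transpose, ← RingHom.mapMatrix_apply, ← RingHom.map_det]

theorem cst_cst (hσ : ∀ a, σ (σ a) = a) (M : Matrix ι ι K) : cst σ (cst σ M) = M := by
  ext i j; simp [cst, hσ]

variable {σ}

/-- An invertible hermitian matrix is a norm inside the algebra it generates. -/
theorem exists_root [Finite K] (hσ : ∀ a, σ (σ a) = a) (hne : ∃ a, σ a ≠ a) (M : Matrix ι ι K)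
    (hM : cst σ M = M) (hdet : M.det ≠ 0) :
    ∃ x : Matrix ι ι K, x.det ≠ 0 ∧ x * cst σ x = M ∧ cst σ x * x = M ∧ ∀ A, Commute A M → Commute A x := by
  classical
  rcases isEmpty_or_nonempty ι with hι | hι
  · exact ⟨1, by rw [det_one]; exact one_ne_zero, Subsingleton.elim _ _, Subsingleton.elim _ _,
      fun A _ => Commute.one_right A⟩
  let S := Algebra.adjoin K ({M} : Set (Matrix ι ι K))
  have hcomm : ∀ x ∈ S, ∀ A, Commute A M → Commute A x := fun x hx A hA => by
    induction hx using Algebra.adjoin_induction with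
    | mem y hy => rw [Set.mem_singleton_iff] at hy; exact hy ▸ hA
    | algebraMap r => exact (Algebra.commute_algebraMap_left r A).symm
    | add x y _ _ hx hy => exact hx.add_right hy
    | mul x y _ _ hx hy => exact hx.mul_right hy
  have hSc : ∀ x y : S, x * y = y * x := fun x y =>
    Subtype.ext ((hcomm x x.2 y (hcomm y y.2 M (Commute.refl M)).symm).symm.eq)
  letI : CommRing S := { (inferInstance : Ring S) with mul_comm := hSc }
  have hstar : ∀ x ∈ S, cst σ x ∈ S := fun x hx => by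
    induction hx using Algebra.adjoin_induction with
    | mem y hy => rw [Set.mem_singleton_iff] at hy; rw [hy, hM]; exact Algebra.subset_adjoin rfl
    | algebraMap r =>
      rw [Algebra.algebraMap_eq_smul_one, cst_smul, cst_one, ← Algebra.algebraMap_eq_smul_one]
      exact S.algebraMap_mem _
    | add x y _ _ hx hy => rw [cst_add]; exact S.add_mem hx hy
    | mul x y _ _ hx hy => rw [cst_mul]; exact S.mul_mem hy hx
  let τ : S →+* S :=
    { toFun := fun x => ⟨cst σ x, hstar x x.2⟩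
      map_one' := Subtype.ext (cst_one σ)
      map_mul' := fun x y => (Subtype.ext (cst_mul σ (x : Matrix ι ι K) y)).trans (hSc _ _)
      map_zero' := Subtype.ext (by ext i j; simp [cst])
      map_add' := fun x y => Subtype.ext (cst_add σ (x : Matrix ι ι K) y) }
  haveI : Finite S := inferInstance
  let M' : S := ⟨M, Algebra.subset_adjoin rfl⟩
  obtain ⟨ω, hω⟩ := hne
  have hωu : IsUnit (algebraMap K S ω - τ (algebraMap K S ω)) := by
    have e : τ (algebraMap K S ω) = algebraMap K S (σ ω) := Subtype.ext (by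
      show cst σ (algebraMap K (Matrix ι ι K) ω) = algebraMap K (Matrix ι ι K) (σ ω)
      rw [Algebra.algebraMap_eq_smul_one, Algebra.algebraMap_eq_smul_one, cst_smul, cst_one])
    rw [e, ← map_sub]
    exact (isUnit_iff_ne_zero.2 (sub_ne_zero.2 (Ne.symm hω))).map _
  have hMu : IsUnit M' := by
    have hinj : Function.Injective fun x : S => M' * x := fun x y hxy =>
      Subtype.ext (((Matrix.isUnit_iff_isUnit_det M).2 (isUnit_iff_ne_zero.2 hdet)).mul_left_cancel (congrArg Subtype.val hxy))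
    obtain ⟨x, hx⟩ := Finite.surjective_of_injective hinj 1
    exact IsUnit.of_mul_eq_one x hx
  obtain ⟨x, hx⟩ := NormEngine.exists_norm τ (fun x => Subtype.ext (cst_cst σ hσ _)) (algebraMap K S ω) hωu M'
    (Subtype.ext hM) hMu
  have hx' : (x : Matrix ι ι K) * cst σ x = M := congrArg Subtype.val hx
  refine ⟨x, fun h0 => hdet ?_, hx', ?_, fun A hA => hcomm x x.2 A hA⟩
  · rw [← hx', det_mul, h0, zero_mul]
  · exact (congrArg Subtype.val ((hSc (τ x) x).trans hx))

/-- Linearly conjugate unitary matrices are conjugate by a unitary matrix. -/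
theorem exists_conj [Finite K] (hσ : ∀ a, σ (σ a) = a) (hne : ∃ a, σ a ≠ a) (A B T : Matrix ι ι K)
    (hA : cst σ A * A = 1) (hB : cst σ B * B = 1) (hT : T.det ≠ 0) (h : T * A = B * T) :
    ∃ T' : Matrix ι ι K, cst σ T' * T' = 1 ∧ T' * A = B * T' := by
  set M := cst σ T * T with hMdef
  have hM : cst σ M = M := by rw [hMdef, cst_mul, cst_cst σ hσ]
  have hMdet : M.det ≠ 0 := by rw [det_mul, det_cst]; exact mul_ne_zero (by simpa using hT) hT
  have hAM : Commute A M := by
    have e : cst σ A * M * A = M := by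
      calc cst σ A * M * A = cst σ (T * A) * (T * A) := by rw [cst_mul, hMdef]; simp only [mul_assoc]
        _ = cst σ T * ((cst σ B * B) * T) := by rw [h, cst_mul]; simp only [mul_assoc]
        _ = M := by rw [hB, one_mul]
    have hA' : A * cst σ A = 1 := mul_eq_one_comm.1 hA
    calc A * M = A * (cst σ A * M * A) := by rw [e]
      _ = (A * cst σ A) * (M * A) := by simp only [mul_assoc]
      _ = M * A := by rw [hA', one_mul]
  obtain ⟨x, hx0, -, hx2, hxc⟩ := exists_root hσ hne M hM hMdet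
  have hxu : IsUnit x.det := isUnit_iff_ne_zero.2 hx0
  refine ⟨T * x⁻¹, ?_, ?_⟩
  · rw [cst_mul, mul_assoc, ← mul_assoc (cst σ T), ← hMdef, ← hx2, mul_assoc (cst σ x), mul_nonsing_inv x hxu, mul_one,
      ← cst_mul, mul_nonsing_inv x hxu, cst_one]
  · have hc : x⁻¹ * A = A * x⁻¹ := by
      calc x⁻¹ * A = x⁻¹ * A * (x * x⁻¹) := by rw [mul_nonsing_inv x hxu, mul_one]
        _ = x⁻¹ * (A * x) * x⁻¹ := by simp only [mul_assoc]
        _ = A * x⁻¹ := by rw [(hxc A hAM).eq, ← mul_assoc x⁻¹, nonsing_inv_mul x hxu, one_mul]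
    rw [mul_assoc, hc, ← mul_assoc, h, mul_assoc]

variable (σ)

/-- Reversal of chains. -/
def rev {I : Type*} (k : I → ℕ) : (Σ i, Fin (k i)) ≃ (Σ i, Fin (k i)) :=
  Equiv.sigmaCongrRight fun _ => Fin.revPerm

/-- The invariant form of a sum of chains. -/
def formOf (K : Type*) [Field K] {I : Type*} [DecidableEq I] (k : I → ℕ) :
    Matrix (Σ i, Fin (k i)) (Σ i, Fin (k i)) K :=
  (1 : Matrix (Σ i, Fin (k i)) (Σ i, Fin (k i)) K).submatrix (rev k) id

theorem rev_rev {I : Type*} (k : I → ℕ) (x : Σ i, Fin (k i)) : rev k (rev k x) = x := by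
  obtain ⟨i, b⟩ := x
  simp [rev]

variable {I : Type*} [Fintype I] [DecidableEq I]

theorem form_mul (k : I → ℕ) (M : Matrix (Σ i, Fin (k i)) (Σ i, Fin (k i)) K) (x y : Σ i, Fin (k i)) :
    (formOf K k * M) x y = M (rev k x) y := by
  rw [Matrix.mul_apply, Finset.sum_eq_single (rev k x)]
  · rw [formOf, submatrix_apply, id, one_apply_eq, one_mul]
  · intro z _ hz; rw [formOf, submatrix_apply, id, one_apply_ne (Ne.symm hz), zero_mul]
  · simp

theorem mul_form (k : I → ℕ) (M : Matrix (Σ i, Fin (k i)) (Σ i, Fin (k i)) K) (x y : Σ i, Fin (k i)) :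
    (M * formOf K k) x y = M x (rev k y) := by
  rw [Matrix.mul_apply, Finset.sum_eq_single (rev k y)]
  · rw [formOf, submatrix_apply, id, rev_rev, one_apply_eq, mul_one]
  · intro z _ hz
    rw [formOf, submatrix_apply, id, one_apply_ne, mul_zero]
    intro e; apply hz; rw [← e, rev_rev]
  · simp

theorem form_sq (k : I → ℕ) : formOf K k * formOf K k = 1 := by
  ext x y
  rw [form_mul, formOf, submatrix_apply, id, rev_rev]

theorem cst_form (k : I → ℕ) : cst σ (formOf K k) = formOf K k := by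
  ext x y
  simp only [cst, formOf, transpose_apply, map_apply, submatrix_apply, id, one_apply]
  have e : (rev k y = x) ↔ (rev k x = y) := ⟨fun e => by rw [← e, rev_rev], fun e => by rw [← e, rev_rev]⟩
  by_cases h : rev k x = y
  · rw [if_pos (e.2 h), if_pos h, map_one]
  · rw [if_neg (fun h' => h (e.1 h')), if_neg h, map_zero]

theorem cst_J_form (k : I → ℕ) :
    cst σ (UnipClasses.J k) * formOf K k = formOf K k * UnipClasses.J k := by
  ext x y
  rw [mul_form, form_mul]
  obtain ⟨i, a⟩ := x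
  obtain ⟨j, b⟩ := y
  simp only [cst, transpose_apply, map_apply, UnipClasses.J, rev, Equiv.sigmaCongrRight_apply, Fin.revPerm_apply]
  by_cases hij : i = j
  · subst hij
    have ha := a.isLt
    have hb := b.isLt
    by_cases h : (Fin.rev a : ℕ) = b + 1
    · have h' : (Fin.rev b : ℕ) = a + 1 := by rw [Fin.val_rev] at h ⊢; omega
      rw [if_pos ⟨rfl, h'⟩, if_pos ⟨rfl, h⟩, map_one]
    · have h' : ¬ (Fin.rev b : ℕ) = a + 1 := by rw [Fin.val_rev] at h ⊢; omega
      rw [if_neg (fun e => h' e.2), if_neg (fun e => h e.2), map_zero]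
  · rw [if_neg (fun e => hij e.1.symm), if_neg (fun e => hij e.1), map_zero]

/-- A unitary unipotent matrix of each type, with torus elements commuting with it. -/
theorem exists_model [Finite K] (hσ : ∀ a, σ (σ a) = a) (hne : ∃ a, σ a ≠ a) {n : ℕ} (μ : Nat.Partition n) :
    ∃ U : Matrix (Fin n) (Fin n) K, cst σ U * U = 1 ∧ UnipClasses.HasType (U - 1) μ ∧
      ∀ z : Fin μ.parts.toList.length → K, (∀ i, σ (z i) * z i = 1) →
        ∃ D : Matrix (Fin n) (Fin n) K, cst σ D * D = 1 ∧ D * U = U * D ∧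
          D.det = ∏ i, z i ^ UnipClasses.lens μ i := by
  classical
  obtain ⟨ω, hω⟩ := hne
  set k := UnipClasses.lens μ with hk
  set Jk : Matrix (Σ i, Fin (k i)) (Σ i, Fin (k i)) K := UnipClasses.J k with hJk
  set H := formOf K k with hH
  have hJn : IsNilpotent Jk := ⟨n, UnipClasses.J_pow_eq_zero k fun i => UnipClasses.parts_le μ (UnipClasses.lens_mem μ i)⟩
  obtain ⟨P, hP⟩ : IsUnit (1 + ω • Jk) := (hJn.smul ω).isUnit_one_add
  obtain ⟨Q, hQ⟩ : IsUnit (1 + σ ω • Jk) := (hJn.smul (σ ω)).isUnit_one_add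
  have hcP : cst σ (P : Matrix (Σ i, Fin (k i)) (Σ i, Fin (k i)) K) * H = H * Q := by
    rw [hP, hQ, cst_add, cst_one, cst_smul, add_mul, one_mul, smul_mul_assoc, hJk, hH, cst_J_form, mul_add, mul_one,
      mul_smul_comm]
  have hcQ : cst σ (Q : Matrix (Σ i, Fin (k i)) (Σ i, Fin (k i)) K) * H = H * P := by
    rw [hP, hQ, cst_add, cst_one, cst_smul, hσ, add_mul, one_mul, smul_mul_assoc, hJk, hH, cst_J_form, mul_add, mul_one,
      mul_smul_comm]
  have hPQ : Commute P Q := Units.ext (by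
    rw [Units.val_mul, Units.val_mul, hP, hQ]
    exact ((Commute.one_left _).add_left ((Commute.one_right _).add_right
      (((Commute.refl Jk).smul_right _).smul_left _))).eq)
  have hcQi : cst σ ((Q⁻¹ : (Matrix (Σ i, Fin (k i)) (Σ i, Fin (k i)) K)ˣ) : Matrix (Σ i, Fin (k i)) (Σ i, Fin (k i)) K) * H =
      H * ((P⁻¹ : (Matrix (Σ i, Fin (k i)) (Σ i, Fin (k i)) K)ˣ) : Matrix (Σ i, Fin (k i)) (Σ i, Fin (k i)) K) := by
    rw [Units.eq_mul_inv_iff_mul_eq, mul_assoc, ← hcQ, ← mul_assoc, ← cst_mul, Units.mul_inv, cst_one, one_mul]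
  set U0 : (Matrix (Σ i, Fin (k i)) (Σ i, Fin (k i)) K)ˣ := P * Q⁻¹ with hU0
  have hform : cst σ (U0 : Matrix (Σ i, Fin (k i)) (Σ i, Fin (k i)) K) * H * (U0 : Matrix (Σ i, Fin (k i)) (Σ i, Fin (k i)) K) = H := by
    rw [hU0, Units.val_mul, cst_mul, mul_assoc (cst σ _) (cst σ (P : Matrix (Σ i, Fin (k i)) (Σ i, Fin (k i)) K)), hcP,
      ← mul_assoc (cst σ _) H, hcQi]
    have e : P⁻¹ * Q * (P * Q⁻¹) = 1 := by
      calc P⁻¹ * Q * (P * Q⁻¹) = P⁻¹ * (Q * P) * Q⁻¹ := by group
        _ = P⁻¹ * (P * Q) * Q⁻¹ := by rw [hPQ.eq]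
        _ = 1 := by group
    have e' := congrArg (fun u : (Matrix (Σ i, Fin (k i)) (Σ i, Fin (k i)) K)ˣ => (u : Matrix (Σ i, Fin (k i)) (Σ i, Fin (k i)) K)) e
    simp only [Units.val_mul, Units.val_one] at e'
    conv_rhs => rw [← mul_one H, ← e']
    simp only [mul_assoc]
  have hsub : (U0 : Matrix (Σ i, Fin (k i)) (Σ i, Fin (k i)) K) - 1 =
      Jk * ((ω - σ ω) • ((Q⁻¹ : (Matrix (Σ i, Fin (k i)) (Σ i, Fin (k i)) K)ˣ) : Matrix (Σ i, Fin (k i)) (Σ i, Fin (k i)) K)) := by
    rw [hU0, Units.val_mul, mul_smul_comm, ← smul_mul_assoc]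
    conv_lhs => arg 2; rw [← Units.mul_inv Q]
    rw [← sub_mul, hP, hQ, add_sub_add_left_eq_sub, ← sub_smul]
  have hcommJ : Commute Jk ((ω - σ ω) • ((Q⁻¹ : (Matrix (Σ i, Fin (k i)) (Σ i, Fin (k i)) K)ˣ) : Matrix (Σ i, Fin (k i)) (Σ i, Fin (k i)) K)) := by
    refine Commute.smul_right (Commute.units_inv_right ?_) _
    rw [hQ]
    exact (Commute.one_right _).add_right ((Commute.refl Jk).smul_right _)
  have hker : ∀ j, Nat.card {v : (Σ i, Fin (k i)) → K // ((U0 : Matrix (Σ i, Fin (k i)) (Σ i, Fin (k i)) K) - 1) ^ j *ᵥ v = 0} =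
      Nat.card K ^ ∑ i, min j (k i) := by
    intro j
    rw [← UnipClasses.card_ker (F := K) k j]
    have hu : IsUnit ((ω - σ ω) • ((Q⁻¹ : (Matrix (Σ i, Fin (k i)) (Σ i, Fin (k i)) K)ˣ) : Matrix (Σ i, Fin (k i)) (Σ i, Fin (k i)) K)) := by
      rw [Algebra.smul_def]
      exact ((isUnit_iff_ne_zero.2 (sub_ne_zero.2 (Ne.symm hω))).map _).mul (Q⁻¹).isUnit
    obtain ⟨R, hR⟩ := hu.pow j
    refine Nat.card_congr (Equiv.subtypeEquivRight fun v => ?_)
    rw [hsub, hcommJ.mul_pow, (hcommJ.pow_pow j j).eq, ← mulVec_mulVec, ← hR]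
    constructor
    · intro h
      have := congrArg (fun w => ((R⁻¹ : (Matrix (Σ i, Fin (k i)) (Σ i, Fin (k i)) K)ˣ) : Matrix (Σ i, Fin (k i)) (Σ i, Fin (k i)) K) *ᵥ w) h
      simp only [mulVec_mulVec, ← mul_assoc, Units.inv_mul, one_mul, mulVec_zero] at this
      exact this
    · intro h; rw [h, mulVec_zero]
  obtain ⟨X, hX0, -, hX, -⟩ := exists_root hσ ⟨ω, hω⟩ H (cst_form σ k) (fun h => by
    have := congrArg Matrix.det (form_sq (K := K) k)
    rw [det_mul, ← hH, h, det_one, zero_mul] at this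
    exact zero_ne_one this)
  have hXu : IsUnit X.det := isUnit_iff_ne_zero.2 hX0
  let ε := Fintype.equivFinOfCardEq (UnipClasses.card_lens μ)
  let Φ := Matrix.reindexAlgEquiv K K ε
  have hΦc : ∀ M, cst σ (Φ M) = Φ (cst σ M) := fun M => rfl
  have hunit : ∀ M, cst σ M * H * M = H → cst σ (X * M * X⁻¹) * (X * M * X⁻¹) = 1 := by
    intro M hM
    calc cst σ (X * M * X⁻¹) * (X * M * X⁻¹) = cst σ X⁻¹ * (cst σ M * (cst σ X * X) * M) * X⁻¹ := by
          rw [cst_mul, cst_mul]; simp only [mul_assoc]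
      _ = cst σ X⁻¹ * (cst σ X * X) * X⁻¹ := by rw [hX, hM]
      _ = (cst σ X⁻¹ * cst σ X) * (X * X⁻¹) := by simp only [mul_assoc]
      _ = 1 := by rw [← cst_mul, mul_nonsing_inv X hXu, cst_one, one_mul]
  refine ⟨Φ (X * (U0 : Matrix (Σ i, Fin (k i)) (Σ i, Fin (k i)) K) * X⁻¹), ?_, ?_, ?_⟩
  · rw [hΦc, ← map_mul, hunit _ hform, map_one]
  · intro j
    rw [← hker j, ← map_one Φ, ← map_sub, ← map_pow]
    obtain ⟨Xu, hXu'⟩ := (Matrix.isUnit_iff_isUnit_det X).2 hXu
    have e1 := UnipClasses.card_ker_conj Xu (M := ((U0 : Matrix (Σ i, Fin (k i)) (Σ i, Fin (k i)) K) - 1) ^ j)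
      (M' := (X * (U0 : Matrix (Σ i, Fin (k i)) (Σ i, Fin (k i)) K) * X⁻¹ - 1) ^ j) (by
        rw [hXu']
        refine (SemiconjBy.pow_right ?_ j).eq
        show X * ((U0 : Matrix (Σ i, Fin (k i)) (Σ i, Fin (k i)) K) - 1) =
          (X * (U0 : Matrix (Σ i, Fin (k i)) (Σ i, Fin (k i)) K) * X⁻¹ - 1) * X
        rw [mul_sub, mul_one, sub_mul, one_mul, mul_assoc _ X⁻¹, nonsing_inv_mul X hXu, mul_one])
    rw [e1]
    refine Nat.card_congr ((Equiv.arrowCongr ε.symm (Equiv.refl K)).subtypeEquiv fun v => ?_)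
    rw [Matrix.reindexAlgEquiv_apply, Matrix.reindex_apply, submatrix_mulVec_equiv]
    constructor
    · intro h
      funext x
      have := congrFun h (ε x)
      simpa [Function.comp_def, Equiv.arrowCongr] using this
    · intro h
      funext x
      have := congrFun h (ε.symm x)
      simpa [Function.comp_def, Equiv.arrowCongr] using this
  · intro z hz
    set D0 : Matrix (Σ i, Fin (k i)) (Σ i, Fin (k i)) K := Matrix.diagonal (fun x => z x.1) with hD0
    have hDJ : Commute D0 Jk := by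
      ext x y
      rw [hD0, diagonal_mul, mul_diagonal, hJk, UnipClasses.J]
      split_ifs with h
      · rw [h.1, mul_comm]
      · simp
    have hDH : cst σ D0 * H * D0 = H := by
      ext x y
      rw [mul_diagonal, cst, hD0, diagonal_map (map_zero σ), diagonal_transpose, diagonal_mul, hH]
      simp only [formOf, submatrix_apply, id, one_apply]
      by_cases h : rev k x = y
      · subst h
        rw [if_pos rfl]
        simpa [rev] using hz x.1
      · simp [h]
    have hDU : Commute D0 (U0 : Matrix (Σ i, Fin (k i)) (Σ i, Fin (k i)) K) := by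
      rw [hU0, Units.val_mul, hP]
      refine ((Commute.one_right _).add_right (hDJ.smul_right _)).mul_right (Commute.units_inv_right ?_)
      rw [hQ]
      exact (Commute.one_right _).add_right (hDJ.smul_right _)
    refine ⟨Φ (X * D0 * X⁻¹), by rw [hΦc, ← map_mul, hunit _ hDH, map_one], ?_, ?_⟩
    · rw [← map_mul, ← map_mul]
      congr 1
      have e : ∀ A B : Matrix (Σ i, Fin (k i)) (Σ i, Fin (k i)) K, X * A * X⁻¹ * (X * B * X⁻¹) = X * (A * B) * X⁻¹ := fun A B => by
        calc X * A * X⁻¹ * (X * B * X⁻¹) = X * A * (X⁻¹ * X) * B * X⁻¹ := by simp only [mul_assoc]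
          _ = X * (A * B) * X⁻¹ := by rw [nonsing_inv_mul X hXu, mul_one]; simp only [mul_assoc]
      rw [e, e, hDU.eq]
    · rw [Matrix.reindexAlgEquiv_apply, Matrix.reindex_apply, det_submatrix_equiv_self, det_mul_right_comm, det_mul,
        mul_nonsing_inv X hXu, det_one, one_mul, hD0, det_diagonal, Fintype.prod_sigma]
      simp [hk]

end Cfsg.Lib.UnitaryConj
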