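import Mathlib

/-! Norms for an involution of a finite commutative ring. -/

set_option autoImplicit false
set_option linter.style.haveILetI false

namespace Cfsg.Lib.NormEngine

open Polynomial

/-- A nondegenerate binary quadratic form over a finite field represents everything. -/
theorem exists_binary {k : Type*} [Field k] [Finite k] (t n c : k) (hd : t ^ 2 - 4 * n ≠ 0) :
    ∃ a b : k, a ^ 2 + t * a * b + n * b ^ 2 = c := by
  haveI := Fintype.ofFinite k
  by_cases h2 : ringChar k = 2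
  · obtain ⟨a, ha⟩ := FiniteField.isSquare_of_char_two h2 c
    exact ⟨a, 0, by rw [ha]; ring⟩
  · have h2' : (2 : k) ≠ 0 := Ring.two_ne_zero h2
    have hδ : -(t ^ 2 - 4 * n) ≠ 0 := neg_ne_zero.2 hd
    obtain ⟨u, b, hub⟩ := FiniteField.exists_root_sum_quadratic (R := k) (f := X ^ 2)
      (g := C (-(t ^ 2 - 4 * n)) * X ^ 2 + C (-(4 * c))) (by rw [degree_X_pow]; rfl)
      (by
        rw [degree_add_C (by rw [degree_C_mul_X_pow _ hδ]; exact Nat.cast_pos.2 two_pos), degree_C_mul_X_pow _ hδ]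
        rfl)
      (FiniteField.odd_card_of_char_ne_two h2)
    simp only [eval_pow, eval_X, eval_add, eval_mul, eval_C] at hub
    refine ⟨(u - t * b) / 2, b, ?_⟩
    have e : (u - t * b) / 2 * 2 = u - t * b := div_mul_cancel₀ _ h2'
    have h4 : (4 : k) ≠ 0 := by rw [show (4 : k) = 2 * 2 by norm_num]; exact mul_ne_zero h2' h2'
    apply mul_left_cancel₀ h4
    linear_combination hub + ((u - t * b) / 2 * 2 + (u - t * b) + 2 * t * b) * e

variable {S : Type*} [CommRing S]

/-- Solving `c + c²N = ν` for nilpotent `ν`. -/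
theorem exists_quadratic (ν N : S) {e : ℕ} (he : ν ^ e = 0) :
    ∀ R : Subring S, ν ∈ R → N ∈ R → ∃ c ∈ R, c + c ^ 2 * N = ν := by
  intro R hν hN
  let cs : ℕ → S := fun k => Nat.rec 0 (fun _ c => ν - N * c ^ 2) k
  have hs : ∀ k, cs (k + 1) = ν - N * cs k ^ 2 := fun k => rfl
  have hR : ∀ k, cs k ∈ R := by
    intro k
    induction k with
    | zero => exact R.zero_mem
    | succ k ih => rw [hs]; exact R.sub_mem hν (R.mul_mem hN (R.pow_mem ih 2))
  have key : ∀ k, ν ∣ cs k ∧ ν ^ (k + 1) ∣ cs (k + 1) - cs k := by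
    intro k
    induction k with
    | zero => exact ⟨dvd_zero _, by rw [hs]; simp [cs]⟩
    | succ k ih =>
      have h1 : ν ∣ cs (k + 1) := by
        rw [hs]; exact dvd_sub dvd_rfl ((dvd_pow ih.1 two_ne_zero).mul_left N)
      refine ⟨h1, ?_⟩
      have e : cs (k + 1 + 1) - cs (k + 1) = -(N * ((cs (k + 1) - cs k) * (cs (k + 1) + cs k))) := by
        rw [hs (k + 1)]; conv_lhs => rw [hs k]
        rw [hs k]; ring
      rw [e, pow_succ]
      exact (((mul_dvd_mul ih.2 (dvd_add h1 ih.1))).mul_left N).neg_right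
  refine ⟨cs e, hR e, ?_⟩
  have h := (key e).2
  rw [pow_succ, he, zero_mul, zero_dvd_iff, sub_eq_zero, hs] at h
  linear_combination -h

/-- Fixed units are norms. -/
theorem exists_norm [Finite S] (τ : S →+* S) (hτ : ∀ x, τ (τ x) = x) (ω : S) (hω : IsUnit (ω - τ ω)) (m : S)
    (hm : τ m = m) (hu : IsUnit m) : ∃ x, x * τ x = m := by
  classical
  let R : Subring S := RingHom.eqLocus τ (RingHom.id S)
  have hmem : ∀ x, x ∈ R ↔ τ x = x := fun x => Iff.rfl
  let t : R := ⟨ω + τ ω, by rw [hmem, map_add, hτ, add_comm]⟩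
  let n : R := ⟨ω * τ ω, by rw [hmem, map_mul, hτ, mul_comm]⟩
  let m' : R := ⟨m, hm⟩
  have hinvfix : ∀ u : Sˣ, τ (u : S) = u → τ ((u⁻¹ : Sˣ) : S) = ((u⁻¹ : Sˣ) : S) := fun u h => by
    have h1 : τ ((u⁻¹ : Sˣ) : S) * (u : S) = 1 := by
      conv_lhs => rw [← h, ← map_mul, Units.inv_mul, map_one]
    exact (Units.eq_inv_of_mul_eq_one_left ((mul_comm _ _).trans h1))
  obtain ⟨d, hd⟩ := hω
  have hdisc : IsUnit (t ^ 2 - 4 * n) := by
    have e1 : ((t ^ 2 - 4 * n : R) : S) = ((d * d : Sˣ) : S) := by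
      rw [Units.val_mul, hd]
      show (ω + τ ω) ^ 2 - 4 * (ω * τ ω) = _
      ring
    have hfix : τ (((d * d : Sˣ)) : S) = ((d * d : Sˣ) : S) := e1 ▸ (t ^ 2 - 4 * n : R).2
    refine IsUnit.of_mul_eq_one (⟨(((d * d)⁻¹ : Sˣ) : S), hinvfix _ hfix⟩ : R) (Subtype.ext ?_)
    show ((t ^ 2 - 4 * n : R) : S) * _ = 1
    rw [e1, Units.mul_inv]
  haveI : Finite R := inferInstance
  have hfield : ∀ I : MaximalSpectrum R, ∃ a b : R, a ^ 2 + t * a * b + n * b ^ 2 - m' ∈ I.asIdeal := by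
    intro I
    haveI := I.isMaximal
    letI := Ideal.Quotient.field I.asIdeal
    haveI : Finite (R ⧸ I.asIdeal) := Quotient.finite _
    let π := Ideal.Quotient.mk I.asIdeal
    obtain ⟨a, b, hab⟩ := exists_binary (π t) (π n) (π m') (by
      have h := (hdisc.map π).ne_zero
      rwa [map_sub, map_pow, map_mul, map_ofNat] at h)
    obtain ⟨a', rfl⟩ := Ideal.Quotient.mk_surjective a
    obtain ⟨b', rfl⟩ := Ideal.Quotient.mk_surjective b
    refine ⟨a', b', ?_⟩
    rw [← Ideal.Quotient.eq, map_add, map_add, map_pow, map_mul, map_mul, map_mul, map_pow]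
    exact hab
  choose A B hAB using hfield
  have hcop : Pairwise (Function.onFun IsCoprime fun I : MaximalSpectrum R => I.asIdeal) := fun I J hIJ =>
    Ideal.isCoprime_iff_sup_eq.2 (I.isMaximal.coprime_of_ne J.isMaximal fun e => hIJ (MaximalSpectrum.ext e))
  obtain ⟨a, ha⟩ := Ideal.exists_forall_sub_mem_ideal hcop A
  obtain ⟨b, hb⟩ := Ideal.exists_forall_sub_mem_ideal hcop B
  have hnil : IsNilpotent (a ^ 2 + t * a * b + n * b ^ 2 - m') := by
    rw [← mem_nilradical, nilradical_eq_sInf, Submodule.mem_sInf]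
    intro J hJ
    haveI : Ideal.IsPrime J := hJ
    let I : MaximalSpectrum R := ⟨J, IsArtinianRing.isMaximal_of_isPrime J⟩
    show _ ∈ I.asIdeal
    have e : a ^ 2 + t * a * b + n * b ^ 2 - m' = (A I ^ 2 + t * A I * B I + n * B I ^ 2 - m') +
        ((a - A I) * (a + A I + t * b) + (b - B I) * (n * (b + B I) + t * A I)) := by ring
    rw [e]
    exact add_mem (hAB I) (add_mem (Ideal.mul_mem_right _ _ (ha I)) (Ideal.mul_mem_right _ _ (hb I)))
  set x0 : S := (a : S) + (b : S) * ω with hx0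
  have hN0 : x0 * τ x0 = ((a ^ 2 + t * a * b + n * b ^ 2 : R) : S) := by
    rw [hx0, map_add, map_mul, show τ (a : S) = a from a.2, show τ (b : S) = b from b.2]
    show _ = (a : S) ^ 2 + (ω + τ ω) * a * b + (ω * τ ω) * (b : S) ^ 2
    ring
  have hm0 : IsUnit (x0 * τ x0) := by
    have := IsNilpotent.isUnit_add_left_of_commute (hnil.map R.subtype) hu (Commute.all _ _)
    rw [map_sub] at this
    change IsUnit (m + (((a ^ 2 + t * a * b + n * b ^ 2 : R) : S) - m)) at this
    rwa [add_sub_cancel, ← hN0] at this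
  obtain ⟨u0, hu0⟩ := hm0
  have hu0fix : τ (u0 : S) = u0 := by rw [hu0, map_mul, hτ, mul_comm]
  set ν : S := (m - x0 * τ x0) * ((u0⁻¹ : Sˣ) : S) with hν
  obtain ⟨e, he⟩ : IsNilpotent ν := by
    refine (Commute.all _ _).isNilpotent_mul_right ?_
    have := (hnil.map R.subtype).neg
    rw [map_sub, neg_sub] at this
    rw [hN0]
    exact this
  have hνR : ν ∈ R := by
    rw [hmem, hν, map_mul, map_sub, hm, map_mul τ x0, hτ, hinvfix u0 hu0fix, mul_comm (τ x0)]
  set z : S := ω * ((d⁻¹ : Sˣ) : S) with hz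
  have hτd : τ ((d⁻¹ : Sˣ) : S) = -((d⁻¹ : Sˣ) : S) := by
    have h1 : τ (d : S) = -(d : S) := by rw [hd, map_sub, hτ, neg_sub]
    have h2 : (-τ ((d⁻¹ : Sˣ) : S)) * (d : S) = 1 := by
      have := congrArg τ (Units.inv_mul d)
      rw [map_mul, h1, map_one] at this
      linear_combination this
    have h3 := Units.eq_inv_of_mul_eq_one_left ((mul_comm _ _).trans h2)
    linear_combination -h3
  have hz1 : z + τ z = 1 := by
    rw [hz, map_mul, hτd, mul_neg, ← sub_eq_add_neg, ← sub_mul, ← hd, Units.mul_inv]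
  have hzR : z * τ z ∈ R := by rw [hmem, map_mul, hτ, mul_comm]
  obtain ⟨c, hc, hceq⟩ := exists_quadratic ν (z * τ z) he R hνR hzR
  refine ⟨x0 * (1 + c * z), ?_⟩
  have hmν : x0 * τ x0 * (1 + ν) = m := by
    rw [hν, ← hu0, mul_add, mul_one, mul_left_comm, Units.mul_inv, mul_one, add_sub_cancel]
  rw [map_mul τ x0 (1 + c * z), map_add τ 1 (c * z), map_one, map_mul τ c z, show τ c = c from hc]
  linear_combination hmν + (x0 * τ x0) * hceq + (x0 * τ x0 * c) * hz1

end Cfsg.Lib.NormEngine
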