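import Mathlib

/-!
Products of two classes of `PSL_d`, `d ≥ 3`: the trace of `A * X`, `X` running over a class, changes along
transvections, so it cannot be zero everywhere or nowhere.
-/

set_option autoImplicit false

open Matrix

namespace Cfsg.Lib.ClassProductPSL

universe u

variable {F : Type u} [Field F] {n : Type} [Fintype n] [DecidableEq n]

theorem exists_functional {k : ℕ} {f : Fin k → (n → F)} (hf : LinearIndependent F f) (c : Fin k → F) :
    ∃ φ : n → F, ∀ i, φ ⬝ᵥ f i = c i := by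
  obtain ⟨L, hL⟩ := LinearMap.exists_extend ((Module.Basis.span hf).constr F c)
  refine ⟨fun j => L (Pi.single j 1), fun i => ?_⟩
  have h1 : L (f i) = c i := by
    have := LinearMap.congr_fun hL (Module.Basis.span hf i)
    rw [LinearMap.comp_apply, Module.Basis.constr_basis, Submodule.subtype_apply, Module.Basis.span_apply] at this
    exact this
  rw [← h1]
  conv_rhs => rw [pi_eq_sum_univ' (f i)]
  rw [map_sum]
  exact Finset.sum_congr rfl fun j _ => by rw [map_smul, smul_eq_mul, mul_comm]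

/-- A transvection. -/
def tv (v φ : n → F) (h : φ ⬝ᵥ v = 0) : SpecialLinearGroup n F :=
  ⟨1 + vecMulVec v φ, by
    rw [vecMulVec_eq Unit, det_one_add_replicateCol_mul_replicateRow, h, add_zero]⟩

theorem tv_mulVec (v φ : n → F) (h : φ ⬝ᵥ v = 0) (x : n → F) :
    (tv v φ h : Matrix n n F) *ᵥ x = x + (φ ⬝ᵥ x) • v := by
  show (1 + vecMulVec v φ) *ᵥ x = _
  rw [add_mulVec, one_mulVec, vecMulVec_mulVec, op_smul_eq_smul]

theorem tv_inv (v φ : n → F) (h : φ ⬝ᵥ v = 0) :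
    ((tv v φ h)⁻¹ : SpecialLinearGroup n F) = tv (-v) φ (by rw [dotProduct_neg, h, neg_zero]) := by
  refine inv_eq_of_mul_eq_one_right (Subtype.ext ?_)
  show (1 + vecMulVec v φ) * (1 + vecMulVec (-v) φ) = 1
  rw [add_mul, mul_add, mul_add, one_mul, one_mul, mul_one, vecMulVec_mul_vecMulVec, dotProduct_neg, h, neg_zero,
    zero_smul, vecMulVec_zero, add_zero, neg_vecMulVec, add_assoc, neg_add_cancel, add_zero]

theorem trace_conj_tv (A B : Matrix n n F) (v φ : n → F) :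
    (A * ((1 + vecMulVec v φ) * B * (1 + vecMulVec (-v) φ))).trace =
      (A * B).trace + (φ ⬝ᵥ B *ᵥ (A *ᵥ v) - φ ⬝ᵥ A *ᵥ (B *ᵥ v)) - (φ ⬝ᵥ B *ᵥ v) * (φ ⬝ᵥ A *ᵥ v) := by
  have e1 : ∀ (C : Matrix n n F) (x : n → F), (C * vecMulVec x φ).trace = φ ⬝ᵥ C *ᵥ x := fun C x => by
    rw [mul_vecMulVec, trace_vecMulVec, dotProduct_comm]
  have e2 : (A * (vecMulVec v φ * B)).trace = φ ⬝ᵥ B *ᵥ (A *ᵥ v) := by
    rw [← Matrix.mul_assoc, trace_mul_comm, ← Matrix.mul_assoc, e1, ← mulVec_mulVec]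
  have e3 : (A * (vecMulVec v φ * B * vecMulVec (-v) φ)).trace = -((φ ⬝ᵥ B *ᵥ v) * (φ ⬝ᵥ A *ᵥ v)) := by
    rw [vecMulVec_mul, vecMulVec_mul_vecMulVec, ← dotProduct_mulVec, vecMulVec_smul, Matrix.mul_smul, trace_smul,
      e1, mulVec_neg, dotProduct_neg, smul_eq_mul, neg_mul]
  have e4 : (A * (B * vecMulVec (-v) φ)).trace = -(φ ⬝ᵥ A *ᵥ (B *ᵥ v)) := by
    rw [← Matrix.mul_assoc, e1, ← mulVec_mulVec, mulVec_neg, mulVec_neg, dotProduct_neg]
  rw [add_mul, one_mul, mul_add, mul_one, mul_add (A), mul_add A, trace_add, trace_add, add_mul,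
    mul_add A, trace_add, e2, e3, e4]
  ring

theorem cmul (a b : SpecialLinearGroup n F) : ((a * b : SpecialLinearGroup n F) : Matrix n n F) = (a : Matrix n n F) * (b : Matrix n n F) := rfl

theorem cone : ((1 : SpecialLinearGroup n F) : Matrix n n F) = 1 := rfl

variable {A B : Matrix n n F}

/-- If the trace of `A * X` over a class is zero everywhere or nowhere, commutators are constrained. -/
theorem commutator_mem (hAB : ∀ k : SpecialLinearGroup n F,
      ((A * ((k : Matrix n n F) * B * ((k⁻¹ : SpecialLinearGroup n F) : Matrix n n F))).trace = 0 ↔ (A * B).trace = 0))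
    {v φ : n → F} (hv : φ ⬝ᵥ v = 0) (hq : φ ⬝ᵥ B *ᵥ v = 0 ∨ φ ⬝ᵥ A *ᵥ v = 0) :
    φ ⬝ᵥ (B *ᵥ (A *ᵥ v) - A *ᵥ (B *ᵥ v)) = 0 := by
  set d := φ ⬝ᵥ B *ᵥ (A *ᵥ v) - φ ⬝ᵥ A *ᵥ (B *ᵥ v) with hd
  rw [dotProduct_sub, ← hd]
  by_contra hd0
  have key : ∀ t : F, ((A * B).trace + t * d = 0 ↔ (A * B).trace = 0) := fun t => by
    have hv' : φ ⬝ᵥ (t • v) = 0 := by rw [dotProduct_smul, hv, smul_zero]
    have h := hAB (tv (t • v) φ hv')
    rw [tv_inv] at h
    change ((A * ((1 + vecMulVec (t • v) φ) * B * (1 + vecMulVec (-(t • v)) φ))).trace = 0 ↔ _) at h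
    rw [trace_conj_tv, mulVec_smul, mulVec_smul, mulVec_smul, mulVec_smul, dotProduct_smul, dotProduct_smul,
      dotProduct_smul, dotProduct_smul, smul_eq_mul, smul_eq_mul, smul_eq_mul, smul_eq_mul, ← mul_sub, ← hd] at h
    have h0 : t * (φ ⬝ᵥ B *ᵥ v) * (t * (φ ⬝ᵥ A *ᵥ v)) = 0 := by rcases hq with e | e <;> rw [e] <;> simp
    rwa [h0, sub_zero] at h
  by_cases h0 : (A * B).trace = 0
  · have := (key 1).2 h0
    rw [h0, zero_add, one_mul] at this
    exact hd0 this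
  · exact h0 ((key (-(A * B).trace / d)).1 (by rw [div_mul_cancel₀ _ hd0, add_neg_cancel]))

theorem not_independent (hAB : ∀ k : SpecialLinearGroup n F,
      ((A * ((k : Matrix n n F) * B * ((k⁻¹ : SpecialLinearGroup n F) : Matrix n n F))).trace = 0 ↔ (A * B).trace = 0))
    {v : n → F} (hli : LinearIndependent F ![v, A *ᵥ v, B *ᵥ v]) :
    ∃ c : F, B *ᵥ (A *ᵥ v) - A *ᵥ (B *ᵥ v) = c • v := by
  set x := B *ᵥ (A *ᵥ v) - A *ᵥ (B *ᵥ v)
  by_cases hx : x ∈ Submodule.span F (Set.range ![v, A *ᵥ v, B *ᵥ v])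
  · obtain ⟨c, hc⟩ := (Submodule.mem_span_range_iff_exists_fun F).1 hx
    rw [Fin.sum_univ_three] at hc
    obtain ⟨φ, hφ⟩ := exists_functional hli ![0, 1, 0]
    obtain ⟨ψ, hψ⟩ := exists_functional hli ![0, 0, 1]
    have h1 := commutator_mem hAB (v := v) (φ := φ) (hφ 0) (Or.inl (hφ 2))
    have h2 := commutator_mem hAB (v := v) (φ := ψ) (hψ 0) (Or.inr (hψ 1))
    have e0 := hφ 0; have e1 := hφ 1; have e2 := hφ 2
    have f0 := hψ 0; have f1 := hψ 1; have f2 := hψ 2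
    simp only [Matrix.cons_val_zero, Matrix.cons_val_one, Matrix.cons_val_two, Matrix.tail_cons, Matrix.head_cons] at e0 e1 e2 f0 f1 f2 hc
    change φ ⬝ᵥ x = 0 at h1
    change ψ ⬝ᵥ x = 0 at h2
    rw [← hc] at h1 h2
    simp [dotProduct_add, e0, e1, e2] at h1
    simp [dotProduct_add, f0, f1, f2] at h2
    exact ⟨c 0, by rw [← hc, h1, h2, zero_smul, zero_smul, add_zero, add_zero]⟩
  · exfalso
    have hli' : LinearIndependent F (Fin.snoc ![v, A *ᵥ v, B *ᵥ v] x) := linearIndependent_finSnoc.2 ⟨hli, hx⟩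
    obtain ⟨φ, hφ⟩ := exists_functional hli' (Fin.snoc 0 1)
    have hc : ∀ i, φ ⬝ᵥ ![v, A *ᵥ v, B *ᵥ v] i = 0 := fun i => by simpa using hφ i.castSucc
    have h3 : φ ⬝ᵥ x = 1 := by
      have h4 := hφ (Fin.last 3)
      rwa [Fin.snoc_last, Fin.snoc_last] at h4
    exact one_ne_zero (h3.symm.trans (commutator_mem hAB (hc 0) (Or.inl (hc 2))))

theorem exists_placed (hn : 3 ≤ Fintype.card n) {w v : n → F} (hw : LinearIndependent F ![w, B *ᵥ w])
    (hv : LinearIndependent F ![v, A *ᵥ v]) :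
    ∃ (k : SpecialLinearGroup n F) (x : n → F),
      LinearIndependent F ![x, A *ᵥ x, ((k : Matrix n n F) * B * ((k⁻¹ : SpecialLinearGroup n F) : Matrix n n F)) *ᵥ x] := by
  have step : ∀ (k : SpecialLinearGroup n F) (x : n → F), (k : Matrix n n F) *ᵥ w = x →
      ((k : Matrix n n F) * B * ((k⁻¹ : SpecialLinearGroup n F) : Matrix n n F)) *ᵥ x = (k : Matrix n n F) *ᵥ (B *ᵥ w) := by
    intro k x hx
    subst hx
    rw [mulVec_mulVec, mulVec_mulVec, Matrix.mul_assoc, ← cmul, inv_mul_cancel,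
      cone, Matrix.mul_one]
  obtain ⟨k, x, hk, hx⟩ : ∃ (k : SpecialLinearGroup n F) (x : n → F),
      (k : Matrix n n F) *ᵥ w = x ∧ LinearIndependent F ![x, A *ᵥ x] := by
    by_cases h : LinearIndependent F ![w, v]
    · obtain ⟨φ, hφ⟩ := exists_functional h ![1, 1]
      have h0 := hφ 0; have h1 := hφ 1
      simp only [Matrix.cons_val_zero, Matrix.cons_val_one] at h0 h1
      refine ⟨tv (v - w) φ (by rw [dotProduct_sub, h0, h1, sub_self]), v, ?_, hv⟩
      rw [tv_mulVec, h0, one_smul, add_sub_cancel]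
    · have hw0 : w ≠ 0 := hw.ne_zero 0
      obtain ⟨c, hc⟩ : ∃ c : F, c • w = v := by
        rw [LinearIndependent.pair_iff' hw0] at h
        push Not at h
        exact h
      refine ⟨1, w, by rw [cone, one_mulVec], ?_⟩
      rw [LinearIndependent.pair_iff' hw0]
      intro a ha
      have := (LinearIndependent.pair_iff' (hv.ne_zero 0)).1 hv a
      refine this ?_
      show a • v = A *ᵥ v
      rw [← hc, mulVec_smul, ← ha, smul_comm]
  have hy : LinearIndependent F ![x, (k : Matrix n n F) *ᵥ (B *ᵥ w)] := by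
    rw [← hk]
    have := hw.map' (k : Matrix n n F).mulVecLin (LinearMap.ker_eq_bot.2 (Matrix.mulVec_injective_iff_isUnit.2
      ((Matrix.isUnit_iff_isUnit_det _).2 (by rw [k.2]; exact isUnit_one))))
    have e : ⇑(k : Matrix n n F).mulVecLin ∘ ![w, B *ᵥ w] = ![(k : Matrix n n F) *ᵥ w, (k : Matrix n n F) *ᵥ (B *ᵥ w)] := by
      funext i
      fin_cases i <;> rfl
    rwa [e] at this
  set y := (k : Matrix n n F) *ᵥ (B *ᵥ w)
  by_cases hyu : y ∈ Submodule.span F (Set.range ![x, A *ᵥ x])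
  · obtain ⟨u, hu⟩ : ∃ u, u ∉ Submodule.span F (Set.range ![x, A *ᵥ x]) := by
      by_contra hall
      push Not at hall
      have htop : Submodule.span F (Set.range ![x, A *ᵥ x]) = ⊤ := eq_top_iff.2 fun z _ => hall z
      have := finrank_span_eq_card hx
      rw [htop, finrank_top, Module.finrank_fintype_fun_eq_card, Fintype.card_fin] at this
      omega
    have hle : Submodule.span F (Set.range ![x, y]) ≤ Submodule.span F (Set.range ![x, A *ᵥ x]) := by
      rw [Submodule.span_le]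
      rintro _ ⟨i, rfl⟩
      fin_cases i
      · exact Submodule.subset_span ⟨0, rfl⟩
      · exact hyu
    obtain ⟨φ, hφ⟩ := exists_functional (f := Fin.snoc ![x, y] u)
      (linearIndependent_finSnoc.2 ⟨hy, fun h => hu (hle h)⟩) (Fin.snoc ![0, 1] 0)
    have h0 : φ ⬝ᵥ x = 0 := by simpa using hφ (Fin.castSucc 0)
    have h1 : φ ⬝ᵥ y = 1 := by simpa using hφ (Fin.castSucc 1)
    have h2 : φ ⬝ᵥ u = 0 := by simpa using hφ (Fin.last 2)
    refine ⟨tv u φ h2 * k, x, ?_⟩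
    rw [step _ x (by rw [cmul, ← mulVec_mulVec, hk, tv_mulVec, h0, zero_smul, add_zero]),
      cmul, ← mulVec_mulVec, tv_mulVec, h1, one_smul]
    have : LinearIndependent F (Fin.snoc ![x, A *ᵥ x] (y + u)) := linearIndependent_finSnoc.2 ⟨hx, fun h => hu (by
      have := Submodule.sub_mem _ h hyu
      rwa [add_sub_cancel_left] at this)⟩
    convert this using 1
    funext i
    fin_cases i <;> rfl
  · refine ⟨k, x, ?_⟩
    rw [step k x hk]
    have : LinearIndependent F (Fin.snoc ![x, A *ᵥ x] y) := linearIndependent_finSnoc.2 ⟨hx, hyu⟩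
    convert this using 1
    funext i
    fin_cases i <;> rfl

theorem exists_moved {M : Matrix n n F} (hM : ∀ c : F, M ≠ c • 1) : ∃ v, LinearIndependent F ![v, M *ᵥ v] := by
  by_contra hall
  push Not at hall
  rcases isEmpty_or_nonempty n with he | ⟨⟨i₀⟩⟩
  · exact hM 0 (Matrix.ext fun i => isEmptyElim i)
  have hc : ∀ v : n → F, v ≠ 0 → ∃ c : F, c • v = M *ᵥ v := fun v hv => by
    have := hall v
    rw [LinearIndependent.pair_iff' hv] at this
    push Not at this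
    exact this
  choose c hc using fun i : n => hc (Pi.single i 1) (by simp)
  have hone : ∀ i, c i = c i₀ := fun i => by
    by_cases hi : i = i₀
    · rw [hi]
    have hne : (Pi.single i 1 + Pi.single i₀ 1 : n → F) ≠ 0 := fun h => by
      have := congrFun h i
      simp [hi] at this
    obtain ⟨a, ha⟩ : ∃ a : F, a • (Pi.single i 1 + Pi.single i₀ 1 : n → F) = M *ᵥ (Pi.single i 1 + Pi.single i₀ 1) := by
      have := hall (Pi.single i 1 + Pi.single i₀ 1)
      rw [LinearIndependent.pair_iff' hne] at this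
      push Not at this
      exact this
    rw [mulVec_add, ← hc, ← hc] at ha
    have e1 := congrFun ha i
    have e2 := congrFun ha i₀
    simp [hi, Ne.symm hi] at e1 e2
    rw [← e1, ← e2]
  refine hM (c i₀) (Matrix.ext_of_mulVec_single fun i => ?_)
  rw [← hc, hone, smul_mulVec, one_mulVec]

theorem not_const (hn : 3 ≤ Fintype.card n) (hA : ∀ c : F, A ≠ c • 1) (hB : ∀ c : F, B ≠ c • 1) :
    ¬ ∀ k : SpecialLinearGroup n F,
      ((A * ((k : Matrix n n F) * B * ((k⁻¹ : SpecialLinearGroup n F) : Matrix n n F))).trace = 0 ↔ (A * B).trace = 0) := by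
  intro hAB
  obtain ⟨w, hw⟩ := exists_moved hB
  obtain ⟨v₀, hv₀⟩ := exists_moved hA
  obtain ⟨k, v, hli⟩ := exists_placed hn hw hv₀
  set B' := (k : Matrix n n F) * B * ((k⁻¹ : SpecialLinearGroup n F) : Matrix n n F) with hB'
  have hAB' : ∀ g : SpecialLinearGroup n F,
      ((A * ((g : Matrix n n F) * B' * ((g⁻¹ : SpecialLinearGroup n F) : Matrix n n F))).trace = 0 ↔
        (A * B').trace = 0) := fun g => by
    have h := hAB (g * k)
    rw [_root_.mul_inv_rev, cmul, cmul] at h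
    rw [hAB k, ← h, hB']
    simp only [Matrix.mul_assoc]
  obtain ⟨φ, hφ⟩ := exists_functional hli ![0, 1, 0]
  have h0 : φ ⬝ᵥ v = 0 := hφ 0
  have h1 : φ ⬝ᵥ A *ᵥ v = 1 := hφ 1
  have h2 : φ ⬝ᵥ B' *ᵥ v = 0 := hφ 2
  -- move by a transvection fixing `v` and `B' v`
  set h := tv v φ h0 with hh
  set B'' := (h : Matrix n n F) * B' * ((h⁻¹ : SpecialLinearGroup n F) : Matrix n n F) with hB''
  have hAB'' : ∀ g : SpecialLinearGroup n F,
      ((A * ((g : Matrix n n F) * B'' * ((g⁻¹ : SpecialLinearGroup n F) : Matrix n n F))).trace = 0 ↔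
        (A * B'').trace = 0) := fun g => by
    have e := hAB' (g * h)
    rw [_root_.mul_inv_rev, cmul, cmul] at e
    rw [hAB' h, ← e, hB'']
    simp only [Matrix.mul_assoc]
  have hinv : ∀ x, ((h⁻¹ : SpecialLinearGroup n F) : Matrix n n F) *ᵥ x = x - (φ ⬝ᵥ x) • v := fun x => by
    rw [hh, tv_inv, tv_mulVec, smul_neg, ← sub_eq_add_neg]
  have hB''v : B'' *ᵥ v = B' *ᵥ v := by
    rw [hB'', ← mulVec_mulVec, ← mulVec_mulVec, hinv, h0, zero_smul, sub_zero, hh, tv_mulVec, h2, zero_smul, add_zero]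
  obtain ⟨a, ha⟩ := not_independent hAB' hli
  obtain ⟨b, hb⟩ := not_independent hAB'' (by rw [hB''v]; exact hli)
  rw [hB''v] at hb
  have e : B'' *ᵥ (A *ᵥ v) = B' *ᵥ (A *ᵥ v) + (φ ⬝ᵥ B' *ᵥ (A *ᵥ v)) • v - B' *ᵥ v := by
    rw [hB'', ← mulVec_mulVec, ← mulVec_mulVec, hinv, h1, one_smul, mulVec_sub, mulVec_sub, hh, tv_mulVec, tv_mulVec,
      h2, zero_smul, add_zero]
  rw [e, add_sub_assoc, sub_eq_iff_eq_add.1 ha] at hb
  set y := A *ᵥ (B' *ᵥ v)
  set u := B' *ᵥ v
  have : (a + (φ ⬝ᵥ (a • v + y)) - b) • v + (0 : F) • (A *ᵥ v) + (-1 : F) • u = 0 := by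
    rw [← sub_eq_zero] at hb
    rw [← hb]
    module
  have hz := Fintype.linearIndependent_iff.1 hli ![a + (φ ⬝ᵥ (a • v + y)) - b, 0, -1]
    (by rw [Fin.sum_univ_three]; exact this) 2
  simp at hz

end Cfsg.Lib.ClassProductPSL
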