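import Cfsg.Agent.Known.SympOrders.Analysis
import Cfsg.Agent.Classical.Orth.StdForms
import Cfsg.Agent.Classical.Misc.HyperbolicQuadric
import Cfsg.Agent.Classical.Misc.Dickson
import Mathlib

/-!
Upper bounds for element orders in the projective symplectic and orthogonal groups: some power `M` with
`M * (q - 1) ≤ q ^ (m + 1)` of every isometry of a non-degenerate form in dimension at most `2 m + 1` is `±1`.
-/

set_option autoImplicit false

open Polynomial Matrix UniqueFactorizationMonoid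

namespace Cfsg.Lib.ClassicalMaxOrder

section Numeric

/-- `q * ∏_{a < N} q ^ 2 ^ a = q ^ 2 ^ N` and `(q - 1) * ∏_{a < N} (q ^ 2 ^ a + 1) = q ^ 2 ^ N - 1`. -/
theorem prod_range_pow (q N : ℕ) : q * ∏ a ∈ Finset.range N, q ^ 2 ^ a = q ^ 2 ^ N ∧
    (q - 1) * ∏ a ∈ Finset.range N, (q ^ 2 ^ a + 1) = q ^ 2 ^ N - 1 := by
  induction N with
  | zero => simp
  | succ N ih =>
    have h : 2 ^ (N + 1) = 2 ^ N + 2 ^ N := by rw [pow_succ, mul_two]
    refine ⟨?_, ?_⟩
    · rw [Finset.prod_range_succ, ← mul_assoc, ih.1, h, pow_add]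
    · rw [Finset.prod_range_succ, ← mul_assoc, ih.2, h, pow_add]
      rw [mul_comm]
      simpa using (Nat.sq_sub_sq (q ^ 2 ^ N) 1).symm.trans (by rw [sq, one_pow])

theorem prod_bound (q : ℕ) (A : Finset ℕ) :
    (q - 1) * ∏ a ∈ A, (q ^ 2 ^ a + 1) ≤ q * ∏ a ∈ A, q ^ 2 ^ a := by
  rcases Nat.eq_zero_or_pos q with rfl | hq
  · simp
  obtain ⟨N, hN⟩ := A.exists_nat_subset_range
  obtain ⟨h1, h2⟩ := prod_range_pow q N
  have h3 : (q - 1) * ∏ a ∈ Finset.range N, (q ^ 2 ^ a + 1) ≤ q * ∏ a ∈ Finset.range N, q ^ 2 ^ a := by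
    rw [h1, h2]; exact Nat.sub_le _ _
  rw [← Finset.prod_sdiff hN, ← Finset.prod_sdiff hN] at h3
  have h4 : ∏ a ∈ Finset.range N \ A, q ^ 2 ^ a ≤ ∏ a ∈ Finset.range N \ A, (q ^ 2 ^ a + 1) :=
    Finset.prod_le_prod' fun a _ => Nat.le_succ _
  have h5 : 0 < ∏ a ∈ Finset.range N \ A, (q ^ 2 ^ a + 1) := Finset.prod_pos fun a _ => Nat.succ_pos _
  refine Nat.le_of_mul_le_mul_left ?_ h5
  calc (∏ a ∈ Finset.range N \ A, (q ^ 2 ^ a + 1)) * ((q - 1) * ∏ a ∈ A, (q ^ 2 ^ a + 1))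
      = (q - 1) * ((∏ a ∈ Finset.range N \ A, (q ^ 2 ^ a + 1)) * ∏ a ∈ A, (q ^ 2 ^ a + 1)) := by ring
    _ ≤ q * ((∏ a ∈ Finset.range N \ A, q ^ 2 ^ a) * ∏ a ∈ A, q ^ 2 ^ a) := h3
    _ ≤ q * ((∏ a ∈ Finset.range N \ A, (q ^ 2 ^ a + 1)) * ∏ a ∈ A, q ^ 2 ^ a) :=
        Nat.mul_le_mul_left _ (Nat.mul_le_mul_right _ h4)
    _ = (∏ a ∈ Finset.range N \ A, (q ^ 2 ^ a + 1)) * (q * ∏ a ∈ A, q ^ 2 ^ a) := by ring

/-- The 2-part `2 ^ a` of `d` gives a divisor `q ^ 2 ^ a + 1` of `q ^ d + 1`. -/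
theorem exists_class (q d : ℕ) (hd : 1 ≤ d) : ∃ a, 2 ^ a ≤ d ∧ q ^ 2 ^ a + 1 ∣ q ^ d + 1 := by
  obtain ⟨a, c, hc, rfl⟩ := Nat.exists_eq_two_pow_mul_odd (show d ≠ 0 by omega)
  refine ⟨a, Nat.le_mul_of_pos_right _ hc.pos, ?_⟩
  rw [pow_mul]
  simpa using hc.nat_add_dvd_pow_add_pow (q ^ 2 ^ a) 1

/-- Adding a divisor `q ^ d + 1` to a least common multiple. -/
theorem extend_plus {q L D d : ℕ} {A : Finset ℕ} (hq : 2 ≤ q) (hd : 1 ≤ d) (hL : 1 ≤ L) (hA : ∀ a ∈ A, q ^ 2 ^ a + 1 ∣ L)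
    (hb : L * ∏ a ∈ A, q ^ 2 ^ a ≤ q ^ D * ∏ a ∈ A, (q ^ 2 ^ a + 1)) :
    ∃ A' : Finset ℕ, (∀ a ∈ A', q ^ 2 ^ a + 1 ∣ Nat.lcm L (q ^ d + 1)) ∧
      Nat.lcm L (q ^ d + 1) * ∏ a ∈ A', q ^ 2 ^ a ≤ q ^ (D + d) * ∏ a ∈ A', (q ^ 2 ^ a + 1) := by
  obtain ⟨a, had, hdvd⟩ := exists_class q d hd
  have hle : Nat.lcm L (q ^ d + 1) ≤ L * (q ^ d + 1) :=
    Nat.le_of_dvd (Nat.mul_pos hL (Nat.succ_pos _)) (Nat.lcm_dvd_mul _ _)
  by_cases ha : a ∈ A
  · refine ⟨A, fun x hx => (hA x hx).trans (Nat.dvd_lcm_left _ _), ?_⟩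
    obtain ⟨k, hk⟩ := hdvd
    obtain ⟨l, hl⟩ := hA a ha
    have hk1 : k ≤ q ^ d := by
      by_contra hlt
      have := Nat.mul_le_mul (show 2 ≤ q ^ 2 ^ a + 1 from Nat.succ_le_succ (Nat.pow_pos (by omega)))
        (show q ^ d + 1 ≤ k by omega)
      omega
    have hle2 : Nat.lcm L (q ^ d + 1) ≤ L * q ^ d := by
      refine (Nat.le_of_dvd ?_ (Nat.lcm_dvd (dvd_mul_right L k) ?_)).trans (Nat.mul_le_mul_left _ hk1)
      · refine Nat.mul_pos hL (Nat.pos_of_ne_zero fun h => ?_)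
        rw [h, mul_zero] at hk; omega
      · rw [hk, hl]
        exact Nat.mul_dvd_mul (dvd_mul_right _ _) dvd_rfl
    calc Nat.lcm L (q ^ d + 1) * ∏ x ∈ A, q ^ 2 ^ x ≤ L * q ^ d * ∏ x ∈ A, q ^ 2 ^ x :=
          Nat.mul_le_mul_right _ hle2
      _ = q ^ d * (L * ∏ x ∈ A, q ^ 2 ^ x) := by ring
      _ ≤ q ^ d * (q ^ D * ∏ x ∈ A, (q ^ 2 ^ x + 1)) := Nat.mul_le_mul_left _ hb
      _ = _ := by rw [pow_add]; ring
  · refine ⟨insert a A, ?_, ?_⟩
    · intro x hx
      rcases Finset.mem_insert.1 hx with rfl | hx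
      · exact hdvd.trans (Nat.dvd_lcm_right _ _)
      · exact (hA x hx).trans (Nat.dvd_lcm_left _ _)
    rw [Finset.prod_insert ha, Finset.prod_insert ha]
    have h1 : (q ^ d + 1) * q ^ 2 ^ a ≤ q ^ d * (q ^ 2 ^ a + 1) := by
      have := Nat.pow_le_pow_right (show 0 < q by omega) had
      rw [add_mul, mul_add, one_mul, mul_one]; omega
    calc Nat.lcm L (q ^ d + 1) * (q ^ 2 ^ a * ∏ x ∈ A, q ^ 2 ^ x)
        ≤ L * (q ^ d + 1) * (q ^ 2 ^ a * ∏ x ∈ A, q ^ 2 ^ x) := Nat.mul_le_mul_right _ hle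
      _ = ((q ^ d + 1) * q ^ 2 ^ a) * (L * ∏ x ∈ A, q ^ 2 ^ x) := by ring
      _ ≤ (q ^ d * (q ^ 2 ^ a + 1)) * (q ^ D * ∏ x ∈ A, (q ^ 2 ^ x + 1)) := Nat.mul_le_mul h1 hb
      _ = _ := by rw [pow_add]; ring

/-- Adding a divisor `q ^ d - 1` to a least common multiple. -/
theorem extend_minus {q L D d : ℕ} {A : Finset ℕ} (hq : 2 ≤ q) (hd : 1 ≤ d) (hL : 1 ≤ L)
    (hA : ∀ a ∈ A, q ^ 2 ^ a + 1 ∣ L)
    (hb : L * ∏ a ∈ A, q ^ 2 ^ a ≤ q ^ D * ∏ a ∈ A, (q ^ 2 ^ a + 1)) :
    (∀ a ∈ A, q ^ 2 ^ a + 1 ∣ Nat.lcm L (q ^ d - 1)) ∧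
      Nat.lcm L (q ^ d - 1) * ∏ a ∈ A, q ^ 2 ^ a ≤ q ^ (D + d) * ∏ a ∈ A, (q ^ 2 ^ a + 1) := by
  refine ⟨fun a ha => (hA a ha).trans (Nat.dvd_lcm_left _ _), ?_⟩
  have h1 : q ≤ q ^ d := Nat.le_self_pow (by omega) q
  have hle : Nat.lcm L (q ^ d - 1) ≤ L * q ^ d :=
    (Nat.le_of_dvd (Nat.mul_pos hL (by omega)) (Nat.lcm_dvd_mul _ _)).trans
      (Nat.mul_le_mul_left _ (Nat.sub_le _ _))
  calc Nat.lcm L (q ^ d - 1) * ∏ x ∈ A, q ^ 2 ^ x ≤ L * q ^ d * ∏ x ∈ A, q ^ 2 ^ x :=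
        Nat.mul_le_mul_right _ hle
    _ = q ^ d * (L * ∏ x ∈ A, q ^ 2 ^ x) := by ring
    _ ≤ q ^ d * (q ^ D * ∏ x ∈ A, (q ^ 2 ^ x + 1)) := Nat.mul_le_mul_left _ hb
    _ = _ := by rw [pow_add]; ring

/-- `E ≤ 2 k + 1` (and `E ≤ 2 k` if `p = 2`) forces `p ^ clog p E ≤ q ^ k`. -/
theorem clog_pow_le {p q E k : ℕ} (hp : 2 ≤ p) (hpq : p ≤ q) (hE : E ≤ p ^ k) :
    p ^ Nat.clog p E ≤ q ^ k :=
  (Nat.pow_le_pow_right (by omega) (Nat.clog_le_of_le_pow hE)).trans (Nat.pow_le_pow_left hpq k)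

theorem two_mul_le_two_pow (k : ℕ) : 2 * k ≤ 2 ^ k := by
  rcases k with _ | k
  · simp
  · rw [pow_succ, mul_comm]
    exact Nat.mul_le_mul_right 2 k.lt_two_pow_self

theorem two_mul_add_one_le_pow {p : ℕ} (hp : 3 ≤ p) (k : ℕ) : 2 * k + 1 ≤ p ^ k := by
  induction k with
  | zero => simp
  | succ k ih =>
    rw [pow_succ]
    nlinarith

theorem two_mul_add_two_le_pow {p : ℕ} (hp : 3 ≤ p) {k : ℕ} (hk : 2 ≤ k) : 2 * k + 2 ≤ p ^ k := by
  induction k, hk using Nat.le_induction with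
  | base => nlinarith
  | succ k hk ih =>
    rw [pow_succ]
    nlinarith

end Numeric

section Factors

variable {F : Type*} [Field F] [Fintype F]

local notation "du" => DualPoly.dual (RingHom.id F)
local notation "q" => Fintype.card F

theorem X_pow_sub_one_dvd {r L : ℕ} (h : r ∣ L) : (X ^ r - 1 : F[X]) ∣ X ^ L - 1 := by
  obtain ⟨c, rfl⟩ := h
  simpa [pow_mul] using sub_dvd_pow_sub_pow ((X : F[X]) ^ r) 1 c

theorem two_dvd_card_pow_sub (hq : Odd q) (d : ℕ) : 2 ∣ q ^ d - 1 := by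
  obtain ⟨k, hk⟩ := hq.pow (n := d)
  exact ⟨k, by omega⟩

theorem two_dvd_card_pow_add (hq : Odd q) (d : ℕ) : 2 ∣ q ^ d + 1 := by
  obtain ⟨k, hk⟩ := hq.pow (n := d)
  exact ⟨k + 1, by omega⟩

/-- The semisimple part: a least common multiple of root orders over a self-dual set of irreducible factors. -/
theorem exists_lcm (S : Finset F[X])
    (hS : ∀ f ∈ S, f.Monic ∧ Irreducible f ∧ f.coeff 0 ≠ 0 ∧ du f ∈ S ∧ ¬ f ∣ X ^ 2 - 1) :
    ∃ (L D : ℕ) (A : Finset ℕ), 1 ≤ L ∧ (∀ f ∈ S, f ∣ X ^ L - 1) ∧ (S.Nonempty → Odd q → 2 ∣ L) ∧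
      2 * D = ∑ f ∈ S, f.natDegree ∧ (∀ a ∈ A, q ^ 2 ^ a + 1 ∣ L) ∧
      L * ∏ a ∈ A, q ^ 2 ^ a ≤ q ^ D * ∏ a ∈ A, (q ^ 2 ^ a + 1) := by
  classical
  induction S using Finset.strongInduction with
  | H S ih =>
    rcases S.eq_empty_or_nonempty with rfl | ⟨f, hf⟩
    · exact ⟨1, 0, ∅, le_rfl, by simp, by simp, by simp, by simp, by simp⟩
    obtain ⟨hfm, hfi, hf0, hfd, hf2⟩ := hS f hf
    obtain ⟨⟨hr1, hr2⟩, hsd⟩ := SympOrders.root_orders hfm hfi hf0
    by_cases hd : du f = f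
    · obtain ⟨d, hdeg, hdr⟩ := (hsd hd).resolve_left hf2
      have hd1 : 1 ≤ d := by have := hfi.natDegree_pos; omega
      obtain ⟨L, D, A, hL, hLd, -, hD, hA, hb⟩ := ih (S.erase f) (Finset.erase_ssubset hf) fun g hg => by
        obtain ⟨hne, hg'⟩ := Finset.mem_erase.1 hg
        obtain ⟨hgm, hgi, hg0, hgd, hg2⟩ := hS g hg'
        refine ⟨hgm, hgi, hg0, Finset.mem_erase.2 ⟨fun h => hne ?_, hgd⟩, hg2⟩
        rw [← DualPoly.dual_dual (σ := RingHom.id F) (fun _ => rfl) hgm hg0, h, hd]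
      obtain ⟨A', hA', hb'⟩ := extend_plus Fintype.one_lt_card hd1 hL hA hb
      refine ⟨Nat.lcm L (q ^ d + 1), D + d, A', Nat.pos_of_ne_zero (Nat.lcm_ne_zero (by omega) (by omega)),
        fun g hg => ?_, fun _ ho => (two_dvd_card_pow_add ho d).trans (Nat.dvd_lcm_right _ _), ?_, hA', hb'⟩
      · by_cases hgf : g = f
        · rw [hgf]; exact hdr.trans (X_pow_sub_one_dvd (Nat.dvd_lcm_right _ _))
        · exact (hLd g (Finset.mem_erase.2 ⟨hgf, hg⟩)).trans (X_pow_sub_one_dvd (Nat.dvd_lcm_left _ _))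
      · rw [← Finset.add_sum_erase S _ hf, hdeg]; omega
    · have hS' : (S.erase f).erase (du f) ⊂ S :=
        (Finset.erase_subset _ _).trans_ssubset (Finset.erase_ssubset hf)
      obtain ⟨L, D, A, hL, hLd, -, hD, hA, hb⟩ := ih _ hS' fun g hg => by
        obtain ⟨hne, hg'⟩ := Finset.mem_erase.1 hg
        obtain ⟨hne', hg'⟩ := Finset.mem_erase.1 hg'
        obtain ⟨hgm, hgi, hg0, hgd, hg2⟩ := hS g hg'
        refine ⟨hgm, hgi, hg0, Finset.mem_erase.2 ⟨fun h => hne' ?_, Finset.mem_erase.2 ⟨fun h => hne ?_, hgd⟩⟩, hg2⟩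
        · rw [← DualPoly.dual_dual (σ := RingHom.id F) (fun _ => rfl) hgm hg0, h,
            DualPoly.dual_dual (fun _ => rfl) hfm hf0]
        · rw [← DualPoly.dual_dual (σ := RingHom.id F) (fun _ => rfl) hgm hg0, h]
      have hd1 : 1 ≤ f.natDegree := hfi.natDegree_pos
      have hq2 : 2 ≤ q := Fintype.one_lt_card
      obtain ⟨hA', hb'⟩ := extend_minus hq2 hd1 hL hA hb
      have hpos : 0 < q ^ f.natDegree - 1 := by have := Nat.le_self_pow (show f.natDegree ≠ 0 by omega) q; omega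
      refine ⟨Nat.lcm L (q ^ f.natDegree - 1), D + f.natDegree, A,
        Nat.pos_of_ne_zero (Nat.lcm_ne_zero (by omega) (by omega)),
        fun g hg => ?_, fun _ ho => (two_dvd_card_pow_sub ho _).trans (Nat.dvd_lcm_right _ _), ?_, hA', hb'⟩
      · by_cases hgf : g = f
        · rw [hgf]; exact hr1.trans (X_pow_sub_one_dvd (Nat.dvd_lcm_right _ _))
        · by_cases hgd : g = du f
          · rw [hgd]; exact hr2.trans (X_pow_sub_one_dvd (Nat.dvd_lcm_right _ _))
          · exact (hLd g (Finset.mem_erase.2 ⟨hgd, Finset.mem_erase.2 ⟨hgf, hg⟩⟩)).trans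
              (X_pow_sub_one_dvd (Nat.dvd_lcm_left _ _))
      · rw [← Finset.add_sum_erase S _ hf, ← Finset.add_sum_erase (S.erase f) _ (Finset.mem_erase.2 ⟨hd, hfd⟩),
          DualPoly.dual_natDegree (σ := RingHom.id F) hf0]
        omega

theorem eq_X_sub_or_add {f : F[X]} (hm : f.Monic) (hi : Irreducible f) (h : f ∣ X ^ 2 - 1) :
    f = X - C 1 ∨ f = X + C 1 := by
  rw [show (X : F[X]) ^ 2 - 1 = (X - C 1) * (X + C 1) by rw [C_1]; ring] at h
  rcases hi.prime.dvd_or_dvd h with h | h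
  · exact Or.inl (eq_of_monic_of_associated hm (monic_X_sub_C 1) (hi.associated_of_dvd (irreducible_X_sub_C 1) h))
  · exact Or.inr (eq_of_monic_of_associated hm (monic_X_add_C 1)
      (hi.associated_of_dvd (irreducible_of_degree_eq_one (degree_X_add_C 1)) h))

/-- The numerical heart: a self-dual polynomial of degree at most `2 m + 1` divides `X ^ M ± 1` with `M` small. -/
theorem exists_exponent (p : ℕ) [Fact p.Prime] [CharP F p] {μ : F[X]} (hμ : μ.Monic) (h0 : μ.coeff 0 ≠ 0)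
    (hsd : du μ = μ) {m : ℕ} (hm : 2 ≤ m) (hdeg : μ.natDegree ≤ 2 * m + 1) (hp2 : p = 2 → μ.natDegree ≤ 2 * m)
    (hm2 : μ.natDegree ≤ 2 * m ∨ 3 ≤ m) :
    ∃ M, 1 ≤ M ∧ (q - 1) * M ≤ q ^ (m + 1) ∧ (μ ∣ X ^ M - 1 ∨ μ ∣ X ^ M + 1) := by
  classical
  have hp : p.Prime := Fact.out
  obtain ⟨n, -, hcard⟩ := FiniteField.card F p
  have hpq : p ≤ q := hcard ▸ Nat.le_self_pow n.ne_zero p
  have hq2 : 2 ≤ q := Fintype.one_lt_card
  haveI : CharP F[X] p := inferInstance
  set S := (normalizedFactors μ).toFinset with hS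
  set e : F[X] → ℕ := fun f => (normalizedFactors μ).count f with he
  have hmem : ∀ f ∈ S, f.Monic ∧ Irreducible f ∧ f ∣ μ ∧ f.coeff 0 ≠ 0 := fun f hf => by
    rw [hS, Multiset.mem_toFinset] at hf
    have hfi := irreducible_of_normalized_factor f hf
    have hfd := dvd_of_mem_normalizedFactors hf
    refine ⟨?_, hfi, hfd, fun h => h0 ?_⟩
    · have := normalize_normalized_factor f hf
      rw [← this]; exact monic_normalize hfi.ne_zero
    · obtain ⟨c, hc⟩ := hfd
      rw [hc, mul_coeff_zero, h, zero_mul]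
  have hprod : μ = ∏ f ∈ S, f ^ e f := by
    conv_lhs => rw [← hμ.normalize_eq_self, ← prod_normalizedFactors_eq hμ.ne_zero]
    exact Finset.prod_multiset_count _
  have hdegsum : μ.natDegree = ∑ f ∈ S, e f * f.natDegree := by
    conv_lhs => rw [hprod]
    rw [natDegree_prod _ _ fun f hf => pow_ne_zero _ (hmem f hf).1.ne_zero]
    exact Finset.sum_congr rfl fun f _ => natDegree_pow f (e f)
  have he1 : ∀ f ∈ S, 1 ≤ e f := fun f hf => Multiset.one_le_count_iff_mem.2 (Multiset.mem_toFinset.1 hf)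
  have hdu : ∀ f ∈ S, du f ∈ S ∧ e f ≤ e (du f) := fun f hf => by
    obtain ⟨hfm, hfi, hfd, hf0⟩ := hmem f hf
    have hdm : (du f).Monic := DualPoly.dual_monic hf0
    have hdi : Irreducible (du f) := DualPoly.dual_irreducible (fun _ => rfl) hfm hfi hf0
    have hd : du f ^ e f ∣ μ := by
      have h1 : f ^ e f ∣ μ := by rw [hprod]; exact Finset.dvd_prod_of_mem _ hf
      obtain ⟨c, hc⟩ := h1
      rw [← SympOrders.du_pow]
      exact ⟨du c, by rw [← DualPoly.dual_mul, ← hc, hsd]⟩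
    have hle : e f ≤ e (du f) := by
      have := (dvd_iff_normalizedFactors_le_normalizedFactors (pow_ne_zero _ hdm.ne_zero) hμ.ne_zero).1 hd
      rw [normalizedFactors_pow, normalizedFactors_irreducible hdi, hdm.normalize_eq_self] at this
      simpa [he] using Multiset.count_le_of_le (du f) this
    exact ⟨by rw [hS, Multiset.mem_toFinset, ← Multiset.one_le_count_iff_mem]; exact (he1 f hf).trans hle, hle⟩
  have hcop : (S : Set F[X]).Pairwise (Function.onFun IsCoprime fun f => f ^ e f) := fun f hf g hg hne => by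
    refine IsCoprime.pow ((hmem f hf).2.1.coprime_iff_not_dvd.2 fun h => hne ?_)
    exact eq_of_monic_of_associated (hmem f hf).1 (hmem g hg).1 ((hmem f hf).2.1.associated_of_dvd (hmem g hg).2.1 h)
  have key : ∀ (u : F[X]) (k : ℕ), (∀ f ∈ S, f ∣ u ∧ e f ≤ p ^ k) → μ ∣ u ^ p ^ k := fun u k h => by
    rw [hprod]
    exact Finset.prod_dvd_of_coprime hcop fun f hf =>
      (pow_dvd_pow f (h f hf).2).trans (pow_dvd_pow_of_dvd (h f hf).1 _)
  have hfrob : ∀ (L k : ℕ), ((X : F[X]) ^ L - 1) ^ p ^ k = X ^ (L * p ^ k) - 1 := fun L k => by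
    rw [sub_pow_char_pow, one_pow, ← pow_mul]
  set S2 := S.filter (fun f => ¬ f ∣ X ^ 2 - 1) with hS2
  have hsing : ∀ f ∈ S, f ∉ S2 → f = X - C 1 ∨ f = X + C 1 := fun f hf hf2 =>
    eq_X_sub_or_add (hmem f hf).1 (hmem f hf).2.1 (by by_contra h; exact hf2 (Finset.mem_filter.2 ⟨hf, h⟩))
  rcases S2.eq_empty_or_nonempty with hemp | hne
  · -- only the factors `X ± 1`
    have hall : ∀ f ∈ S, f = X - C 1 ∨ f = X + C 1 := fun f hf => hsing f hf (by simp [hemp])
    have hsum : ∀ f ∈ S, e f = e f * f.natDegree := fun f hf => by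
      rcases hall f hf with rfl | rfl
      · rw [natDegree_X_sub_C, mul_one]
      · rw [natDegree_X_add_C, mul_one]
    by_cases hboth : X - C 1 ∈ S ∧ X + C 1 ∈ S ∧ (X - C 1 : F[X]) ≠ X + C 1
    · obtain ⟨hm1, hp1, hne1⟩ := hboth
      have hp3 : 3 ≤ p := by
        rcases hp.two_le.lt_or_eq with h | h
        · exact h
        · exfalso; subst h
          refine hne1 ?_
          rw [CharTwo.sub_eq_add]
      have hb : ∀ f ∈ S, e f ≤ 2 * (m - 1) + (if 3 ≤ m then 2 else 1) := fun f hf => by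
        obtain ⟨g, hg, hgne⟩ : ∃ g ∈ S, g ≠ f := by
          rcases hall f hf with rfl | rfl
          · exact ⟨_, hp1, fun h => hne1 h.symm⟩
          · exact ⟨_, hm1, hne1⟩
        have h1 := Finset.add_le_sum (f := fun x => e x * x.natDegree) (fun x _ => Nat.zero_le _) hf hg hgne.symm
        rw [← hdegsum, ← hsum f hf, ← hsum g hg] at h1
        have := he1 g hg
        split_ifs <;> omega
      refine ⟨2 * p ^ Nat.clog p ((S.sup e)), Nat.mul_pos two_pos (Nat.pow_pos hp.pos), ?_, Or.inl ?_⟩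
      · have hE : S.sup e ≤ p ^ (m - 1) := Finset.sup_le fun f hf => (hb f hf).trans (by
          split_ifs with h
          · exact two_mul_add_two_le_pow hp3 (by omega)
          · exact two_mul_add_one_le_pow hp3 _)
        have h1 := clog_pow_le hp.two_le hpq hE
        calc (q - 1) * (2 * p ^ Nat.clog p (S.sup e)) ≤ q * (q * q ^ (m - 1)) :=
              Nat.mul_le_mul (Nat.sub_le _ _) (Nat.mul_le_mul hq2 h1)
          _ = q ^ (m + 1) := by rw [← pow_succ', ← pow_succ', Nat.sub_add_cancel (by omega)]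
      · rw [← hfrob]
        refine key _ _ fun f hf => ⟨?_, (Finset.le_sup hf).trans (Nat.le_pow_clog hp.one_lt _)⟩
        rw [show (X : F[X]) ^ 2 - 1 = (X - C 1) * (X + C 1) by rw [C_1]; ring]
        rcases hall f hf with rfl | rfl
        · exact dvd_mul_right _ _
        · exact dvd_mul_left _ _
    · obtain ⟨u, hu, hu'⟩ : ∃ u : F[X], (u = X - C 1 ∨ u = X + C 1) ∧ ∀ f ∈ S, f = u := by
        by_cases h1 : (X - C 1 : F[X]) ∈ S
        · refine ⟨_, Or.inl rfl, fun f hf => ?_⟩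
          rcases hall f hf with rfl | rfl
          · rfl
          · by_contra hne; exact hboth ⟨h1, hf, fun h => hne h.symm⟩
        · exact ⟨_, Or.inr rfl, fun f hf => (hall f hf).resolve_left fun h => h1 (h ▸ hf)⟩
      have hE : S.sup e ≤ p ^ m := Finset.sup_le fun f hf => by
        have h1 : e f * f.natDegree ≤ μ.natDegree := hdegsum ▸ Finset.single_le_sum (f := fun x => e x * x.natDegree)
          (fun x _ => Nat.zero_le _) hf
        rw [← hsum f hf] at h1
        rcases hp.two_le.lt_or_eq with h | h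
        · exact (h1.trans hdeg).trans (two_mul_add_one_le_pow h m)
        · subst h; exact (h1.trans (hp2 rfl)).trans (two_mul_le_two_pow m)
      refine ⟨p ^ Nat.clog p (S.sup e), Nat.pow_pos hp.pos, ?_, ?_⟩
      · calc (q - 1) * p ^ Nat.clog p (S.sup e) ≤ q * q ^ m :=
              Nat.mul_le_mul (Nat.sub_le _ _) (clog_pow_le hp.two_le hpq hE)
          _ = q ^ (m + 1) := by rw [← pow_succ']
      · have h := key u (Nat.clog p (S.sup e)) fun f hf =>
          ⟨dvd_of_eq (hu' f hf), (Finset.le_sup hf).trans (Nat.le_pow_clog hp.one_lt _)⟩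
        rcases hu with rfl | rfl
        · left; rwa [C_1, sub_pow_char_pow, one_pow] at h
        · right; rwa [C_1, add_pow_char_pow, one_pow] at h
  · obtain ⟨L, D, A, hL, hLd, hL2, hD, hA, hb⟩ := exists_lcm S2 fun f hf => by
      obtain ⟨hf, hf2⟩ := Finset.mem_filter.1 hf
      obtain ⟨hfm, hfi, hfd, hf0⟩ := hmem f hf
      refine ⟨hfm, hfi, hf0, Finset.mem_filter.2 ⟨(hdu f hf).1, fun h => hf2 ?_⟩, hf2⟩
      rcases eq_X_sub_or_add (DualPoly.dual_monic hf0) (DualPoly.dual_irreducible (fun _ => rfl) hfm hfi hf0) h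
        with h1 | h1 <;> rw [← DualPoly.dual_dual (σ := RingHom.id F) (fun _ => rfl) hfm hf0, h1]
      · rw [DualPoly.dual_X_sub_one]
        exact ⟨X + C 1, by rw [C_1]; ring⟩
      · have : du (X + C (1 : F)) = X + C 1 := by
          have hm' : (du (X + C (1 : F))).Monic := DualPoly.dual_monic (by simp)
          rw [hm'.eq_X_add_C (by rw [DualPoly.dual_natDegree (by simp), natDegree_X_add_C]),
            DualPoly.dual_coeff_zero (monic_X_add_C 1)]
          simp
        rw [this]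
        exact ⟨X - C 1, by rw [C_1]; ring⟩
    have hsplit : ∑ f ∈ S2, e f * f.natDegree + ∑ f ∈ S.filter (fun f => f ∣ X ^ 2 - 1), e f * f.natDegree =
        μ.natDegree := by
      rw [hdegsum, hS2, add_comm]
      exact Finset.sum_filter_add_sum_filter_not S _ _
    have hge : 2 * D ≤ ∑ f ∈ S2, e f * f.natDegree := hD ▸ Finset.sum_le_sum fun f hf =>
      Nat.le_mul_of_pos_left _ (he1 f (Finset.mem_filter.1 hf).1)
    have hE : S.sup e ≤ p ^ (m - D) := Finset.sup_le fun f hf => by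
      by_cases hf2 : f ∈ S2
      · -- a factor other than `X ± 1` pays twice for its multiplicity
        suffices h : 2 * D + 2 * (e f - 1) ≤ ∑ g ∈ S2, e g * g.natDegree by
          have hk : e f - 1 ≤ m - D := by omega
          have h1 : e f ≤ p ^ (e f - 1) := by
            have := (e f - 1).lt_pow_self hp.one_lt
            omega
          exact h1.trans (Nat.pow_le_pow_right hp.pos hk)
        obtain ⟨hfm, hfi, hfd, hf0⟩ := hmem f hf
        have hsub : ∀ g ∈ S2, g.natDegree + (e g - 1) * g.natDegree = e g * g.natDegree := fun g hg => by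
          obtain ⟨k, hk⟩ : ∃ k, e g = k + 1 := ⟨e g - 1, by have := he1 g (Finset.mem_filter.1 hg).1; omega⟩
          rw [hk, Nat.add_sub_cancel, add_mul, one_mul, add_comm]
        rw [← Finset.sum_congr rfl hsub, Finset.sum_add_distrib, ← hD]
        refine Nat.add_le_add_left ?_ _
        have hdeg1 := hfi.natDegree_pos
        by_cases hd : du f = f
        · obtain ⟨d, hdd, -⟩ := ((SympOrders.root_orders hfm hfi hf0).2 hd).resolve_left (Finset.mem_filter.1 hf2).2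
          refine le_trans ?_ (Finset.single_le_sum (f := fun g => (e g - 1) * g.natDegree) (fun g _ => Nat.zero_le _) hf2)
          rw [hdd, mul_comm 2 (e f - 1)]
          exact Nat.mul_le_mul_left _ (by omega)
        · have hdf2 : du f ∈ S2 := by
            refine Finset.mem_filter.2 ⟨(hdu f hf).1, fun h => ?_⟩
            rcases eq_X_sub_or_add (DualPoly.dual_monic hf0) (DualPoly.dual_irreducible (fun _ => rfl) hfm hfi hf0) h
              with h1 | h1
            · exact hd (h1.trans (by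
                rw [← DualPoly.dual_dual (σ := RingHom.id F) (fun _ => rfl) hfm hf0, h1, DualPoly.dual_X_sub_one]))
            · have hX : f.natDegree = 1 := by
                rw [← DualPoly.dual_natDegree (σ := RingHom.id F) hf0, h1, natDegree_X_add_C]
              have h2 : f.coeff 0 = 1 := by
                have := congrArg (fun g : F[X] => g.coeff 0) h1
                simpa [DualPoly.dual_coeff_zero hfm] using this
              exact hd (h1.trans (by rw [hfm.eq_X_add_C hX, h2]))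
          refine le_trans ?_ (Finset.add_le_sum (f := fun g => (e g - 1) * g.natDegree) (fun g _ => Nat.zero_le _)
            hf2 hdf2 fun h => hd h.symm)
          have := (hdu f hf).2
          rw [DualPoly.dual_natDegree (σ := RingHom.id F) hf0]
          nlinarith [Nat.le_mul_of_pos_right (e f - 1) hdeg1, Nat.le_mul_of_pos_right (e (du f) - 1) hdeg1,
            Nat.sub_le_sub_right this 1]
      · have hX : f ∈ S.filter (fun f => f ∣ X ^ 2 - 1) :=
          Finset.mem_filter.2 ⟨hf, by by_contra h; exact hf2 (Finset.mem_filter.2 ⟨hf, h⟩)⟩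
        have h1 : e f * f.natDegree ≤ ∑ g ∈ S.filter (fun f => f ∣ X ^ 2 - 1), e g * g.natDegree :=
          Finset.single_le_sum (f := fun x => e x * x.natDegree) (fun x _ => Nat.zero_le _) hX
        have hd1 : f.natDegree = 1 := by
          rcases hsing f hf hf2 with rfl | rfl
          · exact natDegree_X_sub_C 1
          · exact natDegree_X_add_C 1
        rw [hd1, mul_one] at h1
        rcases hp.two_le.lt_or_eq with h | h
        · exact le_trans (show e f ≤ 2 * (m - D) + 1 by omega) (two_mul_add_one_le_pow h _)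
        · subst h; have := hp2 rfl
          exact le_trans (show e f ≤ 2 * (m - D) by omega) (two_mul_le_two_pow _)
    have hDm : D ≤ m := by omega
    refine ⟨L * p ^ Nat.clog p (S.sup e), Nat.mul_pos hL (Nat.pow_pos hp.pos), ?_, Or.inl ?_⟩
    · have hL' : (q - 1) * L ≤ q ^ (D + 1) := by
        have hP : 0 < ∏ a ∈ A, q ^ 2 ^ a := Finset.prod_pos fun a _ => Nat.pow_pos (by omega)
        refine Nat.le_of_mul_le_mul_right ?_ hP
        calc (q - 1) * L * ∏ a ∈ A, q ^ 2 ^ a = (q - 1) * (L * ∏ a ∈ A, q ^ 2 ^ a) := mul_assoc _ _ _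
          _ ≤ (q - 1) * (q ^ D * ∏ a ∈ A, (q ^ 2 ^ a + 1)) := Nat.mul_le_mul_left _ hb
          _ = q ^ D * ((q - 1) * ∏ a ∈ A, (q ^ 2 ^ a + 1)) := by ring
          _ ≤ q ^ D * (q * ∏ a ∈ A, q ^ 2 ^ a) := Nat.mul_le_mul_left _ (prod_bound _ A)
          _ = q ^ (D + 1) * ∏ a ∈ A, q ^ 2 ^ a := by rw [pow_succ]; ring
      calc (q - 1) * (L * p ^ Nat.clog p (S.sup e)) = (q - 1) * L * p ^ Nat.clog p (S.sup e) := (mul_assoc _ _ _).symm
        _ ≤ q ^ (D + 1) * q ^ (m - D) := Nat.mul_le_mul hL' (clog_pow_le hp.two_le hpq hE)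
        _ = q ^ (m + 1) := by rw [← pow_add]; congr 1; omega
    · rw [← hfrob]
      refine key _ _ fun f hf => ⟨?_, (Finset.le_sup hf).trans (Nat.le_pow_clog hp.one_lt _)⟩
      by_cases hf2 : f ∈ S2
      · exact hLd f hf2
      · rcases hsing f hf hf2 with rfl | rfl
        · rw [dvd_iff_isRoot]; simp
        · rcases Nat.even_or_odd q with hq | hq
          · haveI : CharP F 2 := ringChar.eq_iff.1 (FiniteField.even_card_iff_char_two.2 (Nat.even_iff.1 hq))
            rw [show (X + C (1 : F)) = X - C 1 by rw [sub_eq_add_neg, ← map_neg, CharTwo.neg_eq], dvd_iff_isRoot]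
            simp
          · obtain ⟨k, hk⟩ := hL2 hne hq
            refine dvd_trans ?_ (X_pow_sub_one_dvd (r := 2) ⟨k, hk⟩)
            exact ⟨X - C 1, by rw [C_1]; ring⟩

end Factors

section Matrices

variable {F : Type*} [Field F] [Fintype F] {ι : Type*} [Fintype ι] [DecidableEq ι]

local notation "du" => DualPoly.dual (RingHom.id F)
local notation "q" => Fintype.card F

theorem transpose_aeval {A B J : Matrix ι ι F} (h : Aᵀ * J = J * B) (f : F[X]) :
    (aeval A f)ᵀ * J = J * aeval B f := by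
  induction f using Polynomial.induction_on' with
  | add u v hu hv => simp only [map_add, Matrix.transpose_add, Matrix.add_mul, Matrix.mul_add, hu, hv]
  | monomial k c =>
    have hk : ∀ k : ℕ, (A ^ k)ᵀ * J = J * B ^ k := by
      intro k
      induction k with
      | zero => simp
      | succ k ih =>
        rw [pow_succ', Matrix.transpose_mul, Matrix.mul_assoc, h, ← Matrix.mul_assoc, ih, Matrix.mul_assoc, ← pow_succ,
          pow_succ']
    simp only [aeval_monomial, Algebra.algebraMap_eq_smul_one, Matrix.transpose_smul, smul_mul_assoc,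
      mul_smul_comm, Matrix.one_mul, hk]

/-- Some small power of an isometry of a non-degenerate form is `±1`. -/
theorem exists_pow_eq (A J : Matrix ι ι F) (hJ : IsUnit J.det) (hA : Aᵀ * J * A = J) {m : ℕ} (hm : 2 ≤ m)
    (hdim : Fintype.card ι ≤ 2 * m + 1) (hchar : (2 : F) = 0 → Fintype.card ι ≤ 2 * m)
    (hm2 : Fintype.card ι ≤ 2 * m ∨ 3 ≤ m) :
    ∃ M, 1 ≤ M ∧ (q - 1) * M ≤ q ^ (m + 1) ∧ (A ^ M = 1 ∨ A ^ M = -1) := by
  classical
  obtain ⟨p, hp⟩ := CharP.exists F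
  haveI := Fact.mk (CharP.char_is_prime F p)
  set B := J⁻¹ * Aᵀ * J with hB
  have hBA : B * A = 1 := by
    rw [hB, Matrix.mul_assoc, Matrix.mul_assoc, ← Matrix.mul_assoc Aᵀ, hA, Matrix.nonsing_inv_mul J hJ]
  have hAB : A * B = 1 := mul_eq_one_comm.1 hBA
  have hT : Aᵀ * J = J * B := by
    rw [hB, ← Matrix.mul_assoc, ← Matrix.mul_assoc, Matrix.mul_nonsing_inv J hJ, Matrix.one_mul]
  set μ := minpoly F A with hμd
  have hμ : μ.Monic := minpoly.monic (Matrix.isIntegral A)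
  have hμdeg : μ.natDegree ≤ Fintype.card ι := by
    rw [← Matrix.charpoly_natDegree_eq_dim A]
    exact natDegree_le_of_dvd (Matrix.minpoly_dvd_charpoly A) (Matrix.charpoly_monic A).ne_zero
  have h0 : μ.coeff 0 ≠ 0 := fun h => by
    obtain ⟨c, hc⟩ := X_dvd_iff.2 h
    have hc0 : c ≠ 0 := fun hc0 => hμ.ne_zero (by rw [hc, hc0, mul_zero])
    have h1 : aeval A c = 0 := by
      have := minpoly.aeval F A
      rw [← hμd, hc, map_mul, aeval_X] at this
      rw [← Matrix.one_mul (aeval A c), ← hBA, Matrix.mul_assoc, this, Matrix.mul_zero]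
    have := natDegree_le_natDegree (minpoly.degree_le_of_ne_zero F A hc0 h1)
    rw [← hμd, hc, natDegree_mul X_ne_zero hc0, natDegree_X] at this
    omega
  have hμB : aeval B μ = 0 := by
    have h1 : J * aeval B μ = 0 := by
      rw [← transpose_aeval hT, hμd, minpoly.aeval, Matrix.transpose_zero, Matrix.zero_mul]
    rw [← Matrix.one_mul (aeval B μ), ← Matrix.nonsing_inv_mul J hJ, Matrix.mul_assoc, h1, Matrix.mul_zero]
  have hsd : du μ = μ := by
    have h1 : μ ∣ du μ := minpoly.dvd F A (by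
      rw [ClassNumberSp.dual_id_eq, map_mul, ← ClassNumberSU.aeval_reverse (K := F) A B hBA (hAB.trans hBA.symm),
        hμB, zero_mul, mul_zero])
    exact (eq_of_monic_of_associated hμ (DualPoly.dual_monic h0)
      (associated_of_dvd_of_natDegree_le h1 (DualPoly.dual_monic h0).ne_zero
        (DualPoly.dual_natDegree h0).le)).symm
  obtain ⟨M, hM, hle, h⟩ := exists_exponent p hμ h0 hsd hm (hμdeg.trans hdim)
    (fun h => hμdeg.trans (hchar (by subst h; exact CharTwo.two_eq_zero)))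
    (hm2.imp (fun h => hμdeg.trans h) id)
  refine ⟨M, hM, hle, ?_⟩
  rcases h with ⟨c, hc⟩ | ⟨c, hc⟩
  · left
    have := congrArg (aeval A) hc
    rw [map_mul, hμd, minpoly.aeval, zero_mul] at this
    simpa [sub_eq_zero] using this
  · right
    have := congrArg (aeval A) hc
    rw [map_mul, hμd, minpoly.aeval, zero_mul] at this
    simpa [add_eq_zero_iff_eq_neg] using this

end Matrices

section Groups

universe u

variable {F : Type u} [Field F] [Fintype F]

local notation "q" => Fintype.card F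

theorem psp_bound (m : ℕ) (hm : 2 ≤ m) (g : Cfsg.PSp m F) : (q - 1) * orderOf g ≤ q ^ (m + 1) := by
  obtain ⟨s, rfl⟩ := QuotientGroup.mk_surjective g
  obtain ⟨M, hM, hle, h⟩ := exists_pow_eq (s : Matrix (Fin m ⊕ Fin m) (Fin m ⊕ Fin m) F) (Matrix.J (Fin m) F)
    (Matrix.isUnit_det_J (Fin m) F) (SymplecticGroup.mem_iff'.1 s.2) hm
    (by simp only [Fintype.card_sum, Fintype.card_fin]; omega)
    (fun _ => by simp only [Fintype.card_sum, Fintype.card_fin]; omega)
    (Or.inl (by simp only [Fintype.card_sum, Fintype.card_fin]; omega))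
  refine (Nat.mul_le_mul_left _ (Nat.le_of_dvd hM (orderOf_dvd_of_pow_eq_one ?_))).trans hle
  rw [← QuotientGroup.mk_pow, QuotientGroup.eq_one_iff, Subgroup.mem_center_iff]
  intro y
  apply Subtype.ext
  rw [Submonoid.coe_mul, Submonoid.coe_mul, SubmonoidClass.coe_pow]
  rcases h with h | h <;> rw [h] <;> simp

variable {ι : Type} [Fintype ι] [DecidableEq ι]

theorem pomega_bound (Q : QuadraticForm F (ι → F)) (hQ : (QuadraticMap.polarBilin Q).Nondegenerate) {m : ℕ}
    (hm : 2 ≤ m) (hdim : Fintype.card ι ≤ 2 * m + 1) (hchar : (2 : F) = 0 → Fintype.card ι ≤ 2 * m)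
    (hm2 : Fintype.card ι ≤ 2 * m ∨ 3 ≤ m) (g : Cfsg.POmega F (⇑Q)) :
    (q - 1) * orderOf g ≤ q ^ (m + 1) := by
  classical
  obtain ⟨s, rfl⟩ := QuotientGroup.mk_surjective g
  set A : Matrix ι ι F := Cfsg.Lib.Classical.Refl.mat Q s.1 with hA
  have hiso : ∀ v, Q (A *ᵥ v) = Q v := fun v => (s.1.2 v v : _)
  obtain ⟨M, hM, hle, h⟩ := exists_pow_eq A (LinearMap.toMatrix₂' F (QuadraticMap.polarBilin Q))
    (isUnit_iff_ne_zero.2 (Matrix.nondegenerate_iff_det_ne_zero.1 (LinearMap.nondegenerate_toMatrix₂'_iff.2 hQ)))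
    (by
      have h1 := LinearMap.toMatrix₂'_compl₁₂ (QuadraticMap.polarBilin Q) (Matrix.toLin' A) (Matrix.toLin' A)
      rw [LinearMap.toMatrix'_toLin'] at h1
      rw [← h1]
      congr 1
      refine LinearMap.ext fun x => LinearMap.ext fun y => ?_
      simp only [LinearMap.compl₁₂_apply, QuadraticMap.polarBilin_apply_apply, QuadraticMap.polar,
        Matrix.toLin'_apply, ← Matrix.mulVec_add, hiso]) hm hdim hchar hm2
  refine (Nat.mul_le_mul_left _ (Nat.le_of_dvd hM (orderOf_dvd_of_pow_eq_one ?_))).trans hle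
  rw [← QuotientGroup.mk_pow, QuotientGroup.eq_one_iff, Subgroup.mem_center_iff]
  intro y
  refine Subtype.ext (Subtype.ext (Units.ext ?_))
  rw [hA] at h
  simp only [Subgroup.coe_mul, Subgroup.coe_pow, Units.val_mul, Units.val_pow_eq_pow_val]
  rcases h with h | h <;> rw [h] <;> simp

theorem pomega_bound_odd (m : ℕ) (hm : 3 ≤ m) (hodd : Odd q) (g : Cfsg.POmega F (Cfsg.quadFormOdd m F)) :
    (q - 1) * orderOf g ≤ q ^ (m + 1) := by
  revert g
  rw [← Cfsg.Lib.Classical.Refl.oddForm_coe]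
  have h2 := Cfsg.Lib.Classical.Refl.two_ne_zero_of_odd hodd
  exact pomega_bound _ (Cfsg.Lib.Classical.Refl.oddForm_nondegenerate h2 m) (by omega)
    (by simp only [Fintype.card_sum, Fintype.card_fin, Fintype.card_unit]; omega) (fun h => absurd h h2) (Or.inr hm)

theorem pomega_bound_plus (m : ℕ) (hm : 2 ≤ m) (g : Cfsg.POmega F (Cfsg.quadFormPlus m F)) :
    (q - 1) * orderOf g ≤ q ^ (m + 1) := by
  revert g
  rw [← (funext fun x => Cfsg.Lib.Classical.HypQuad.plusForm_apply m x : ⇑(Cfsg.Lib.Classical.HypQuad.plusForm m F) = Cfsg.quadFormPlus m F)]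
  exact pomega_bound _ (Cfsg.Lib.Classical.HypQuad.plusForm_nondegenerate m) hm
    (by simp only [Fintype.card_sum, Fintype.card_fin]; omega)
    (fun _ => by simp only [Fintype.card_sum, Fintype.card_fin]; omega)
    (Or.inl (by simp only [Fintype.card_sum, Fintype.card_fin]; omega))

theorem pomega_bound_minus (m : ℕ) (hm : 2 ≤ m) {a b : F}
    (hab : ∀ z₁ z₂ : F, z₁ ^ 2 + a * z₁ * z₂ + b * z₂ ^ 2 = 0 → z₁ = 0 ∧ z₂ = 0)
    (g : Cfsg.POmega F (Cfsg.quadFormMinus (m - 1) F a b)) :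
    (q - 1) * orderOf g ≤ q ^ (m + 1) := by
  revert g
  rw [← Cfsg.Lib.Classical.Refl.minusForm_coe]
  exact pomega_bound _ (Cfsg.Lib.Classical.Refl.minusForm_nondegenerate' (m - 1) hab) hm
    (by simp only [Fintype.card_sum, Fintype.card_fin]; omega)
    (fun _ => by simp only [Fintype.card_sum, Fintype.card_fin]; omega)
    (Or.inl (by simp only [Fintype.card_sum, Fintype.card_fin]; omega))

end Groups

end Cfsg.Lib.ClassicalMaxOrder
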