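import Cfsg.Prelude.Def_Classical
import Cfsg.Prelude.Def_Sporadic
import Mathlib

/-! Cubes of Sylow orders in alternating and sporadic groups. -/

set_option autoImplicit false

namespace Cfsg.Lib.Known.CubeSylow

/-- The exponent of `p` in a list of prime powers. -/
def expOf (L : List (ℕ × ℕ)) (p : ℕ) : ℕ := (L.map fun x => if x.1 = p then x.2 else 0).sum

theorem fact_prod (p : ℕ) : ∀ L : List (ℕ × ℕ), (∀ x ∈ L, x.1.Prime) →
    ((L.map fun x : ℕ × ℕ => x.1 ^ x.2).prod).factorization p = expOf L p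
  | [], _ => by simp [expOf]
  | x :: L, h => by
    have h' : ∀ y ∈ L, y.1.Prime := fun y hy => h y (List.mem_cons_of_mem _ hy)
    have hx := h x List.mem_cons_self
    have hne : (L.map fun x => x.1 ^ x.2).prod ≠ 0 := by
      rw [Ne, List.prod_eq_zero_iff]
      intro hm
      obtain ⟨y, hy, he⟩ := List.mem_map.1 hm
      exact pow_ne_zero _ (h' y hy).ne_zero he
    rw [List.map_cons, List.prod_cons, Nat.factorization_mul (pow_ne_zero _ hx.ne_zero) hne, Finsupp.add_apply,
      fact_prod p L h', hx.factorization_pow, Finsupp.single_apply]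
    simp [expOf]

theorem ofList {N : ℕ} (p : ℕ) (_hp : p.Prime) (hodd : p ≠ 2) {M : ℕ} (hM : M = N) (L : List (ℕ × ℕ))
    (hN : N = (L.map fun x => x.1 ^ x.2).prod ∧ ∀ x ∈ L, x.1.Prime)
    (hchk : ∀ x ∈ L, x.1 ≠ 2 → expOf L x.1 = 3 → x.1 ^ 3 < 2 ^ expOf L 2)
    (h3 : M.factorization p = 3) : p ^ 3 < 2 ^ M.factorization 2 := by
  rw [hM, hN.1, fact_prod _ L hN.2] at h3 ⊢
  obtain ⟨x, hx, rfl⟩ : ∃ x ∈ L, x.1 = p := by
    by_contra hno
    push Not at hno
    have : expOf L p = 0 := by
      refine List.sum_eq_zero fun z hz => ?_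
      obtain ⟨x, hx, rfl⟩ := List.mem_map.1 hz
      simp [hno x hx]
    omega
  exact hchk x hx hodd h3

theorem two_pow_bound : ∀ k : ℕ, (k + 5) ^ 3 < 2 ^ (2 * k + 7)
  | 0 => by norm_num
  | k + 1 => by
    have := two_pow_bound k
    rw [show 2 * (k + 1) + 7 = 2 * k + 7 + 2 by ring, pow_add]
    have h := Nat.pow_le_pow_left (show 2 * (k + 6) ≤ 3 * (k + 5) by omega) 3
    rw [mul_pow, mul_pow] at h
    rw [show k + 1 + 5 = k + 6 by ring]
    omega

theorem alt {G : Type*} [Group G] [Finite G] {n : ℕ} (hn : 5 ≤ n) (e : G ≃* alternatingGroup (Fin n))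
    (p : ℕ) (hp : p.Prime) (hodd : p ≠ 2) (h3 : (Nat.card G).factorization p = 3) :
    p ^ 3 < 2 ^ (Nat.card G).factorization 2 := by
  haveI : Fact p.Prime := ⟨hp⟩
  haveI : Nontrivial (Fin n) := Fin.nontrivial_iff_two_le.2 (by omega)
  have h2 : 2 * Nat.card G = n.factorial := by
    rw [Nat.card_congr e.toEquiv, two_mul_nat_card_alternatingGroup, Nat.card_perm, Nat.card_fin]
  have hG0 : Nat.card G ≠ 0 := Nat.card_pos.ne'
  have hv : n.factorial.factorization p = 3 := by
    rw [← h2, Nat.factorization_mul two_ne_zero hG0, Finsupp.add_apply, Nat.prime_two.factorization, Finsupp.single_apply,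
      if_neg (Ne.symm hodd), zero_add, h3]
  have hv2 : n.factorial.factorization 2 = (Nat.card G).factorization 2 + 1 := by
    rw [← h2, Nat.factorization_mul two_ne_zero hG0, Finsupp.add_apply, Nat.prime_two.factorization, Finsupp.single_apply,
      if_pos rfl, add_comm]
  have hn3 : 3 * p ≤ n := by
    by_contra hlt
    have h1 : n.factorial ∣ (3 * p - 1).factorial := Nat.factorial_dvd_factorial (by omega)
    have hp3 := hp.two_le
    have hsq : 3 * p ≤ p ^ 2 := by rw [sq]; exact Nat.mul_le_mul_right p (by omega)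
    have hle : n.factorial.factorization p ≤ (3 * p - 1).factorial.factorization p :=
      (Nat.factorization_le_iff_dvd (Nat.factorial_ne_zero _) (Nat.factorial_ne_zero _)).2 h1 p
    rw [hv, Nat.factorization_def _ hp] at hle
    have hv' : padicValNat p (3 * p - 1).factorial ≤ 2 := by
      rw [padicValNat_factorial (b := 2) (Nat.log_lt_of_lt_pow (by omega) (by omega))]
      rw [show Finset.Ico 1 2 = {1} from rfl, Finset.sum_singleton, pow_one]
      exact Nat.lt_succ_iff.1 ((Nat.div_lt_iff_lt_mul hp.pos).2 (by omega))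
    omega
  have hp5 : 5 ≤ p := by
    by_contra hlt
    have : p = 3 := by
      have := hp.two_le
      interval_cases p <;> simp_all (config := { decide := true })
    subst this
    have h4 : (9 : ℕ).factorial ∣ n.factorial := Nat.factorial_dvd_factorial (by omega)
    have hle := (Nat.factorization_le_iff_dvd (Nat.factorial_ne_zero _) (Nat.factorial_ne_zero _)).2 h4 3
    rw [hv, Nat.factorization_def _ hp, padicValNat_factorial (b := 3) (Nat.log_lt_of_lt_pow (by omega) (by norm_num))] at hle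
    rw [show Finset.Ico 1 3 = {1, 2} from rfl, Finset.sum_pair (by norm_num)] at hle
    norm_num at hle
  have hlow : n / 2 + n / 4 ≤ n.factorial.factorization 2 := by
    rw [Nat.factorization_def _ Nat.prime_two, padicValNat_factorial (p := 2) (b := n + 3) (by
      have := Nat.log_le_self 2 n
      omega)]
    refine le_trans (le_of_eq ?_) (Finset.sum_le_sum_of_subset (s := {1, 2}) (fun x hx => by
      simp at hx ⊢; omega))
    rw [Finset.sum_pair (by norm_num)]
    norm_num
  obtain ⟨k, rfl⟩ : ∃ k, p = k + 5 := ⟨p - 5, by omega⟩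
  exact (two_pow_bound k).trans_le (Nat.pow_le_pow_right two_pos (by omega))

theorem main {G : Type*} [Group G] [Finite G] (hG : Cfsg.IsAlternating G ∨ Cfsg.IsSporadic G)
    (p : ℕ) (hp : p.Prime) (hodd : p ≠ 2) (h3 : (Nat.card G).factorization p = 3) :
    p ^ 3 < 2 ^ (Nat.card G).factorization 2 := by
  rcases hG with ⟨n, hn, ⟨e⟩⟩ | h
  · exact alt hn e p hp hodd h3
  · rcases h with h | h | h | h | h | h | h | h | h | h | h | h | h | h | h | h | h | h | h | h | h | h | h | h | h | h
    · obtain ⟨-, h⟩ := h; exact ofList p hp hodd h [(2, 4), (3, 2), (5, 1), (11, 1)] (by decide +kernel) (by decide +kernel) h3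
    · obtain ⟨-, h⟩ := h; exact ofList p hp hodd h [(2, 6), (3, 3), (5, 1), (11, 1)] (by decide +kernel) (by decide +kernel) h3
    · obtain ⟨-, h⟩ := h; exact ofList p hp hodd h [(2, 7), (3, 2), (5, 1), (7, 1), (11, 1)] (by decide +kernel) (by decide +kernel) h3
    · obtain ⟨-, h⟩ := h; exact ofList p hp hodd h [(2, 7), (3, 2), (5, 1), (7, 1), (11, 1), (23, 1)] (by decide +kernel) (by decide +kernel) h3
    · obtain ⟨-, h⟩ := h; exact ofList p hp hodd h [(2, 10), (3, 3), (5, 1), (7, 1), (11, 1), (23, 1)] (by decide +kernel) (by decide +kernel) h3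
    · obtain ⟨-, h⟩ := h; exact ofList p hp hodd h [(2, 3), (3, 1), (5, 1), (7, 1), (11, 1), (19, 1)] (by decide +kernel) (by decide +kernel) h3
    · obtain ⟨-, h⟩ := h; exact ofList p hp hodd h [(2, 7), (3, 3), (5, 2), (7, 1)] (by decide +kernel) (by decide +kernel) h3
    · obtain ⟨-, h⟩ := h; exact ofList p hp hodd h [(2, 7), (3, 5), (5, 1), (17, 1), (19, 1)] (by decide +kernel) (by decide +kernel) h3
    · obtain ⟨-, h⟩ := h; exact ofList p hp hodd h [(2, 21), (3, 3), (5, 1), (7, 1), (11, 3), (23, 1), (29, 1), (31, 1), (37, 1), (43, 1)] (by decide +kernel) (by decide +kernel) h3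
    · obtain ⟨-, h⟩ := h; exact ofList p hp hodd h [(2, 21), (3, 9), (5, 4), (7, 2), (11, 1), (13, 1), (23, 1)] (by decide +kernel) (by decide +kernel) h3
    · obtain ⟨-, h⟩ := h; exact ofList p hp hodd h [(2, 18), (3, 6), (5, 3), (7, 1), (11, 1), (23, 1)] (by decide +kernel) (by decide +kernel) h3
    · obtain ⟨-, h⟩ := h; exact ofList p hp hodd h [(2, 10), (3, 7), (5, 3), (7, 1), (11, 1), (23, 1)] (by decide +kernel) (by decide +kernel) h3
    · obtain ⟨-, h⟩ := h; exact ofList p hp hodd h [(2, 17), (3, 9), (5, 2), (7, 1), (11, 1), (13, 1)] (by decide +kernel) (by decide +kernel) h3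
    · obtain ⟨-, h⟩ := h; exact ofList p hp hodd h [(2, 18), (3, 13), (5, 2), (7, 1), (11, 1), (13, 1), (17, 1), (23, 1)] (by decide +kernel) (by decide +kernel) h3
    · obtain ⟨-, h⟩ := h; exact ofList p hp hodd h [(2, 21), (3, 16), (5, 2), (7, 3), (11, 1), (13, 1), (17, 1), (23, 1), (29, 1)] (by decide +kernel) (by decide +kernel) h3
    · obtain ⟨-, h⟩ := h; exact ofList p hp hodd h [(2, 9), (3, 2), (5, 3), (7, 1), (11, 1)] (by decide +kernel) (by decide +kernel) h3
    · obtain ⟨-, h⟩ := h; exact ofList p hp hodd h [(2, 7), (3, 6), (5, 3), (7, 1), (11, 1)] (by decide +kernel) (by decide +kernel) h3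
    · obtain ⟨-, h⟩ := h; exact ofList p hp hodd h [(2, 10), (3, 3), (5, 2), (7, 3), (17, 1)] (by decide +kernel) (by decide +kernel) h3
    · obtain ⟨-, h⟩ := h; exact ofList p hp hodd h [(2, 14), (3, 3), (5, 3), (7, 1), (13, 1), (29, 1)] (by decide +kernel) (by decide +kernel) h3
    · obtain ⟨-, h⟩ := h; exact ofList p hp hodd h [(2, 13), (3, 7), (5, 2), (7, 1), (11, 1), (13, 1)] (by decide +kernel) (by decide +kernel) h3
    · obtain ⟨-, h⟩ := h; exact ofList p hp hodd h [(2, 9), (3, 4), (5, 1), (7, 3), (11, 1), (19, 1), (31, 1)] (by decide +kernel) (by decide +kernel) h3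
    · obtain ⟨-, h⟩ := h; exact ofList p hp hodd h [(2, 14), (3, 6), (5, 6), (7, 1), (11, 1), (19, 1)] (by decide +kernel) (by decide +kernel) h3
    · obtain ⟨-, h⟩ := h; exact ofList p hp hodd h [(2, 8), (3, 7), (5, 6), (7, 1), (11, 1), (31, 1), (37, 1), (67, 1)] (by decide +kernel) (by decide +kernel) h3
    · obtain ⟨-, h⟩ := h; exact ofList p hp hodd h [(2, 15), (3, 10), (5, 3), (7, 2), (13, 1), (19, 1), (31, 1)] (by decide +kernel) (by decide +kernel) h3
    · obtain ⟨-, h⟩ := h; exact ofList p hp hodd h [(2, 41), (3, 13), (5, 6), (7, 2), (11, 1), (13, 1), (17, 1), (19, 1), (23, 1), (31, 1), (47, 1)] (by decide +kernel) (by decide +kernel) h3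
    · obtain ⟨-, h⟩ := h; exact ofList p hp hodd h [(2, 46), (3, 20), (5, 9), (7, 6), (11, 2), (13, 3), (17, 1), (19, 1), (23, 1), (29, 1), (31, 1), (41, 1), (47, 1), (59, 1), (71, 1)] (by decide +kernel) (by decide +kernel) h3

end Cfsg.Lib.Known.CubeSylow
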