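import Cfsg.Agent.Known.ClassNumberGL
import Mathlib

/-! Determinants of matrices centralising a given matrix, read off from its elementary divisors. -/

set_option autoImplicit false
set_option linter.style.haveILetI false

open Polynomial Matrix

namespace Cfsg.Lib.DivisorDet

universe u

variable {F : Type u} [Field F]

theorem det_pi_single {ι : Type*} [Fintype ι] [DecidableEq ι] (Q : ι → Type*) [∀ i, AddCommGroup (Q i)]
    [∀ i, Module F (Q i)] [∀ i, Module.Finite F (Q i)] (j : ι) (f : Module.End F (Q j)) :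
    LinearMap.det (LinearMap.pi fun i => (Pi.mulSingle (M := fun i => Module.End F (Q i)) j f i).comp (LinearMap.proj i)) =
      LinearMap.det f := by
  let r : ((i : ι) → Q i) →ₗ[F] Q j × ((k : {k // k ≠ j}) → Q k.1) :=
    (LinearMap.proj j).prod (LinearMap.pi fun k => LinearMap.proj k.1)
  have hr : Function.Bijective r := by
    constructor
    · intro x y hxy
      funext i
      by_cases hi : i = j
      · subst hi; exact congrArg Prod.fst hxy
      · exact congrFun (congrArg Prod.snd hxy) ⟨i, hi⟩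
    · intro y
      refine ⟨fun i => if hi : i = j then hi.symm ▸ y.1 else y.2 ⟨i, hi⟩, Prod.ext ?_ (funext fun k => ?_)⟩
      · show (if hi : j = j then hi.symm ▸ y.1 else y.2 ⟨j, hi⟩) = y.1
        rw [dif_pos rfl]
      · show (if hi : k.1 = j then hi.symm ▸ y.1 else y.2 ⟨k.1, hi⟩) = y.2 k
        rw [dif_neg k.2]
  set E := LinearEquiv.ofBijective r hr with hE
  set T := LinearMap.pi fun i => (Pi.mulSingle (M := fun i => Module.End F (Q i)) j f i).comp (LinearMap.proj i)
  have hconj : (E : _ →ₗ[F] Q j × ((k : {k // k ≠ j}) → Q k.1)) ∘ₗ T ∘ₗ (E.symm : _ →ₗ[F] ((i : ι) → Q i)) =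
      LinearMap.prodMap f LinearMap.id := by
    refine LinearMap.ext fun y => ?_
    obtain ⟨x, rfl⟩ := E.surjective y
    simp only [LinearMap.coe_comp, LinearEquiv.coe_coe, Function.comp_apply, LinearEquiv.symm_apply_apply]
    refine Prod.ext ?_ (funext fun k => ?_)
    · show Pi.mulSingle (M := fun i => Module.End F (Q i)) j f j (x j) = f (x j)
      rw [Pi.mulSingle_eq_same]
    · show Pi.mulSingle (M := fun i => Module.End F (Q i)) j f k.1 (x k.1) = x k.1
      rw [Pi.mulSingle_eq_of_ne k.2]; rfl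
  rw [← LinearMap.det_conj T E, hconj, LinearMap.det_prodMap, LinearMap.det_id, mul_one]

theorem det_piMap {ι : Type*} [Fintype ι] (Q : ι → Type*) [∀ i, AddCommGroup (Q i)]
    [∀ i, Module F (Q i)] [∀ i, Module.Finite F (Q i)] (f : (i : ι) → Module.End F (Q i)) :
    LinearMap.det (LinearMap.pi fun i => (f i).comp (LinearMap.proj i)) = ∏ i, LinearMap.det (f i) := by
  classical
  let φ : ((i : ι) → Module.End F (Q i)) →* F :=
    { toFun := fun f => LinearMap.det (LinearMap.pi fun i => (f i).comp (LinearMap.proj i))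
      map_one' := by rw [← LinearMap.det_id (M := (i : ι) → Q i)]; rfl
      map_mul' := fun f g => by rw [← map_mul]; rfl }
  show φ f = _
  have h1 := (congrArg φ (Finset.noncommProd_mulSingle f)).symm
  rw [h1]
  erw [Finset.map_noncommProd]
  rw [Finset.noncommProd_eq_prod]
  exact Finset.prod_congr rfl fun i _ => det_pi_single Q i (f i)

theorem det_aeval_sub {k : Type*} [Fintype k] [DecidableEq k] {K : Type*} [Field K] (M : Matrix k k K) (a : K) :
    (aeval M (X - C a)).det = (-1 : K) ^ Fintype.card k * M.charpoly.eval a := by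
  rw [Matrix.eval_charpoly, ← Matrix.det_neg, neg_sub, map_sub, aeval_X, aeval_C]
  rfl

theorem det_aeval_of_charpoly_pow {m d : Type*} [Fintype m] [DecidableEq m] [Fintype d] [DecidableEq d]
    {K : Type*} [Field K] (A : Matrix m m K) (B : Matrix d d K) (e : ℕ) (h : A.charpoly = B.charpoly ^ e)
    (f : K[X]) (hf : f.Splits) : (aeval A f).det = (aeval B f).det ^ e := by
  have hcard : Fintype.card m = e * Fintype.card d := by
    have := congrArg natDegree h
    rwa [natDegree_pow, Matrix.charpoly_natDegree_eq_dim, Matrix.charpoly_natDegree_eq_dim] at this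
  have hlin : ∀ a : K, (aeval A (X - C a)).det = (aeval B (X - C a)).det ^ e := by
    intro a
    rw [det_aeval_sub, det_aeval_sub, h, eval_pow, mul_pow, ← pow_mul, hcard, mul_comm e]
  obtain ⟨s, hs⟩ : ∃ s : Multiset K, f = C f.leadingCoeff * (s.map fun a => X - C a).prod :=
    ⟨f.roots, hf.eq_prod_roots⟩
  rw [hs, map_mul, map_mul, Matrix.det_mul, Matrix.det_mul, mul_pow]
  congr 1
  · rw [aeval_C, aeval_C, Matrix.algebraMap_eq_diagonal, Matrix.algebraMap_eq_diagonal, Matrix.det_diagonal,
      Matrix.det_diagonal]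
    simp [hcard, ← pow_mul, mul_comm]
  · clear hs
    induction s using Multiset.induction with
    | empty => simp
    | cons a s ih => rw [Multiset.map_cons, Multiset.prod_cons, map_mul, map_mul, Matrix.det_mul, Matrix.det_mul, mul_pow, ih, hlin]

theorem norm_mk_eq_det (g : F[X]) (hg : g.Monic) (f : F[X]) :
    Algebra.norm F (AdjoinRoot.mk g f) =
      (aeval (Algebra.leftMulMatrix (AdjoinRoot.powerBasis hg.ne_zero).basis
        (AdjoinRoot.powerBasis hg.ne_zero).gen) f).det := by
  rw [Algebra.norm_eq_matrix_det (AdjoinRoot.powerBasis hg.ne_zero).basis, ← AdjoinRoot.aeval_eq,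
    Polynomial.aeval_algHom_apply]
  rfl

theorem norm_mk_pow (P : F[X]) (hP : P.Monic) (e : ℕ) (f : F[X]) :
    Algebra.norm F (AdjoinRoot.mk (P ^ e) f) = Algebra.norm F (AdjoinRoot.mk P f) ^ e := by
  rw [norm_mk_eq_det (P ^ e) (hP.pow e), norm_mk_eq_det P hP]
  set A := Algebra.leftMulMatrix (AdjoinRoot.powerBasis (hP.pow e).ne_zero).basis
    (AdjoinRoot.powerBasis (hP.pow e).ne_zero).gen with hA
  set B := Algebra.leftMulMatrix (AdjoinRoot.powerBasis hP.ne_zero).basis
    (AdjoinRoot.powerBasis hP.ne_zero).gen with hB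
  have hc : A.charpoly = B.charpoly ^ e := by
    rw [hA, hB, charpoly_leftMulMatrix, charpoly_leftMulMatrix, AdjoinRoot.minpoly_powerBasis_gen_of_monic (hP.pow e),
      AdjoinRoot.minpoly_powerBasis_gen_of_monic hP]
  apply (algebraMap F (AlgebraicClosure F)).injective
  rw [map_pow, RingHom.map_det, RingHom.map_det]
  have hmap : ∀ {k : Type _} [Fintype k] [DecidableEq k] (M : Matrix k k F),
      (algebraMap F (AlgebraicClosure F)).mapMatrix (aeval M f) =
        aeval (M.map (algebraMap F (AlgebraicClosure F))) (f.map (algebraMap F (AlgebraicClosure F))) := by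
    intro k _ _ M
    rw [aeval_map_algebraMap]
    exact (Polynomial.aeval_algHom_apply (Algebra.ofId F (AlgebraicClosure F)).mapMatrix M f).symm
  rw [hmap, hmap]
  refine det_aeval_of_charpoly_pow _ _ e ?_ _ (IsAlgClosed.splits _)
  rw [Matrix.charpoly_map, Matrix.charpoly_map, hc, Polynomial.map_pow]

/-- Multiplication by a polynomial on a cyclic module. -/
theorem det_smul_quotient (P : F[X]) (e : ℕ) (f : F[X]) :
    LinearMap.det (LinearMap.restrictScalars F
      (LinearMap.lsmul F[X] (F[X] ⧸ Ideal.span {P ^ e}) f)) = Algebra.norm F (AdjoinRoot.mk (P ^ e) f) := by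
  rw [Algebra.norm_apply]
  rfl

theorem norm_mk_X (P : F[X]) (hP : P.Monic) :
    Algebra.norm F (AdjoinRoot.mk P X) = (-1) ^ P.natDegree * P.coeff 0 := by
  rw [norm_mk_eq_det P hP, aeval_X, Matrix.det_eq_sign_charpoly_coeff, charpoly_leftMulMatrix,
    AdjoinRoot.minpoly_powerBasis_gen_of_monic hP, Fintype.card_fin, AdjoinRoot.powerBasis_dim]

/-- Matrices acting on each summand by a polynomial. -/
theorem exists_commuting {n : ℕ} {ι : Type u} [Fintype ι] (P : ι → F[X]) (e : ι → ℕ)
    (hP : ∀ j, (P j).Monic) (A : Matrix (Fin n) (Fin n) F)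
    (Ω : Module.AEval' (Matrix.toLin' A) ≃ₗ[F[X]] ((j : ι) → F[X] ⧸ Ideal.span {P j ^ e j}))
    (c : ι → F[X]) :
    ∃ M : Matrix (Fin n) (Fin n) F, M * A = A * M ∧
      M.det = ∏ j, Algebra.norm F (AdjoinRoot.mk (P j) (c j)) ^ e j ∧ ((∀ j, c j = X) → M = A) := by
  classical
  haveI hfin : ∀ j, Module.Finite F (F[X] ⧸ Ideal.span {P j ^ e j}) := fun j => ((hP j).pow _).finite_quotient
  let D : ((j : ι) → F[X] ⧸ Ideal.span {P j ^ e j}) →ₗ[F[X]] ((j : ι) → F[X] ⧸ Ideal.span {P j ^ e j}) :=
    LinearMap.pi fun j => (LinearMap.lsmul F[X] _ (c j)).comp (LinearMap.proj j)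
  let E : (Fin n → F) ≃ₗ[F] ((j : ι) → F[X] ⧸ Ideal.span {P j ^ e j}) :=
    (Module.AEval'.of (Matrix.toLin' A)).trans (Ω.restrictScalars F)
  let L : (Fin n → F) →ₗ[F] (Fin n → F) :=
    (E.symm : _ →ₗ[F] (Fin n → F)) ∘ₗ (D.restrictScalars F) ∘ₗ (E : (Fin n → F) →ₗ[F] _)
  have hEA : ∀ v, E (A *ᵥ v) = (X : F[X]) • E v := by
    intro v
    simp only [E, LinearEquiv.trans_apply, LinearEquiv.restrictScalars_apply]
    rw [← Matrix.toLin'_apply A, ← Module.AEval'.X_smul_of, map_smul]
  refine ⟨LinearMap.toMatrix' L, ?_, ?_, fun hc => ?_⟩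
  · apply Matrix.toLin'.injective
    rw [Matrix.toLin'_mul, Matrix.toLin'_mul, Matrix.toLin'_toMatrix']
    refine LinearMap.ext fun v => E.injective ?_
    simp only [LinearMap.coe_comp, Function.comp_apply, Matrix.toLin'_apply]
    show E (E.symm (D (E (A *ᵥ v)))) = E (A *ᵥ E.symm (D (E v)))
    rw [hEA, hEA, LinearEquiv.apply_symm_apply, LinearEquiv.apply_symm_apply, map_smul]
  · rw [LinearMap.det_toMatrix']
    have h1 : LinearMap.det L = LinearMap.det (D.restrictScalars F) := by
      rw [← LinearMap.det_conj (D.restrictScalars F) E.symm, LinearEquiv.symm_symm]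
    rw [h1]
    refine Eq.trans ?_ (Finset.prod_congr rfl fun j _ =>
      (det_smul_quotient (P j) (e j) (c j)).trans (norm_mk_pow (P j) (hP j) (e j) (c j)))
    exact det_piMap (fun j => F[X] ⧸ Ideal.span {P j ^ e j})
      (fun j => (LinearMap.lsmul F[X] _ (c j)).restrictScalars F)
  · apply Matrix.toLin'.injective
    rw [Matrix.toLin'_toMatrix']
    refine LinearMap.ext fun v => E.injective ?_
    rw [Matrix.toLin'_apply, hEA]
    show E (E.symm (D (E v))) = _
    rw [LinearEquiv.apply_symm_apply]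
    funext j
    show c j • E v j = _
    rw [hc j]
    rfl

end Cfsg.Lib.DivisorDet
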