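import Cfsg.Agent.Known.TitsComm

/-!
The derived subgroup of `²F₄(2)` is simple of index two.
-/

set_option autoImplicit false
set_option linter.style.haveILetI false
set_option linter.unusedSectionVars false
set_option maxRecDepth 20000
set_option maxHeartbeats 1000000
set_option Elab.async false

open Cfsg.Lie
open scoped Pointwise
open Cfsg.Lib.Chev Cfsg.Lib.Chev.ReeF
open Cfsg.Lib.TitsInvol (runR wG wG_append)

namespace Cfsg.Lib.TitsComm

section
variable {G : Type*} [Group G]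

/-- The subgroup generated by the elements of odd order. -/
def oddGen (G : Type*) [Group G] : Subgroup G := Subgroup.closure {g | orderOf g % 2 = 1}

theorem oddGen_normal : (oddGen G).Normal := by
  refine ⟨fun n hn g => ?_⟩
  have hle : oddGen G ≤ (oddGen G).comap (MulAut.conj g).toMonoidHom := (Subgroup.closure_le _).2 fun x hx =>
    Subgroup.subset_closure (show orderOf ((MulAut.conj g) x) % 2 = 1 by rw [MulEquiv.orderOf_eq]; exact hx)
  exact hle hn

theorem oddGen_le {N : Subgroup G} [N.Normal] {n : ℕ} (h : N.index ∣ 2 ^ n) : oddGen G ≤ N := by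
  refine (Subgroup.closure_le _).2 fun g (hg : orderOf g % 2 = 1) => ?_
  rw [SetLike.mem_coe, ← QuotientGroup.eq_one_iff, ← orderOf_eq_one_iff]
  have h1 : orderOf (g : G ⧸ N) ∣ orderOf g := orderOf_map_dvd (QuotientGroup.mk' N) g
  have h2 : orderOf (g : G ⧸ N) ∣ 2 ^ n := (orderOf_dvd_natCard _).trans h
  have h3 : Nat.Coprime (orderOf g) (2 ^ n) := Nat.Coprime.pow_right n (Nat.coprime_two_right.2 (Nat.odd_iff.2 hg))
  exact Nat.eq_one_of_dvd_coprimes h3 h1 h2

theorem odd_of_pow_eq_one {g : G} {m : ℕ} (h : g ^ m = 1) (hm : m % 2 = 1) : g ∈ oddGen G :=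
  Subgroup.subset_closure (show orderOf g % 2 = 1 from Nat.odd_iff.1 ((Nat.odd_iff.2 hm).of_dvd_nat (orderOf_dvd_of_pow_eq_one h)))

theorem odd_order_of_comm {D : Subgroup G} (hc : IsMulCommutative D) (hle : oddGen G ≤ D) :
    ∀ x ∈ oddGen G, Odd (orderOf x) := by
  intro x hx
  unfold oddGen at hx hle
  induction hx using Subgroup.closure_induction with
  | mem y hy => exact Nat.odd_iff.2 hy
  | one => rw [orderOf_one]; exact odd_one
  | mul y z hy hz ihy ihz =>
    have hcomm : Commute y z := congrArg Subtype.val (hc.is_comm.comm ⟨y, hle hy⟩ ⟨z, hle hz⟩)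
    exact (ihy.mul ihz).of_dvd_nat hcomm.orderOf_mul_dvd_mul_orderOf
  | inv y _ ih => rwa [orderOf_inv]

theorem false_of_odd_invol {g : G} (h : Odd (orderOf g)) (h2 : g ^ 2 = 1) (h1 : g ≠ 1) : False := by
  rcases (Nat.dvd_prime Nat.prime_two).1 (orderOf_dvd_of_pow_eq_one h2) with h4 | h4
  · exact h1 (orderOf_eq_one_iff.1 h4)
  · rw [h4] at h; exact absurd h (by decide)

/-- A group whose normal subgroups are trivial or contain a subgroup of index two has that subgroup simple. -/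
theorem simple_of_index_two [Finite G] (D : Subgroup G) [D.Normal] (hidx : D.index = 2)
    (hnorm : ∀ N : Subgroup G, N.Normal → N = ⊥ ∨ D ≤ N) (hsq : ∀ k, k * k ≠ Nat.card D) (hnt : D ≠ ⊥) :
    IsSimpleGroup D := by
  haveI : Nontrivial D := (Subgroup.nontrivial_iff_ne_bot D).2 hnt
  obtain ⟨b, hb⟩ : ∃ b, b ∉ D := by
    by_contra h
    push Not at h
    rw [(Subgroup.eq_top_iff' D).2 h, Subgroup.index_top] at hidx
    exact absurd hidx (by norm_num)
  refine ⟨fun N hN => ?_⟩
  set N1 : Subgroup G := N.map D.subtype with hN1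
  set N2 : Subgroup G := N1.map (MulAut.conj b).toMonoidHom with hN2
  have hle1 : N1 ≤ D := Subgroup.map_subtype_le N
  have hDconj : ∀ d ∈ D, ∀ x ∈ N1, d * x * d⁻¹ ∈ N1 := by
    rintro d hd _ ⟨y, hy, rfl⟩
    exact ⟨_, hN.conj_mem y hy ⟨d, hd⟩, rfl⟩
  have hle2 : N2 ≤ D := by
    rintro _ ⟨x, hx, rfl⟩
    exact (inferInstance : D.Normal).conj_mem x (hle1 hx) b
  have hbb : b * b ∈ D := Subgroup.mul_self_mem_of_index_two hidx b
  have hDconj2 : ∀ d ∈ D, ∀ x ∈ N2, d * x * d⁻¹ ∈ N2 := by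
    rintro d hd _ ⟨x, hx, rfl⟩
    refine ⟨b⁻¹ * d * b * x * (b⁻¹ * d * b)⁻¹, hDconj _ ?_ x hx, ?_⟩
    · simpa using (inferInstance : D.Normal).conj_mem d hd b⁻¹
    · show b * _ * b⁻¹ = d * (b * x * b⁻¹) * d⁻¹
      group
  have hb2 : ∀ x ∈ N2, b * x * b⁻¹ ∈ N1 := by
    rintro _ ⟨x, hx, rfl⟩
    have := hDconj _ hbb x hx
    show b * (b * x * b⁻¹) * b⁻¹ ∈ N1
    convert this using 1
    group
  have hb1 : ∀ x ∈ N1, b * x * b⁻¹ ∈ N2 := fun x hx => ⟨x, hx, rfl⟩
  have hcov : ∀ g : G, g ∈ D ∨ g * b⁻¹ ∈ D := fun g => by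
    by_cases hg : g ∈ D
    · exact Or.inl hg
    · exact Or.inr ((Subgroup.mul_mem_iff_of_index_two hidx).2 (by rw [inv_mem_iff]; exact iff_of_false hg hb))
  have hnormal : ∀ M : Subgroup G, (∀ d ∈ D, ∀ x ∈ M, d * x * d⁻¹ ∈ M) → (∀ x ∈ M, b * x * b⁻¹ ∈ M) → M.Normal := by
    refine fun M hd hb' => ⟨fun x hx g => ?_⟩
    rcases hcov g with hg | hg
    · exact hd g hg x hx
    · have := hd _ hg _ (hb' x hx)
      convert this using 1
      group
  have hI : (N1 ⊓ N2).Normal := hnormal _ (fun d hd x hx => ⟨hDconj d hd x hx.1, hDconj2 d hd x hx.2⟩)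
    (fun x hx => ⟨hb2 x hx.2, hb1 x hx.1⟩)
  have hS : (N1 ⊔ N2).Normal := by
    refine hnormal _ (fun d hd x hx => ?_) (fun x hx => ?_)
    · have : N1 ⊔ N2 ≤ (N1 ⊔ N2).comap (MulAut.conj d).toMonoidHom :=
        sup_le (fun y hy => Subgroup.mem_sup_left (hDconj d hd y hy)) (fun y hy => Subgroup.mem_sup_right (hDconj2 d hd y hy))
      exact this hx
    · have : N1 ⊔ N2 ≤ (N1 ⊔ N2).comap (MulAut.conj b).toMonoidHom :=
        sup_le (fun y hy => Subgroup.mem_sup_right (hb1 y hy)) (fun y hy => Subgroup.mem_sup_left (hb2 y hy))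
      exact this hx
  have hcomap : ∀ {M : Subgroup G}, N1 = M → N = M.comap D.subtype := fun {M} e => by
    rw [← e, hN1, Subgroup.comap_map_eq_self_of_injective D.subtype_injective]
  rcases hnorm _ hI with hI0 | hI1
  swap
  · right
    rw [hcomap rfl]
    ext x
    exact iff_of_true (hI1 x.2).1 trivial
  rcases hnorm _ hS with hS0 | hS1
  · left
    rw [hcomap (show N1 = ⊥ from le_bot_iff.1 (hS0 ▸ le_sup_left))]
    exact D.subtype.comap_bot.trans (MonoidHom.ker_eq_bot_iff _ |>.2 D.subtype_injective)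
  · exfalso
    have hsup : N1 ⊔ N2 = D := le_antisymm (sup_le hle1 hle2) hS1
    have hnorm1 : N2 ≤ Subgroup.normalizer (N1 : Set G) := fun x hx => by
      rw [Subgroup.mem_normalizer_iff]
      refine fun y => ⟨fun hy => hDconj x (hle2 hx) y hy, fun hy => ?_⟩
      have := hDconj x⁻¹ (inv_mem (hle2 hx)) _ hy
      simpa [mul_assoc] using this
    refine hsq (Nat.card N1) ?_
    have hcard : Nat.card N2 = Nat.card N1 :=
      Subgroup.card_map_of_injective (MulAut.conj b).injective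
    let f : N1 × N2 → D := fun p => ⟨p.1 * p.2, mul_mem (hle1 p.1.2) (hle2 p.2.2)⟩
    have hf : Function.Bijective f := by
      refine ⟨fun p q e => ?_, fun d => ?_⟩
      · exact Prod.ext_iff.2 (Subgroup.mul_injective_of_disjoint (disjoint_iff.2 hI0) (congrArg Subtype.val e) |> fun h => by
          exact ⟨congrArg Prod.fst h, congrArg Prod.snd h⟩)
      · have hd : (d : G) ∈ ((N1 : Set G) * (N2 : Set G)) := by
          rw [← Subgroup.coe_mul_of_right_le_normalizer_left N1 N2 hnorm1, hsup]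
          exact d.2
        obtain ⟨x, hx, y, hy, e⟩ := Set.mem_mul.1 hd
        exact ⟨(⟨x, hx⟩, ⟨y, hy⟩), Subtype.ext e⟩
    rw [← Nat.card_eq_of_bijective f hf, Nat.card_prod, hcard]

end

theorem normal_cases (X : RF (ZMod 2)) (N : Subgroup ↥X.G1) [N.Normal] : N = ⊥ ∨ N.index ∣ 4096 := by
  haveI : Finite ↥X.G1 := Subtype.finite
  obtain ⟨P, hB, -, hS⟩ := X.exists_BN
  set J : Set ↥X.G1 := {s | s ∈ P.S ∧ s ∈ N ⊔ P.B}
  have hJ' : N ⊔ P.B = P.parabolic J := BN.eq_parabolic le_sup_right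
  have hJ : J ⊆ P.S := fun s hs => hs.1
  rcases Set.eq_empty_or_nonempty J with hJe | hJne
  · left
    rw [hJe] at hJ'
    have h0 : P.parabolic ∅ = P.B := by simp [Cfsg.BNPair.parabolic]
    have h1 := (Subgroup.normal_le_normalCore).2 (h0 ▸ le_sup_left.trans hJ'.le : N ≤ P.B)
    rwa [hB, X.core_eq_bot, le_bot_iff] at h1
  right
  have hJS : J = P.S := by
    by_contra hne
    obtain ⟨s', hs'⟩ : (P.S \ J).Nonempty := by
      rw [Set.diff_nonempty]
      exact fun h => hne (Set.Subset.antisymm hJ h)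
    obtain ⟨s, hs⟩ := hJne
    refine absurd (BN.comm_of_normal_sup hJ hJ' hs hs'.1 hs'.2) ?_
    intro hbm
    have h1 := hJ hs
    have h2 := hs'.1
    rw [hS] at h1 h2
    obtain ⟨a, ha, ea⟩ := h1
    obtain ⟨a', ha', ea'⟩ := h2
    have hne' : a ≠ a' := fun h => hs'.2 (by
      rwa [show s' = s from Subtype.ext (by rw [ea', ea, h])])
    rw [hB, Subgroup.mem_subgroupOf] at hbm
    simp only [Subgroup.mem_inf, Subgroup.coe_mul, Subgroup.coe_inv, ea, ea'] at hbm
    have hd : X.nk a * X.nk a' * (X.nk a)⁻¹ * (X.nk a')⁻¹ ∈ chevF4.diagonalSubgroup (ZMod 2) := by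
      rw [← SF.B_inf_N]
      exact Subgroup.mem_inf.2 ⟨hbm.1, mul_mem (mul_mem (mul_mem (X.nk_mono a) (X.nk_mono a'))
        (inv_mem (X.nk_mono a))) (inv_mem (X.nk_mono a'))⟩
    have h3 := SF.act_mul (SF.act_diag hd) (SF.act_mul (X.nk_act a') (X.nk_act a))
    rw [show X.nk a * X.nk a' * (X.nk a)⁻¹ * (X.nk a')⁻¹ * (X.nk a' * X.nk a) = X.nk a * X.nk a' by group,
      one_mul] at h3
    have h4 := SF.act_unique h3 (SF.act_mul (X.nk_act a) (X.nk_act a'))
    have hlt : ∀ a ∈ [8, 9], a < 16 := by decide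
    rw [wk_mul (hlt a ha) (hlt a' ha'), wk_mul (hlt a' ha') (hlt a ha)] at h4
    have h5 := wk_inj (mulI_lt _ (hlt a' ha') _ (hlt a ha)) (mulI_lt _ (hlt a ha) _ (hlt a' ha')) h4
    have hdec : ∀ a ∈ [8, 9], ∀ a' ∈ [8, 9], mulI a' a = mulI a a' → a = a' := by decide
    exact hne' (hdec a ha a' ha' h5)
  rw [hJS, BN.parabolic_S] at hJ'
  have hsur : Function.Surjective ((QuotientGroup.mk' N).comp P.B.subtype) := by
    intro q
    obtain ⟨g, rfl⟩ := QuotientGroup.mk'_surjective N q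
    have hg : g ∈ (N : Set ↥X.G1) * (P.B : Set ↥X.G1) := by
      rw [← Subgroup.normal_mul, hJ']; trivial
    obtain ⟨h, hh, b, hb, rfl⟩ := Set.mem_mul.1 hg
    refine ⟨⟨b, hb⟩, (QuotientGroup.eq).2 ?_⟩
    simpa [mul_assoc] using Subgroup.Normal.conj_mem (inferInstance : N.Normal) h hh b⁻¹
  have hdvd := Subgroup.card_dvd_of_surjective _ hsur
  have hcB : Nat.card P.B = 4096 := by
    rw [hB, Nat.card_congr (Subgroup.subgroupOfEquivOfLe (inf_le_right : chevF4.borelSubgroup (ZMod 2) ⊓ X.G1 ≤ X.G1)).toEquiv,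
      X.card_B1, ZMod.card]
    norm_num
  rw [hcB] at hdvd
  exact hdvd

theorem commutator_ne_bot (X : RF (ZMod 2)) : commutator ↥X.G1 ≠ ⊥ := by
  intro h
  haveI : Finite ↥X.G1 := Subtype.finite
  obtain ⟨P, hB, -, -⟩ := X.exists_BN
  haveI : P.B.Normal := ⟨fun n hn g => by
    have h1 : g * n * g⁻¹ * n⁻¹ ∈ commutator ↥X.G1 :=
      Subgroup.commutator_mem_commutator (Subgroup.mem_top g) (Subgroup.mem_top n)
    rw [h, Subgroup.mem_bot, mul_inv_eq_one] at h1
    rwa [h1]⟩
  have h1 : P.B ≤ P.B.normalCore := Subgroup.normal_le_normalCore.2 le_rfl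
  conv_rhs at h1 => rw [hB, X.core_eq_bot]
  have h2 : Nat.card P.B = 4096 := by
    rw [hB, Nat.card_congr (Subgroup.subgroupOfEquivOfLe (inf_le_right : chevF4.borelSubgroup (ZMod 2) ⊓ X.G1 ≤ X.G1)).toEquiv,
      X.card_B1, ZMod.card]
    norm_num
  rw [le_bot_iff.1 h1, Subgroup.card_bot] at h2
  exact absurd h2 (by norm_num)

theorem genW_mem (X : RF (ZMod 2)) {i : ℕ} (hi : i < 8) : wG (genW.getD i []) ∈ X.G1 := by
  have hA : wG [33, 24] ∈ X.G1 := by simpa [wG, RF.yP] using X.yA_mem (1 : ZMod 2)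
  have hA' : wG [14, 23] ∈ X.G1 := by simpa [wG, RF.yP] using X.yA'_mem (1 : ZMod 2)
  have h0 : 2 * X.e ≠ 0 := Nat.mul_ne_zero two_ne_zero X.e_pos.ne'
  have h20 := X.yB_mem (1 : ZMod 2) 0
  have h21 := X.yB_mem (0 : ZMod 2) 1
  have h22 := X.yB_mem (1 : ZMod 2) 1
  have h30 := X.yB'_mem (1 : ZMod 2) 0
  have h31 := X.yB'_mem (0 : ZMod 2) 1
  have h32 := X.yB'_mem (1 : ZMod 2) 1
  simp only [RF.y4, one_pow, zero_pow h0, zero_pow X.e_pos.ne', zero_pow (Nat.succ_ne_zero X.e), SF.xG_zero,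
    add_zero, zero_add, mul_one, one_mul, show (1 : ZMod 2) + 1 = 0 from rfl] at h20 h21 h22 h30 h31 h32
  interval_cases i
  · exact hA
  · exact hA'
  · simpa [genW, wG, mul_assoc] using h20
  · simpa [genW, wG, mul_assoc] using h21
  · simpa [genW, wG, mul_assoc] using h22
  · simpa [genW, wG, mul_assoc] using h30
  · simpa [genW, wG, mul_assoc] using h31
  · simpa [genW, wG, mul_assoc] using h32

theorem gw_mem (X : RF (ZMod 2)) : ∀ l : List ℕ, (∀ k ∈ l, k < 8) → wG (gw l) ∈ X.G1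
  | [], _ => by rw [show gw [] = [] from rfl, wG_nil]; exact one_mem _
  | k :: l, h => by
    rw [show gw (k :: l) = genW.getD k [] ++ gw l from List.flatMap_cons .., wG_append]
    exact mul_mem (genW_mem X (h k List.mem_cons_self)) (gw_mem X l fun x hx => h x (List.mem_cons_of_mem _ hx))

theorem wG_pow (w : List ℕ) : ∀ n, wG (List.replicate n w).flatten = wG w ^ n
  | 0 => by rw [List.replicate_zero, List.flatten_nil, wG_nil, pow_zero]
  | n + 1 => by rw [List.replicate_succ, List.flatten_cons, wG_append, wG_pow w n, pow_succ']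

/-- The element outside. -/
noncomputable def elB (X : RF (ZMod 2)) : ↥X.G1 := ⟨wG [27, 25, 28], elemB_mem X⟩

theorem gen_split (X : RF (ZMod 2)) {i : ℕ} (hi : i < 8) :
    ∃ a r : ↥X.G1, a ∈ oddGen ↥X.G1 ∧ r ∈ oddGen ↥X.G1 ∧
      a * r = ⟨wG (genW.getD i []), genW_mem X hi⟩ * (bif genS.getD i false then elB X else 1) := by
  have h := odd_ok i hi
  simp only [oddOK, Bool.and_eq_true, List.all_eq_true, decide_eq_true_eq, beq_iff_eq] at h
  obtain ⟨⟨⟨⟨hidx, ho1⟩, ho2⟩, hp1⟩, hp2⟩ := h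
  set e := oddFact.getD i ([], 0, 0)
  set tgt := genW.getD i [] ++ bif genS.getD i false then [27, 25, 28] else [] with htgt
  have hga : ∀ q ∈ gw e.1, q < 48 := fun q hq => gw_roots hq
  have htr : ∀ q ∈ tgt, q < 48 := by
    intro q hq
    rcases List.mem_append.1 hq with hq | hq
    · exact gw_roots (l := [i]) (by simpa [gw] using hq)
    · revert hq
      cases genS.getD i false <;> simp <;> omega
  have htm : wG tgt ∈ X.G1 := by
    rw [htgt, wG_append]
    refine mul_mem (genW_mem X hi) ?_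
    cases genS.getD i false
    · rw [cond_false, wG_nil]; exact one_mem _
    · exact elemB_mem X
  have hrev : wG (gw e.1).reverse ∈ X.G1 := by rw [wG_inv]; exact inv_mem (gw_mem X _ hidx)
  have hpow : ∀ (w : List ℕ) (m : ℕ) (hw : wG w ∈ X.G1), (∀ q ∈ w, q < 48) → m % 2 = 1 →
      isOne (List.replicate m w).flatten = true → (⟨wG w, hw⟩ : ↥X.G1) ∈ oddGen ↥X.G1 := by
    intro w m hw hlt hm h1
    refine odd_of_pow_eq_one (m := m) (Subtype.ext ?_) hm
    rw [SubgroupClass.coe_pow, ← wG_pow]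
    refine wG_one_of_isOne ?_ h1
    intro q hq
    obtain ⟨l, hl, hql⟩ := List.mem_flatten.1 hq
    rw [List.eq_of_mem_replicate hl] at hql
    exact hlt q hql
  refine ⟨⟨_, gw_mem X _ hidx⟩, ⟨wG ((gw e.1).reverse ++ tgt), by rw [wG_append]; exact mul_mem hrev htm⟩,
    hpow _ _ _ hga ho1 hp1, hpow _ _ _ (fun q hq => (List.mem_append.1 hq).elim
      (fun h => hga q (List.mem_reverse.1 h)) (htr q)) ho2 hp2, Subtype.ext ?_⟩
  rw [Subgroup.coe_mul, Subgroup.coe_mul]
  show wG (gw e.1) * wG ((gw e.1).reverse ++ tgt) = _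
  rw [wG_append, wG_inv, mul_inv_cancel_left, htgt, wG_append]
  cases genS.getD i false
  · rw [cond_false, cond_false, wG_nil]; rfl
  · rw [cond_true, cond_true]; rfl

theorem two_cases : ∀ t : ZMod 2, t = 0 ∨ t = 1 := by decide

theorem oddGen_cover (X : RF (ZMod 2)) (g : ↥X.G1) : g ∈ oddGen ↥X.G1 ∨ g * elB X ∈ oddGen ↥X.G1 := by
  haveI := oddGen_normal (G := ↥X.G1)
  set O := oddGen ↥X.G1
  set π := QuotientGroup.mk' O
  have hgen : ∀ i, ∀ hi : i < 8, π ⟨wG (genW.getD i []), genW_mem X hi⟩ * π (bif genS.getD i false then elB X else 1) = 1 := by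
    intro i hi
    obtain ⟨a, r, ha, hr, e⟩ := gen_split X hi
    rw [← map_mul, ← e]
    exact (QuotientGroup.eq_one_iff _).2 (mul_mem ha hr)
  have hb2 : π (elB X) * π (elB X) = 1 := hgen 2 (by norm_num)
  let S : Subgroup (↥X.G1 ⧸ O) := Subgroup.zpowers (π (elB X))
  have hgenS : ∀ i, ∀ hi : i < 8, π ⟨wG (genW.getD i []), genW_mem X hi⟩ ∈ S := by
    intro i hi
    rw [eq_inv_of_mul_eq_one_left (hgen i hi)]
    refine inv_mem ?_
    cases genS.getD i false
    · rw [cond_false, map_one]; exact one_mem _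
    · exact Subgroup.mem_zpowers _
  have hall : ∀ x : GL chevF4.Idx (ZMod 2), ∀ hx : x ∈ X.G1, π ⟨x, hx⟩ ∈ S := by
    let K : Subgroup (GL chevF4.Idx (ZMod 2)) := (S.comap π).map X.G1.subtype
    have hK : ∀ i, i < 8 → wG (genW.getD i []) ∈ K := fun i hi => ⟨_, hgenS i hi, rfl⟩
    have hle : X.G1 ≤ K := by
      refine (Subgroup.closure_le _).2 fun y hy => ?_
      have h0 : 2 * X.e ≠ 0 := Nat.mul_ne_zero two_ne_zero X.e_pos.ne'
      rcases (X.G1_gens y).1 hy with ⟨t, rfl | rfl⟩ | ⟨t, u, rfl | rfl⟩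
      · rcases two_cases t with rfl | rfl
        · simp [RF.yP, zero_pow X.e_pos.ne', SF.xG_zero, one_mem]
        · simpa [genW, wG, RF.yP] using hK 0 (by norm_num)
      · rcases two_cases t with rfl | rfl
        · simp [RF.yP, zero_pow X.e_pos.ne', SF.xG_zero, one_mem]
        · simpa [genW, wG, RF.yP] using hK 1 (by norm_num)
      · rcases two_cases t with rfl | rfl <;> rcases two_cases u with rfl | rfl <;>
          simp only [RF.y4, one_pow, zero_pow h0, zero_pow X.e_pos.ne', zero_pow (Nat.succ_ne_zero X.e), SF.xG_zero,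
            add_zero, zero_add, mul_one, one_mul, show (1 : ZMod 2) + 1 = 0 from rfl, SetLike.mem_coe]
        · exact one_mem _
        · simpa [genW, wG, mul_assoc] using hK 3 (by norm_num)
        · simpa [genW, wG, mul_assoc] using hK 2 (by norm_num)
        · simpa [genW, wG, mul_assoc] using hK 4 (by norm_num)
      · rcases two_cases t with rfl | rfl <;> rcases two_cases u with rfl | rfl <;>
          simp only [RF.y4, one_pow, zero_pow h0, zero_pow X.e_pos.ne', zero_pow (Nat.succ_ne_zero X.e), SF.xG_zero,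
            add_zero, zero_add, mul_one, one_mul, show (1 : ZMod 2) + 1 = 0 from rfl, SetLike.mem_coe]
        · exact one_mem _
        · simpa [genW, wG, mul_assoc] using hK 6 (by norm_num)
        · simpa [genW, wG, mul_assoc] using hK 5 (by norm_num)
        · simpa [genW, wG, mul_assoc] using hK 7 (by norm_num)
    intro x hx
    obtain ⟨y, hy, e⟩ := hle hx
    rwa [show (⟨x, hx⟩ : ↥X.G1) = y from Subtype.ext e.symm]
  obtain ⟨k, hk⟩ := Subgroup.mem_zpowers_iff.1 (hall g g.2)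
  rcases Int.even_or_odd k with ⟨j, rfl⟩ | ⟨j, rfl⟩
  · refine Or.inl ((QuotientGroup.eq_one_iff _).1 ?_)
    show π g = 1
    rw [← hk, zpow_add, ← (Commute.refl _).mul_zpow, hb2, one_zpow]
  · refine Or.inr ((QuotientGroup.eq_one_iff _).1 ?_)
    show π (g * elB X) = 1
    rw [map_mul, ← hk, zpow_add, zpow_mul, zpow_one, zpow_ofNat, sq, hb2, one_zpow, one_mul, hb2]

theorem commutator_eq_oddGen (X : RF (ZMod 2)) : commutator ↥X.G1 = oddGen ↥X.G1 := by
  haveI := oddGen_normal (G := ↥X.G1)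
  have h1 : oddGen ↥X.G1 ≤ commutator ↥X.G1 := by
    rcases normal_cases X (commutator ↥X.G1) with h | h
    · exact absurd h (commutator_ne_bot X)
    · exact oddGen_le (n := 12) (by norm_num; exact h)
  refine le_antisymm (fun g hg => ?_) h1
  rcases oddGen_cover X g with h | h
  · exact h
  · have h2 := mul_mem (inv_mem hg) (h1 h)
    rw [inv_mul_cancel_left] at h2
    exact absurd h2 (elemB_not_mem X)

theorem index_commutator (X : RF (ZMod 2)) : (commutator ↥X.G1).index = 2 := by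
  rw [Subgroup.index_eq_two_iff]
  refine ⟨elB X, fun g => ?_⟩
  by_cases hg : g ∈ commutator ↥X.G1
  · refine Or.inr ⟨hg, fun h => elemB_not_mem X ?_⟩
    have h2 := mul_mem (inv_mem hg) h
    rw [inv_mul_cancel_left] at h2
    exact h2
  · refine Or.inl ⟨?_, hg⟩
    rw [commutator_eq_oddGen X] at hg ⊢
    exact (oddGen_cover X g).resolve_left hg

theorem card_commutator (X : RF (ZMod 2)) : Nat.card ↥(commutator ↥X.G1) = 17971200 := by
  have h := (commutator ↥X.G1).card_mul_index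
  have h5 : Nat.card ↥X.G1 = 35942400 := by rw [X.order, ZMod.card]; norm_num
  rw [index_commutator, h5] at h
  omega

/-- The derived subgroup is simple and not abelian. -/
theorem simple_commutator (X : RF (ZMod 2)) :
    IsSimpleGroup ↥(commutator ↥X.G1) ∧ ¬ IsMulCommutative ↥(commutator ↥X.G1) := by
  haveI : Finite ↥X.G1 := Subtype.finite
  haveI : (commutator ↥X.G1).Normal := by rw [commutator_def]; infer_instance
  refine ⟨simple_of_index_two _ (index_commutator X) (fun N hN => ?_) ?_ (commutator_ne_bot X), fun hc => ?_⟩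
  · haveI := hN
    rcases normal_cases X N with h | h
    · exact Or.inl h
    · exact Or.inr (commutator_eq_oddGen X ▸ oddGen_le (n := 12) (by norm_num; exact h))
  · rw [card_commutator]
    intro k hk
    have h1 : Nat.sqrt 17971200 = k := by rw [← hk, Nat.sqrt_eq]
    rw [← h1] at hk
    exact absurd hk (by norm_num)
  · have hA : wG [33, 24] * wG [33, 24] = 1 := by
      rw [← wG_append]
      exact wG_one_of_isOne (by decide) (by decide +kernel)
    have hne : wG [33, 24] ≠ 1 := fun e1 => by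
      have := run_congr (a := [33, 24]) (b := []) (by decide) (by simp) (e1.trans wG_nil.symm) (2 ^ 0)
      revert this
      decide +kernel
    set g0 : ↥X.G1 := ⟨wG (genW.getD 0 []), genW_mem X (show 0 < 8 by norm_num)⟩
    have hmem : g0 ∈ oddGen ↥X.G1 := by
      obtain ⟨a, r, ha, hr, e⟩ := gen_split X (show 0 < 8 by norm_num)
      rw [show genS.getD 0 false = false from by decide, cond_false, mul_one] at e
      have h2 := mul_mem ha hr
      rw [e] at h2
      exact h2
    have hval : ((g0 : ↥X.G1) : GL chevF4.Idx (ZMod 2)) = wG [33, 24] :=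
      congrArg wG (show genW.getD 0 [] = [33, 24] by decide)
    have hsq : g0 ^ 2 = 1 := Subtype.ext (by
      rw [SubgroupClass.coe_pow, hval, sq, hA, OneMemClass.coe_one])
    have hg1 : g0 ≠ 1 := fun e1 => hne (by
      have h2 := congrArg Subtype.val e1
      rw [hval, OneMemClass.coe_one] at h2
      exact h2)
    exact false_of_odd_invol (odd_order_of_comm hc (commutator_eq_oddGen X).ge g0 hmem) hsq hg1

end Cfsg.Lib.TitsComm
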