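import Cfsg.Agent.Known.FieldCoset

/-!
Field and graph-field automorphisms of prime order of `PSL_n`: elements of the same order in the inner-diagonal coset
are conjugate.
-/

set_option autoImplicit false
set_option linter.unusedSectionVars false

namespace Cfsg.Lib.Known.AutPSLn

open Matrix

variable {F : Type*} [Field F] [Fintype F] {n : ℕ}

local notation "GLn" => GL (Fin n) F
local notation "Pn" => Matrix.ProjectiveSpecialLinearGroup (Fin n) F
local notation "Mn" => Matrix (Fin n) (Fin n) F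

/-- The scalar elements. -/
noncomputable def sc : Fˣ →* GLn := Units.map (Matrix.scalar (Fin n) : F →+* Mn).toMonoidHom

theorem coe_sc (u : Fˣ) : ((sc u : GLn) : Mn) = Matrix.scalar (Fin n) (u : F) := rfl

theorem sc_comm (u : Fˣ) (g : GLn) : sc u * g = g * sc u :=
  Units.ext (Matrix.scalar_commute (u : F) (fun r => mul_comm _ r) (g : Mn)).eq

theorem sc_mem_center (u : Fˣ) : (sc u : GLn) ∈ Subgroup.center GLn :=
  Subgroup.mem_center_iff.2 fun g => (sc_comm u g).symm

theorem glMap_sc (σ : F ≃+* F) (u : Fˣ) : glMap σ (sc u : GLn) = sc (Units.map σ.toRingHom.toMonoidHom u) := by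
  refine Units.ext ?_
  rw [coe_glMap, coe_sc, coe_sc, scalar_apply, scalar_apply, diagonal_map (map_zero σ)]
  rfl

theorem exists_sc {g : GLn} (h : g ∈ Subgroup.center GLn) (hn : 0 < n) : ∃ u : Fˣ, g = sc u := by
  obtain ⟨a, ha⟩ := GeneralLinearGroup.mem_center_iff_val_mem_range_scalar.1 h
  refine ⟨Units.mk0 a ?_, Units.ext (ha.symm.trans rfl)⟩
  rintro rfl
  have := g.mul_inv
  rw [← ha, map_zero, zero_mul] at this
  exact one_ne_zero (α := F) (by simpa using (congrFun (congrFun this ⟨0, hn⟩) ⟨0, hn⟩).symm)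

theorem sc_injective (hn : 0 < n) : Function.Injective (sc : Fˣ →* GLn) := by
  intro u v h
  have := congrFun (congrFun (congrArg (fun z : GLn => (z : Mn)) h) ⟨0, hn⟩) ⟨0, hn⟩
  rw [coe_sc, coe_sc, scalar_apply, scalar_apply, diagonal_apply_eq, diagonal_apply_eq] at this
  exact Units.ext this

theorem tnorm_succ' {X : Type*} [Group X] (Θ : MulAut X) (g : X) :
    ∀ k : ℕ, tnorm Θ g (k + 1) = tnorm Θ g k * (Θ ^ k) g
  | 0 => by simp [tnorm]
  | k + 1 => by
    show g * Θ (tnorm Θ g (k + 1)) = g * Θ (tnorm Θ g k) * _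
    rw [tnorm_succ' Θ g k, map_mul, ← MulAut.mul_apply, ← pow_succ', ← mul_assoc]

theorem tnorm_sc_mul (σ : F ≃+* F) (u : Fˣ) (g : GLn) : ∀ k : ℕ,
    tnorm (glMap σ) (sc u * g) k =
      sc (∏ i ∈ Finset.range k, Units.map (σ ^ i).toRingHom.toMonoidHom u) * tnorm (glMap σ) g k
  | 0 => by simp [tnorm]
  | k + 1 => by
    rw [tnorm, tnorm_sc_mul σ u g k, map_mul, glMap_sc, tnorm, Finset.prod_range_succ', map_mul (sc : Fˣ →* GLn)]
    rw [← mul_assoc, mul_assoc (sc u) g, ← sc_comm, ← mul_assoc, mul_assoc (sc u * _) g]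
    congr 1
    rw [sc_comm]
    refine congrArg₂ (· * ·) (congrArg sc ?_) (congrArg sc (Units.ext rfl))
    rw [map_prod]
    refine Finset.prod_congr rfl fun i _ => Units.ext ?_
    rw [pow_succ']
    rfl

/-- Conjugacy in a coset from a twisted factorisation. -/
theorem conj_of_factor {Θ : MulAut GLn} {φ : MulAut Pn} (hΘ : ∀ g, φ * conjP g = conjP (Θ g) * φ) {g h : GLn}
    {u : Fˣ} (e : sc u * g * Θ h = h) : (conjP g : MulAut Pn) * φ = conjP h * φ * (conjP h)⁻¹ := by
  rw [mul_assoc (conjP h), ← map_inv, hΘ, ← mul_assoc, ← map_mul, map_inv Θ,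
    show h * (Θ h)⁻¹ = sc u * g from mul_inv_eq_iff_eq_mul.2 e.symm, map_mul, conjP_scalar (sc_mem_center u),
    one_mul]

theorem field_case (hn : 2 ≤ n) {σ : F ≃+* F} (hσ : σ ≠ 1) {r : ℕ} (hr : r.Prime)
    (hφ : (fieldP σ : MulAut Pn) ^ r = 1) {g : GLn} (hg : ((conjP g : MulAut Pn) * fieldP σ) ^ r = 1) :
    ∃ h : GLn, (conjP g : MulAut Pn) * fieldP σ = conjP h * fieldP σ * (conjP h)⁻¹ := by
  have hσr : σ ^ r = 1 :=
    (conjP_fieldP_eq_one hn (A := 1) (by rw [map_one, one_mul, map_pow, hφ])).2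
  have : Fact r.Prime := ⟨hr⟩
  have hord : orderOf σ = r := orderOf_eq_prime hσr hσ
  rw [mul_twist_pow conjP (glMap σ) (fieldP σ) (fieldP_mul_conjP σ), hφ, mul_one] at hg
  obtain ⟨hc, -⟩ := conjP_fieldP_eq_one hn (A := tnorm (glMap σ) g r) (σ := 1) (by rw [hg, map_one, one_mul])
  obtain ⟨l, hl⟩ := exists_sc hc (by omega)
  have hfix : σ (l : F) = l := by
    have h1 : g * glMap σ (tnorm (glMap σ) g r) = tnorm (glMap σ) g r * ((glMap σ : MulAut GLn) ^ r) g :=
      tnorm_succ' (glMap σ) g r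
    rw [hl, glMap_sc, ← map_pow, hσr, map_one, MulAut.one_apply, ← sc_comm, mul_left_inj] at h1
    exact congrArg Units.val (sc_injective (by omega) h1)
  obtain ⟨a, ha⟩ := exists_pow_norm hord hr.pos (x := (l : F)⁻¹) (by rw [map_inv₀, hfix])
  have ha0 : a ≠ 0 := by
    rintro rfl
    exact inv_ne_zero l.ne_zero (ha.symm.trans (Finset.prod_eq_zero (Finset.mem_range.2 hr.pos) (map_zero _)))
  have hN : tnorm (glMap σ) (sc (Units.mk0 a ha0) * g) r = 1 := by
    rw [tnorm_sc_mul, hl, ← map_mul, show (∏ i ∈ Finset.range r, Units.map (σ ^ i).toRingHom.toMonoidHom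
      (Units.mk0 a ha0)) * l = 1 from Units.ext ?_, map_one]
    rw [Units.val_mul, Units.coe_prod, Units.val_one]
    rw [show ∏ i ∈ Finset.range r, ((Units.map (σ ^ i).toRingHom.toMonoidHom (Units.mk0 a ha0) : Fˣ) : F) =
      ∏ i ∈ Finset.range r, (σ ^ i) a from rfl, ha, inv_mul_cancel₀ l.ne_zero]
  obtain ⟨h, hh⟩ := hilbert90 hord hr.pos _ hN
  exact ⟨h, conj_of_factor (fieldP_mul_conjP σ) hh⟩

theorem graphP_ne_one (hn : 2 ≤ n) : (graphP : MulAut Pn) ≠ 1 := by
  intro h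
  let i0 : Fin n := ⟨0, by omega⟩
  let i1 : Fin n := ⟨1, by omega⟩
  have h01 : i0 ≠ i1 := by simp [i0, i1, Fin.ext_iff]
  let u : Matrix.SpecialLinearGroup (Fin n) F := SpecialLinearGroup.transvection h01 1
  obtain ⟨c, hc⟩ := π_eq (show π u = π (graphSL u) from (DFunLike.congr_fun h (π u)).symm)
  rw [coe_graphSL, SpecialLinearGroup.transvection_inv] at hc
  have e1 := congrFun (congrFun hc i0) i1
  have e2 := congrFun (congrFun hc i0) i0
  simp [u, SpecialLinearGroup.transvection, h01, h01.symm, transvection] at e1 e2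
  rw [← e1] at e2
  exact one_ne_zero e2

theorem graph_field_order (hn : 3 ≤ n) {σ : F ≃+* F} {r : ℕ} (hr : r.Prime)
    (hφ : ((fieldP σ : MulAut Pn) * graphP) ^ r = 1) : r = 2 ∧ σ ^ 2 = 1 := by
  rw [(fieldP_comm_graphP σ).mul_pow, ← map_pow] at hφ
  rcases hr.eq_two_or_odd' with rfl | ⟨k, rfl⟩
  · rw [pow_two graphP, graphP_mul_self, mul_one] at hφ
    exact ⟨rfl, (conjP_fieldP_eq_one (n := n) (by omega) (A := 1) (by rw [map_one, one_mul, hφ])).2⟩
  · exfalso
    rw [pow_succ graphP, pow_mul, pow_two, graphP_mul_self, one_pow, one_mul] at hφ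
    refine graphP_ne_one (F := F) (n := n) (by omega) ?_
    exact (inner_imp hn (g := 1) (σ := σ ^ (2 * k + 1)) (γ := graphP) (x := 1) (Or.inr rfl)
      (by rw [map_one, one_mul, hφ, map_one])).1

theorem graph_case (hn : 3 ≤ n) {σ : F ≃+* F} (hσ : σ ≠ 1) {r : ℕ} (hr : r.Prime)
    (hφ : ((fieldP σ : MulAut Pn) * graphP) ^ r = 1) {g : GLn}
    (hg : ((conjP g : MulAut Pn) * (fieldP σ * graphP)) ^ r = 1) :
    ∃ h : GLn, (conjP g : MulAut Pn) * (fieldP σ * graphP) = conjP h * (fieldP σ * graphP) * (conjP h)⁻¹ := by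
  obtain ⟨rfl, hσ2⟩ := graph_field_order hn hr hφ
  let Θ : MulAut GLn := glMap σ * glInvT
  have hΘ : ∀ g : GLn, (fieldP σ * graphP : MulAut Pn) * conjP g = conjP (Θ g) * (fieldP σ * graphP) := fun g => by
    rw [mul_assoc, graphP_mul_conjP, ← mul_assoc, fieldP_mul_conjP, mul_assoc]; rfl
  have hinv : ∀ x : F, σ (σ x) = x := fun x => by
    rw [← RingAut.mul_apply, ← pow_two, hσ2]; rfl
  have hσc : Classical.IsConj (σ : F →+* F) := by
    refine ⟨hinv, ?_⟩
    by_contra h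
    push Not at h
    exact hσ (RingEquiv.ext h)
  rw [mul_twist_pow conjP Θ (fieldP σ * graphP) hΘ, hφ, mul_one] at hg
  obtain ⟨hc, -⟩ := conjP_fieldP_eq_one (by omega) (A := tnorm Θ g 2) (σ := 1) (by rw [hg, map_one, one_mul])
  obtain ⟨l, hl⟩ := exists_sc hc (by omega)
  have htn : tnorm Θ g 2 = g * Θ g := by simp [tnorm]
  rw [htn] at hl
  -- `g` is a multiple of its twisted transpose
  have hΘcoe : ∀ k : GLn, ((Θ k : GLn) : Mn) = ((((k⁻¹ : GLn) : Mn))ᵀ).map σ := fun k => rfl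
  have hgl : (g : Mn) = (l : F) • ((g : Mn).map σ)ᵀ := by
    have e : g = sc l * (Θ g)⁻¹ := eq_mul_inv_iff_mul_eq.2 hl
    have e' := congrArg Units.val e
    rw [Units.val_mul, ← map_inv, hΘcoe, inv_inv, coe_sc, scalar_apply, ← smul_one_eq_diagonal, smul_mul_assoc,
      one_mul, transpose_map] at e'
    exact e'
  have hll : (l : F) * σ (l : F) = 1 := by
    have h2 : ((g : Mn).map σ)ᵀ = σ (l : F) • (g : Mn) := by
      conv_lhs => rw [hgl]
      ext i j
      simp [hinv]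
    have h3 : (g : Mn) = ((l : F) * σ (l : F)) • (g : Mn) := by
      rw [mul_smul, ← h2]; exact hgl
    by_contra hne
    have h4 : ((l : F) * σ (l : F) - 1) • (g : Mn) = 0 := by rw [sub_smul, one_smul, ← h3, sub_self]
    rcases smul_eq_zero.1 h4 with h5 | h5
    · exact hne (sub_eq_zero.1 h5)
    · have := g.mul_inv
      rw [h5, zero_mul] at this
      exact one_ne_zero (α := F) (by simpa using (congrFun (congrFun this ⟨0, by omega⟩) ⟨0, by omega⟩).symm)
  obtain ⟨c, hc0, hcx⟩ := hσc.exists_div_eq (c := (l : F)⁻¹) (by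
    show (l : F)⁻¹ * σ ((l : F)⁻¹) = 1
    rw [map_inv₀, ← mul_inv, hll, inv_one])
  replace hcx : σ c = c * l := by
    conv_rhs => rw [hcx]
    show σ c = (l : F)⁻¹ * σ c * l
    field_simp
  set G : GLn := sc (Units.mk0 c hc0) * g with hGdef
  have hG : (G : Mn) = c • (g : Mn) := by
    rw [hGdef, Units.val_mul, coe_sc, scalar_apply, ← smul_one_eq_diagonal, smul_mul_assoc, one_mul]; rfl
  have hherm : ((G : Mn).map σ)ᵀ = (G : Mn) := by
    rw [hG, show ((c • (g : Mn)).map σ)ᵀ = σ c • ((g : Mn).map σ)ᵀ by ext i j; simp, hcx, mul_smul, ← hgl]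
  let H : Classical.HermSpace F (Fin n → F) :=
    { σ := (σ : F →+* F)
      h := fun x y => x ⬝ᵥ ((G : Mn) *ᵥ (σ ∘ y))
      conj := hσc
      add_left := fun x y z => add_dotProduct _ _ _
      smul_left := fun a x z => smul_dotProduct _ _ _
      symm := fun x y => by
        show x ⬝ᵥ ((G : Mn) *ᵥ (σ ∘ y)) = σ (y ⬝ᵥ ((G : Mn) *ᵥ (σ ∘ x)))
        conv_lhs => rw [← hherm]
        simp only [dotProduct, mulVec, Function.comp_apply, map_sum, map_mul, transpose_apply, Matrix.map_apply,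
          hinv, Finset.mul_sum]
        rw [Finset.sum_comm]
        exact Finset.sum_congr rfl fun i _ => Finset.sum_congr rfl fun j _ => by ring
      nondeg := fun v hv => by
        have h0 : (G : Mn) *ᵥ (σ ∘ v) = 0 := dotProduct_eq_zero _ fun w => by
          rw [dotProduct_comm]; exact hv w
        have h1 : σ ∘ v = 0 := by
          have := congrArg (fun z => ((G⁻¹ : GLn) : Mn) *ᵥ z) h0
          simpa [mulVec_mulVec] using this
        funext i
        exact σ.injective ((congrFun h1 i).trans (map_zero σ).symm) }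
  obtain ⟨b, hb⟩ := H.exists_orthonormal
  let B : Mn := Matrix.of fun i => b (Fin.cast (Module.finrank_fin_fun F).symm i)
  have hBG : B * (G : Mn) * ((B.map σ)ᵀ) = 1 := by
    ext i j
    have := hb (Fin.cast (Module.finrank_fin_fun F).symm i) (Fin.cast (Module.finrank_fin_fun F).symm j)
    rw [Matrix.one_apply, mul_assoc]
    refine Eq.trans ?_ (this.trans (by simp [Fin.ext_iff]))
    simp only [H, B, mul_apply, dotProduct, mulVec, Function.comp_apply, transpose_apply, Matrix.map_apply, of_apply]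
  have hBu : IsUnit B :=
    IsUnit.of_mul_eq_one ((G : Mn) * (B.map σ)ᵀ) (by rw [← mul_assoc, hBG])
  refine ⟨hBu.unit⁻¹, conj_of_factor hΘ (u := Units.mk0 c hc0) (Units.ext ?_)⟩
  rw [← hGdef, Units.val_mul, hΘcoe, inv_inv, IsUnit.unit_spec, ← Units.mul_eq_one_iff_eq_inv, IsUnit.unit_spec,
    transpose_map, mul_assoc]
  rw [← mul_assoc (G : Mn)]
  refine mul_eq_one_comm.1 ?_
  rw [← mul_assoc, hBG]

/-- The coset theorem. -/
theorem coset_conj (hn : 2 ≤ n) (x δ : MulAut Pn)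
    (hx : Cfsg.IsFieldAutClassPSL x ∨ Cfsg.IsGraphFieldAutClassPSL x) {r : ℕ} (hr : r.Prime) (hxr : orderOf x = r)
    (hδ : δ ∈ Cfsg.inndiagPSL n F) : orderOf (δ * x) = r ↔ Cfsg.IsConjUnder (Cfsg.inndiagPSL n F) x (δ * x) := by
  constructor
  · intro h
    have hx1 : x ^ r = 1 := hxr ▸ pow_orderOf_eq_one x
    have hd1 : (δ * x) ^ r = 1 := h ▸ pow_orderOf_eq_one (δ * x)
    have key : ∀ (α φ : MulAut Pn), α * x * α⁻¹ = φ →
        (∀ g : GLn, (conjP g * φ) ^ r = 1 → ∃ k : GLn, conjP g * φ = conjP k * φ * (conjP k)⁻¹) →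
        Cfsg.IsConjUnder (Cfsg.inndiagPSL n F) x (δ * x) := by
      intro α φ hφ hcase
      obtain ⟨g, hg⟩ : α * δ * α⁻¹ ∈ (conjP : GLn →* MulAut Pn).range :=
        inndiag_eq (F := F) (n := n) ▸ inndiag_normal hn hδ
      obtain ⟨k, hk⟩ := hcase g (by
        rw [hg, ← hφ, show α * δ * α⁻¹ * (α * x * α⁻¹) = α * (δ * x) * α⁻¹ by group, conj_pow, hd1, mul_one,
          mul_inv_cancel])
      refine ⟨α⁻¹ * conjP k * α⁻¹⁻¹, inndiag_normal hn (inndiag_eq (F := F) (n := n) ▸ ⟨k, rfl⟩), ?_⟩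
      rw [hg, ← hφ] at hk
      calc δ * x = α⁻¹ * (α * δ * α⁻¹ * (α * x * α⁻¹)) * α := by group
        _ = _ := by rw [hk]; group
    rcases hx with ⟨α, σ, hσ, hstd⟩ | ⟨h3, α, φ, γ, σ, hσ, hstd, hγ, he⟩
    · refine key α _ rfl fun g hg => ?_
      rw [eq_fieldP hstd] at hg ⊢
      refine field_case hn (by exact hσ) hr ?_ hg
      rw [← eq_fieldP hstd, conj_pow, hx1, mul_one, mul_inv_cancel]
    · have hφ := eq_fieldP hstd
      have hγ' := eq_graphP hγ
      subst hφ hγ'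
      refine key α _ he fun g hg => graph_case h3 (by exact hσ) hr ?_ hg
      rw [← he, conj_pow, hx1, mul_one, mul_inv_cancel]
  · rintro ⟨h, -, e⟩
    rw [e, ← MulAut.conj_apply, MulEquiv.orderOf_eq (MulAut.conj h) x, hxr]

end Cfsg.Lib.Known.AutPSLn
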