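import Cfsg.Agent.Known.Laws
import Cfsg.Agent.S2352

/-!
A nontrivial law bounds the order of a classical simple group.
-/

namespace Cfsg.Lib.Known

open Matrix

theorem not_law_of_embedding {w : FreeGroup ℕ} {H : Type*} [Group H] {G : Type*} [Group G]
    (e : G ≃* H ⧸ Subgroup.center H) (hlaw : ∀ f : ℕ → G, FreeGroup.lift f w = 1)
    {K : Type*} [Group K] (ψ : K →* H) (hψ : Function.Injective ψ)
    (hK : ∃ f : ℕ → K, FreeGroup.lift f w ∉ Subgroup.center K) : False := by
  obtain ⟨f, hf⟩ := hK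
  refine hf (Subgroup.mem_center_iff.2 fun k => hψ ?_)
  rw [map_mul, map_mul]
  refine Subgroup.mem_center_iff.1 ?_ (ψ k)
  let χ : K →* G := e.symm.toMonoidHom.comp ((QuotientGroup.mk' (Subgroup.center H)).comp ψ)
  have hl : χ.comp (FreeGroup.lift f) = FreeGroup.lift (fun i => χ (f i)) := FreeGroup.ext_hom _ _ (by simp)
  have h1 : χ (FreeGroup.lift f w) = 1 := by rw [← hlaw (fun i => χ (f i)), ← hl]; rfl
  have h2 : QuotientGroup.mk' (Subgroup.center H) (ψ (FreeGroup.lift f w)) = 1 := e.symm.map_eq_one_iff.1 h1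
  exact (QuotientGroup.eq_one_iff _).1 h2

theorem card_le_matrices {H : Type*} [Group H] {ι : Type*} [Fintype ι] [DecidableEq ι] {F : Type*} [Field F]
    [Fintype F] (c : H → Matrix ι ι F) (hc : Function.Injective c) {G : Type*} [Group G]
    (e : G ≃* H ⧸ Subgroup.center H) {A D : ℕ} (hA : Fintype.card F ≤ A) (hD : Fintype.card ι ≤ D) :
    Nat.card G ≤ A ^ (D * D) := by
  have : Finite H := Finite.of_injective c hc
  have h1 : Nat.card G ≤ Nat.card H := by
    rw [Nat.card_congr e.toEquiv]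
    exact Nat.card_le_card_of_surjective _ (QuotientGroup.mk'_surjective _)
  have h2 : Nat.card (Matrix ι ι F) = Fintype.card F ^ (Fintype.card ι * Fintype.card ι) := by
    rw [Nat.card_eq_fintype_card]
    change Fintype.card (ι → ι → F) = _
    rw [Fintype.card_fun, Fintype.card_fun, ← pow_mul]
  refine h1.trans ((Nat.card_le_card_of_injective c hc).trans (h2.le.trans ?_))
  calc Fintype.card F ^ (Fintype.card ι * Fintype.card ι) ≤ A ^ (Fintype.card ι * Fintype.card ι) :=
        Nat.pow_le_pow_left hA _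
    _ ≤ A ^ (D * D) := Nat.pow_le_pow_right (le_trans Fintype.card_pos hA) (Nat.mul_le_mul hD hD)

theorem reindexGL_unitary {ι κ : Type*} [Fintype ι] [DecidableEq ι] [Fintype κ] [DecidableEq κ] {F : Type*}
    [Field F] {q : ℕ} (e : ι ≃ κ) (A : GL ι F)
    (h : (A : Matrix ι ι F)ᵀ * (A : Matrix ι ι F).map (· ^ q) = 1) :
    ((reindexGL F e A : GL κ F) : Matrix κ κ F)ᵀ * ((reindexGL F e A : GL κ F) : Matrix κ κ F).map (· ^ q) = 1 := by
  change (Matrix.reindex e e (A : Matrix ι ι F))ᵀ * (Matrix.reindex e e (A : Matrix ι ι F)).map (· ^ q) = 1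
  rw [Matrix.reindex_apply, Matrix.transpose_submatrix, ← Matrix.submatrix_map, Matrix.submatrix_mul_equiv, h,
    Matrix.submatrix_one_equiv]

theorem exists_bound_of_law.{u} (w : FreeGroup ℕ) (hw : w ≠ 1) :
    ∃ N : ℕ, ∀ (G : Type u) [Group G] [Finite G],
      (Cfsg.IsAlternating G ∨ Cfsg.IsPSL G ∨ Cfsg.IsPSp G ∨ Cfsg.IsPSU G ∨ Cfsg.IsPOmegaOdd G ∨
          Cfsg.IsPOmegaPlus G ∨ Cfsg.IsPOmegaMinus G) →
      (∀ f : ℕ → G, FreeGroup.lift f w = 1) → Nat.card G ≤ N := by
  classical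
  obtain ⟨N2, hN2⟩ := Cfsg.Agent.S2352.result w hw
  obtain ⟨N0, hN0⟩ := exists_word_value_ne w hw
  obtain ⟨M, hM⟩ := exists_sl2_hom N0
  obtain ⟨p, hp, hpp⟩ := Nat.exists_infinite_primes (max N0 4)
  have := Fact.mk hpp
  set M' := Fintype.card (SpecialLinearGroup (Fin 2) (ZMod p))
  set A := (max N0 4) ^ 2 with hA
  set D := 2 * (M + M') + 3 with hD
  refine ⟨max N2.factorial (A ^ (D * D)), fun G _ _ hG hlaw => ?_⟩
  have hfield : ∀ K : Type, ∀ (_ : Field K) (_ : Fintype K), max N0 4 ≤ Fintype.card K →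
      (commutator (SpecialLinearGroup (Fin 2) K) = ⊤) ∧
        ∃ f : ℕ → SpecialLinearGroup (Fin 2) K, FreeGroup.lift f w ∉ Subgroup.center _ := fun K _ _ h =>
    ⟨sl2_commutator_eq_top K (le_trans (le_max_right _ _) h), hN0 K (le_trans (le_max_left _ _) h)⟩
  have hsmall : ∀ {x : ℕ}, x < max N0 4 → x ≤ A := fun {x} hx => by
    rw [hA, sq]
    exact le_trans hx.le (Nat.le_mul_self _)
  rcases hG with ⟨n, -, ⟨e⟩⟩ | ⟨F, _, _, n, hn, -, ⟨e⟩⟩ | ⟨F, _, _, m, hm, -, ⟨e⟩⟩ |
    ⟨F, _, _, n, q, hq, hn, -, ⟨e⟩⟩ | ⟨F, _, _, m, hm, -, ⟨e⟩⟩ | ⟨F, _, _, m, hm, ⟨e⟩⟩ |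
    ⟨F, _, _, m, a, b, hm, -, ⟨e⟩⟩
  · rcases lt_or_ge n N2 with h | h
    · refine le_trans ?_ (le_max_left _ _)
      rw [Nat.card_congr e.toEquiv]
      refine le_trans (Subgroup.card_le_card_group _) ?_
      rw [Nat.card_perm, Nat.card_fin]
      exact Nat.factorial_le h.le
    · obtain ⟨f, hf⟩ := hN2 n h
      have hl : e.symm.toMonoidHom.comp (FreeGroup.lift f) = FreeGroup.lift (fun i => e.symm (f i)) :=
        FreeGroup.ext_hom _ _ (by simp)
      refine absurd (e.symm.map_eq_one_iff.1 ?_) hf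
      rw [← hlaw (fun i => e.symm (f i)), ← hl]
      rfl
  · by_cases hbig : max N0 4 ≤ Fintype.card F ∨ M ≤ n
    · obtain ⟨K, _, _, hK, φ, hφ⟩ := hM F n hn hbig
      obtain ⟨hperf, hval⟩ := hfield K _ _ hK
      obtain ⟨ψ, hψ, -⟩ := exists_hom_sl hperf φ hφ
      exact (not_law_of_embedding e hlaw ψ hψ hval).elim
    · push Not at hbig
      refine le_trans ?_ (le_max_right _ _)
      exact card_le_matrices (fun g : SpecialLinearGroup (Fin n) F => (g : Matrix (Fin n) (Fin n) F))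
        (fun a b h => Subtype.ext h) e (hsmall hbig.1) (by rw [Fintype.card_fin]; omega)
  · by_cases hbig : max N0 4 ≤ Fintype.card F ∨ M ≤ m
    · obtain ⟨K, _, _, hK, φ, hφ⟩ := hM F m hm hbig
      obtain ⟨hperf, hval⟩ := hfield K _ _ hK
      obtain ⟨ψ, hψ⟩ := exists_hom_symplectic φ hφ
      exact (not_law_of_embedding e hlaw ψ hψ hval).elim
    · push Not at hbig
      refine le_trans ?_ (le_max_right _ _)
      exact card_le_matrices (fun g : symplecticGroup (Fin m) F => (g : Matrix (Fin m ⊕ Fin m) (Fin m ⊕ Fin m) F))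
        (fun a b h => Subtype.ext h) e (hsmall hbig.1) (by rw [Fintype.card_sum, Fintype.card_fin]; omega)
  · have hq0 : q ≠ 0 := by
      rintro rfl
      simp at hq
    by_cases hbig : max N0 4 ≤ q
    · obtain ⟨K, _, _, hK, φ, hφ, hu⟩ := exists_hom_unitary_two q hq
      obtain ⟨hperf, hval⟩ := hfield K _ _ (hbig.trans hK)
      obtain ⟨k, rfl⟩ := Nat.exists_eq_add_of_le (show 2 ≤ n by omega)
      obtain ⟨ψ, hψ⟩ := exists_hom_SU hq hperf
        ((reindexGL F finSumFinEquiv).toMonoidHom.comp ((blockGL (Fin 2) (Fin k) F).comp φ))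
        ((reindexGL F finSumFinEquiv).injective.comp ((blockGL_injective _ _ _).comp hφ))
        (fun g => reindexGL_unitary _ _ (blockGL_unitary hq0 _ (hu g)))
      exact (not_law_of_embedding e hlaw ψ hψ hval).elim
    by_cases hbig' : M' ≤ n
    · obtain ⟨ι⟩ : Nonempty (SpecialLinearGroup (Fin 2) (ZMod p) ↪ Fin n) :=
        Function.Embedding.nonempty_of_card_le (by rwa [Fintype.card_fin])
      obtain ⟨hperf, hval⟩ := hfield (ZMod p) inferInstance inferInstance (by rw [ZMod.card]; exact hp)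
      obtain ⟨ψ, hψ⟩ := exists_hom_SU hq hperf
        ((permGL (Fin n) F).comp ((Equiv.Perm.viaEmbeddingHom ι).comp
          (MulAction.toPermHom (SpecialLinearGroup (Fin 2) (ZMod p)) (SpecialLinearGroup (Fin 2) (ZMod p)))))
        ((permGL_injective _ _).comp ((Equiv.Perm.viaEmbeddingHom_injective ι).comp MulAction.toPerm_injective))
        (fun g => permGL_unitary hq0 _)
      exact (not_law_of_embedding e hlaw ψ hψ hval).elim
    refine le_trans ?_ (le_max_right _ _)
    exact card_le_matrices (fun g : Cfsg.SU n F q => ((g : SpecialLinearGroup (Fin n) F) : Matrix (Fin n) (Fin n) F))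
      (fun a b h => Subtype.ext (Subtype.ext h)) e
      (by rw [hq, hA]; exact Nat.pow_le_pow_left (le_of_lt (not_le.1 hbig)) 2) (by rw [Fintype.card_fin]; omega)
  · by_cases hbig : max N0 4 ≤ Fintype.card F ∨ M ≤ m
    · obtain ⟨K, _, _, hK, φ, hφ⟩ := hM F m (by omega) hbig
      obtain ⟨hperf, hval⟩ := hfield K _ _ hK
      let φ' : SpecialLinearGroup (Fin 2) K →* GL (Unit ⊕ (Fin m ⊕ Fin m)) F :=
        (reindexGL F (Equiv.sumComm (Fin m ⊕ Fin m) Unit)).toMonoidHom.comp
          ((blockGL (Fin m ⊕ Fin m) Unit F).comp ((doubleGL (Fin m) F).comp φ))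
      obtain ⟨ψ, hψ⟩ := exists_hom_omega hperf (Cfsg.quadFormOdd m F) φ'
        ((reindexGL F (Equiv.sumComm (Fin m ⊕ Fin m) Unit)).injective.comp
          ((blockGL_injective _ _ _).comp ((doubleGL_injective _ _).comp hφ))) fun g v => by
        change Cfsg.quadFormOdd m F ((Matrix.reindex (Equiv.sumComm (Fin m ⊕ Fin m) Unit)
          (Equiv.sumComm (Fin m ⊕ Fin m) Unit)
          (fromBlocks (((doubleGL (Fin m) F (φ g)) : GL _ F) : Matrix _ _ F) 0 0 (1 : Matrix Unit Unit F))) *ᵥ v) = _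
        rw [Matrix.reindex_apply, Matrix.submatrix_mulVec_equiv]
        simp only [Cfsg.quadFormOdd, Function.comp_apply, Equiv.symm_symm, fromBlocks_mulVec, zero_mulVec,
          add_zero, zero_add, one_mulVec, Equiv.sumComm_symm, Equiv.sumComm_apply, Sum.swap_inl, Sum.swap_inr,
          Sum.elim_inl, Sum.elim_inr]
        congr 1
        exact doubleGL_preserves (φ g) (fun i => v (Sum.inr i))
      exact (not_law_of_embedding e hlaw ψ hψ hval).elim
    · push Not at hbig
      refine le_trans ?_ (le_max_right _ _)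
      exact card_le_matrices (ι := Unit ⊕ (Fin m ⊕ Fin m)) (F := F)
        (fun g : Cfsg.Omega F (Cfsg.quadFormOdd m F) => (g.1.1).val)
        (fun a b h => Subtype.ext (Subtype.ext (Units.ext h))) e (hsmall hbig.1) (by simp only [Fintype.card_sum, Fintype.card_fin, Fintype.card_unit]; omega)
  · by_cases hbig : max N0 4 ≤ Fintype.card F ∨ M ≤ m
    · obtain ⟨K, _, _, hK, φ, hφ⟩ := hM F m (by omega) hbig
      obtain ⟨hperf, hval⟩ := hfield K _ _ hK
      obtain ⟨ψ, hψ⟩ := exists_hom_omega hperf (Cfsg.quadFormPlus m F) ((doubleGL (Fin m) F).comp φ)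
        ((doubleGL_injective _ _).comp hφ) (fun g v => doubleGL_preserves (φ g) v)
      exact (not_law_of_embedding e hlaw ψ hψ hval).elim
    · push Not at hbig
      refine le_trans ?_ (le_max_right _ _)
      exact card_le_matrices (ι := Fin m ⊕ Fin m) (F := F)
        (fun g : Cfsg.Omega F (Cfsg.quadFormPlus m F) => (g.1.1).val)
        (fun a b h => Subtype.ext (Subtype.ext (Units.ext h))) e (hsmall hbig.1) (by simp only [Fintype.card_sum, Fintype.card_fin]; omega)
  · by_cases hbig : max N0 4 ≤ Fintype.card F ∨ M ≤ m - 1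
    · obtain ⟨K, _, _, hK, φ, hφ⟩ := hM F (m - 1) (by omega) hbig
      obtain ⟨hperf, hval⟩ := hfield K _ _ hK
      obtain ⟨ψ, hψ⟩ := exists_hom_omega_sum hperf φ hφ (fun z : Fin 2 → F => z 0 ^ 2 + a * z 0 * z 1 + b * z 1 ^ 2)
        (Cfsg.quadFormMinus (m - 1) F a b) (fun v => rfl)
      exact (not_law_of_embedding e hlaw ψ hψ hval).elim
    · push Not at hbig
      refine le_trans ?_ (le_max_right _ _)
      exact card_le_matrices (ι := (Fin (m - 1) ⊕ Fin (m - 1)) ⊕ Fin 2) (F := F)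
        (fun g : Cfsg.Omega F (Cfsg.quadFormMinus (m - 1) F a b) => (g.1.1).val)
        (fun a b h => Subtype.ext (Subtype.ext (Units.ext h))) e (hsmall hbig.1) (by simp only [Fintype.card_sum, Fintype.card_fin]; omega)

end Cfsg.Lib.Known
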