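import Cfsg.Agent.Classical.Misc.NegOne
import Cfsg.Agent.Classical.Misc.HyperbolicQuadric

/-! The Levi subgroup of the plus type orthogonal group and its intersection with Ω. -/

set_option autoImplicit false
set_option linter.unusedSectionVars false

open Matrix

namespace Cfsg.Lib.LeviOmega

open Cfsg.Lib.Classical Cfsg.Lib.Classical.HypQuad

universe u
variable {F : Type u} [Field F] {m : ℕ}

abbrev O (F : Type u) [Field F] (m : ℕ) := Cfsg.isometryGroup F (Cfsg.quadFormPlus m F)

theorem mem_O (g : GL (Fin m ⊕ Fin m) F) :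
    g ∈ O F m ↔ ∀ v, Cfsg.quadFormPlus m F ((g : Matrix (Fin m ⊕ Fin m) (Fin m ⊕ Fin m) F) *ᵥ v) = Cfsg.quadFormPlus m F v := by
  have e : (⇑(plusForm m F)) = Cfsg.quadFormPlus m F := funext (plusForm_apply m)
  have := Refl.mem_iff (plusForm m F) (g := g)
  rw [e] at this
  exact this

def blocks (A : GL (Fin m) F) : GL (Fin m ⊕ Fin m) F where
  val := Matrix.fromBlocks (A : Matrix (Fin m) (Fin m) F) 0 0 ((A⁻¹ : GL (Fin m) F) : Matrix (Fin m) (Fin m) F).transpose
  inv := Matrix.fromBlocks ((A⁻¹ : GL (Fin m) F) : Matrix (Fin m) (Fin m) F) 0 0 (A : Matrix (Fin m) (Fin m) F).transpose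
  val_inv := by
    rw [Matrix.fromBlocks_multiply]
    simp [← Matrix.transpose_mul, ← Units.val_mul]
  inv_val := by
    rw [Matrix.fromBlocks_multiply]
    simp [← Matrix.transpose_mul, ← Units.val_mul]

theorem blocks_mem (A : GL (Fin m) F) : blocks A ∈ O F m := by
  rw [mem_O]
  intro v
  have e : ∀ v : Fin m ⊕ Fin m → F, Cfsg.quadFormPlus m F v = (v ∘ Sum.inl) ⬝ᵥ (v ∘ Sum.inr) := fun v => rfl
  rw [e, e]
  simp only [blocks, Matrix.fromBlocks_mulVec, Sum.elim_comp_inl, Sum.elim_comp_inr]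
  simp only [Matrix.zero_mulVec, add_zero, zero_add]
  rw [Matrix.dotProduct_mulVec, Matrix.vecMul_transpose, Matrix.mulVec_mulVec, ← Units.val_mul, inv_mul_cancel,
    Units.val_one, Matrix.one_mulVec]

/-- The Levi embedding. -/
def levi : GL (Fin m) F →* ↥(O F m) where
  toFun A := ⟨blocks A, blocks_mem A⟩
  map_one' := Subtype.ext (Units.ext (by simp [blocks]))
  map_mul' A B := Subtype.ext (Units.ext (by
    show Matrix.fromBlocks _ _ _ _ = Matrix.fromBlocks _ _ _ _ * Matrix.fromBlocks _ _ _ _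
    rw [Matrix.fromBlocks_multiply, Units.val_mul, _root_.mul_inv_rev, Units.val_mul, Matrix.transpose_mul]
    simp))

theorem coe_levi (A : GL (Fin m) F) :
    (((levi A : ↥(O F m)) : GL (Fin m ⊕ Fin m) F) : Matrix (Fin m ⊕ Fin m) (Fin m ⊕ Fin m) F) =
      Matrix.fromBlocks (A : Matrix (Fin m) (Fin m) F) 0 0 ((A : Matrix (Fin m) (Fin m) F)⁻¹).transpose := by
  rw [← Matrix.coe_units_inv]; rfl

/-- The composite with the abelianization. -/
noncomputable def ab : GL (Fin m) F →* Abelianization ↥(O F m) := Abelianization.of.comp levi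

theorem ab_eq_one_iff (A : GL (Fin m) F) : ab A = 1 ↔ levi A ∈ Cfsg.Omega F (Cfsg.quadFormPlus m F) :=
  QuotientGroup.eq_one_iff (levi A)

/-- A transvection as an element of GL. -/
def tv {i j : Fin m} (h : i ≠ j) (c : F) : GL (Fin m) F :=
  Matrix.SpecialLinearGroup.toGL (Matrix.SpecialLinearGroup.transvection h c)

theorem coe_tv {i j : Fin m} (h : i ≠ j) (c : F) :
    ((tv h c : GL (Fin m) F) : Matrix (Fin m) (Fin m) F) = Matrix.transvection i j c := rfl

/-- A diagonal element. -/
def dg (i : Fin m) (d : Fˣ) : GL (Fin m) F where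
  val := Matrix.diagonal (Function.update (1 : Fin m → F) i d)
  inv := Matrix.diagonal (Function.update (1 : Fin m → F) i ((d⁻¹ : Fˣ) : F))
  val_inv := by
    rw [Matrix.diagonal_mul_diagonal, ← Matrix.diagonal_one]
    congr 1; funext k; by_cases h : k = i
    · subst h; simp
    · simp [h]
  inv_val := by
    rw [Matrix.diagonal_mul_diagonal, ← Matrix.diagonal_one]
    congr 1; funext k; by_cases h : k = i
    · subst h; simp
    · simp [h]

theorem ab_tv [Fintype F] (hex : Fintype.card F ≠ 2 ∨ m ≠ 2) {i j : Fin m} (h : i ≠ j) (c : F) :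
    ab (tv h c) = 1 := by
  classical
  have key : ∀ {x y z : GL (Fin m) F}, x * y = z * y * x → ab z = 1 := by
    intro x y z e
    have := congrArg ab e
    rw [map_mul, map_mul, map_mul, mul_comm (ab x), mul_assoc] at this
    exact (mul_eq_right.1 this.symm)
  by_cases hd : ∃ d : Fˣ, (d : F) ≠ 1
  · obtain ⟨d, hd⟩ := hd
    refine key (x := dg i d) (y := tv h (c / ((d : F) - 1))) (Units.ext ?_)
    rw [Units.val_mul, Units.val_mul, Units.val_mul, coe_tv, coe_tv, Matrix.transvection_mul_transvection_same _ _ h]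
    have hd' : (d : F) - 1 ≠ 0 := sub_ne_zero.2 hd
    ext a b
    simp only [dg, Matrix.diagonal_mul, Matrix.mul_diagonal, Matrix.transvection, Matrix.add_apply, Matrix.single_apply]
    by_cases ha : a = i <;> by_cases hb : b = i
    · subst ha hb; simp [h.symm, mul_comm]
    · subst ha
      by_cases hb' : b = j
      · subst hb'
        simp [hb, Ne.symm hb]
        field_simp
        ring
      · simp [hb, Ne.symm hb, Ne.symm hb']
    · subst hb; simp [ha, Ne.symm ha, Matrix.one_apply_ne ha]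
    · simp [ha, hb, Ne.symm ha]
  · have hcard : Fintype.card F = 2 := by
      push Not at hd
      have h1 : Fintype.card Fˣ = 1 := Fintype.card_eq_one_iff.2 ⟨1, fun x => Units.ext (hd x)⟩
      rw [Fintype.card_units] at h1
      omega
    have hm : 3 ≤ m := by
      have h1 := i.isLt
      have h2 := j.isLt
      have h3 := hex.resolve_left (fun e => e hcard)
      have : i.val ≠ j.val := fun e => h (Fin.ext e)
      omega
    obtain ⟨k, hki, hkj⟩ : ∃ k : Fin m, k ≠ i ∧ k ≠ j := by
      by_contra hno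
      push Not at hno
      have : (Finset.univ : Finset (Fin m)) ⊆ {i, j} := fun x _ => by
        rcases eq_or_ne x i with hx | hx
        · simp [hx]
        · simp [hno x hx]
      have := (Finset.card_le_card this).trans Finset.card_le_two
      rw [Finset.card_univ, Fintype.card_fin] at this
      omega
    refine key (x := tv (Ne.symm hki) c) (y := tv hkj 1) (Units.ext ?_)
    rw [Units.val_mul, Units.val_mul, Units.val_mul, coe_tv, coe_tv, coe_tv]
    simp [Matrix.transvection, add_mul, mul_add, Matrix.single_mul_single_of_ne, h, h.symm, hki, hki.symm, hkj, hkj.symm]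
    abel

theorem ab_SL [Fintype F] (hex : Fintype.card F ≠ 2 ∨ m ≠ 2) (i₀ : Fin m) (A : GL (Fin m) F) :
    ab A = ab (dg i₀ (Matrix.GeneralLinearGroup.det A)) := by
  classical
  suffices hS : ∀ S : Matrix.SpecialLinearGroup (Fin m) F, ab (Matrix.SpecialLinearGroup.toGL S) = 1 by
    have hd : ((A * (dg i₀ (Matrix.GeneralLinearGroup.det A))⁻¹ : GL (Fin m) F) : Matrix (Fin m) (Fin m) F).det = 1 := by
      rw [Units.val_mul, Matrix.det_mul]
      show _ * (Matrix.diagonal _).det = 1
      rw [Matrix.det_diagonal, Finset.prod_update_of_mem (Finset.mem_univ _)]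
      simp
      exact mul_inv_cancel₀ (Matrix.GeneralLinearGroup.det_ne_zero A)
    have := hS ⟨_, hd⟩
    rw [show Matrix.SpecialLinearGroup.toGL ⟨_, hd⟩ = A * (dg i₀ (Matrix.GeneralLinearGroup.det A))⁻¹ from Units.ext rfl,
      map_mul, map_inv, mul_inv_eq_one] at this
    exact this
  intro S
  have htop : (ab.comp Matrix.SpecialLinearGroup.toGL).ker = ⊤ :=
    Cfsg.Lib.Classical.eq_top_of_transvection_mem _ fun i j hij c => ab_tv hex hij c
  have hS : S ∈ (ab.comp Matrix.SpecialLinearGroup.toGL).ker := by rw [htop]; trivial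
  exact hS

/-- The swap of a hyperbolic pair. -/
def W (i : Fin m) : GL (Fin m ⊕ Fin m) F :=
  Matrix.GeneralLinearGroup.mkOfDetNeZero ((Equiv.swap (Sum.inl i) (Sum.inr i)).permMatrix F) (by
    rw [Matrix.det_permutation, Equiv.Perm.sign_swap Sum.inl_ne_inr]; simp)

theorem W_mem (i : Fin m) : W i ∈ O F m := by
  rw [mem_O]
  intro v
  show Cfsg.quadFormPlus m F (((Equiv.swap (Sum.inl i) (Sum.inr i)).permMatrix F) *ᵥ v) = _
  rw [Matrix.permMatrix_mulVec]
  refine Finset.sum_congr rfl fun k _ => ?_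
  by_cases hk : k = i
  · subst hk; simp [mul_comm]
  · simp [Equiv.swap_apply_of_ne_of_ne, hk]

theorem W_conj (i : Fin m) (d : Fˣ) :
    (⟨W i, W_mem i⟩ : ↥(O F m)) * levi (dg i d) = levi (dg i d⁻¹) * ⟨W i, W_mem i⟩ := by
  refine Subtype.ext (Units.ext (Matrix.toLin'.injective (LinearMap.ext fun v => ?_)))
  simp only [Subgroup.coe_mul, Units.val_mul, Matrix.toLin'_apply, ← Matrix.mulVec_mulVec]
  show ((Equiv.swap (Sum.inl i) (Sum.inr i)).permMatrix F) *ᵥ
      (Matrix.fromBlocks (Matrix.diagonal _) 0 0 (Matrix.diagonal _).transpose *ᵥ v) =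
    Matrix.fromBlocks (Matrix.diagonal _) 0 0 (Matrix.diagonal _).transpose *ᵥ
      (((Equiv.swap (Sum.inl i) (Sum.inr i)).permMatrix F) *ᵥ v)
  rw [Matrix.diagonal_transpose, Matrix.diagonal_transpose, Matrix.fromBlocks_diagonal, Matrix.fromBlocks_diagonal,
    Matrix.permMatrix_mulVec, Matrix.permMatrix_mulVec]
  funext k
  simp only [Function.comp_apply, Matrix.mulVec_diagonal]
  rcases k with k | k <;> by_cases hk : k = i
  · subst hk; simp
  · simp [Equiv.swap_apply_of_ne_of_ne, hk]
  · subst hk; simp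
  · simp [Equiv.swap_apply_of_ne_of_ne, hk]

theorem ab_dg_square (i : Fin m) (d : Fˣ) : ab (dg i (d * d)) = 1 := by
  have h1 : ab (dg i d) = ab (dg i d⁻¹) := by
    have := congrArg Abelianization.of (W_conj i d)
    rw [map_mul, map_mul, mul_comm] at this
    exact mul_right_cancel this
  have hm : dg i (d * d) = dg i d * dg i d := Units.ext (by
    show Matrix.diagonal _ = Matrix.diagonal _ * Matrix.diagonal _
    rw [Matrix.diagonal_mul_diagonal]
    congr 1; funext k; by_cases h : k = i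
    · subst h; simp
    · simp [h])
  have hi : dg i d⁻¹ = (dg i d)⁻¹ := Units.ext rfl
  rw [hm, map_mul]
  nth_rw 2 [h1]
  rw [hi, map_inv, mul_inv_cancel]

theorem not_square_not_omega [Fintype F] (h2 : (2 : F) ≠ 0) (i : Fin m) {d : Fˣ} (hd : ¬ IsSquare (d : F)) :
    ab (dg i d⁻¹) ≠ 1 := by
  classical
  rw [Ne, ab_eq_one_iff]
  intro hmem
  have e : (⇑(plusForm m F)) = Cfsg.quadFormPlus m F := funext (plusForm_apply m)
  have hn : 2 ≤ Fintype.card (Fin m ⊕ Fin m) := by simp; have := i.isLt; omega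
  have hQ : (QuadraticMap.polarBilin (plusForm m F)).Nondegenerate := plusForm_nondegenerate m
  let v : F → Fin m ⊕ Fin m → F := fun a => Pi.single (Sum.inl i) 1 - Pi.single (Sum.inr i) a
  have hv : ∀ a, plusForm m F (v a) = -a := fun a => by
    rw [plusForm_apply, Cfsg.quadFormPlus, Finset.sum_eq_single i]
    · simp [v]
    · intro b _ hb; simp [v, hb]
    · simp
  have hpol : ∀ a (x : Fin m ⊕ Fin m → F),
      QuadraticMap.polar (⇑(plusForm m F)) (v a) x = x (Sum.inr i) - a * x (Sum.inl i) := fun a x => by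
    simp only [QuadraticMap.polar, plusForm_apply, Cfsg.quadFormPlus, ← Finset.sum_sub_distrib]
    rw [Finset.sum_eq_single i]
    · simp [v]; ring
    · intro b _ hb; simp [v, hb]
    · simp
  have hv1 : plusForm m F (v 1) ≠ 0 := by rw [hv]; simp
  have hvd : plusForm m F (v (d : F)) ≠ 0 := by rw [hv]; simp
  let R := Refl.refl (plusForm m F) (v (d : F)) hvd * Refl.refl (plusForm m F) (v 1) hv1
  have hR : ((R : GL (Fin m ⊕ Fin m) F) : Matrix (Fin m ⊕ Fin m) (Fin m ⊕ Fin m) F) =
      (((levi (dg i d⁻¹) : ↥(O F m)) : GL (Fin m ⊕ Fin m) F) : Matrix (Fin m ⊕ Fin m) (Fin m ⊕ Fin m) F) := by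
    refine Matrix.toLin'.injective (LinearMap.ext fun x => ?_)
    simp only [R, Subgroup.coe_mul, Units.val_mul, Matrix.toLin'_apply, ← Matrix.mulVec_mulVec]
    show Cfsg.reflectionMatrix (⇑(plusForm m F)) (v (d : F)) *ᵥ (Cfsg.reflectionMatrix (⇑(plusForm m F)) (v 1) *ᵥ x) =
      Matrix.fromBlocks (Matrix.diagonal _) 0 0 (Matrix.diagonal _).transpose *ᵥ x
    rw [Matrix.diagonal_transpose, Matrix.fromBlocks_diagonal]
    funext k
    simp only [Refl.mulVec_eq, hpol, hv, Matrix.mulVec_diagonal, Pi.sub_apply, Pi.smul_apply, smul_eq_mul]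
    have hd0 : (d : F) ≠ 0 := d.ne_zero
    rcases k with k | k <;> by_cases hk : k = i
    · subst hk; simp [v]; field_simp; ring
    · simp [v, hk]
    · subst hk; simp [v]; field_simp; ring
    · simp [v, hk]
  have hRΩ : R ∈ Cfsg.Omega F (⇑(plusForm m F)) := by
    have key : ∀ (f g : (Fin m ⊕ Fin m → F) → F) (_ : f = g) (x : ↥(Cfsg.isometryGroup F f)) (y : ↥(Cfsg.isometryGroup F g)),
        (x : GL (Fin m ⊕ Fin m) F) = y → y ∈ Cfsg.Omega F g → x ∈ Cfsg.Omega F f := by
      rintro f g rfl x y hxy hy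
      rwa [Subtype.ext hxy]
    exact key _ _ e R _ (Units.ext hR) hmem
  obtain ⟨k, hk⟩ := Refl.exists_spin_scale (plusForm m F) h2 hQ hn
  have hs := ((Refl.mem_omega_iff (plusForm m F) h2 hQ hn).1 hRΩ).2
  have h3 : ((Refl.spin (plusForm m F) R : ℤˣ) : ℤ) = quadraticChar F (d : F) := by
    rw [map_mul, Units.val_mul, hk, hk, hv, hv,
      show ((k : ℤ) * quadraticChar F (-(d : F))) * ((k : ℤ) * quadraticChar F (-1)) =
        ((k * k : ℤˣ) : ℤ) * (quadraticChar F (-(d : F)) * quadraticChar F (-1)) by push_cast; ring,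
      Int.units_mul_self, Units.val_one, one_mul, ← map_mul]
    simp
  rw [hs, quadraticChar_neg_one_iff_not_isSquare.2 hd] at h3
  simp at h3

theorem levi_omega_iff [Fintype F] (hm : 1 ≤ m) (hex : Fintype.card F ≠ 2 ∨ m ≠ 2) (A : GL (Fin m) F) :
    levi A ∈ Cfsg.Omega F (Cfsg.quadFormPlus m F) ↔ IsSquare (A : Matrix (Fin m) (Fin m) F).det := by
  classical
  rw [← ab_eq_one_iff, ab_SL hex ⟨0, hm⟩ A]
  constructor
  · intro h
    by_contra hns
    have h2 : (2 : F) ≠ 0 := fun h2 => hns (FiniteField.isSquare_of_char_two (ringChar.eq_iff.2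
      (CharP.ringChar_of_prime_eq_zero Nat.prime_two h2 |> fun e => ringChar.of_eq e)) _)
    refine not_square_not_omega h2 ⟨0, hm⟩ (d := (Matrix.GeneralLinearGroup.det A)⁻¹) ?_ (by rw [inv_inv]; exact h)
    rw [Units.val_inv_eq_inv_val]
    rintro ⟨s, hs⟩
    exact hns ⟨s⁻¹, by rw [← mul_inv, ← hs, inv_inv]; rfl⟩
  · rintro ⟨s, hs⟩
    have hs0 : s ≠ 0 := fun e => Matrix.GeneralLinearGroup.det_ne_zero A (by rw [hs, e, mul_zero])
    rw [show Matrix.GeneralLinearGroup.det A = Units.mk0 s hs0 * Units.mk0 s hs0 from Units.ext hs]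
    exact ab_dg_square _ _

end Cfsg.Lib.LeviOmega
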