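import Cfsg.Agent.Known.RootCent
import Cfsg.Agent.Chev.Borel

/-! Two conjugates of the highest root subgroup: a 2-group or an opposite pair. -/

set_option autoImplicit false

open Cfsg.Lie Cfsg.Lib.Chev

namespace Cfsg.Lib.Known.RootPairs

/-- For each negative root other than the lowest, a word making it and the highest root positive. -/
def pwG2 : List (List ℕ) :=
  [[1, 0], [0, 1, 0], [0, 1], [0], [1]]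

/-- For each negative root other than the lowest, a word making it and the highest root positive. -/
def pwD4 : List (List ℕ) :=
  [[3, 1, 2, 0], [2, 1, 0], [3, 1, 0], [1, 0], [0], [3, 1, 2], [2, 1], [3, 1], [1], [2], [3]]

/-- For each negative root other than the lowest, a word making it and the highest root positive. -/
def pwE6 : List (List ℕ) :=
  [[5, 4, 3, 2, 1, 3, 4, 0, 2, 3], [5, 4, 3, 2, 1, 3, 4, 0, 2], [5, 4, 3, 2, 1, 3, 0, 2],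
    [4, 3, 2, 1, 3, 0, 2], [5, 4, 3, 2, 1, 3, 4, 0], [5, 4, 3, 2, 1, 3, 0], [4, 3, 2, 1, 3, 0],
    [5, 4, 3, 2, 1, 0], [4, 3, 2, 1, 0], [3, 2, 1, 0], [5, 4, 3, 2, 0], [4, 3, 2, 0], [3, 2, 0],
    [2, 0], [0], [5, 4, 3, 2, 1, 3, 4], [5, 4, 3, 2, 1, 3], [4, 3, 2, 1, 3], [5, 4, 3, 2, 1],
    [4, 3, 2, 1], [3, 2, 1], [5, 4, 3, 1], [4, 3, 1], [3, 1], [1], [5, 4, 3, 2], [4, 3, 2],
    [3, 2], [2], [5, 4, 3], [4, 3], [3], [5, 4], [4], [5]]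

/-- For each negative root other than the lowest, a word making it and the highest root positive. -/
def pwE7 : List (List ℕ) :=
  [[6, 5, 4, 3, 2, 1, 3, 4, 5, 0, 2, 3, 4, 1, 3, 2],
    [6, 5, 4, 3, 2, 1, 3, 4, 5, 0, 2, 3, 4, 1, 3], [6, 5, 4, 3, 2, 1, 3, 4, 5, 0, 2, 3, 4, 1],
    [6, 5, 4, 3, 2, 1, 3, 4, 5, 0, 2, 3, 1], [6, 5, 4, 3, 2, 1, 3, 4, 0, 2, 3, 1],
    [5, 4, 3, 2, 1, 3, 4, 0, 2, 3, 1], [6, 5, 4, 3, 2, 1, 3, 4, 5, 0, 2, 3, 4],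
    [6, 5, 4, 3, 2, 1, 3, 4, 5, 0, 2, 3], [6, 5, 4, 3, 2, 1, 3, 4, 0, 2, 3],
    [5, 4, 3, 2, 1, 3, 4, 0, 2, 3], [6, 5, 4, 3, 2, 1, 3, 4, 5, 0, 2],
    [6, 5, 4, 3, 2, 1, 3, 4, 0, 2], [5, 4, 3, 2, 1, 3, 4, 0, 2], [6, 5, 4, 3, 2, 1, 3, 0, 2],
    [5, 4, 3, 2, 1, 3, 0, 2], [4, 3, 2, 1, 3, 0, 2], [6, 5, 4, 3, 2, 1, 3, 4, 5, 0],
    [6, 5, 4, 3, 2, 1, 3, 4, 0], [5, 4, 3, 2, 1, 3, 4, 0], [6, 5, 4, 3, 2, 1, 3, 0],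
    [5, 4, 3, 2, 1, 3, 0], [4, 3, 2, 1, 3, 0], [6, 5, 4, 3, 2, 1, 0], [5, 4, 3, 2, 1, 0],
    [4, 3, 2, 1, 0], [3, 2, 1, 0], [6, 5, 4, 3, 2, 0], [5, 4, 3, 2, 0], [4, 3, 2, 0], [3, 2, 0],
    [2, 0], [0], [6, 5, 4, 3, 2, 1, 3, 4, 5], [6, 5, 4, 3, 2, 1, 3, 4], [5, 4, 3, 2, 1, 3, 4],
    [6, 5, 4, 3, 2, 1, 3], [5, 4, 3, 2, 1, 3], [4, 3, 2, 1, 3], [6, 5, 4, 3, 2, 1],
    [5, 4, 3, 2, 1], [4, 3, 2, 1], [3, 2, 1], [6, 5, 4, 3, 1], [5, 4, 3, 1], [4, 3, 1], [3, 1],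
    [1], [6, 5, 4, 3, 2], [5, 4, 3, 2], [4, 3, 2], [3, 2], [2], [6, 5, 4, 3], [5, 4, 3], [4, 3],
    [3], [6, 5, 4], [5, 4], [4], [6, 5], [5], [6]]

/-- For each negative root other than the lowest, a word making it and the highest root positive. -/
def pwE8 : List (List ℕ) :=
  [[7, 6, 5, 4, 3, 2, 1, 3, 4, 5, 6, 0, 2, 3, 4, 5, 1, 3, 4, 2, 3, 0, 2, 1, 3, 4, 5, 6],
    [7, 6, 5, 4, 3, 2, 1, 3, 4, 5, 6, 0, 2, 3, 4, 5, 1, 3, 4, 2, 3, 0, 2, 1, 3, 4, 5],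
    [7, 6, 5, 4, 3, 2, 1, 3, 4, 5, 6, 0, 2, 3, 4, 5, 1, 3, 4, 2, 3, 0, 2, 1, 3, 4],
    [7, 6, 5, 4, 3, 2, 1, 3, 4, 5, 6, 0, 2, 3, 4, 5, 1, 3, 4, 2, 3, 0, 2, 1, 3],
    [7, 6, 5, 4, 3, 2, 1, 3, 4, 5, 6, 0, 2, 3, 4, 5, 1, 3, 4, 2, 3, 0, 2, 1],
    [7, 6, 5, 4, 3, 2, 1, 3, 4, 5, 6, 0, 2, 3, 4, 5, 1, 3, 4, 2, 3, 1, 0],
    [7, 6, 5, 4, 3, 2, 1, 3, 4, 5, 6, 0, 2, 3, 4, 5, 1, 3, 4, 2, 3, 0, 2],
    [7, 6, 5, 4, 3, 2, 1, 3, 4, 5, 6, 0, 2, 3, 4, 5, 1, 3, 4, 2, 3, 0],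
    [7, 6, 5, 4, 3, 2, 1, 3, 4, 5, 6, 0, 2, 3, 4, 5, 1, 3, 4, 2, 0],
    [7, 6, 5, 4, 3, 2, 1, 3, 4, 5, 6, 0, 2, 3, 4, 5, 1, 3, 2, 0],
    [7, 6, 5, 4, 3, 2, 1, 3, 4, 5, 6, 0, 2, 3, 4, 1, 3, 2, 0],
    [7, 6, 5, 4, 3, 2, 1, 3, 4, 5, 0, 2, 3, 4, 1, 3, 2, 0],
    [6, 5, 4, 3, 2, 1, 3, 4, 5, 0, 2, 3, 4, 1, 3, 2, 0],
    [7, 6, 5, 4, 3, 2, 1, 3, 4, 5, 6, 0, 2, 3, 4, 5, 1, 3, 4, 2, 3, 1],
    [7, 6, 5, 4, 3, 2, 1, 3, 4, 5, 6, 0, 2, 3, 4, 5, 1, 3, 4, 2, 3],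
    [7, 6, 5, 4, 3, 2, 1, 3, 4, 5, 6, 0, 2, 3, 4, 5, 1, 3, 4, 2],
    [7, 6, 5, 4, 3, 2, 1, 3, 4, 5, 6, 0, 2, 3, 4, 5, 1, 3, 2],
    [7, 6, 5, 4, 3, 2, 1, 3, 4, 5, 6, 0, 2, 3, 4, 1, 3, 2],
    [7, 6, 5, 4, 3, 2, 1, 3, 4, 5, 0, 2, 3, 4, 1, 3, 2],
    [6, 5, 4, 3, 2, 1, 3, 4, 5, 0, 2, 3, 4, 1, 3, 2],
    [7, 6, 5, 4, 3, 2, 1, 3, 4, 5, 6, 0, 2, 3, 4, 5, 1, 3, 4],
    [7, 6, 5, 4, 3, 2, 1, 3, 4, 5, 6, 0, 2, 3, 4, 5, 1, 3],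
    [7, 6, 5, 4, 3, 2, 1, 3, 4, 5, 6, 0, 2, 3, 4, 1, 3],
    [7, 6, 5, 4, 3, 2, 1, 3, 4, 5, 0, 2, 3, 4, 1, 3],
    [6, 5, 4, 3, 2, 1, 3, 4, 5, 0, 2, 3, 4, 1, 3],
    [7, 6, 5, 4, 3, 2, 1, 3, 4, 5, 6, 0, 2, 3, 4, 5, 1],
    [7, 6, 5, 4, 3, 2, 1, 3, 4, 5, 6, 0, 2, 3, 4, 1],
    [7, 6, 5, 4, 3, 2, 1, 3, 4, 5, 0, 2, 3, 4, 1], [6, 5, 4, 3, 2, 1, 3, 4, 5, 0, 2, 3, 4, 1],
    [7, 6, 5, 4, 3, 2, 1, 3, 4, 5, 6, 0, 2, 3, 1], [7, 6, 5, 4, 3, 2, 1, 3, 4, 5, 0, 2, 3, 1],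
    [6, 5, 4, 3, 2, 1, 3, 4, 5, 0, 2, 3, 1], [7, 6, 5, 4, 3, 2, 1, 3, 4, 0, 2, 3, 1],
    [6, 5, 4, 3, 2, 1, 3, 4, 0, 2, 3, 1], [5, 4, 3, 2, 1, 3, 4, 0, 2, 3, 1],
    [7, 6, 5, 4, 3, 2, 1, 3, 4, 5, 6, 0, 2, 3, 4, 5],
    [7, 6, 5, 4, 3, 2, 1, 3, 4, 5, 6, 0, 2, 3, 4], [7, 6, 5, 4, 3, 2, 1, 3, 4, 5, 0, 2, 3, 4],
    [6, 5, 4, 3, 2, 1, 3, 4, 5, 0, 2, 3, 4], [7, 6, 5, 4, 3, 2, 1, 3, 4, 5, 6, 0, 2, 3],
    [7, 6, 5, 4, 3, 2, 1, 3, 4, 5, 0, 2, 3], [6, 5, 4, 3, 2, 1, 3, 4, 5, 0, 2, 3],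
    [7, 6, 5, 4, 3, 2, 1, 3, 4, 0, 2, 3], [6, 5, 4, 3, 2, 1, 3, 4, 0, 2, 3],
    [5, 4, 3, 2, 1, 3, 4, 0, 2, 3], [7, 6, 5, 4, 3, 2, 1, 3, 4, 5, 6, 0, 2],
    [7, 6, 5, 4, 3, 2, 1, 3, 4, 5, 0, 2], [6, 5, 4, 3, 2, 1, 3, 4, 5, 0, 2],
    [7, 6, 5, 4, 3, 2, 1, 3, 4, 0, 2], [6, 5, 4, 3, 2, 1, 3, 4, 0, 2],
    [5, 4, 3, 2, 1, 3, 4, 0, 2], [7, 6, 5, 4, 3, 2, 1, 3, 0, 2], [6, 5, 4, 3, 2, 1, 3, 0, 2],
    [5, 4, 3, 2, 1, 3, 0, 2], [4, 3, 2, 1, 3, 0, 2], [7, 6, 5, 4, 3, 2, 1, 3, 4, 5, 6, 0],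
    [7, 6, 5, 4, 3, 2, 1, 3, 4, 5, 0], [6, 5, 4, 3, 2, 1, 3, 4, 5, 0],
    [7, 6, 5, 4, 3, 2, 1, 3, 4, 0], [6, 5, 4, 3, 2, 1, 3, 4, 0], [5, 4, 3, 2, 1, 3, 4, 0],
    [7, 6, 5, 4, 3, 2, 1, 3, 0], [6, 5, 4, 3, 2, 1, 3, 0], [5, 4, 3, 2, 1, 3, 0],
    [4, 3, 2, 1, 3, 0], [7, 6, 5, 4, 3, 2, 1, 0], [6, 5, 4, 3, 2, 1, 0], [5, 4, 3, 2, 1, 0],
    [4, 3, 2, 1, 0], [3, 2, 1, 0], [7, 6, 5, 4, 3, 2, 0], [6, 5, 4, 3, 2, 0], [5, 4, 3, 2, 0],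
    [4, 3, 2, 0], [3, 2, 0], [2, 0], [0], [7, 6, 5, 4, 3, 2, 1, 3, 4, 5, 6],
    [7, 6, 5, 4, 3, 2, 1, 3, 4, 5], [6, 5, 4, 3, 2, 1, 3, 4, 5], [7, 6, 5, 4, 3, 2, 1, 3, 4],
    [6, 5, 4, 3, 2, 1, 3, 4], [5, 4, 3, 2, 1, 3, 4], [7, 6, 5, 4, 3, 2, 1, 3],
    [6, 5, 4, 3, 2, 1, 3], [5, 4, 3, 2, 1, 3], [4, 3, 2, 1, 3], [7, 6, 5, 4, 3, 2, 1],
    [6, 5, 4, 3, 2, 1], [5, 4, 3, 2, 1], [4, 3, 2, 1], [3, 2, 1], [7, 6, 5, 4, 3, 1],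
    [6, 5, 4, 3, 1], [5, 4, 3, 1], [4, 3, 1], [3, 1], [1], [7, 6, 5, 4, 3, 2], [6, 5, 4, 3, 2],
    [5, 4, 3, 2], [4, 3, 2], [3, 2], [2], [7, 6, 5, 4, 3], [6, 5, 4, 3], [5, 4, 3], [4, 3], [3],
    [7, 6, 5, 4], [6, 5, 4], [5, 4], [4], [7, 6, 5], [6, 5], [5], [7, 6], [6], [7]]

variable {D : ChevalleyDatum} {C : Cert} {F : Type*} [Field F]

/-- The table sends every pair (highest, negative but not lowest) to positive roots. -/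
noncomputable def okPairs (D : ChevalleyDatum) (C : Cert) (T : List (List ℕ)) : Bool :=
  (List.range (D.nroots / 2)).all fun r => r == 0 ||
    ((T.getD (r - 1) []).all (fun a => decide (a < D.rank)) &&
      decide (D.nroots / 2 ≤ C.wWord (T.getD (r - 1) []) (D.nroots - 1)) &&
      decide (D.nroots / 2 ≤ C.wWord (T.getD (r - 1) []) r))

theorem wpL_val (S : Struct D C) : ∀ (W : List (Fin D.rank)) (s : Fin D.nroots),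
    (S.wpL W s).val = C.wWord (W.map Fin.val) s.val
  | [], s => rfl
  | i :: W, s => by
    show (S.wp i (S.wpL W s)).val = C.w i.val (C.wWord (W.map Fin.val) s.val)
    rw [S.wp_val, wpL_val S W s]

theorem map_rootSubgroup (S : Struct D C) {n : GL D.Idx F} {w : Equiv.Perm (Fin D.nroots)}
    (ha : Act S.ok n w) (r : Fin D.nroots) :
    (D.rootSubgroup F r.val).map (MulAut.conj n).toMonoidHom = D.rootSubgroup F (w r).val := by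
  obtain ⟨-, c, hc, e⟩ := ha r
  refine le_antisymm ?_ (S.rootSubgroup_le _ fun t => ⟨S.ok.xG r.val (c⁻¹ * t), S.xG_mem_rootSubgroup _ _, ?_⟩)
  · rw [Subgroup.map_le_iff_le_comap]
    refine S.rootSubgroup_le _ fun t => ?_
    show n * S.ok.xG r.val t * n⁻¹ ∈ D.rootSubgroup F (w r).val
    rw [(e t).1]
    exact S.xG_mem_rootSubgroup _ _
  · show n * S.ok.xG r.val (c⁻¹ * t) * n⁻¹ = S.ok.xG (w r).val t
    rw [(e _).1, ← mul_assoc, mul_inv_cancel₀ hc, one_mul]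

theorem map_eq_self_of_commute (S : Struct D C) {v : GL D.Idx F} {r : ℕ}
    (h : ∀ t : F, Commute v (S.ok.xG r t)) :
    (D.rootSubgroup F r).map (MulAut.conj v).toMonoidHom = D.rootSubgroup F r := by
  refine le_antisymm ?_ (S.rootSubgroup_le _ fun t => ⟨S.ok.xG r t, S.xG_mem_rootSubgroup _ _, ?_⟩)
  · rw [Subgroup.map_le_iff_le_comap]
    refine S.rootSubgroup_le _ fun t => ?_
    show v * S.ok.xG r t * v⁻¹ ∈ D.rootSubgroup F r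
    rw [(h t).eq, mul_inv_cancel_right]
    exact S.xG_mem_rootSubgroup _ _
  · show v * S.ok.xG r t * v⁻¹ = S.ok.xG r t
    rw [(h t).eq, mul_inv_cancel_right]

theorem map_conj_mul (H : Subgroup (GL D.Idx F)) (a b : GL D.Idx F) :
    H.map (MulAut.conj (a * b)).toMonoidHom =
      (H.map (MulAut.conj b).toMonoidHom).map (MulAut.conj a).toMonoidHom := by
  rw [Subgroup.map_map]
  congr 1
  ext x
  simp [mul_assoc]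

theorem pairs [Fintype F] [CharP F 2] (S : Struct D C) (hN : okNeg D = true)
    (hE : RootCent.okRoots D [D.nroots - 1] [] = true) {T : List (List ℕ)} (hT : okPairs D C T = true)
    {g : GL D.Idx F} (hg : g ∈ D.group F) :
    IsPGroup 2 ↥(D.rootSubgroup F (D.nroots - 1) ⊔
        (D.rootSubgroup F (D.nroots - 1)).map (MulAut.conj g).toMonoidHom) ∨
      ∃ h ∈ D.group F, (D.rootSubgroup F (D.nroots - 1) ⊔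
          (D.rootSubgroup F (D.nroots - 1)).map (MulAut.conj g).toMonoidHom).map (MulAut.conj h).toMonoidHom =
        D.rootSubgroup F (D.nroots - 1) ⊔ D.rootSubgroup F 0 := by
  set X := D.rootSubgroup F (D.nroots - 1) with hX
  have hE' := hE
  simp only [RootCent.okRoots, List.all_eq_true, Bool.and_eq_true, decide_eq_true_eq] at hE'
  obtain ⟨⟨⟨htp, htn⟩, -⟩, -⟩ := hE' (D.nroots - 1) (by simp)
  have hUX : ∀ v ∈ D.posUnipotent F, X.map (MulAut.conj v).toMonoidHom = X := fun v hv =>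
    map_eq_self_of_commute S fun t => Subgroup.mem_centralizer_singleton_iff.1
      (RootCent.target_le S hE (by simp) t (Subgroup.mem_sup_left hv))
  obtain ⟨b, hb, n, hn, W, hW, u, hu, rfl⟩ := S.normal_form hN hg
  obtain ⟨u0, hu0, d, hd, rfl⟩ := S.borel_decomp hb
  set top : Fin D.nroots := ⟨D.nroots - 1, htn⟩ with htop
  set r := S.wpL W top with hr
  have hbX : X.map (MulAut.conj (u0 * d)).toMonoidHom = X := by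
    rw [map_conj_mul, hX, map_rootSubgroup S (S.act_diag hd) top]
    exact hUX u0 hu0
  have hgX : X.map (MulAut.conj (u0 * d * n * u)).toMonoidHom =
      (D.rootSubgroup F r.val).map (MulAut.conj (u0 * d)).toMonoidHom := by
    rw [map_conj_mul, hUX u (S.UPsi_le _ hu), map_conj_mul, hX, map_rootSubgroup S hW top]
  have key : X ⊔ X.map (MulAut.conj (u0 * d * n * u)).toMonoidHom =
      (X ⊔ D.rootSubgroup F r.val).map (MulAut.conj (u0 * d)).toMonoidHom := by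
    rw [Subgroup.map_sup, hbX, hgX]
  rw [key]
  by_cases hr0 : r.val = 0
  · refine Or.inr ⟨(u0 * d)⁻¹, inv_mem (S.borel_le_group hb), ?_⟩
    rw [← map_conj_mul, inv_mul_cancel, hr0]
    have : (MulAut.conj (1 : GL D.Idx F)).toMonoidHom = MonoidHom.id _ := by ext x; simp
    rw [this, Subgroup.map_id]
  · -- some Weyl word moves both roots to positive ones
    refine Or.inl ?_
    obtain ⟨V, hV1, hV2⟩ : ∃ V : List (Fin D.rank),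
        D.nroots / 2 ≤ (S.wpL V top).val ∧ D.nroots / 2 ≤ (S.wpL V r).val := by
      by_cases hrp : D.nroots / 2 ≤ r.val
      · exact ⟨[], htp, hrp⟩
      · simp only [okPairs, List.all_eq_true, Bool.or_eq_true, Bool.and_eq_true, beq_iff_eq,
          decide_eq_true_eq, List.mem_range] at hT
        obtain ⟨⟨h1, h2⟩, h3⟩ := (hT r.val (by omega)).resolve_left hr0
        refine ⟨(T.getD (r.val - 1) []).pmap (fun a ha => (⟨a, ha⟩ : Fin D.rank)) h1, ?_⟩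
        simp only [wpL_val, List.map_pmap, List.pmap_eq_map, List.map_id']
        exact ⟨h2, h3⟩
    set m := S.nL F V
    set K := X ⊔ D.rootSubgroup F r.val with hK
    have hle : K.map (MulAut.conj m).toMonoidHom ≤ D.posUnipotent F := by
      rw [hK, Subgroup.map_sup, hX, map_rootSubgroup S (S.act_nL V) top, map_rootSubgroup S (S.act_nL V) r]
      exact sup_le (S.rootSubgroup_le _ fun t => S.xG_mem_U hV1 (Fin.isLt _) t)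
        (S.rootSubgroup_le _ fun t => S.xG_mem_U hV2 (Fin.isLt _) t)
    have hU : IsPGroup 2 ↥(D.posUnipotent F) := by
      haveI : Fact (Nat.Prime 2) := ⟨Nat.prime_two⟩
      obtain ⟨k, -, hk⟩ := FiniteField.card F 2
      exact IsPGroup.of_card (n := k.val * (D.nroots / 2))
        (by rw [S.card_posUnipotent, hk, ← pow_mul])
    have hKp : IsPGroup 2 ↥K :=
      (hU.to_le hle).of_equiv (K.equivMapOfInjective _ (MulAut.conj m).injective).symm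
    exact hKp.map _

end Cfsg.Lib.Known.RootPairs
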