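import Cfsg.Agent.Known.RootCent
import Cfsg.Agent.Known.RootPairs

/-! Centralizers of the two mixed involutions of `F₄` in characteristic two. -/

set_option autoImplicit false

open Cfsg.Lie Cfsg.Lib.Chev

namespace Cfsg.Lib.Known.MixedCent

variable {D : ChevalleyDatum} {C : Cert} {F : Type*} [Field F]

theorem pw_eq_filter (S : Struct D C) (P : ℕ → Bool) (c : ℕ → F) (hc : ∀ r, P r = false → c r = 0) :
    S.pw (D.nroots / 2) c =
      (((List.range' (D.nroots / 2) (D.nroots - D.nroots / 2)).filter P).map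
        fun r => S.ok.xG r (c r)).prod := by
  rw [Struct.pw]
  induction List.range' (D.nroots / 2) (D.nroots - D.nroots / 2) with
  | nil => rfl
  | cons a l ih =>
    rw [List.map_cons, List.prod_cons, ih]
    cases h : P a
    · rw [List.filter_cons_of_neg (by simp [h]), hc a h, S.xG_zero, one_mul]
    · rw [List.filter_cons_of_pos (by simp [h]), List.map_cons, List.prod_cons]

/-- A monomial element carries commuting coordinates to commuting coordinates. -/
theorem transport (S : Struct D C) (hN : okNeg D = true) {n : GL D.Idx F} {w : Equiv.Perm (Fin D.nroots)}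
    (ha : Act S.ok n w) (L : List (Fin D.nroots)) (hL : L.Nodup) (hLp : ∀ r ∈ L, D.nroots / 2 ≤ r.val)
    (hcomm : ∀ r ∈ L, ∀ s ∈ L, ∀ t u : F, Commute (S.ok.xG r.val t) (S.ok.xG s.val u))
    (c q : ℕ → F) (e : n * (L.map fun r => S.ok.xG r.val (c r.val)).prod * n⁻¹ = S.pw (D.nroots / 2) q) :
    (∀ r ∈ L, c r.val ≠ 0 → D.nroots / 2 ≤ (w r).val ∧ q (w r).val ≠ 0) ∧
    (∀ s : Fin D.nroots, D.nroots / 2 ≤ s.val → q s.val ≠ 0 → ∃ r ∈ L, w r = s ∧ c r.val ≠ 0) ∧
    (∀ r ∈ L, c r.val ≠ 0 → ∀ a : F, (∀ t, n * S.ok.xG r.val t * n⁻¹ = S.ok.xG (w r).val (a * t)) →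
      q (w r).val = a * c r.val) := by
  classical
  have key : ∀ (M : List (Fin D.nroots)), M.Nodup → (∀ r ∈ M, D.nroots / 2 ≤ (w r).val) →
      (∀ r ∈ M, ∀ s ∈ M, ∀ t u : F, Commute (S.ok.xG r.val t) (S.ok.xG s.val u)) →
      ∃ d : ℕ → F, n * (M.map fun r => S.ok.xG r.val (c r.val)).prod * n⁻¹ = S.pw (D.nroots / 2) d ∧
        (∀ r ∈ M, c r.val ≠ 0 → d (w r).val ≠ 0) ∧ (∀ s : ℕ, d s ≠ 0 → ∃ r ∈ M, (w r).val = s ∧ c r.val ≠ 0) ∧
        (∀ r ∈ M, ∀ a : F, (∀ t, n * S.ok.xG r.val t * n⁻¹ = S.ok.xG (w r).val (a * t)) →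
          S.ok.xG (w r).val (d (w r).val) = S.ok.xG (w r).val (a * c r.val)) := by
    intro M hM hpos hMc
    choose cf hcf he using fun r => (ha r).2
    let d : ℕ → F := fun s => if h : s < D.nroots then
      (if w.symm ⟨s, h⟩ ∈ M then cf (w.symm ⟨s, h⟩) * c (w.symm ⟨s, h⟩).val else 0) else 0
    have hd : ∀ r ∈ M, d (w r).val = cf r * c r.val := fun r hr => by
      simp only [d, dif_pos (w r).isLt, Fin.eta, Equiv.symm_apply_apply, if_pos hr]
    refine ⟨d, ?_, fun r hr h0 => by rw [hd r hr]; exact mul_ne_zero (hcf r) h0, ?_, fun r hr a hat => ?_⟩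
    · have h1 : n * (M.map fun r => S.ok.xG r.val (c r.val)).prod * n⁻¹ =
          ((M.map fun r => (w r).val).map fun s => S.ok.xG s (d s)).prod := by
        change MulAut.conj n (M.map fun r => S.ok.xG r.val (c r.val)).prod = _
        rw [map_list_prod, List.map_map, List.map_map]
        refine congrArg List.prod (List.map_congr_left fun r hr => ?_)
        show n * S.ok.xG r.val (c r.val) * n⁻¹ = S.ok.xG (w r).val (d (w r).val)
        rw [(he r (c r.val)).1, hd r hr]
      rw [h1, pw_eq_filter S (fun s => decide (s ∈ M.map fun r => (w r).val)) d (fun s hs => ?_)]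
      · refine List.Perm.prod_eq' (List.Perm.map _ ((List.perm_ext_iff_of_nodup
          (hM.map (Fin.val_injective.comp w.injective)) (List.Nodup.filter _ List.nodup_range')).2
            fun s => ?_)) ?_
        · constructor
          · intro h
            obtain ⟨r, hr, rfl⟩ := List.mem_map.1 h
            exact List.mem_filter.2 ⟨List.mem_range'_1.2 ⟨hpos r hr,
              lt_of_lt_of_le (w r).isLt (by omega)⟩, decide_eq_true h⟩
          · exact fun h => by simpa using (List.mem_filter.1 h).2
        · rw [List.pairwise_map, List.pairwise_map]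
          refine List.Pairwise.imp_of_mem (R := fun _ _ => True) (fun {r r'} hr hr' _ => ?_)
            (List.pairwise_of_forall (fun _ _ => trivial))
          show Commute (S.ok.xG (w r).val (d (w r).val)) (S.ok.xG (w r').val (d (w r').val))
          rw [hd r hr, hd r' hr', ← (he r (c r.val)).1, ← (he r' (c r'.val)).1]
          exact (Commute.conj_iff n).2 (hMc r hr r' hr' _ _)
      · simp only [decide_eq_false_iff_not, List.mem_map, not_exists, not_and] at hs
        simp only [d]
        split_ifs with h h'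
        · exact absurd (by simp) (hs _ h')
        · rfl
        · rfl
    · intro s hs
      simp only [d] at hs
      split_ifs at hs with h h'
      · exact ⟨_, h', by simp, right_ne_zero_of_mul hs⟩
      · exact absurd rfl hs
      · exact absurd rfl hs
    · rw [hd r hr, ← hat, (he r (c r.val)).1]
  set P := L.filter fun r => decide (D.nroots / 2 ≤ (w r).val)
  set N := L.filter fun r => decide (¬ D.nroots / 2 ≤ (w r).val)
  have hsplit : (L.map fun r => S.ok.xG r.val (c r.val)).prod =
      (P.map fun r => S.ok.xG r.val (c r.val)).prod * (N.map fun r => S.ok.xG r.val (c r.val)).prod := by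
    rw [← List.prod_append, ← List.map_append]
    refine List.Perm.prod_eq' (List.Perm.map _ ?_) ?_
    · simp only [P, N]
      refine ((List.filter_append_perm (fun r : Fin D.nroots => decide (D.nroots / 2 ≤ (w r).val)) L).trans
        (List.Perm.refl _)).symm.trans (List.Perm.append_left _ (List.Perm.of_eq ?_))
      exact List.filter_congr fun r _ => by rw [decide_not]
    · rw [List.pairwise_map]
      exact List.Pairwise.imp_of_mem (R := fun _ _ => True) (fun {r r'} hr hr' _ => hcomm r hr r' hr' _ _)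
        (List.pairwise_of_forall (fun _ _ => trivial))
  have hPmem : ∀ r ∈ P, r ∈ L := fun r hr => (List.mem_filter.1 hr).1
  have hPpos : ∀ r ∈ P, D.nroots / 2 ≤ (w r).val := fun r hr => of_decide_eq_true (List.mem_filter.1 hr).2
  obtain ⟨d, hd, hd1, hd2, hd3⟩ := key P (hL.filter _) hPpos
    (fun r hr s hs => hcomm r (hPmem r hr) s (hPmem s hs))
  -- the negative part is trivial
  have hNeq : (N.map fun r => S.ok.xG r.val (c r.val)).prod = 1 := by
    have hmem : (N.map fun r => S.ok.xG r.val (c r.val)).prod ∈ S.UPsi F (Struct.Neg D w) := by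
      refine list_prod_mem fun g hg => ?_
      obtain ⟨r, hr, rfl⟩ := List.mem_map.1 hg
      obtain ⟨hrL, hrn⟩ := List.mem_filter.1 hr
      exact Subgroup.subset_closure ⟨r, _, hLp r hrL, Nat.lt_of_not_le (of_decide_eq_true hrn), rfl⟩
    have h1 : n * (N.map fun r => S.ok.xG r.val (c r.val)).prod * n⁻¹ ∈
        D.borelSubgroup F ⊓ D.negUnipotent F := by
      refine Subgroup.mem_inf.2 ⟨?_, S.conj_Neg ha hmem⟩
      have h2 : n * (N.map fun r => S.ok.xG r.val (c r.val)).prod * n⁻¹ =
          (S.pw (D.nroots / 2) d)⁻¹ * S.pw (D.nroots / 2) q := by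
        rw [← hd, ← e, hsplit]; group
      rw [h2]
      refine S.B_le_of ?_
      rw [S.posUnipotent_eq]
      exact mul_mem (inv_mem (S.pw_mem _ _)) (S.pw_mem _ _)
    rw [S.B_inf_V hN, Subgroup.mem_bot, mul_inv_eq_one] at h1
    exact mul_left_cancel (a := n) (h1.trans (mul_one n).symm)
  have hdq : ∀ s, D.nroots / 2 ≤ s → s < D.nroots → d s = q s := by
    refine S.pw_inj (D.nroots - D.nroots / 2) (D.nroots / 2) (by omega) le_rfl d q ?_
    rw [← hd, ← e, hsplit, hNeq, mul_one]
  have hN0 : ∀ r ∈ N, c r.val = 0 := by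
    intro r hr
    let c' : ℕ → F := fun s => if h : s < D.nroots then (if ⟨s, h⟩ ∈ N then c s else 0) else 0
    have hNmem : ∀ x ∈ N, x ∈ L := fun x hx => (List.mem_filter.1 hx).1
    have h1 : (N.map fun x => S.ok.xG x.val (c x.val)).prod = S.pw (D.nroots / 2) c' := by
      rw [pw_eq_filter S (fun s => decide (s ∈ N.map Fin.val)) c' (fun s hs => ?_)]
      · rw [show (N.map fun x => S.ok.xG x.val (c x.val)) = (N.map Fin.val).map fun s => S.ok.xG s (c' s) from by
          rw [List.map_map]
          refine List.map_congr_left fun x hx => ?_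
          simp [c', x.isLt, hx]]
        refine List.Perm.prod_eq' (List.Perm.map _ ((List.perm_ext_iff_of_nodup
          ((hL.filter _).map Fin.val_injective) (List.Nodup.filter _ List.nodup_range')).2 fun s => ?_)) ?_
        · constructor
          · intro h
            obtain ⟨x, hx, rfl⟩ := List.mem_map.1 h
            exact List.mem_filter.2 ⟨List.mem_range'_1.2 ⟨hLp x (hNmem x hx),
              lt_of_lt_of_le x.isLt (by omega)⟩, decide_eq_true h⟩
          · exact fun h => of_decide_eq_true (List.mem_filter.1 h).2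
        · rw [List.pairwise_map, List.pairwise_map]
          exact List.Pairwise.imp_of_mem (R := fun _ _ => True)
            (fun {x y} hx hy _ => hcomm x (hNmem x hx) y (hNmem y hy) _ _)
            (List.pairwise_of_forall (fun _ _ => trivial))
      · simp only [decide_eq_false_iff_not, List.mem_map, not_exists, not_and] at hs
        simp only [c']
        split_ifs with h h'
        · exact absurd rfl (hs _ h')
        · rfl
        · rfl
    have h2 := S.pw_inj (D.nroots - D.nroots / 2) (D.nroots / 2) (by omega) le_rfl c' 0 (by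
      rw [← h1, hNeq, Struct.pw, List.prod_eq_one]
      intro g hg
      obtain ⟨s, -, rfl⟩ := List.mem_map.1 hg
      exact S.xG_zero _) r.val (hLp r (hNmem r hr)) r.isLt
    simpa [c', r.isLt, hr] using h2
  have hP : ∀ r ∈ L, c r.val ≠ 0 → r ∈ P := by
    intro r hr h0
    refine List.mem_filter.2 ⟨hr, decide_eq_true ?_⟩
    by_contra hne
    exact h0 (hN0 r (List.mem_filter.2 ⟨hr, decide_eq_true hne⟩))
  refine ⟨fun r hr h0 => ⟨hPpos r (hP r hr h0), ?_⟩, fun s hs h0 => ?_, fun r hr h0 a hat => ?_⟩
  · rw [← hdq _ (hPpos r (hP r hr h0)) (w r).isLt]; exact hd1 r (hP r hr h0) h0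
  · rw [← hdq _ hs s.isLt] at h0
    obtain ⟨r, hr, e1, e2⟩ := hd2 _ h0
    exact ⟨r, hPmem r hr, Fin.ext e1, e2⟩
  · have h1 := hd3 r (hP r hr h0) a hat
    rw [hdq _ (hPpos r (hP r hr h0)) (w r).isLt] at h1
    refine sub_eq_zero.1 (S.xG_eq_one (w r).isLt ?_)
    rw [sub_eq_add_neg, ← S.ok.xG_mul, ← S.ok.xG_inv, h1, mul_inv_cancel]

end Cfsg.Lib.Known.MixedCent
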