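import Cfsg.Agent.Known.MixedF4Tables

/-! Centralizers of the two mixed involutions of `F₄` in characteristic two. -/

set_option autoImplicit false
set_option linter.unusedVariables false

open Cfsg.Lie Cfsg.Lib.Chev
open Cfsg.Lib.Known.RootCent (okEven commute_of_even target okRoots okJ)

namespace Cfsg.Lib.Known.MixedF4

variable {F : Type*} [Field F]

theorem nroots_eq : chevF4.nroots = 48 := by decide +kernel

theorem half_eq : chevF4.nroots / 2 = 24 := by decide +kernel

theorem lt48 (r : Fin chevF4.nroots) : r.val < 48 := lt_of_lt_of_eq r.isLt nroots_eq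

theorem ltN {r : ℕ} (h : r < 48) : r < chevF4.nroots := lt_of_lt_of_eq h nroots_eq.symm

/-- A root index of `F₄`. -/
def fr (n : ℕ) (h : n < 48 := by norm_num) : Fin chevF4.nroots := ⟨n, ltN h⟩

/-- The six roots carrying the second involution and its conjugates by `U`. -/
def six : List (Fin chevF4.nroots) := [fr 39, fr 40, fr 44, fr 45, fr 46, fr 47]

theorem six_vals : six.map Fin.val = [39, 40, 44, 45, 46, 47] := by decide +kernel

theorem six_comm : (six.all fun r => six.all fun s => okEven chevF4 r.val s.val) = true := by decide +kernel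

theorem six_commute [CharP F 2] {r s : Fin chevF4.nroots} (hr : r ∈ six) (hs : s ∈ six) (t u : F) :
    Commute (F4.ok.xG r.val t) (F4.ok.xG s.val u) := by
  have h := six_comm
  simp only [List.all_eq_true] at h
  exact commute_of_even F4.struct r.isLt s.isLt (h r hr s hs) t u

/-- Commutation from the table. -/
theorem comm_pair [CharP F 2] (r s : ℕ) (hr : r < 48) (hs : s < 48) (h : okEven chevF4 r s = true) (t u : F) :
    Commute (F4.ok.xG r t) (F4.ok.xG s u) :=
  commute_of_even F4.struct (ltN hr) (ltN hs) h t u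

/-- The conjugate of one root element by another, one commutator term. -/
theorem conj_single [CharP F 2] (r s k : ℕ) (hr : r < 48) (hs : s < 48) (hk : k < 48)
    (h : chevF4.commTerms r s = [(k, 1, 1, 1)]) (hne : s ≠ r) (hne' : s ≠ chevF4.neg r)
    (hrk : okEven chevF4 r k = true) (t u : F) :
    F4.ok.xG r t * F4.ok.xG s u * (F4.ok.xG r t)⁻¹ = F4.ok.xG s u * F4.ok.xG k (t * u) := by
  have e := F4.ok.commRel (F := F) F4.struct.chain F4.struct.base (ltN hr) (ltN hs) hne hne' t u
  have hw : F4.ok.wG (chevF4.commWord F r s t u) = F4.ok.xG k (t * u) := by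
    simp [Ok.wG, ChevalleyDatum.commWord, h, CharTwo.neg_eq]
  rw [hw] at e
  rw [mul_inv_eq_iff_eq_mul, mul_assoc, ← (comm_pair r k hr hk hrk t (t * u)).eq, ← mul_assoc, e, mul_assoc,
    F4.ok.xG_mul, CharTwo.add_self_eq_zero, F4.ok.xG_zero, mul_one]

/-- Elements of the four central root subgroups. -/
noncomputable def z4 (a b c d : F) : GL chevF4.Idx F :=
  (F4.ok.xG 40 a * F4.ok.xG 44 b) * (F4.ok.xG 46 c * F4.ok.xG 47 d)

theorem z4_mul [CharP F 2] (a b c d a' b' c' d' : F) :
    z4 a b c d * z4 a' b' c' d' = z4 (a + a') (b + b') (c + c') (d + d') := by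
  have c1 : Commute (F4.ok.xG 46 c * F4.ok.xG 47 d) (F4.ok.xG 40 a' * F4.ok.xG 44 b') :=
    ((comm_pair 46 40 (by norm_num) (by norm_num) (by decide +kernel) c a').mul_right
      (comm_pair 46 44 (by norm_num) (by norm_num) (by decide +kernel) c b')).mul_left
    ((comm_pair 47 40 (by norm_num) (by norm_num) (by decide +kernel) d a').mul_right
      (comm_pair 47 44 (by norm_num) (by norm_num) (by decide +kernel) d b'))
  rw [z4, z4, z4, c1.mul_mul_mul_comm,
    (comm_pair 44 40 (by norm_num) (by norm_num) (by decide +kernel) b a').mul_mul_mul_comm,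
    (comm_pair 47 46 (by norm_num) (by norm_num) (by decide +kernel) d c').mul_mul_mul_comm,
    F4.ok.xG_mul, F4.ok.xG_mul, F4.ok.xG_mul, F4.ok.xG_mul]

theorem z4_zero : z4 (0 : F) 0 0 0 = 1 := by simp [z4]

/-- The subgroup of these elements. -/
noncomputable def zGroup (F : Type*) [Field F] [CharP F 2] : Subgroup (GL chevF4.Idx F) where
  carrier := {g | ∃ a b c d : F, g = z4 a b c d}
  one_mem' := ⟨0, 0, 0, 0, z4_zero.symm⟩
  mul_mem' := by
    rintro _ _ ⟨a, b, c, d, rfl⟩ ⟨a', b', c', d', rfl⟩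
    exact ⟨_, _, _, _, z4_mul a b c d a' b' c' d'⟩
  inv_mem' := by
    rintro _ ⟨a, b, c, d, rfl⟩
    refine ⟨a, b, c, d, inv_eq_of_mul_eq_one_right ?_⟩
    rw [z4_mul, CharTwo.add_self_eq_zero, CharTwo.add_self_eq_zero, CharTwo.add_self_eq_zero,
      CharTwo.add_self_eq_zero, z4_zero]

/-- Coordinates of the second involution times a central element. -/
noncomputable def cz (a b c d : F) (r : ℕ) : F :=
  if r = 39 ∨ r = 45 then 1 else if r = 40 then a else if r = 44 then b else if r = 46 then c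
    else if r = 47 then d else 0

theorem six_prod [CharP F 2] (a b c d : F) :
    F4.ok.xG 39 (1 : F) * F4.ok.xG 45 1 * z4 a b c d = (six.map fun r => F4.ok.xG r.val (cz a b c d r.val)).prod := by
  simp only [six, fr, List.map_cons, List.map_nil, List.prod_cons, List.prod_nil, cz, z4]
  norm_num
  rw [mul_assoc (F4.ok.xG 39 (1 : F))]
  congr 1
  have h1 := comm_pair 45 40 (by norm_num) (by norm_num) (by decide +kernel) (1 : F) a
  have h2 := comm_pair 45 44 (by norm_num) (by norm_num) (by decide +kernel) (1 : F) b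
  rw [← mul_assoc (F4.ok.xG 45 (1 : F)), (h1.mul_right h2).eq, mul_assoc, mul_assoc]

theorem six_pw [CharP F 2] (a b c d : F) :
    F4.ok.xG 39 (1 : F) * F4.ok.xG 45 1 * z4 a b c d = F4.struct.pw (chevF4.nroots / 2) (cz a b c d) := by
  rw [six_prod, MixedCent.pw_eq_filter F4.struct (fun r => decide (r ∈ [39, 40, 44, 45, 46, 47])) (cz a b c d)]
  · rw [show (List.range' (chevF4.nroots / 2) (chevF4.nroots - chevF4.nroots / 2)).filter
        (fun r => decide (r ∈ [39, 40, 44, 45, 46, 47])) = six.map Fin.val by decide +kernel, List.map_map]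
    rfl
  · intro r hr
    simp only [decide_eq_false_iff_not, List.mem_cons, List.not_mem_nil, or_false, not_or] at hr
    simp [cz, hr]

/-- The roots moved by the second involution. -/
def four : List ℕ := [25, 26, 27, 34]

/-- The positive root subgroups centralizing the second involution. -/
noncomputable def kPos (F : Type*) [Field F] : Subgroup (GL chevF4.Idx F) :=
  F4.struct.UPsi F (fun r => r.val ∉ four)

theorem kPos_xG {r : ℕ} (h1 : 24 ≤ r) (h2 : r < 48) (h3 : r ∉ four) (t : F) : F4.ok.xG r t ∈ kPos F :=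
  Subgroup.subset_closure ⟨⟨r, ltN h2⟩, t, half_eq.trans_le h1, h3, rfl⟩

/-- The listed roots centralize both factors. -/
theorem okV : ((List.range 48).all fun r => ((decide (r < 24) || decide (r ∈ four)) &&
    !decide (r ∈ [14, 23])) || (okEven chevF4 39 r && okEven chevF4 45 r)) = true := by decide +kernel

theorem comm_v [CharP F 2] {r : ℕ} (hr : r < 48) (h : (24 ≤ r ∧ r ∉ four) ∨ r ∈ [14, 23]) (t : F) :
    Commute (F4.ok.xG r t) (F4.ok.xG 39 (1 : F) * F4.ok.xG 45 1) := by
  have h1 := okV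
  simp only [List.all_eq_true, List.mem_range, Bool.or_eq_true, Bool.and_eq_true, decide_eq_true_eq,
    Bool.not_eq_true', decide_eq_false_iff_not] at h1
  obtain ⟨e1, e2⟩ := (h1 r hr).resolve_left fun ⟨h2, h3⟩ => by
    rcases h with ⟨h4, h5⟩ | h4
    · rcases h2 with h2 | h2
      · omega
      · exact h5 h2
    · exact h3 h4
  exact (comm_pair 39 r (by norm_num) hr e1 1 t).symm.mul_right (comm_pair 45 r (by norm_num) hr e2 1 t).symm

theorem kPos_centralizes [CharP F 2] {g : GL chevF4.Idx F} (hg : g ∈ kPos F) :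
    Commute g (F4.ok.xG 39 (1 : F) * F4.ok.xG 45 1) := by
  suffices h : kPos F ≤ Subgroup.centralizer {F4.ok.xG 39 (1 : F) * F4.ok.xG 45 1} from
    Subgroup.mem_centralizer_singleton_iff.1 (h hg)
  refine (Subgroup.closure_le _).2 ?_
  rintro x ⟨r, t, hr, hr4, rfl⟩
  rw [half_eq] at hr
  exact Subgroup.mem_centralizer_singleton_iff.2 (comm_v (lt48 r) (Or.inl ⟨hr, hr4⟩) t)

theorem okZ : ((List.range 48).all fun r => decide (r < 24) || decide (r ∈ four) ||
    ((r == 33 || okEven chevF4 r 40) && okEven chevF4 r 44 && (r == 24 || okEven chevF4 r 46) &&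
      okEven chevF4 r 47)) = true := by decide +kernel

theorem conj_zGroup [CharP F 2] {g : GL chevF4.Idx F} (hg : g ∈ kPos F) {z : GL chevF4.Idx F}
    (hz : z ∈ zGroup F) : g * z * g⁻¹ ∈ zGroup F := by
  have base : ∀ r, 24 ≤ r → r < 48 → r ∉ four → ∀ (t : F) (z : GL chevF4.Idx F), z ∈ zGroup F →
      F4.ok.xG r t * z * (F4.ok.xG r t)⁻¹ ∈ zGroup F := by
    intro r h1 h2 h3 t z hz
    obtain ⟨a, b, c, d, rfl⟩ := hz
    have h := okZ
    simp only [List.all_eq_true, List.mem_range, Bool.or_eq_true, Bool.and_eq_true, decide_eq_true_eq,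
      beq_iff_eq] at h
    obtain ⟨⟨⟨e40, e44⟩, e46⟩, e47⟩ := (h r h2).resolve_left (by rintro (h4 | h4) <;> [omega; exact h3 h4])
    have z40 : ∀ a : F, F4.ok.xG r t * F4.ok.xG 40 a * (F4.ok.xG r t)⁻¹ ∈ zGroup F := by
      intro a
      rcases e40 with rfl | e40
      · exact ⟨a, t * a, 0, 0, by
          rw [conj_single 33 40 44 (by norm_num) (by norm_num) (by norm_num) (by decide +kernel)
            (by norm_num) (by decide +kernel) (by decide +kernel)]
          simp [z4]⟩
      · exact ⟨a, 0, 0, 0, by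
          rw [(comm_pair r 40 h2 (by norm_num) e40 t a).eq, mul_inv_cancel_right]; simp [z4]⟩
    have z46 : ∀ a : F, F4.ok.xG r t * F4.ok.xG 46 a * (F4.ok.xG r t)⁻¹ ∈ zGroup F := by
      intro a
      rcases e46 with rfl | e46
      · exact ⟨0, 0, a, t * a, by
          rw [conj_single 24 46 47 (by norm_num) (by norm_num) (by norm_num) (by decide +kernel)
            (by norm_num) (by decide +kernel) (by decide +kernel)]
          simp [z4]⟩
      · exact ⟨0, 0, a, 0, by
          rw [(comm_pair r 46 h2 (by norm_num) e46 t a).eq, mul_inv_cancel_right]; simp [z4]⟩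
    have z44 : F4.ok.xG r t * F4.ok.xG 44 b * (F4.ok.xG r t)⁻¹ ∈ zGroup F := ⟨0, b, 0, 0, by
      rw [(comm_pair r 44 h2 (by norm_num) e44 t b).eq, mul_inv_cancel_right]; simp [z4]⟩
    have z47 : F4.ok.xG r t * F4.ok.xG 47 d * (F4.ok.xG r t)⁻¹ ∈ zGroup F := ⟨0, 0, 0, d, by
      rw [(comm_pair r 47 h2 (by norm_num) e47 t d).eq, mul_inv_cancel_right]; simp [z4]⟩
    rw [z4, ← conj_mul, ← conj_mul, ← conj_mul]
    exact mul_mem (mul_mem (z40 a) z44) (mul_mem (z46 c) z47)
  induction hg using Subgroup.closure_induction'' generalizing z with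
  | one => simpa using hz
  | mem x hx =>
    obtain ⟨r, t, hr, hr4, rfl⟩ := hx
    exact base r.val (half_eq ▸ hr) (lt48 r) hr4 t z hz
  | inv_mem x hx =>
    obtain ⟨r, t, hr, hr4, rfl⟩ := hx
    rw [F4.ok.xG_inv]
    exact base r.val (half_eq ▸ hr) (lt48 r) hr4 (-t) z hz
  | mul x y hx hy ih1 ih2 =>
    rw [show x * y * z * (x * y)⁻¹ = x * (y * z * y⁻¹) * x⁻¹ by group]
    exact ih1 (ih2 hz)

/-- Splitting a unipotent element as a centralizing part times a tail. -/
theorem split_tail : ∀ (d k : ℕ), d + k = 48 → 24 ≤ k → ∀ g ∈ F4.struct.Ugen F k,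
    ∃ a ∈ kPos F, ∃ c : ℕ → F,
      g = a * (((List.range' k d).reverse.filter fun r => decide (r ∈ four)).map fun r => F4.ok.xG r (c r)).prod := by
  intro d
  induction d with
  | zero =>
    intro k hk _ g hg
    rw [F4.struct.Ugen_top (nroots_eq.trans_le (by omega)), Subgroup.mem_bot] at hg
    exact ⟨1, one_mem _, 0, by simp [hg]⟩
  | succ d ih =>
    intro k hk hkp g hg
    have hkn : k < chevF4.nroots := ltN (by omega)
    have hkp' : chevF4.nroots / 2 ≤ k := half_eq.trans_le hkp
    obtain ⟨t, v, hv, rfl⟩ := F4.struct.Ugen_split hkn hkp' hg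
    rw [List.range'_succ, List.reverse_cons, List.filter_append]
    by_cases h4 : k ∈ four
    · have hv' := (Subgroup.mem_normalizer_iff.1
        (F4.struct.le_normalizer_Ugen (j := k) (k := k + 1) hkp' (by omega) (F4.struct.xG_mem_Ugen le_rfl hkn t)) v).1 hv
      obtain ⟨a, ha, c, e⟩ := ih (k + 1) (by omega) (by omega) _ hv'
      refine ⟨a, ha, Function.update c k t, ?_⟩
      rw [List.filter_cons_of_pos (by simp [h4]), List.filter_nil, List.map_append, List.prod_append]
      rw [List.map_congr_left (g := fun r => F4.ok.xG r (c r)) fun r hr => ?_]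
      · simp only [List.map_cons, List.map_nil, List.prod_cons, List.prod_nil, mul_one, Function.update_self]
        rw [← mul_assoc, ← e]
        group
      · have := (List.mem_range'_1.1 (List.mem_reverse.1 (List.mem_filter.1 hr).1)).1
        rw [Function.update_of_ne (by omega)]
    · obtain ⟨a, ha, c, rfl⟩ := ih (k + 1) (by omega) (by omega) v hv
      refine ⟨F4.ok.xG k t * a, mul_mem (kPos_xG hkp (by omega) h4 t) ha, c, ?_⟩
      rw [List.filter_cons_of_neg (by simp [h4]), List.filter_nil, List.append_nil, mul_assoc]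

/-- The tail of the splitting. -/
noncomputable def tail (α β γ δ : F) : GL chevF4.Idx F :=
  F4.ok.xG 34 α * (F4.ok.xG 27 β * (F4.ok.xG 26 γ * F4.ok.xG 25 δ))

theorem exists_tail {u : GL chevF4.Idx F} (hu : u ∈ chevF4.posUnipotent F) :
    ∃ a ∈ kPos F, ∃ α β γ δ : F, u = a * tail α β γ δ := by
  rw [F4.struct.posUnipotent_eq, half_eq] at hu
  obtain ⟨a, ha, c, e⟩ := split_tail 24 24 rfl le_rfl u hu
  refine ⟨a, ha, c 34, c 27, c 26, c 25, ?_⟩
  rw [e, show ((List.range' 24 24).reverse.filter fun r => decide (r ∈ four)) = [34, 27, 26, 25] by decide +kernel]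
  simp [tail]

theorem conj_tail [CharP F 2] (α β γ δ : F) :
    tail α β γ δ * (F4.ok.xG 39 (1 : F) * F4.ok.xG 45 1) * (tail α β γ δ)⁻¹ =
      F4.ok.xG 39 (1 : F) * F4.ok.xG 45 1 * z4 β α δ γ := by
  have k1 : ∀ (r s : ℕ) (hr : r < 48) (hs : s < 48) (h : okEven chevF4 r s = true) (t u : F),
      F4.ok.xG r t * F4.ok.xG s u * (F4.ok.xG r t)⁻¹ = F4.ok.xG s u := fun r s hr hs h t u => by
    rw [(comm_pair r s hr hs h t u).eq, mul_inv_cancel_right]
  have x39 : tail α β γ δ * F4.ok.xG 39 (1 : F) * (tail α β γ δ)⁻¹ = F4.ok.xG 39 1 * (F4.ok.xG 40 β * F4.ok.xG 44 α) := by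
    rw [tail, show ∀ p q r s x : GL chevF4.Idx F, p * (q * (r * s)) * x * (p * (q * (r * s)))⁻¹ =
      p * (q * (r * (s * x * s⁻¹) * r⁻¹) * q⁻¹) * p⁻¹ from fun p q r s x => by group]
    rw [k1 25 39 (by norm_num) (by norm_num) (by decide +kernel), k1 26 39 (by norm_num) (by norm_num) (by decide +kernel),
      conj_single 27 39 40 (by norm_num) (by norm_num) (by norm_num) (by decide +kernel) (by norm_num)
        (by decide +kernel) (by decide +kernel),
      ← conj_mul, k1 34 40 (by norm_num) (by norm_num) (by decide +kernel),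
      conj_single 34 39 44 (by norm_num) (by norm_num) (by norm_num) (by decide +kernel) (by norm_num)
        (by decide +kernel) (by decide +kernel), mul_one, mul_one, mul_assoc,
      (comm_pair 44 40 (by norm_num) (by norm_num) (by decide +kernel) α β).eq]
  have x45 : tail α β γ δ * F4.ok.xG 45 (1 : F) * (tail α β γ δ)⁻¹ =
      F4.ok.xG 45 1 * (F4.ok.xG 46 δ * F4.ok.xG 47 γ) := by
    set T := F4.ok.xG 45 1 * (F4.ok.xG 46 δ * F4.ok.xG 47 γ) with hT
    have e26 : F4.ok.xG 26 γ * (F4.ok.xG 25 δ * F4.ok.xG 45 1 * (F4.ok.xG 25 δ)⁻¹) * (F4.ok.xG 26 γ)⁻¹ = T := by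
      rw [conj_single 25 45 46 (by norm_num) (by norm_num) (by norm_num) (by decide +kernel) (by norm_num)
        (by decide +kernel) (by decide +kernel),
        show ∀ g a b : GL chevF4.Idx F, g * (a * b) * g⁻¹ = g * a * g⁻¹ * (g * b * g⁻¹) from
          fun g a b => by group,
        k1 26 46 (by norm_num) (by norm_num) (by decide +kernel),
        conj_single 26 45 47 (by norm_num) (by norm_num) (by norm_num) (by decide +kernel) (by norm_num)
          (by decide +kernel) (by decide +kernel), mul_one, mul_one, hT, mul_assoc,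
        (comm_pair 47 46 (by norm_num) (by norm_num) (by decide +kernel) γ δ).eq]
    have c27 : Commute (F4.ok.xG 27 β) T :=
      (comm_pair 27 45 (by norm_num) (by norm_num) (by decide +kernel) β (1 : F)).mul_right
        ((comm_pair 27 46 (by norm_num) (by norm_num) (by decide +kernel) β δ).mul_right
          (comm_pair 27 47 (by norm_num) (by norm_num) (by decide +kernel) β γ))
    have c34 : Commute (F4.ok.xG 34 α) T :=
      (comm_pair 34 45 (by norm_num) (by norm_num) (by decide +kernel) α (1 : F)).mul_right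
        ((comm_pair 34 46 (by norm_num) (by norm_num) (by decide +kernel) α δ).mul_right
          (comm_pair 34 47 (by norm_num) (by norm_num) (by decide +kernel) α γ))
    rw [tail, show ∀ p q r s x : GL chevF4.Idx F, p * (q * (r * s)) * x * (p * (q * (r * s)))⁻¹ =
      p * (q * (r * (s * x * s⁻¹) * r⁻¹) * q⁻¹) * p⁻¹ from fun p q r s x => by group, e26, c27.eq,
      mul_inv_cancel_right, c34.eq, mul_inv_cancel_right]
  have h : Commute (F4.ok.xG 40 β * F4.ok.xG 44 α) (F4.ok.xG 45 (1 : F)) :=
    (comm_pair 40 45 (by norm_num) (by norm_num) (by decide +kernel) β (1 : F)).mul_left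
      (comm_pair 44 45 (by norm_num) (by norm_num) (by decide +kernel) α (1 : F))
  rw [← conj_mul, x39, x45, z4, show ∀ a p b q : GL chevF4.Idx F, a * p * (b * q) = a * (p * b) * q from
    fun a p b q => by group, h.eq]
  group

theorem conj_U [CharP F 2] {u : GL chevF4.Idx F} (hu : u ∈ chevF4.posUnipotent F) :
    ∃ a b c d : F, u * (F4.ok.xG 39 (1 : F) * F4.ok.xG 45 1) * u⁻¹ = F4.ok.xG 39 (1 : F) * F4.ok.xG 45 1 * z4 a b c d := by
  obtain ⟨k, hk, α, β, γ, δ, rfl⟩ := exists_tail hu
  obtain ⟨a, b, c, d, e⟩ := conj_zGroup hk ⟨β, α, δ, γ, rfl⟩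
  refine ⟨a, b, c, d, ?_⟩
  rw [show k * tail α β γ δ * (F4.ok.xG 39 (1 : F) * F4.ok.xG 45 1) * (k * tail α β γ δ)⁻¹ =
      k * (tail α β γ δ * (F4.ok.xG 39 (1 : F) * F4.ok.xG 45 1) * (tail α β γ δ)⁻¹) * k⁻¹ by group,
    conj_tail, ← conj_mul, (kPos_centralizes hk).eq, mul_inv_cancel_right, e]

end Cfsg.Lib.Known.MixedF4
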