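import Cfsg.Agent.Known.MixedF4

/-! The centralizers of `x₄₇x₄₄` and `x₃₉x₄₅` in `F₄` of characteristic two. -/

set_option autoImplicit false

open Cfsg.Lie Cfsg.Lib.Chev
open Cfsg.Lib.Known.RootCent (okEven commute_of_even target okRoots okJ)

namespace Cfsg.Lib.Known.MixedF4

variable {F : Type*} [Field F]

/-- The two highest roots. -/
def two : List (Fin chevF4.nroots) := [fr 44, fr 47]

theorem centralizer_w [CharP F 2] :
    chevF4.group F ⊓ Subgroup.centralizer {F4.ok.xG 47 (1 : F) * F4.ok.xG 44 1} = target chevF4 F [20, 22] := by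
  have hR : okRoots chevF4 [47, 44] [20, 22] = true := by decide +kernel
  have hJ : okJ chevF4 F4.cert [47, 44] [1, 2] [20, 22] = true := by decide +kernel
  have h44 : okEven chevF4 44 47 = true := by decide +kernel
  refine RootCent.centralizer_eq F4.struct okNeg_F4 hR hJ ?_ ?_
  · intro g hg
    rw [Subgroup.mem_centralizer_singleton_iff]
    have h1 : Commute g (F4.ok.xG 47 (1 : F)) :=
      Subgroup.mem_centralizer_singleton_iff.1 (RootCent.target_le F4.struct hR (by simp) 1 hg)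
    have h2 : Commute g (F4.ok.xG 44 (1 : F)) :=
      Subgroup.mem_centralizer_singleton_iff.1 (RootCent.target_le F4.struct hR (by simp) 1 hg)
    exact h1.mul_right h2
  intro n W hact hc r hr h
  let ind : ℕ → F := fun r => if r = 44 ∨ r = 47 then 1 else 0
  have hcomm : ∀ a ∈ two, ∀ b ∈ two, ∀ t u : F, Commute (F4.ok.xG a.val t) (F4.ok.xG b.val u) := by
    intro a ha b hb t u
    simp only [two, List.mem_cons, List.not_mem_nil, or_false] at ha hb
    rcases ha with rfl | rfl <;> rcases hb with rfl | rfl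
    · exact commute_of_even F4.struct (fr 44).isLt (fr 44).isLt (by decide +kernel) t u
    · exact commute_of_even F4.struct (fr 44).isLt (fr 47).isLt h44 t u
    · exact (commute_of_even F4.struct (fr 44).isLt (fr 47).isLt h44 u t).symm
    · exact commute_of_even F4.struct (fr 47).isLt (fr 47).isLt (by decide +kernel) t u
  have hprod : (two.map fun a => F4.ok.xG a.val (ind a.val)).prod = F4.ok.xG 47 (1 : F) * F4.ok.xG 44 1 := by
    simp only [two, fr, List.map_cons, List.map_nil, List.prod_cons, List.prod_nil, ind]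
    norm_num
    exact (comm_pair 44 47 (by norm_num) (by norm_num) h44 (1 : F) 1).eq
  have hpw : (F4.ok.xG 47 (1 : F) * F4.ok.xG 44 1) = F4.struct.pw (chevF4.nroots / 2) ind := by
    rw [← hprod, MixedCent.pw_eq_filter F4.struct (fun r => decide (r ∈ [44, 47])) ind (fun r hr => by
      simp only [decide_eq_false_iff_not, List.mem_cons, List.not_mem_nil, or_false] at hr
      simp [ind, hr]),
      show (List.range' (chevF4.nroots / 2) (chevF4.nroots - chevF4.nroots / 2)).filter
        (fun r => decide (r ∈ [44, 47])) = two.map Fin.val by decide +kernel, List.map_map]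
    rfl
  obtain ⟨t1, -, t3⟩ := MixedCent.transport F4.struct okNeg_F4 hact two (by decide +kernel) (by decide +kernel)
    hcomm ind ind (by rw [hprod, hc.eq, mul_inv_cancel_right, hpw])
  have hmem : ∀ a ∈ two, (F4.struct.wpL W a).val ∈ [44, 47] := by
    intro a ha
    have h1 := (t1 a ha (by
      simp only [two, List.mem_cons, List.not_mem_nil, or_false] at ha
      rcases ha with rfl | rfl <;> simp [ind, fr])).2
    simp only [ind] at h1
    split_ifs at h1 with h2
    · simpa using h2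
    · exact absurd rfl h1
  have e44 := hmem (fr 44) (by simp [two])
  have e47 := hmem (fr 47) (by simp [two])
  rw [wpL_val'] at e44 e47
  obtain ⟨f44, f47⟩ := (classify W).1 e44 e47
  have fix : ∀ a ∈ two, F4.struct.wpL W a = a := by
    intro a ha
    simp only [two, List.mem_cons, List.not_mem_nil, or_false] at ha
    refine Fin.ext ?_
    rw [wpL_val']
    rcases ha with rfl | rfl
    · exact f44
    · exact f47
  obtain ⟨a, ha, rfl⟩ : ∃ a ∈ two, a.val = r := by
    simp only [List.mem_cons, List.not_mem_nil, or_false] at hr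
    rcases hr with rfl | rfl
    · exact ⟨fr 47, by simp [two], rfl⟩
    · exact ⟨fr 44, by simp [two], rfl⟩
  have he : (⟨a.val, h⟩ : Fin chevF4.nroots) = a := rfl
  rw [he]
  refine ⟨by rw [fix a ha], ?_⟩
  obtain ⟨-, s, -, es⟩ := hact a
  have hia : ind a.val = 1 := by
    simp only [two, List.mem_cons, List.not_mem_nil, or_false] at ha
    rcases ha with rfl | rfl <;> simp [ind, fr]
  have h3 := t3 a ha (by rw [hia]; exact one_ne_zero) s (fun t => (es t).1)
  rw [fix a ha, hia, mul_one] at h3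
  have h4 := (es 1).1
  rw [fix a ha, mul_one, ← h3] at h4
  exact mul_inv_eq_iff_eq_mul.1 h4

/-- The centralizer of the second involution. -/
noncomputable def vTarget (F : Type*) [Field F] : Subgroup (GL chevF4.Idx F) :=
  chevF4.rootSubgroup F 33 ⊔ chevF4.rootSubgroup F 14 ⊔ chevF4.rootSubgroup F 24 ⊔ chevF4.rootSubgroup F 23 ⊔
    Subgroup.closure {g : GL chevF4.Idx F | ∃ (r : ℕ) (c : F), chevF4.IsPosRoot r ∧ r ∉ [27, 25, 34, 26] ∧
      (g : Matrix chevF4.Idx chevF4.Idx F) = chevF4.x F r c}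

theorem mem_four_iff (r : ℕ) : r ∈ four ↔ r ∈ [27, 25, 34, 26] := by
  simp only [four, List.mem_cons, List.not_mem_nil, or_false]
  omega

theorem xG_mem_vTarget {r : ℕ} (hr : r < 48) (h : (24 ≤ r ∧ r ∉ four) ∨ r ∈ [14, 23]) (t : F) :
    F4.ok.xG r t ∈ vTarget F := by
  rcases h with ⟨h1, h2⟩ | h
  · exact Subgroup.mem_sup_right (Subgroup.subset_closure
      ⟨r, t, F4.struct.isPos_iff.2 ⟨half_eq.trans_le h1, ltN hr⟩, fun h => h2 ((mem_four_iff r).2 h),
        F4.ok.val_xG _ _⟩)
  · simp only [List.mem_cons, List.not_mem_nil, or_false] at h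
    refine Subgroup.mem_sup_left ?_
    rcases h with rfl | rfl
    · exact Subgroup.mem_sup_left (Subgroup.mem_sup_left
        (Subgroup.mem_sup_right (F4.struct.xG_mem_rootSubgroup _ _)))
    · exact Subgroup.mem_sup_right (F4.struct.xG_mem_rootSubgroup _ _)

theorem vTarget_le [CharP F 2] :
    vTarget F ≤ chevF4.group F ⊓ Subgroup.centralizer {F4.ok.xG 39 (1 : F) * F4.ok.xG 45 1} := by
  have key : ∀ r : ℕ, r < 48 → ((24 ≤ r ∧ r ∉ four) ∨ r ∈ [14, 23]) → ∀ t : F,
      F4.ok.xG r t ∈ chevF4.group F ⊓ Subgroup.centralizer {F4.ok.xG 39 (1 : F) * F4.ok.xG 45 1} :=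
    fun r hr h t => Subgroup.mem_inf.2
      ⟨F4.ok.xG_mem_group r t, Subgroup.mem_centralizer_singleton_iff.2 (comm_v hr h t)⟩
  refine sup_le (sup_le (sup_le (sup_le ?_ ?_) ?_) ?_) ((Subgroup.closure_le _).2 ?_)
  · exact F4.struct.rootSubgroup_le _ (key 33 (by norm_num) (by decide))
  · exact F4.struct.rootSubgroup_le _ (key 14 (by norm_num) (by decide))
  · exact F4.struct.rootSubgroup_le _ (key 24 (by norm_num) (by decide))
  · exact F4.struct.rootSubgroup_le _ (key 23 (by norm_num) (by decide))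
  · rintro g ⟨r, c, hr, h4, hg⟩
    obtain ⟨a, b⟩ := F4.struct.isPos_iff.1 hr
    rw [F4.ok.eq_xG hg]
    exact key r (nroots_eq ▸ b) (Or.inl ⟨half_eq ▸ a, fun h => h4 ((mem_four_iff r).1 h)⟩) c

theorem kPos_le : kPos F ≤ vTarget F := by
  refine (Subgroup.closure_le _).2 ?_
  rintro g ⟨r, t, hr, h4, rfl⟩
  exact xG_mem_vTarget (lt48 r) (Or.inl ⟨half_eq ▸ hr, h4⟩) t

/-- Each surviving word fixes the two roots and keeps the four moved roots positive. -/
theorem okShort : (short4.all fun A => A.all (fun i => i == 0 || i == 3) &&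
    (F4.cert.wWord A 39 == 39) && (F4.cert.wWord A 45 == 45) &&
    four.all fun r => (List.range 48).any fun s => decide (24 ≤ s) && (F4.cert.wWord A s == r)) = true := by
  decide +kernel

theorem simple_vals : [chevF4.simple 0, chevF4.neg (chevF4.simple 0), chevF4.simple 3, chevF4.neg (chevF4.simple 3)] =
    [33, 14, 24, 23] := by decide +kernel

theorem nG_mem_vTarget (i : Fin chevF4.rank) (hi : i.val = 0 ∨ i.val = 3) (t : F) :
    F4.ok.nG (chevF4.simple i) t ∈ vTarget F := by
  have h := simple_vals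
  simp only [List.cons.injEq, and_true] at h
  obtain ⟨a, b, c, d⟩ := h
  rw [Ok.nG]
  rcases hi with hi | hi <;> rw [hi]
  · rw [b, a]
    exact mul_mem (mul_mem (xG_mem_vTarget (by norm_num) (by decide) _) (xG_mem_vTarget (by norm_num) (by decide) _))
      (xG_mem_vTarget (by norm_num) (by decide) _)
  · rw [d, c]
    exact mul_mem (mul_mem (xG_mem_vTarget (by norm_num) (by decide) _) (xG_mem_vTarget (by norm_num) (by decide) _))
      (xG_mem_vTarget (by norm_num) (by decide) _)

theorem vals_cartan : (List.range 4).map (fun i => chevF4.cartan i 39) = [0, -1, 1, 0] ∧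
    (List.range 4).map (fun i => chevF4.cartan i 45) = [0, 2, -1, 0] := by decide +kernel

theorem rank_eq : chevF4.rank = 4 := by decide +kernel

theorem diag_mem_vTarget {d : GL chevF4.Idx F} (hd : d ∈ chevF4.diagonalSubgroup F)
    (h39 : d * F4.ok.xG 39 1 * d⁻¹ = F4.ok.xG 39 1) (h45 : d * F4.ok.xG 45 1 * d⁻¹ = F4.ok.xG 45 1) :
    d ∈ vTarget F := by
  rw [F4.ok.diagonalSubgroup_eq] at hd
  obtain ⟨c, rfl⟩ := hd
  have hchar : ∀ s : ℕ, s < 48 → 24 ≤ s → Ok.tG chevF4 F c * F4.ok.xG s 1 * (Ok.tG chevF4 F c)⁻¹ = F4.ok.xG s 1 →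
      (∏ i, c i ^ chevF4.cartan i s : Fˣ) = 1 := by
    intro s hs hs' h
    rw [F4.struct.tG_conj_xG (ltN hs), mul_one] at h
    exact Units.ext (RootCent.xG_inj_pos F4.struct okNeg_F4 (ltN hs) (ltN hs)
      (half_eq.trans_le hs') one_ne_zero h).2
  have e39 := hchar 39 (by norm_num) (by norm_num) h39
  have e45 := hchar 45 (by norm_num) (by norm_num) h45
  obtain ⟨v39, v45⟩ := vals_cartan
  simp only [List.range_succ, List.range_zero, List.nil_append, List.cons_append, List.map_cons, List.map_nil,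
    List.cons.injEq, and_true] at v39 v45
  let e : Fin 4 → Fin chevF4.rank := fun i => ⟨i.val, rank_eq.symm ▸ i.isLt⟩
  have he : Function.Bijective e := by
    refine ⟨fun a b h => Fin.ext (congrArg Fin.val h), fun b => ⟨⟨b.val, rank_eq ▸ b.isLt⟩, Fin.ext rfl⟩⟩
  have prodE : ∀ s : ℕ, (∏ i, c i ^ chevF4.cartan i s : Fˣ) =
      c (e 0) ^ chevF4.cartan 0 s * c (e 1) ^ chevF4.cartan 1 s * c (e 2) ^ chevF4.cartan 2 s *
        c (e 3) ^ chevF4.cartan 3 s := by
    intro s
    rw [← he.prod_comp (fun i : Fin chevF4.rank => c i ^ chevF4.cartan i s), Fin.prod_univ_four]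
    rfl
  rw [prodE, v39.1, v39.2.1, v39.2.2.1, v39.2.2.2] at e39
  rw [prodE, v45.1, v45.2.1, v45.2.2.1, v45.2.2.2] at e45
  simp only [zpow_zero, zpow_neg, zpow_one, mul_one, one_mul] at e39 e45
  have hc21 : c (e 2) = c (e 1) := (inv_mul_eq_one.1 e39).symm
  rw [hc21, show (c (e 1)) ^ (2 : ℤ) = c (e 1) * c (e 1) by rw [zpow_two], mul_inv_cancel_right] at e45
  rw [e45] at hc21
  suffices h : c ∈ (vTarget F).comap (Ok.tG chevF4 F) from h
  rw [← Finset.univ_prod_mulSingle c]
  refine Subgroup.prod_mem _ fun i _ => ?_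
  rw [Subgroup.mem_comap]
  have hi : i.val < 4 := rank_eq ▸ i.isLt
  obtain h0 | h1 | h2 | h3 : i.val = 0 ∨ i.val = 1 ∨ i.val = 2 ∨ i.val = 3 := by omega
  · rw [← F4.ok.hG_simple_eq_tG]
    exact mul_mem (nG_mem_vTarget i (Or.inl h0) _) (nG_mem_vTarget i (Or.inl h0) _)
  · rw [show i = e 1 from Fin.ext h1, e45, Pi.mulSingle_one, map_one]; exact one_mem _
  · rw [show i = e 2 from Fin.ext h2, hc21, Pi.mulSingle_one, map_one]; exact one_mem _
  · rw [← F4.ok.hG_simple_eq_tG]
    exact mul_mem (nG_mem_vTarget i (Or.inr h3) _) (nG_mem_vTarget i (Or.inr h3) _)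

theorem centralizer_v [CharP F 2] :
    chevF4.group F ⊓ Subgroup.centralizer {F4.ok.xG 39 (1 : F) * F4.ok.xG 45 1} = vTarget F := by
  refine le_antisymm ?_ vTarget_le
  set v := F4.ok.xG 39 (1 : F) * F4.ok.xG 45 1 with hv
  have hK : ∀ g ∈ vTarget F, Commute g v := fun g hg =>
    Subgroup.mem_centralizer_singleton_iff.1 (Subgroup.mem_inf.1 (vTarget_le hg)).2
  rintro g ⟨hg, hgc⟩
  obtain ⟨b, hb, n, hn, W, hW, u, hu, rfl⟩ := F4.struct.normal_form okNeg_F4 hg
  obtain ⟨u0, hu0, d, hd, rfl⟩ := F4.struct.borel_decomp hb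
  have hgc' : Commute (u0 * d * n * u) v := Subgroup.mem_centralizer_singleton_iff.1 hgc
  have hu' : u ∈ chevF4.posUnipotent F := F4.struct.UPsi_le _ hu
  obtain ⟨a1, b1, c1, d1, e1⟩ := conj_U (u := u) hu'
  obtain ⟨a2, b2, c2, d2, e2⟩ := conj_U (u := u0⁻¹) (inv_mem hu0)
  have hact : Act F4.ok (d * n) (F4.struct.wpL W) := by
    simpa using F4.struct.act_mul (F4.struct.act_diag hd) hW
  have heq : (d * n) * (v * z4 a1 b1 c1 d1) * (d * n)⁻¹ = v * z4 a2 b2 c2 d2 := by
    rw [← e1, ← e2, inv_inv,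
      show (d * n) * (u * v * u⁻¹) * (d * n)⁻¹ = u0⁻¹ * ((u0 * d * n * u) * v * (u0 * d * n * u)⁻¹) * u0 by group,
      hgc'.eq, mul_inv_cancel_right]
  have hsix : six.Nodup := by decide +kernel
  have hsixp : ∀ r ∈ six, chevF4.nroots / 2 ≤ r.val := by decide +kernel
  obtain ⟨t1, t2, -⟩ := MixedCent.transport F4.struct okNeg_F4 hact six hsix hsixp
    (fun r hr s hs t u => six_commute hr hs t u) (cz a1 b1 c1 d1) (cz a2 b2 c2 d2)
    (by rw [← six_prod, ← six_pw]; exact heq)
  have hsupp : ∀ (a b c d : F) (r : ℕ), cz a b c d r ≠ 0 → r ∈ [39, 40, 44, 45, 46, 47] := by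
    intro a b c d r h
    simp only [cz] at h
    split_ifs at h with h1 h2 h3 h4 h5
    · rcases h1 with rfl | rfl <;> decide
    · subst h2; decide
    · subst h3; decide
    · subst h4; decide
    · subst h5; decide
    · exact absurd rfl h
  have hone : ∀ (a b c d : F), cz a b c d 39 = 1 ∧ cz a b c d 45 = 1 := fun a b c d => by simp [cz]
  have x39 := hsupp _ _ _ _ _ (t1 (fr 39) (by decide +kernel) (by
    show cz a1 b1 c1 d1 39 ≠ 0
    rw [(hone _ _ _ _).1]; exact one_ne_zero)).2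
  have x45 := hsupp _ _ _ _ _ (t1 (fr 45) (by decide +kernel) (by
    show cz a1 b1 c1 d1 45 ≠ 0
    rw [(hone _ _ _ _).2]; exact one_ne_zero)).2
  have back : ∀ s : Fin chevF4.nroots, (s.val = 39 ∨ s.val = 45) →
      ∃ r ∈ [39, 40, 44, 45, 46, 47], F4.cert.wWord (W.map Fin.val) r = s.val := by
    intro s hs
    obtain ⟨r, hr, e, -⟩ := t2 s (by rw [half_eq]; omega) (by
      rcases hs with hs | hs <;> rw [hs]
      · rw [(hone _ _ _ _).1]; exact one_ne_zero
      · rw [(hone _ _ _ _).2]; exact one_ne_zero)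
    refine ⟨r.val, ?_, by rw [← e, wpL_val']⟩
    rw [← six_vals]; exact List.mem_map.2 ⟨r, hr, rfl⟩
  rw [wpL_val'] at x39 x45
  obtain ⟨A, hA, hWA⟩ := (classify W).2 x39 x45 (back (fr 39) (Or.inl rfl)) (back (fr 45) (Or.inr rfl))
  have hsh := okShort
  simp only [List.all_eq_true, Bool.and_eq_true, Bool.or_eq_true, beq_iff_eq, List.any_eq_true, List.mem_range,
    decide_eq_true_eq] at hsh
  obtain ⟨⟨⟨hlet, -⟩, -⟩, hfour⟩ := hsh A hA
  have hA4 : ∀ i ∈ A, i < chevF4.rank := fun i hi => by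
    rw [rank_eq]; rcases hlet i hi with h | h <;> omega
  set W' : List (Fin chevF4.rank) := A.pmap (fun a ha => ⟨a, ha⟩) hA4 with hW'
  have hWv : W'.map Fin.val = A := by simp [hW', List.map_pmap]
  have hperm : F4.struct.wpL W' = F4.struct.wpL W := Equiv.ext fun s => Fin.ext (by
    rw [wpL_val', wpL_val', hWv, hWA s.val (lt48 s)])
  set m := F4.struct.nL F W' with hm
  have hmK : m ∈ vTarget F := by
    refine list_prod_mem fun x hx => ?_
    obtain ⟨i, hi, rfl⟩ := List.mem_map.1 hx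
    refine nG_mem_vTarget i ?_ 1
    exact hlet i.val (hWv ▸ List.mem_map.2 ⟨i, hi, rfl⟩)
  have hmact : Act F4.ok m (F4.struct.wpL W') := F4.struct.act_nL W'
  -- the torus part
  set d' := d * n * m⁻¹ with hd'def
  have hd' : d' ∈ chevF4.diagonalSubgroup F := by
    have hd'm : d' ∈ chevF4.monomialSubgroup F := by
      refine mul_mem (mul_mem ?_ hn) (inv_mem (F4.struct.nL_mem_mono W'))
      rw [F4.ok.monomialSubgroup_eq]; exact Subgroup.mem_sup_left hd
    obtain ⟨M, hM, hiff⟩ := F4.struct.exists_act hd'm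
    refine hiff.1 (mul_eq_right.1 (?_ : F4.struct.wpL M * F4.struct.wpL W' = F4.struct.wpL W'))
    refine F4.struct.act_unique (F4.struct.act_mul hM hmact) ?_
    rw [hd'def, inv_mul_cancel_right, hperm]; exact hact
  obtain ⟨k0, hk0, α, β, γ, δ, rfl⟩ := exists_tail hu0
  have htail : m⁻¹ * tail α β γ δ * m ∈ chevF4.posUnipotent F := by
    have base : ∀ r ∈ four, ∀ t : F, m⁻¹ * F4.ok.xG r t * m ∈ chevF4.posUnipotent F := by
      intro r hr t
      obtain ⟨s, hs, hs', e⟩ := hfour r hr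
      obtain ⟨-, c, hc, ec⟩ := hmact ⟨s, ltN hs⟩
      have h1 : (F4.struct.wpL W' ⟨s, ltN hs⟩).val = r := by rw [wpL_val', hWv]; exact e
      have h2 : m * F4.ok.xG s (c⁻¹ * t) * m⁻¹ = F4.ok.xG r t := by
        rw [(ec _).1, h1, ← mul_assoc, mul_inv_cancel₀ hc, one_mul]
      rw [← h2, show m⁻¹ * (m * F4.ok.xG s (c⁻¹ * t) * m⁻¹) * m = F4.ok.xG s (c⁻¹ * t) by group]
      exact F4.struct.xG_mem_U (half_eq.trans_le hs') (ltN hs) _
    rw [tail, show ∀ p q r s : GL chevF4.Idx F, m⁻¹ * (p * (q * (r * s))) * m =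
      m⁻¹ * p * m * (m⁻¹ * q * m * (m⁻¹ * r * m * (m⁻¹ * s * m))) from fun p q r s => by group]
    exact mul_mem (base 34 (by decide) α) (mul_mem (base 27 (by decide) β)
      (mul_mem (base 26 (by decide) γ) (base 25 (by decide) δ)))
  set h := m⁻¹ * d' * m with hh
  have hhd : h ∈ chevF4.diagonalSubgroup F := by
    have := F4.struct.norm_diag (inv_mem (F4.struct.nL_mem_mono (F := F) W')) hd'
    rwa [inv_inv] at this
  set u2 := h⁻¹ * (m⁻¹ * tail α β γ δ * m) * h * u with hu2
  have hu2m : u2 ∈ chevF4.posUnipotent F := by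
    refine mul_mem ?_ hu'
    have := (Subgroup.mem_normalizer_iff.1 (F4.struct.diag_normalises_U (inv_mem hhd))
      (m⁻¹ * tail α β γ δ * m)).1 htail
    rwa [inv_inv] at this
  have hsplit : k0 * tail α β γ δ * d * n * u = k0 * m * (h * u2) := by
    rw [hu2, hh, hd'def]; group
  rw [hsplit] at hgc' ⊢
  have hkm : k0 * m ∈ vTarget F := mul_mem (kPos_le hk0) hmK
  have hhu : Commute (h * u2) v := by
    have := (hK _ (inv_mem hkm)).mul_left hgc'
    rwa [inv_mul_cancel_left] at this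
  obtain ⟨k2, hk2, α', β', γ', δ', e3⟩ := exists_tail hu2m
  obtain ⟨a3, b3, c3, d3, e4⟩ := conj_U hu2m
  have heq2 : h * (v * z4 a3 b3 c3 d3) * h⁻¹ = v * z4 0 0 0 0 := by
    rw [z4_zero, mul_one, ← e4, show h * (u2 * v * u2⁻¹) * h⁻¹ = (h * u2) * v * (h * u2)⁻¹ by group, hhu.eq,
      mul_inv_cancel_right]
  obtain ⟨s1, -, s3⟩ := MixedCent.transport F4.struct okNeg_F4 (F4.struct.act_diag hhd) six hsix hsixp
    (fun r hr s hs t u => six_commute hr hs t u) (cz a3 b3 c3 d3) (cz 0 0 0 0)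
    (by rw [← six_prod, ← six_pw]; exact heq2)
  have hz : a3 = 0 ∧ b3 = 0 ∧ c3 = 0 ∧ d3 = 0 := by
    refine ⟨?_, ?_, ?_, ?_⟩
    · by_contra h0
      exact (s1 (fr 40) (by decide +kernel) (by simpa [cz, fr] using h0)).2 (by simp [cz, fr])
    · by_contra h0
      exact (s1 (fr 44) (by decide +kernel) (by simpa [cz, fr] using h0)).2 (by simp [cz, fr])
    · by_contra h0
      exact (s1 (fr 46) (by decide +kernel) (by simpa [cz, fr] using h0)).2 (by simp [cz, fr])
    · by_contra h0
      exact (s1 (fr 47) (by decide +kernel) (by simpa [cz, fr] using h0)).2 (by simp [cz, fr])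
  obtain ⟨rfl, rfl, rfl, rfl⟩ := hz
  rw [z4_zero, mul_one] at e4
  have hu2c : Commute u2 v := mul_inv_eq_iff_eq_mul.1 e4
  -- the tail of `u2` is trivial
  have hu2K : u2 ∈ vTarget F := by
    have ht : Commute (tail α' β' γ' δ') v := by
      have := (kPos_centralizes hk2).inv_left.mul_left hu2c
      rwa [e3, inv_mul_cancel_left] at this
    have e5 := conj_tail α' β' γ' δ'
    rw [ht.eq, mul_inv_cancel_right] at e5
    have e7 : F4.struct.pw (chevF4.nroots / 2) (cz (0 : F) 0 0 0) =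
        F4.struct.pw (chevF4.nroots / 2) (cz β' α' δ' γ') := by
      rw [← six_pw, ← six_pw, z4_zero, mul_one, ← e5]
    have hinj := F4.struct.pw_inj (chevF4.nroots - chevF4.nroots / 2) (chevF4.nroots / 2) (by omega) le_rfl _ _ e7
    have hcoef : ∀ r : ℕ, 24 ≤ r → r < 48 → cz (0 : F) 0 0 0 r = cz β' α' δ' γ' r := fun r h1 h2 =>
      hinj r (half_eq.trans_le h1) (ltN h2)
    have hβ : β' = 0 := by simpa [cz, eq_comm] using hcoef 40 (by norm_num) (by norm_num)
    have hα : α' = 0 := by simpa [cz, eq_comm] using hcoef 44 (by norm_num) (by norm_num)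
    have hδ : δ' = 0 := by simpa [cz, eq_comm] using hcoef 46 (by norm_num) (by norm_num)
    have hγ : γ' = 0 := by simpa [cz, eq_comm] using hcoef 47 (by norm_num) (by norm_num)
    rw [e3, hα, hβ, hγ, hδ]
    simpa [tail] using kPos_le hk2
  have hhc : Commute h v := by
    have := hhu.mul_left hu2c.inv_left
    rwa [mul_inv_cancel_right] at this
  have hfix : ∀ r ∈ six, r.val = 39 ∨ r.val = 45 → h * F4.ok.xG r.val 1 * h⁻¹ = F4.ok.xG r.val 1 := by
    intro r hr hr'
    obtain ⟨-, s, -, es⟩ := F4.struct.act_diag hhd r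
    have hcr : cz (0 : F) 0 0 0 r.val = 1 := by rcases hr' with e | e <;> simp [cz, e]
    have h3 := s3 r hr (by rw [hcr]; exact one_ne_zero) s (fun t => (es t).1)
    rw [Equiv.Perm.one_apply, hcr, mul_one] at h3
    rw [(es 1).1, Equiv.Perm.one_apply, ← h3, mul_one]
  exact mul_mem hkm (mul_mem (diag_mem_vTarget hhd (hfix (fr 39) (by decide +kernel) (Or.inl rfl))
    (hfix (fr 45) (by decide +kernel) (Or.inr rfl))) hu2K)

end Cfsg.Lib.Known.MixedF4
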