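import Cfsg.Agent.Known.MixedCent

/-! The two mixed involutions of `F₄` in characteristic two: tables and centralizers. -/

set_option autoImplicit false

open Cfsg.Lie Cfsg.Lib.Chev
open Cfsg.Lib.Known.RootCent (okEven commute_of_even)

namespace Cfsg.Lib.Known.MixedF4

/-- Coset representatives of the stabilizer of the highest root. -/
def tCos : List (List ℕ) :=
  [[], [3], [2, 3], [1, 2, 3], [0, 1, 2, 3], [2, 1, 2, 3], [2, 0, 1, 2, 3], [3, 2, 1, 2, 3],
    [1, 2, 0, 1, 2, 3], [3, 2, 0, 1, 2, 3], [2, 1, 2, 0, 1, 2, 3], [3, 1, 2, 0, 1, 2, 3],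
    [3, 2, 1, 2, 0, 1, 2, 3], [2, 3, 1, 2, 0, 1, 2, 3], [2, 3, 2, 1, 2, 0, 1, 2, 3],
    [1, 2, 3, 1, 2, 0, 1, 2, 3], [1, 2, 3, 2, 1, 2, 0, 1, 2, 3], [0, 1, 2, 3, 1, 2, 0, 1, 2, 3],
    [0, 1, 2, 3, 2, 1, 2, 0, 1, 2, 3], [2, 1, 2, 3, 2, 1, 2, 0, 1, 2, 3],
    [2, 0, 1, 2, 3, 2, 1, 2, 0, 1, 2, 3], [1, 2, 0, 1, 2, 3, 2, 1, 2, 0, 1, 2, 3],
    [2, 1, 2, 0, 1, 2, 3, 2, 1, 2, 0, 1, 2, 3], [3, 2, 1, 2, 0, 1, 2, 3, 2, 1, 2, 0, 1, 2, 3]]

/-- The stabilizer of the highest root. -/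
def tStab : List (List ℕ) :=
  [[], [0], [1], [2], [1, 0], [2, 0], [0, 1], [2, 1], [1, 2], [0, 1, 0], [2, 1, 0], [1, 2, 0],
    [2, 0, 1], [1, 2, 1], [0, 1, 2], [2, 1, 2], [2, 0, 1, 0], [1, 2, 1, 0], [0, 1, 2, 0],
    [2, 1, 2, 0], [1, 2, 0, 1], [0, 1, 2, 1], [2, 1, 2, 1], [2, 0, 1, 2], [1, 2, 0, 1, 0],
    [0, 1, 2, 1, 0], [2, 1, 2, 1, 0], [2, 0, 1, 2, 0], [0, 1, 2, 0, 1], [2, 1, 2, 0, 1],
    [2, 0, 1, 2, 1], [1, 2, 0, 1, 2], [0, 1, 2, 0, 1, 0], [2, 1, 2, 0, 1, 0], [2, 0, 1, 2, 1, 0],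
    [1, 2, 0, 1, 2, 0], [2, 0, 1, 2, 0, 1], [1, 2, 0, 1, 2, 1], [2, 1, 2, 0, 1, 2],
    [2, 0, 1, 2, 0, 1, 0], [1, 2, 0, 1, 2, 1, 0], [2, 1, 2, 0, 1, 2, 0], [1, 2, 0, 1, 2, 0, 1],
    [2, 1, 2, 0, 1, 2, 1], [1, 2, 0, 1, 2, 0, 1, 0], [2, 1, 2, 0, 1, 2, 1, 0],
    [2, 1, 2, 0, 1, 2, 0, 1], [2, 1, 2, 0, 1, 2, 0, 1, 0]]

/-- Left multiplication of coset representatives by fundamental reflections. -/
def mCos : List (List (ℕ × ℕ)) :=
  [[(0, 1), (0, 2), (0, 3), (1, 0)], [(1, 1), (1, 2), (2, 0), (0, 0)],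
    [(2, 1), (3, 0), (1, 0), (2, 3)], [(4, 0), (2, 0), (5, 0), (3, 3)],
    [(3, 0), (4, 1), (6, 0), (4, 3)], [(6, 0), (5, 2), (3, 0), (7, 0)],
    [(5, 0), (8, 0), (4, 0), (9, 0)], [(9, 0), (7, 2), (7, 3), (5, 0)],
    [(8, 2), (6, 0), (10, 0), (11, 0)], [(7, 0), (11, 0), (9, 3), (6, 0)],
    [(10, 2), (10, 1), (8, 0), (12, 0)], [(11, 2), (9, 0), (13, 0), (8, 0)],
    [(12, 2), (12, 1), (14, 0), (10, 0)], [(13, 2), (15, 0), (11, 0), (14, 0)],
    [(14, 2), (16, 0), (12, 0), (13, 0)], [(17, 0), (13, 0), (15, 3), (16, 0)],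
    [(18, 0), (14, 0), (19, 0), (15, 0)], [(15, 0), (17, 2), (17, 3), (18, 0)],
    [(16, 0), (18, 2), (20, 0), (17, 0)], [(20, 0), (19, 1), (16, 0), (19, 3)],
    [(19, 0), (21, 0), (18, 0), (20, 3)], [(21, 1), (20, 0), (22, 0), (21, 3)],
    [(22, 1), (22, 2), (21, 0), (23, 0)], [(23, 1), (23, 2), (23, 3), (22, 0)]]

/-- Left multiplication inside the stabilizer. -/
def mStab : List (List ℕ) :=
  [[1, 2, 3], [0, 4, 5], [6, 0, 7], [5, 8, 0], [9, 1, 10], [3, 11, 1], [2, 9, 12], [12, 13, 2],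
    [14, 3, 15], [4, 6, 16], [16, 17, 4], [18, 5, 19], [7, 20, 6], [21, 7, 22], [8, 18, 23],
    [23, 22, 8], [10, 24, 9], [25, 10, 26], [11, 14, 27], [27, 26, 11], [28, 12, 29], [13, 28, 30],
    [30, 15, 13], [15, 31, 14], [32, 16, 33], [17, 32, 34], [34, 19, 17], [19, 35, 18], [20, 21, 36],
    [36, 33, 20], [22, 37, 21], [37, 23, 38], [24, 25, 39], [39, 29, 24], [26, 40, 25], [40, 27, 41],
    [29, 42, 28], [31, 30, 43], [43, 41, 31], [33, 44, 32], [35, 34, 45], [45, 38, 35], [44, 36, 46],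
    [38, 46, 37], [42, 39, 47], [41, 47, 40], [47, 43, 42], [46, 45, 44]]

variable {F : Type*} [Field F]

local notation "cF" => Cfsg.Lib.Chev.F4.cert
local notation "sF" => Cfsg.Lib.Chev.F4.struct

/-- A representative word. -/
def word (a b : ℕ) : List ℕ := tCos.getD a [] ++ tStab.getD b []

/-- Two words act in the same way. -/
noncomputable def sameW (A B : List ℕ) : Bool :=
  (List.range 48).all fun s => (cF).wWord A s == (cF).wWord B s

/-- The tables describe the whole Weyl group. -/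
noncomputable def okCosets : Bool :=
  (tCos.getD 0 [] == []) && (tStab.getD 0 [] == []) &&
  ((List.range 24).all fun a => (tCos.getD a []).all (fun i => decide (i < 4)) &&
    (List.range 4).all fun i =>
      let p := (mCos.getD a []).getD i (0, 0)
      decide (p.1 < 24) && decide (p.2 < 48) && sameW (i :: tCos.getD a []) (word p.1 p.2)) &&
  ((List.range 48).all fun b => (tStab.getD b []).all (fun i => decide (i < 3)) &&
    (List.range 3).all fun j =>
      decide ((mStab.getD b []).getD j 0 < 48) &&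
        sameW (j :: tStab.getD b []) (tStab.getD ((mStab.getD b []).getD j 0) []))

theorem okCosets_eq : okCosets = true := by decide +kernel

theorem wWord_append (C : Cert) : ∀ (A B : List ℕ) (s : ℕ), C.wWord (A ++ B) s = C.wWord A (C.wWord B s)
  | [], _, _ => rfl
  | i :: A, B, s => by
    show C.w i (C.wWord (A ++ B) s) = C.w i (C.wWord A (C.wWord B s))
    rw [wWord_append C A B s]

theorem wWord_lt : ∀ (A : List ℕ), (∀ i ∈ A, i < 4) → ∀ s < 48, (cF).wWord A s < 48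
  | [], _, _, hs => hs
  | i :: A, hA, s, hs => F4.ok.w_lt (hA i (by simp)) (wWord_lt A (fun j hj => hA j (by simp [hj])) s hs)

theorem sameW_spec {A B : List ℕ} (h : sameW A B = true) {s : ℕ} (hs : s < 48) :
    (cF).wWord A s = (cF).wWord B s := by
  simp only [sameW, List.all_eq_true, beq_iff_eq, List.mem_range] at h
  exact h s hs

theorem stab_mul : ∀ (A : List ℕ), (∀ i ∈ A, i < 3) → ∀ b < 48, ∃ b' < 48, ∀ s < 48,
    (cF).wWord A ((cF).wWord (tStab.getD b []) s) = (cF).wWord (tStab.getD b' []) s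
  | [], _, b, hb => ⟨b, hb, fun _ _ => rfl⟩
  | j :: A, hA, b, hb => by
    obtain ⟨b', hb', e⟩ := stab_mul A (fun i hi => hA i (by simp [hi])) b hb
    have h := okCosets_eq
    simp only [okCosets, Bool.and_eq_true, List.all_eq_true, decide_eq_true_eq, List.mem_range] at h
    obtain ⟨-, h2⟩ := h
    obtain ⟨h3, h4⟩ := (h2 b' hb').2 j (hA j (by simp))
    refine ⟨_, h3, fun s hs => ?_⟩
    rw [← sameW_spec h4 hs]
    show (cF).w j ((cF).wWord A _) = (cF).w j ((cF).wWord _ s)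
    rw [e s hs]

theorem exists_rep : ∀ (A : List ℕ), (∀ i ∈ A, i < 4) → ∃ a < 24, ∃ b < 48, ∀ s < 48,
    (cF).wWord A s = (cF).wWord (word a b) s
  | [], _ => ⟨0, by norm_num, 0, by norm_num, fun s _ => rfl⟩
  | i :: A, hA => by
    obtain ⟨a, ha, b, hb, e⟩ := exists_rep A (fun j hj => hA j (by simp [hj]))
    have h := okCosets_eq
    simp only [okCosets, Bool.and_eq_true, List.all_eq_true, decide_eq_true_eq, List.mem_range] at h
    obtain ⟨⟨hp1, hp2⟩, hp3⟩ : (((mCos.getD a []).getD i (0, 0)).1 < 24 ∧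
        ((mCos.getD a []).getD i (0, 0)).2 < 48) ∧
        sameW (i :: tCos.getD a []) (word ((mCos.getD a []).getD i (0, 0)).1 ((mCos.getD a []).getD i (0, 0)).2) = true :=
      (h.1.2 a ha).2 i (hA i (by simp))
    set a' := ((mCos.getD a []).getD i (0, 0)).1
    set c := ((mCos.getD a []).getD i (0, 0)).2
    obtain ⟨d, hd, e'⟩ := stab_mul (tStab.getD c []) (h.2 c hp2).1 b hb
    refine ⟨a', hp1, d, hd, fun s hs => ?_⟩
    have hbs : (cF).wWord (tStab.getD b []) s < 48 :=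
      wWord_lt _ (fun j hj => by have := (h.2 b hb).1 j hj; omega) s hs
    calc (cF).wWord (i :: A) s = (cF).w i ((cF).wWord (word a b) s) := by
          show (cF).w i ((cF).wWord A s) = _
          rw [e s hs]
      _ = (cF).wWord (i :: tCos.getD a []) ((cF).wWord (tStab.getD b []) s) := by
          rw [word, wWord_append]; rfl
      _ = (cF).wWord (word a' c) ((cF).wWord (tStab.getD b []) s) := sameW_spec hp3 hbs
      _ = (cF).wWord (word a' d) s := by rw [word, word, wWord_append, wWord_append, e' s hs]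

/-- The words of the Levi subgroup of the second involution. -/
def short4 : List (List ℕ) := [[], [0], [3], [3, 0]]

/-- The classification of the Weyl elements compatible with the two involutions. -/
noncomputable def okSurvivors : Bool :=
  (List.range 24).all fun a => (List.range 48).all fun b =>
    let w := fun s => (cF).wWord (word a b) s
    (!([44, 47].contains (w 44) && [44, 47].contains (w 47)) || (w 44 == 44 && w 47 == 47)) &&
    (!([39, 40, 44, 45, 46, 47].contains (w 39) && [39, 40, 44, 45, 46, 47].contains (w 45) &&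
        [39, 40, 44, 45, 46, 47].any (fun r => w r == 39) && [39, 40, 44, 45, 46, 47].any (fun r => w r == 45)) ||
      short4.any (fun A => sameW (word a b) A))

theorem okSurvivors_eq : okSurvivors = true := by decide +kernel

theorem wpL_val' (W : List (Fin chevF4.rank)) (s : Fin chevF4.nroots) :
    ((sF).wpL W s).val = (cF).wWord (W.map Fin.val) s.val := RootPairs.wpL_val sF W s

theorem classify (W : List (Fin chevF4.rank)) :
    ((cF).wWord (W.map Fin.val) 44 ∈ [44, 47] → (cF).wWord (W.map Fin.val) 47 ∈ [44, 47] →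
      (cF).wWord (W.map Fin.val) 44 = 44 ∧ (cF).wWord (W.map Fin.val) 47 = 47) ∧
    ((cF).wWord (W.map Fin.val) 39 ∈ [39, 40, 44, 45, 46, 47] →
      (cF).wWord (W.map Fin.val) 45 ∈ [39, 40, 44, 45, 46, 47] →
      (∃ r ∈ [39, 40, 44, 45, 46, 47], (cF).wWord (W.map Fin.val) r = 39) →
      (∃ r ∈ [39, 40, 44, 45, 46, 47], (cF).wWord (W.map Fin.val) r = 45) →
      ∃ A ∈ short4, ∀ s < 48, (cF).wWord (W.map Fin.val) s = (cF).wWord A s) := by
  obtain ⟨a, ha, b, hb, e⟩ := exists_rep (W.map Fin.val) (fun i hi => by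
    obtain ⟨j, -, rfl⟩ := List.mem_map.1 hi
    exact j.isLt)
  have h := okSurvivors_eq
  simp only [okSurvivors, List.all_eq_true, Bool.and_eq_true, Bool.or_eq_true, Bool.not_eq_true',
    List.mem_range, Bool.and_eq_false_iff, List.contains_iff_mem, List.any_eq_true, beq_iff_eq,
    decide_eq_true_eq] at h
  obtain ⟨h1, h2⟩ := h a ha b hb
  refine ⟨fun x y => ?_, fun x y z z' => ?_⟩
  · rw [e 44 (by norm_num)] at x ⊢
    rw [e 47 (by norm_num)] at y ⊢
    refine h1.resolve_left fun hh => ?_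
    rcases hh with hh | hh
    · exact Bool.false_ne_true (hh.symm.trans (List.contains_iff_mem.2 x))
    · exact Bool.false_ne_true (hh.symm.trans (List.contains_iff_mem.2 y))
  · obtain ⟨r, hr, er⟩ := z
    obtain ⟨r', hr', er'⟩ := z'
    rw [e 39 (by norm_num)] at x
    rw [e 45 (by norm_num)] at y
    have hlt : ∀ r ∈ [39, 40, 44, 45, 46, 47], r < 48 := by decide
    rw [e r (hlt r hr)] at er
    rw [e r' (hlt r' hr')] at er'
    obtain ⟨A, hA, hs⟩ := h2.resolve_left fun hh => by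
      rcases hh with ((hh | hh) | hh) | hh
      · exact Bool.false_ne_true (hh.symm.trans (List.contains_iff_mem.2 x))
      · exact Bool.false_ne_true (hh.symm.trans (List.contains_iff_mem.2 y))
      · exact Bool.false_ne_true (hh.symm.trans (List.any_eq_true.2 ⟨r, hr, beq_iff_eq.2 er⟩))
      · exact Bool.false_ne_true (hh.symm.trans (List.any_eq_true.2 ⟨r', hr', beq_iff_eq.2 er'⟩))
    exact ⟨A, hA, fun s hs' => (e s hs').trans (sameW_spec hs hs')⟩

end Cfsg.Lib.Known.MixedF4
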