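import Cfsg.Agent.Classical.WreathSylowTwo.Main
import Cfsg.Agent.Classical.WreathSylowTwo.Monomial
import Cfsg.Prelude.Def_Transfer

/-!
The normal 2-rank of the Sylow 2-subgroups of general linear and symplectic groups in odd characteristic.
-/

set_option autoImplicit false
set_option linter.unusedSectionVars false
set_option linter.style.haveILetI false

namespace Cfsg.Lib.Known.NormalTwoRank

open Matrix Cfsg.Lib.WreathSylowTwo Cfsg.Lib.OrthSylowTwo

section Group

variable {Γ : Type*} [Group Γ]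

/-- The normal 2-rank of every Sylow 2-subgroup is `k`. -/
def NormRank (Γ : Type*) [Group Γ] (k : ℕ) : Prop :=
  ∀ S : Sylow 2 Γ, (∃ E : Subgroup ↥(S : Subgroup Γ), E.Normal ∧ Cfsg.IsElementaryAbelian 2 E ∧ 2 ^ k ≤ Nat.card ↥E) ∧
    ∀ E : Subgroup ↥(S : Subgroup Γ), E.Normal → Cfsg.IsElementaryAbelian 2 E → Nat.card ↥E ≤ 2 ^ k

/-- Commuting involutions. -/
def EA (E : Subgroup Γ) : Prop := ∀ a ∈ E, a * a = 1 ∧ ∀ b ∈ E, a * b = b * a

theorem ea_map {E : Subgroup Γ} (h : EA E) {H : Type*} [Group H] (f : Γ →* H) : EA (E.map f) := by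
  rintro _ ⟨a, ha, rfl⟩
  refine ⟨by rw [← map_mul, (h a ha).1, map_one], ?_⟩
  rintro _ ⟨b, hb, rfl⟩
  rw [← map_mul, (h a ha).2 b hb, map_mul]

theorem ea_isPGroup {E : Subgroup Γ} (h : EA E) : IsPGroup 2 E := fun a =>
  ⟨1, Subtype.ext (by rw [pow_one, pow_two]; exact (h a a.2).1)⟩

theorem ea_of {E : Subgroup Γ} (h : Cfsg.IsElementaryAbelian 2 E) : EA E := fun a ha =>
  ⟨(pow_two a).symm.trans (h.2 a ha), fun b hb =>
    congrArg Subtype.val (h.1.is_comm.comm (⟨a, ha⟩ : E) ⟨b, hb⟩)⟩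

theorem of_ea {E : Subgroup Γ} (h : EA E) : Cfsg.IsElementaryAbelian 2 E :=
  ⟨⟨⟨fun a b => Subtype.ext ((h a a.2).2 b b.2)⟩⟩, fun a ha => (pow_two a).trans (h a ha).1⟩

/-- A witness in a subgroup of odd index gives both halves. -/
theorem normRank_of [Finite Γ] {k : ℕ} (M E : Subgroup Γ) (hM : ¬ 2 ∣ M.index) (hEM : E ≤ M)
    (hnorm : ∀ g ∈ M, ∀ e ∈ E, g * e * g⁻¹ ∈ E) (hE : EA E) (hcard : 2 ^ k ≤ Nat.card E)
    (hup : ∃ T : Sylow 2 Γ, (T : Subgroup Γ) ≤ M ∧ ∀ D : Subgroup Γ, D ≤ T → EA D →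
      (∀ g ∈ (T : Subgroup Γ), ∀ e ∈ D, g * e * g⁻¹ ∈ D) → Nat.card D ≤ 2 ^ k) :
    NormRank Γ k := by
  classical
  haveI : Fact (Nat.Prime 2) := ⟨Nat.prime_two⟩
  obtain ⟨T, hTM, hT⟩ := hup
  have hET : E ≤ (T : Subgroup Γ) := by
    have hp : IsPGroup 2 (E ⊔ (T : Subgroup Γ) : Subgroup Γ) := by
      refine IsPGroup.to_sup_of_normal_left' (ea_isPGroup hE) T.2 fun g hg => ?_
      rw [Subgroup.mem_normalizer_iff]
      refine fun e => ⟨hnorm g (hTM hg) e, fun h => ?_⟩
      have := hnorm g⁻¹ (M.inv_mem (hTM hg)) _ h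
      simpa [mul_assoc] using this
    exact le_sup_left.trans (T.is_maximal' hp le_sup_right).le
  intro S
  obtain ⟨c, hc⟩ := MulAction.exists_smul_eq Γ T S
  have hmem : ∀ x, x ∈ (S : Subgroup Γ) ↔ c⁻¹ * x * c ∈ (T : Subgroup Γ) := by
    intro x
    rw [← hc, Sylow.coe_subgroup_smul, Subgroup.mem_pointwise_smul_iff_inv_smul_mem]
    simp [MulAut.smul_def]
  refine ⟨⟨(E.map (MulAut.conj c).toMonoidHom).subgroupOf S, ⟨fun e he g => ?_⟩, of_ea ?_, ?_⟩, fun D hD hDE => ?_⟩
  · rw [Subgroup.mem_subgroupOf] at he ⊢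
    obtain ⟨e0, he0, e1⟩ := he
    refine ⟨(c⁻¹ * g.1 * c) * e0 * (c⁻¹ * g.1 * c)⁻¹, hnorm _ (hTM ((hmem _).1 g.2)) _ he0, ?_⟩
    simp only [Subgroup.coe_mul, Subgroup.coe_inv, ← e1, MulEquiv.coe_toMonoidHom, MulAut.conj_apply]
    group
  · intro a ha
    have h := ea_map hE (MulAut.conj c).toMonoidHom
    exact ⟨Subtype.ext (h _ ha).1, fun b hb => Subtype.ext ((h _ ha).2 _ hb)⟩
  · have hle : E.map (MulAut.conj c).toMonoidHom ≤ S := by
      rintro _ ⟨e, he, rfl⟩
      rw [hmem]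
      simpa [mul_assoc] using hET he
    rw [Nat.card_congr (Subgroup.subgroupOfEquivOfLe hle).toEquiv,
      Subgroup.card_map_of_injective (MulEquiv.injective _)]
    exact hcard
  · let D' : Subgroup Γ := (D.map (S : Subgroup Γ).subtype).map (MulAut.conj c⁻¹).toMonoidHom
    have hD' : D' ≤ (T : Subgroup Γ) := by
      rintro _ ⟨_, ⟨d, -, rfl⟩, rfl⟩
      simpa using (hmem _).1 d.2
    have hcardD : Nat.card D' = Nat.card D := by
      rw [Subgroup.card_map_of_injective (MulEquiv.injective _),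
        Subgroup.card_map_of_injective (Subgroup.subtype_injective _)]
    rw [← hcardD]
    refine hT D' hD' (ea_map (ea_map (ea_of hDE) _) _) ?_
    rintro g hg _ ⟨_, ⟨d, hd, rfl⟩, rfl⟩
    have hg' : c * g * c⁻¹ ∈ (S : Subgroup Γ) := by rw [hmem]; simpa [mul_assoc] using hg
    refine ⟨_, ⟨⟨_, hg'⟩ * d * ⟨_, hg'⟩⁻¹, hD.conj_mem d hd _, rfl⟩, ?_⟩
    simp only [MulEquiv.coe_toMonoidHom, MulAut.conj_apply, Subgroup.coe_subtype, Subgroup.coe_mul, Subgroup.coe_inv]
    group

theorem normRank_congr {H : Type*} [Group H] [Finite Γ] [Finite H] {k : ℕ} (e : Γ ≃* H) (h : NormRank Γ k) :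
    NormRank H k := by
  haveI : Fact (Nat.Prime 2) := ⟨Nat.prime_two⟩
  intro S
  let T : Sylow 2 Γ := S.mapSurjective (f := e.symm.toMonoidHom) e.symm.surjective
  let w : ↥(S : Subgroup H) ≃* ↥(T : Subgroup Γ) :=
    (e.symm.subgroupMap (S : Subgroup H)).trans (MulEquiv.subgroupCongr (Sylow.coe_mapSurjective _ S).symm)
  obtain ⟨⟨E, hEn, hE, hEc⟩, hup⟩ := h T
  refine ⟨⟨E.map w.symm.toMonoidHom, hEn.map _ w.symm.surjective, of_ea (ea_map (ea_of hE) _), ?_⟩, fun D hD hDE => ?_⟩
  · rwa [Subgroup.card_map_of_injective (MulEquiv.injective _)]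
  · have := hup (D.map w.toMonoidHom) (hD.map _ w.surjective) (of_ea (ea_map (ea_of hDE) _))
    rwa [Subgroup.card_map_of_injective (MulEquiv.injective _)] at this

/-- Products of a base and permutations. -/
theorem wreath_data [Finite Γ] {m : ℕ} {A : Type*} [Group A] (b : A →* Γ) (τ : Equiv.Perm (Fin m) →* Γ)
    (hb : Function.Injective b) (act : Equiv.Perm (Fin m) → A → A) (hact : ∀ σ a, τ σ * b a = b (act σ a) * τ σ)
    (hdisj : ∀ a σ, b a = τ σ → σ = 1) (Z : Subgroup A) (hZc : ∀ z ∈ Z, ∀ a, z * a = a * z)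
    (hZ : ∀ σ, ∀ z ∈ Z, act σ z ∈ Z) (hZsq : ∀ z ∈ Z, z * z = 1) :
    ∃ M : Subgroup Γ, Nat.card M = Nat.card A * m.factorial ∧ (∀ x, x ∈ M ↔ ∃ a σ, x = b a * τ σ) ∧
      Z.map b ≤ M ∧ (∀ g ∈ M, ∀ e ∈ Z.map b, g * e * g⁻¹ ∈ Z.map b) ∧ EA (Z.map b) := by
  classical
  let M : Subgroup Γ :=
    { carrier := {x | ∃ a σ, x = b a * τ σ}
      one_mem' := ⟨1, 1, by rw [map_one, map_one, mul_one]⟩
      mul_mem' := by
        rintro _ _ ⟨a, σ, rfl⟩ ⟨a', σ', rfl⟩
        refine ⟨a * act σ a', σ * σ', ?_⟩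
        rw [map_mul b, map_mul τ, show b a * τ σ * (b a' * τ σ') = b a * (τ σ * b a') * τ σ' by group, hact]
        group
      inv_mem' := by
        rintro _ ⟨a, σ, rfl⟩
        refine ⟨act σ⁻¹ a⁻¹, σ⁻¹, ?_⟩
        rw [← hact, map_inv b, map_inv τ]
        group }
  have hcard : Nat.card M = Nat.card A * m.factorial := by
    let f : A × Equiv.Perm (Fin m) → M := fun p => ⟨b p.1 * τ p.2, p.1, p.2, rfl⟩
    have hf : Function.Bijective f := by
      refine ⟨fun p p' h => ?_, fun ⟨x, a, σ, hx⟩ => ⟨(a, σ), Subtype.ext hx.symm⟩⟩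
      have h' : b p.1 * τ p.2 = b p'.1 * τ p'.2 := congrArg Subtype.val h
      have h1 : b (p'.1⁻¹ * p.1) = τ (p'.2 * p.2⁻¹) := by
        rw [map_mul, map_mul, map_inv, map_inv, eq_mul_inv_iff_mul_eq, mul_assoc, h']
        group
      have h2 : p'.2 = p.2 := mul_inv_eq_one.1 (hdisj _ _ h1)
      rw [h2] at h'
      exact Prod.ext (hb (mul_right_cancel h')) h2.symm
    rw [← Nat.card_congr (Equiv.ofBijective f hf), Nat.card_prod, Nat.card_perm, Nat.card_fin]
  refine ⟨M, hcard, fun x => Iff.rfl, ?_, ?_, ?_⟩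
  · rintro _ ⟨z, -, rfl⟩
    exact ⟨z, 1, by rw [map_one, mul_one]⟩
  · rintro _ ⟨a, σ, rfl⟩ _ ⟨z, hz, rfl⟩
    refine ⟨act σ z, hZ σ z hz, ?_⟩
    rw [show b a * τ σ * b z * (b a * τ σ)⁻¹ = b a * (τ σ * b z) * (τ σ)⁻¹ * (b a)⁻¹ by group, hact,
      show b a * (b (act σ z) * τ σ) * (τ σ)⁻¹ * (b a)⁻¹ = b a * b (act σ z) * (b a)⁻¹ by group,
      ← map_mul, ← hZc _ (hZ σ z hz), map_mul, mul_inv_cancel_right]
  · exact ea_map (fun z hz => ⟨hZsq z hz, fun y _ => hZc z hz y⟩) b

end Group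

section Bound

universe v

variable {F : Type*} [Field F]

/-- Commuting involutions on a space split it. -/
theorem split_or_scalar {V : Type v} [AddCommGroup V] [Module F V] [FiniteDimensional F V] (h2 : (2 : F) ≠ 0)
    (ρ : V →ₗ[F] V) (hρ : ∀ x, ρ (ρ x) = x) :
    (∀ x, ρ x = x) ∨ (∀ x, ρ x = -x) ∨
      ∃ P N : Submodule F V, (∀ x ∈ P, ρ x = x) ∧ (∀ x ∈ N, ρ x = -x) ∧ (∀ x, ρ x = x → x ∈ P) ∧
        (∀ x, ρ x = -x → x ∈ N) ∧
        Module.finrank F P + Module.finrank F N = Module.finrank F V ∧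
        Module.finrank F P ≠ 0 ∧ Module.finrank F N ≠ 0 ∧ ∀ x, ∃ a ∈ P, ∃ b ∈ N, x = a + b := by
  let P : Submodule F V := LinearMap.ker (ρ - LinearMap.id)
  let N : Submodule F V := LinearMap.ker (ρ + LinearMap.id)
  have hP : ∀ x, x ∈ P ↔ ρ x = x := fun x => by
    rw [LinearMap.mem_ker, LinearMap.sub_apply, LinearMap.id_apply, sub_eq_zero]
  have hN : ∀ x, x ∈ N ↔ ρ x = -x := fun x => by
    rw [LinearMap.mem_ker, LinearMap.add_apply, LinearMap.id_apply, add_eq_zero_iff_eq_neg]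
  have hdec : ∀ x, ∃ a ∈ P, ∃ b ∈ N, x = a + b := fun x => by
    refine ⟨(2 : F)⁻¹ • (x + ρ x), ?_, (2 : F)⁻¹ • (x - ρ x), ?_, ?_⟩
    · rw [hP, map_smul, map_add, hρ, add_comm]
    · rw [hN, map_smul, map_sub, hρ, ← smul_neg, neg_sub]
    · rw [← smul_add, show x + ρ x + (x - ρ x) = (2 : F) • x by rw [two_smul]; abel, smul_smul,
        inv_mul_cancel₀ h2, one_smul]
  by_cases hPb : P = ⊥
  · refine Or.inr (Or.inl fun x => ?_)
    obtain ⟨a, ha, b, hb, rfl⟩ := hdec x
    rw [hPb, Submodule.mem_bot] at ha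
    subst ha
    rw [zero_add, (hN b).1 hb]
  by_cases hNb : N = ⊥
  · refine Or.inl fun x => ?_
    obtain ⟨a, ha, b, hb, rfl⟩ := hdec x
    rw [hNb, Submodule.mem_bot] at hb
    subst hb
    rw [add_zero, (hP a).1 ha]
  refine Or.inr (Or.inr ⟨P, N, fun x => (hP x).1, fun x => (hN x).1, fun x => (hP x).2, fun x => (hN x).2,
    ?_, fun h => hPb (Submodule.finrank_eq_zero.1 h), fun h => hNb (Submodule.finrank_eq_zero.1 h), hdec⟩)
  refine Submodule.finrank_add_eq_of_isCompl ⟨?_, ?_⟩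
  · rw [disjoint_iff, Submodule.eq_bot_iff]
    intro x hx
    have h1 := (hP x).1 hx.1
    rw [(hN x).1 hx.2, neg_eq_iff_add_eq_zero, ← two_smul F x] at h1
    exact (smul_eq_zero.1 h1).resolve_left h2
  · rw [codisjoint_iff, Submodule.eq_top_iff']
    intro x
    obtain ⟨a, ha, b, hb, rfl⟩ := hdec x
    exact Submodule.add_mem_sup ha hb

/-- A group of commuting involutive maps, possibly fixing a nondegenerate alternating form, is small. -/
theorem card_le_aux {F : Type*} [Field F] (h2 : (2 : F) ≠ 0) {G : Type*} [Group G] [Finite G] (n : ℕ) :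
    ∀ {V : Type v} [AddCommGroup V] [Module F V] [FiniteDimensional F V], Module.finrank F V ≤ n →
      ∀ (E : Subgroup G) (ρ : G → V →ₗ[F] V),
        (∀ a ∈ E, ∀ b ∈ E, ρ (a * b) = ρ a ∘ₗ ρ b) → (∀ a ∈ E, ∀ x, ρ a (ρ a x) = x) →
        (∀ a ∈ E, ∀ b ∈ E, ∀ x, ρ a (ρ b x) = ρ b (ρ a x)) → (∀ a ∈ E, (∀ x, ρ a x = x) → a = 1) →
        Nat.card E ≤ 2 ^ Module.finrank F V ∧
        ((∃ B : V →ₗ[F] V →ₗ[F] F, (∀ x, B x x = 0) ∧ (∀ x, (∀ y, B x y = 0) → x = 0) ∧
          ∀ a ∈ E, ∀ x y, B (ρ a x) (ρ a y) = B x y) → Nat.card E ^ 2 ≤ 2 ^ Module.finrank F V) := by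
  induction n using Nat.strong_induction_on generalizing G with
  | _ n ih =>
  intro V _ _ _ hn E ρ hmul hinv hcomm hfaith
  classical
  by_cases hsc : ∀ a ∈ E, (∀ x, ρ a x = x) ∨ ∀ x, ρ a x = -x
  · by_cases hz : Module.finrank F V = 0
    · have : Subsingleton V := Module.finrank_zero_iff.1 hz
      have hb : E = ⊥ := (Subgroup.eq_bot_iff_forall _).2 fun a ha => hfaith a ha fun x => Subsingleton.elim _ _
      rw [hz, hb, Subgroup.card_bot]
      exact ⟨le_rfl, fun _ => le_rfl⟩
    have hE2 : Nat.card E ≤ 2 := by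
      refine (Nat.card_le_card_of_injective (fun a : E => decide (∀ x, ρ a.1 x = x)) fun a b h => ?_).trans (by simp)
      have hab : ∀ x, ρ (a.1 * b.1⁻¹) x = x := by
        have hbb : b.1⁻¹ = b.1 := by
          refine inv_eq_of_mul_eq_one_right (hfaith _ (E.mul_mem b.2 b.2) fun x => ?_)
          rw [hmul _ b.2 _ b.2]
          exact hinv _ b.2 x
        intro x
        rw [hbb, hmul _ a.2 _ b.2]
        show ρ a.1 (ρ b.1 x) = x
        rcases hsc a.1 a.2 with ha | ha <;> rcases hsc b.1 b.2 with hb | hb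
        · rw [hb, ha]
        · rw [ha, hb]
          have hh : decide (∀ x, ρ a.1 x = x) = decide (∀ x, ρ b.1 x = x) := h
          simp only [decide_eq_decide] at hh
          rw [← hb, hh.1 ha]
        · rw [ha, hb]
          have hh : decide (∀ x, ρ a.1 x = x) = decide (∀ x, ρ b.1 x = x) := h
          simp only [decide_eq_decide] at hh
          rw [← ha, hh.2 hb]
        · rw [hb, map_neg, ha, neg_neg]
      exact Subtype.ext (mul_inv_eq_one.1 (hfaith _ (E.mul_mem a.2 (E.inv_mem b.2)) hab))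
    refine ⟨hE2.trans (Nat.le_self_pow hz 2), fun ⟨B, hB0, hBn, _⟩ => ?_⟩
    have h1 : Module.finrank F V ≠ 1 := fun h => by
      obtain ⟨v, hv0, hv⟩ := finrank_eq_one_iff'.1 h
      refine hv0 (hBn v fun y => ?_)
      obtain ⟨c, rfl⟩ := hv y
      rw [map_smul, hB0, smul_zero]
    calc Nat.card E ^ 2 ≤ 2 ^ 2 := Nat.pow_le_pow_left hE2 2
      _ ≤ 2 ^ Module.finrank F V := Nat.pow_le_pow_right two_pos (by omega)
  push Not at hsc
  obtain ⟨e, he, he1, he2⟩ := hsc
  rcases split_or_scalar h2 (ρ e) (hinv e he) with h | h | ⟨P, N, hP, hN, hP', hN', hsum, hP0, hN0, hdec⟩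
  · exact absurd h (fun h => by obtain ⟨x, hx⟩ := he1; exact hx (h x))
  · exact absurd h (fun h => by obtain ⟨x, hx⟩ := he2; exact hx (h x))
  have hPs : ∀ a ∈ E, ∀ x ∈ P, ρ a x ∈ P := fun a ha x hx => hP' _ (by rw [hcomm e he a ha, hP x hx])
  have hNs : ∀ a ∈ E, ∀ x ∈ N, ρ a x ∈ N := fun a ha x hx => hN' _ (by rw [hcomm e he a ha, hN x hx, map_neg])
  -- the kernels of the two restrictions meet trivially
  let resP : G → P →ₗ[F] P := fun a =>
    if h : ∀ x ∈ P, ρ a x ∈ P then (ρ a).restrict h else LinearMap.id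
  let resN : G → N →ₗ[F] N := fun a =>
    if h : ∀ x ∈ N, ρ a x ∈ N then (ρ a).restrict h else LinearMap.id
  have rP : ∀ a ∈ E, ∀ x : P, (resP a x : V) = ρ a x := fun a ha x => by
    simp only [resP, dif_pos (hPs a ha)]; rfl
  have rN : ∀ a ∈ E, ∀ x : N, (resN a x : V) = ρ a x := fun a ha x => by
    simp only [resN, dif_pos (hNs a ha)]; rfl
  have hone : ∀ x, ρ 1 x = x := fun x => by
    have := hinv 1 E.one_mem x
    rwa [← LinearMap.comp_apply, ← hmul 1 E.one_mem 1 E.one_mem, mul_one] at this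
  let KP : Subgroup G :=
    { carrier := {a | a ∈ E ∧ ∀ x ∈ P, ρ a x = x}
      one_mem' := ⟨E.one_mem, fun x _ => hone x⟩
      mul_mem' := fun {a b} ha hb => ⟨E.mul_mem ha.1 hb.1, fun x hx => by
        rw [hmul _ ha.1 _ hb.1, LinearMap.comp_apply, hb.2 x hx, ha.2 x hx]⟩
      inv_mem' := fun {a} ha => ⟨E.inv_mem ha.1, fun x hx => by
        conv_lhs => rw [← ha.2 x hx, ← LinearMap.comp_apply, ← hmul _ (E.inv_mem ha.1) _ ha.1, inv_mul_cancel, hone]⟩ }
  have : (KP.subgroupOf E).Normal := ⟨fun a ha g => by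
    rw [Subgroup.mem_subgroupOf] at ha ⊢
    refine ⟨(g * a * g⁻¹).2, fun x hx => ?_⟩
    show ρ (g.1 * a.1 * g.1⁻¹) x = x
    rw [hmul _ (E.mul_mem g.2 a.2) _ (E.inv_mem g.2), hmul _ g.2 _ a.2, LinearMap.comp_apply, LinearMap.comp_apply,
      ha.2 _ (hPs _ (E.inv_mem g.2) x hx), ← LinearMap.comp_apply, ← hmul _ g.2 _ (E.inv_mem g.2), mul_inv_cancel,
      hone]⟩
  -- the image on `P`
  let Q := ↥E ⧸ KP.subgroupOf E
  let σ : Q → P →ₗ[F] P := fun u => resP u.out.1
  have hσ : ∀ a : E, σ (QuotientGroup.mk a) = resP a.1 := fun a => by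
    refine LinearMap.ext fun x => Subtype.ext ?_
    show (resP (QuotientGroup.mk a : Q).out.1 x : V) = resP a.1 x
    obtain ⟨⟨c, hc⟩, hce⟩ := QuotientGroup.mk_out_eq_mul (KP.subgroupOf E) a
    rw [rP _ (Subtype.prop _), rP _ a.2, hce]
    show ρ (a.1 * c.1) x = ρ a.1 x
    rw [hmul _ a.2 _ c.2, LinearMap.comp_apply, (Subgroup.mem_subgroupOf.1 hc).2 x x.2]
  have ihP := ih (Module.finrank F P) (by omega) (G := Q) (V := P) le_rfl ⊤ σ
    (fun u _ w _ => by
      induction u using QuotientGroup.induction_on with | _ a => ?_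
      induction w using QuotientGroup.induction_on with | _ b => ?_
      rw [← QuotientGroup.mk_mul, hσ, hσ, hσ]
      refine LinearMap.ext fun x => Subtype.ext ?_
      rw [LinearMap.comp_apply, rP _ a.2, rP _ b.2, rP _ (a * b).2]
      exact LinearMap.congr_fun (hmul _ a.2 _ b.2) x.1)
    (fun u _ x => by
      induction u using QuotientGroup.induction_on with | _ a => ?_
      refine Subtype.ext ?_
      rw [hσ, rP _ a.2, rP _ a.2, hinv _ a.2])
    (fun u _ w _ x => by
      induction u using QuotientGroup.induction_on with | _ a => ?_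
      induction w using QuotientGroup.induction_on with | _ b => ?_
      refine Subtype.ext ?_
      rw [hσ, hσ, rP _ a.2, rP _ b.2, rP _ b.2, rP _ a.2, hcomm _ a.2 _ b.2])
    (fun u _ h => by
      induction u using QuotientGroup.induction_on with | _ a => ?_
      rw [QuotientGroup.eq_one_iff, Subgroup.mem_subgroupOf]
      refine ⟨a.2, fun x hx => ?_⟩
      have := congrArg Subtype.val (h ⟨x, hx⟩)
      rwa [hσ, rP _ a.2] at this)
  have ihN := ih (Module.finrank F N) (by omega) (G := G) (V := N) le_rfl KP resN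
    (fun a ha b hb => LinearMap.ext fun x => Subtype.ext (by
      rw [LinearMap.comp_apply, rN _ ha.1, rN _ hb.1, rN _ (E.mul_mem ha.1 hb.1)]
      exact LinearMap.congr_fun (hmul _ ha.1 _ hb.1) x.1))
    (fun a ha x => Subtype.ext (by rw [rN _ ha.1, rN _ ha.1, hinv _ ha.1]))
    (fun a ha b hb x => Subtype.ext (by rw [rN _ ha.1, rN _ hb.1, rN _ hb.1, rN _ ha.1, hcomm _ ha.1 _ hb.1]))
    (fun a ha h => hfaith a ha.1 fun x => by
      obtain ⟨y, hy, z, hz, rfl⟩ := hdec x
      have := congrArg Subtype.val (h ⟨z, hz⟩)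
      rw [rN _ ha.1] at this
      rw [map_add, ha.2 y hy, this])
  have hcard : Nat.card E = Nat.card Q * Nat.card KP := by
    rw [(KP.subgroupOf E).card_eq_card_quotient_mul_card_subgroup,
      Nat.card_congr (Subgroup.subgroupOfEquivOfLe (show KP ≤ E from fun a ha => ha.1)).toEquiv]
  have hQ : Nat.card Q = Nat.card (⊤ : Subgroup Q) := Subgroup.card_top.symm
  rw [hcard, hQ, ← hsum, pow_add]
  refine ⟨Nat.mul_le_mul ihP.1 ihN.1, fun ⟨B, hB0, hBn, hBinv⟩ => ?_⟩
  have horth : ∀ x ∈ P, ∀ y ∈ N, B x y = 0 ∧ B y x = 0 := fun x hx y hy => by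
    have h1 := hBinv e he x y
    have h3 := hBinv e he y x
    rw [hP x hx, hN y hy, map_neg] at h1
    rw [hP x hx, hN y hy, map_neg, LinearMap.neg_apply] at h3
    constructor
    · have : (2 : F) * B x y = 0 := by linear_combination -h1
      exact (mul_eq_zero.1 this).resolve_left h2
    · have : (2 : F) * B y x = 0 := by linear_combination -h3
      exact (mul_eq_zero.1 this).resolve_left h2
  rw [mul_pow]
  refine Nat.mul_le_mul (ihP.2 ⟨LinearMap.compl₁₂ B P.subtype P.subtype, fun x => hB0 x.1, fun x h => ?_, ?_⟩)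
    (ihN.2 ⟨LinearMap.compl₁₂ B N.subtype N.subtype, fun x => hB0 x.1, fun x h => ?_, ?_⟩)
  · refine Subtype.ext (hBn x.1 fun y => ?_)
    obtain ⟨a, ha, b, hb, rfl⟩ := hdec y
    rw [map_add, show B x.1 a = 0 from h ⟨a, ha⟩, (horth x.1 x.2 b hb).1, add_zero]
  · intro u _ x y
    induction u using QuotientGroup.induction_on with | _ a => ?_
    show B (σ _ x : V) (σ _ y : V) = B x.1 y.1
    rw [hσ, rP _ a.2, rP _ a.2, hBinv _ a.2]
  · refine Subtype.ext (hBn x.1 fun y => ?_)
    obtain ⟨a, ha, b, hb, rfl⟩ := hdec y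
    rw [map_add, show B x.1 b = 0 from h ⟨b, hb⟩, (horth a ha x.1 x.2).2, zero_add]
  · intro a ha x y
    show B (resN a x : V) (resN a y : V) = B x.1 y.1
    rw [rN _ ha.1, rN _ ha.1, hBinv _ ha.1]

variable [DecidableEq F]

/-- Commuting involutions among invertible matrices. -/
theorem card_le_matrix [Finite F] (h2 : (2 : F) ≠ 0) {ι : Type v} [Fintype ι] [DecidableEq ι] {G : Type*}
    [Group G] [Finite G] (f : G →* Matrix ι ι F) (hf : Function.Injective f) (E : Subgroup G) (hE : EA E) :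
    Nat.card E ≤ 2 ^ Fintype.card ι ∧
      ((∃ J : Matrix ι ι F, IsUnit J ∧ (∀ x, x ⬝ᵥ J *ᵥ x = 0) ∧ ∀ a ∈ E, (f a)ᵀ * J * f a = J) →
        Nat.card E ^ 2 ≤ 2 ^ Fintype.card ι) := by
  let ρ : G → (ι → F) →ₗ[F] (ι → F) := fun a => Matrix.toLin' (f a)
  have hmul : ∀ a b, ρ (a * b) = ρ a ∘ₗ ρ b := fun a b => by
    show Matrix.toLin' (f (a * b)) = _
    rw [map_mul, Matrix.toLin'_mul]
  obtain ⟨k1, k2⟩ := card_le_aux h2 (Fintype.card ι) (V := ι → F) (by rw [Module.finrank_pi]) E ρ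
    (fun a _ b _ => hmul a b)
    (fun a ha x => by
      rw [← LinearMap.comp_apply, ← hmul, (hE a ha).1]
      show Matrix.toLin' (f 1) x = x
      rw [map_one, Matrix.toLin'_one, LinearMap.id_apply])
    (fun a ha b hb x => by rw [← LinearMap.comp_apply, ← hmul, (hE a ha).2 b hb, hmul, LinearMap.comp_apply])
    (fun a _ h => hf (by
      rw [map_one]
      refine Matrix.toLin'.injective ?_
      rw [Matrix.toLin'_one]
      exact LinearMap.ext h))
  rw [Module.finrank_pi] at k1 k2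
  refine ⟨k1, fun ⟨J, hJu, hJ, hinv⟩ => k2 ⟨Matrix.toLinearMap₂' F J, fun x => ?_, fun x h => ?_, fun a ha x y => ?_⟩⟩
  · rw [Matrix.toLinearMap₂'_apply']; exact hJ x
  · have h1 : ∀ y, (x ᵥ* J) ⬝ᵥ y = 0 := fun y => by
      have := h y
      rwa [Matrix.toLinearMap₂'_apply', Matrix.dotProduct_mulVec] at this
    exact (Matrix.vecMul_injective_iff_isUnit.2 hJu) ((dotProduct_eq_zero _ h1).trans (Matrix.zero_vecMul J).symm)
  · rw [Matrix.toLinearMap₂'_apply', Matrix.toLinearMap₂'_apply']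
    show (f a *ᵥ x) ⬝ᵥ J *ᵥ (f a *ᵥ y) = _
    rw [← Matrix.vecMul_transpose, ← Matrix.dotProduct_mulVec, Matrix.mulVec_mulVec, Matrix.mulVec_mulVec, hinv a ha]

end Bound

section Witness

variable {F : Type*} [Field F] [Fintype F] [DecidableEq F]

/-- A sign as a scalar. -/
def sgn : ℤˣ →* Fˣ := Units.map (Int.castRingHom F).toMonoidHom

theorem sgn_injective (h2 : (2 : F) ≠ 0) : Function.Injective (sgn (F := F)) := by
  intro a b h
  rcases Int.units_eq_one_or a with rfl | rfl <;> rcases Int.units_eq_one_or b with rfl | rfl <;>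
    first
    | rfl
    | (exfalso
       have h' := congrArg Units.val h
       simp [sgn] at h'
       exact h2 (by linear_combination h')
       )
    | (exfalso
       have h' := congrArg Units.val h
       simp [sgn] at h'
       exact h2 (by linear_combination -h'))

theorem sign_sq {k : ℕ} (s : Fin k → ℤˣ) : s * s = 1 := funext fun i => Int.units_mul_self (s i)

theorem not_dvd_index {Γ : Type*} [Group Γ] [Finite Γ] {M : Subgroup Γ}
    (h : padicValNat 2 (Nat.card M) = padicValNat 2 (Nat.card Γ)) : ¬ 2 ∣ M.index := by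
  haveI : Fact (Nat.Prime 2) := ⟨Nat.prime_two⟩
  intro hd
  have h1 := M.card_mul_index
  rw [← h1, padicValNat.mul Nat.card_pos.ne' Subgroup.index_ne_zero_of_finite] at h
  have := one_le_padicValNat_of_dvd Subgroup.index_ne_zero_of_finite hd
  omega

theorem exists_sylow_le {Γ : Type*} [Group Γ] [Finite Γ] {M : Subgroup Γ} (hM : ¬ 2 ∣ M.index) :
    ∃ T : Sylow 2 Γ, (T : Subgroup Γ) ≤ M := by
  haveI : Fact (Nat.Prime 2) := ⟨Nat.prime_two⟩
  obtain ⟨P⟩ : Nonempty (Sylow 2 ↥M) := inferInstance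
  refine ⟨(P.2.map M.subtype).toSylow ?_, Subgroup.map_subtype_le _⟩
  rw [Subgroup.index_map_subtype, Nat.prime_two.dvd_mul]
  rintro (h | h)
  exacts [P.not_dvd_index h, hM h]

theorem padic_GL (hF : Odd (Fintype.card F)) (ι : Type) [Fintype ι] [DecidableEq ι] {n : ℕ}
    (hι : Fintype.card ι = n) (hn : 1 ≤ n) :
    padicValNat 2 (Nat.card (GL ι F)) = padicValNat 2 (∏ j ∈ Finset.range n, (Fintype.card F ^ (j + 1) - 1)) := by
  haveI : Fact (Nat.Prime 2) := ⟨Nat.prime_two⟩
  haveI : Nonempty ι := Fintype.card_pos_iff.mp (by omega)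
  have h1 : 1 < Fintype.card F := Fintype.one_lt_card
  rw [← padic_card_SL hF ι hι hn, ← Cfsg.Lib.Classical.card_SL_mul, Nat.card_eq_fintype_card (α := F),
    Nat.factorization_def _ Nat.prime_two, padicValNat.mul (by omega) Nat.card_pos.ne']

/-- `GL_n` with `q ≡ 1 (mod 4)`. -/
theorem gl_one_mod (hF : Odd (Fintype.card F)) (h4 : Fintype.card F % 4 = 1) (n : ℕ) (hn : 1 ≤ n) :
    NormRank (GL (Fin n) F) n := by
  classical
  haveI : Fact (Nat.Prime 2) := ⟨Nat.prime_two⟩
  have h2 : (2 : F) ≠ 0 := Cfsg.Lib.Classical.Refl.two_ne_zero_of_odd hF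
  let b : (Fin n → Fˣ) →* GL (Fin n) F := (diagHom (F := F) (n := n)).toHomUnits
  let τ : Equiv.Perm (Fin n) →* GL (Fin n) F := (pmatHom (F := F) (n := n)).toHomUnits
  have hb : Function.Injective b := fun f g h => funext fun i => Units.ext (by
    have h' := congrFun (congrFun (congrArg (fun x : GL (Fin n) F => (x : Matrix (Fin n) (Fin n) F)) h) i) i
    change (diagonal fun l => (f l : F)) i i = (diagonal fun l => (g l : F)) i i at h'
    simpa using h')
  have hdisj : ∀ f σ, b f = τ σ → σ = 1 := fun f σ h => Equiv.ext fun i => by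
    by_contra hne
    have h' := congrFun (congrFun (congrArg (fun x : GL (Fin n) F => (x : Matrix (Fin n) (Fin n) F)) h) (σ i)) i
    change (diagonal fun l => (f l : F)) (σ i) i = pmat σ (σ i) i at h'
    rw [pmat_apply, if_pos rfl, diagonal_apply_ne _ (show σ i ≠ i from hne)] at h'
    exact zero_ne_one h'
  let s : (Fin n → ℤˣ) →* (Fin n → Fˣ) := MonoidHom.compLeft (sgn (F := F)) (Fin n)
  have hs : Function.Injective s := fun x y h => funext fun i => sgn_injective h2 (congrFun h i)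
  obtain ⟨M, hMc, -, hEM, hn', hEA⟩ := wreath_data b τ hb (fun σ f => f ∘ σ.symm)
    (fun σ f => Units.ext (pmat_mul_diag σ f)) hdisj s.range (fun z _ a => mul_comm z a)
    (fun σ z ⟨x, hx⟩ => ⟨x ∘ σ.symm, by rw [← hx]; rfl⟩)
    (fun z ⟨x, hx⟩ => by rw [← hx, ← map_mul, sign_sq, map_one])
  have hM : ¬ 2 ∣ M.index := by
    refine not_dvd_index ?_
    rw [padic_GL hF (Fin n) (Fintype.card_fin n) hn, (padic_prod_one_mod hF h4 n).2, hMc, Nat.card_pi,
      Finset.prod_const, Finset.card_univ, Fintype.card_fin, Nat.card_units, Nat.card_eq_fintype_card]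
    have : 1 < Fintype.card F := Fintype.one_lt_card
    rw [padicValNat.mul (pow_ne_zero _ (by omega)) (Nat.factorial_ne_zero n), padicValNat.pow]
  obtain ⟨T, hT⟩ := exists_sylow_le hM
  refine normRank_of M _ hM hEM hn' hEA ?_ ⟨T, hT, fun D _ hD _ => ?_⟩
  · rw [Subgroup.card_map_of_injective hb, ← Nat.card_congr (MonoidHom.ofInjective hs).toEquiv, Nat.card_fun,
      Nat.card_fin, Nat.card_eq_fintype_card, Fintype.card_units_int]
  · have := (card_le_matrix h2 (Units.coeHom (Matrix (Fin n) (Fin n) F)) Units.val_injective D hD).1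
    rwa [Fintype.card_fin] at this

/-- The symplectic groups. -/
theorem symplectic (hF : Odd (Fintype.card F)) (n : ℕ) : NormRank (Matrix.symplecticGroup (Fin n) F) n := by
  classical
  haveI : Fact (Nat.Prime 2) := ⟨Nat.prime_two⟩
  have h2 : (2 : F) ≠ 0 := Cfsg.Lib.Classical.Refl.two_ne_zero_of_odd hF
  have hblk : ∀ f : Fin n → SpecialLinearGroup (Fin 2) F,
      blk (fun i => (f i : Matrix (Fin 2) (Fin 2) F)) ∈ Matrix.symplecticGroup (Fin n) F := by
    intro f
    have hd : ∀ i, (f i : Matrix (Fin 2) (Fin 2) F) 0 0 * (f i : Matrix (Fin 2) (Fin 2) F) 1 1 -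
        (f i : Matrix (Fin 2) (Fin 2) F) 0 1 * (f i : Matrix (Fin 2) (Fin 2) F) 1 0 = 1 := fun i => by
      rw [← Matrix.det_fin_two]; exact (f i).2
    rw [SymplecticGroup.mem_iff, blk_eq, Matrix.J, fromBlocks_transpose, fromBlocks_multiply, fromBlocks_multiply]
    simp only [diagonal_transpose, Matrix.mul_zero, zero_add, add_zero, Matrix.mul_one, Matrix.mul_neg,
      Matrix.neg_mul, diagonal_mul_diagonal, ← diagonal_neg, diagonal_add, ← diagonal_one, ← diagonal_zero]
    congr 1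
    all_goals
      ext a b
      rcases eq_or_ne a b with rfl | hab
      · simp
        first | ring1 | linear_combination -hd a | linear_combination hd a
      · simp [hab]
  have htop : ∀ σ : Equiv.Perm (Fin n), (top σ : Matrix _ _ F) ∈ Matrix.symplecticGroup (Fin n) F := by
    intro σ
    have hP : (pmat σ : Matrix (Fin n) (Fin n) F) * pmat σ⁻¹ = 1 := by
      rw [pmat, pmat, ← Matrix.permMatrix_mul]; simp
    rw [SymplecticGroup.mem_iff, top_eq, Matrix.J, fromBlocks_transpose, fromBlocks_multiply, fromBlocks_multiply]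
    simp [pmat_transpose, hP]
  let b : (Fin n → SpecialLinearGroup (Fin 2) F) →* Matrix.symplecticGroup (Fin n) F :=
    { toFun := fun f => ⟨blk fun i => (f i : Matrix (Fin 2) (Fin 2) F), hblk f⟩
      map_one' := Subtype.ext (map_one blk)
      map_mul' := fun f f' => Subtype.ext (map_mul blk _ _) }
  let τ : Equiv.Perm (Fin n) →* Matrix.symplecticGroup (Fin n) F :=
    { toFun := fun σ => ⟨top σ, htop σ⟩
      map_one' := Subtype.ext (map_one top)
      map_mul' := fun σ σ' => Subtype.ext (map_mul top _ _) }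
  have hb : Function.Injective b := fun f f' h => funext fun i => Subtype.ext
    (congrFun (blk_injective (congrArg Subtype.val h)) i)
  let c2 : ℤˣ →* SpecialLinearGroup (Fin 2) F :=
    { toFun := fun u => ⟨((sgn u : Fˣ) : F) • (1 : Matrix (Fin 2) (Fin 2) F), by
        rw [Matrix.det_smul, Matrix.det_one, mul_one, Fintype.card_fin, ← Units.val_pow_eq_pow_val, ← map_pow,
          pow_two, Int.units_mul_self, map_one, Units.val_one]⟩
      map_one' := Subtype.ext (by simp)
      map_mul' := fun u w => Subtype.ext (show ((sgn (u * w) : Fˣ) : F) • (1 : Matrix (Fin 2) (Fin 2) F) =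
        (((sgn u : Fˣ) : F) • 1) * (((sgn w : Fˣ) : F) • 1) by simp [smul_smul, mul_comm]) }
  let s : (Fin n → ℤˣ) →* (Fin n → SpecialLinearGroup (Fin 2) F) := MonoidHom.compLeft c2 (Fin n)
  have hs : Function.Injective s := fun x y h => funext fun i => sgn_injective h2 (Units.ext (by
    have := congrFun (congrFun (congrArg Subtype.val (congrFun h i)) 0) 0
    change (((sgn (x i) : Fˣ) : F) • (1 : Matrix (Fin 2) (Fin 2) F)) 0 0 =
      (((sgn (y i) : Fˣ) : F) • (1 : Matrix (Fin 2) (Fin 2) F)) 0 0 at this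
    simpa using this))
  obtain ⟨M, hMc, -, hEM, hn', hEA⟩ := wreath_data b τ hb (fun σ f => f ∘ σ.symm)
    (fun σ f => Subtype.ext (top_mul_blk σ _)) (fun f σ h => blk_eq_top _ σ (congrArg Subtype.val h)) s.range
    (fun z ⟨x, hx⟩ a => funext fun i => Subtype.ext (by
      rw [← hx]
      show (((sgn (x i) : Fˣ) : F) • (1 : Matrix (Fin 2) (Fin 2) F)) * (a i : Matrix (Fin 2) (Fin 2) F) =
        (a i : Matrix (Fin 2) (Fin 2) F) * (((sgn (x i) : Fˣ) : F) • 1)
      simp))
    (fun σ z ⟨x, hx⟩ => ⟨x ∘ σ.symm, by rw [← hx]; rfl⟩)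
    (fun z ⟨x, hx⟩ => by rw [← hx, ← map_mul, sign_sq, map_one])
  have h1 : 1 < Fintype.card F := Fintype.one_lt_card
  have hSL : padicValNat 2 (Nat.card (SpecialLinearGroup (Fin 2) F)) = padicValNat 2 (Fintype.card F ^ 2 - 1) := by
    have h := padic_card_SL hF (Fin 2) (Fintype.card_fin 2) (by norm_num)
    rw [Nat.factorization_def _ Nat.prime_two, Finset.prod_range_succ, Finset.prod_range_one, zero_add, pow_one,
      padicValNat.mul (by omega) (pow_sub_ne h1 (by omega))] at h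
    have e2 : 1 + 1 = 2 := rfl
    rw [e2] at h
    omega
  have hM : ¬ 2 ∣ M.index := by
    refine not_dvd_index ?_
    have hP := padic_prod hF h1 n
    rw [hMc, Nat.card_pi, Finset.prod_const, Finset.card_univ, Fintype.card_fin, Cfsg.Lib.Classical.card_symplecticGroup,
      Nat.card_eq_fintype_card (α := F), padicValNat.mul (pow_ne_zero _ Nat.card_pos.ne') (Nat.factorial_ne_zero n),
      padicValNat.mul (pow_ne_zero _ (by omega)) hP.1, padic_q hF, hP.2, padicValNat.pow, hSL]
    ring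
  obtain ⟨T, hT⟩ := exists_sylow_le hM
  refine normRank_of M _ hM hEM hn' hEA ?_ ⟨T, hT, fun D _ hD _ => ?_⟩
  · rw [Subgroup.card_map_of_injective hb, ← Nat.card_congr (MonoidHom.ofInjective hs).toEquiv, Nat.card_fun,
      Nat.card_fin, Nat.card_eq_fintype_card, Fintype.card_units_int]
  · let f : Matrix.symplecticGroup (Fin n) F →* Matrix (Fin n ⊕ Fin n) (Fin n ⊕ Fin n) F :=
      (Matrix.symplecticGroup (Fin n) F).subtype
    have := (card_le_matrix h2 f Subtype.val_injective D hD).2 ⟨Matrix.J (Fin n) F,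
      (Matrix.isUnit_iff_isUnit_det _).2 (Matrix.isUnit_det_J _ _), fun x => ?_, fun a _ => ?_⟩
    · rw [Fintype.card_sum, Fintype.card_fin, ← two_mul, pow_mul'] at this
      exact (Nat.pow_le_pow_iff_left two_ne_zero).1 this
    · simp [Matrix.J, dotProduct, Matrix.mulVec, Fintype.sum_sum_type, Matrix.one_apply, Finset.sum_neg_distrib]
      simp_rw [mul_comm]
      exact neg_add_cancel _
    · exact SymplecticGroup.mem_iff'.1 a.2

set_option maxHeartbeats 800000 in
/-- `GL_n` with `q ≡ 3 (mod 4)`, on an adapted index set. -/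
theorem gl_three_mod (hF : Odd (Fintype.card F)) (h4 : Fintype.card F % 4 = 3) (m ε : ℕ) (hε : ε ≤ 1)
    (hn : 1 ≤ 2 * m + ε) : NormRank (GL ((Fin m ⊕ Fin m) ⊕ Fin ε) F) (m + ε) := by
  classical
  haveI : Fact (Nat.Prime 2) := ⟨Nat.prime_two⟩
  have h2 : (2 : F) ≠ 0 := Cfsg.Lib.Classical.Refl.two_ne_zero_of_odd hF
  have h1 : 1 < Fintype.card F := Fintype.one_lt_card
  -- the group of a block
  obtain ⟨R, hRR, hR2, hRc, hRmem⟩ := exists_two_part (rotGL (F := F)) rotGL_comm
  let N2 : Subgroup (GL (Fin 2) F) := Subgroup.normalizer (rotGL (F := F) : Set (GL (Fin 2) F))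
  obtain ⟨C, E2, -, -, hCE, -, hE2c, -, -, -, -, -, -, -, -, -⟩ := exists_gl_group (F := F) hF h4
  let bM : (Fin m → Matrix (Fin 2) (Fin 2) F) × (Fin ε → F) →* Matrix ((Fin m ⊕ Fin m) ⊕ Fin ε) ((Fin m ⊕ Fin m) ⊕ Fin ε) F :=
    { toFun := fun p => fromBlocks (blk p.1) 0 0 (diagonal p.2)
      map_one' := by simp [map_one]
      map_mul' := fun p r => by simp [fromBlocks_multiply, map_mul, diagonal_mul_diagonal] }
  let τM : Equiv.Perm (Fin m) →* Matrix ((Fin m ⊕ Fin m) ⊕ Fin ε) ((Fin m ⊕ Fin m) ⊕ Fin ε) F :=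
    { toFun := fun σ => fromBlocks (top σ) 0 0 1
      map_one' := by simp [map_one]
      map_mul' := fun p r => by simp [fromBlocks_multiply, map_mul] }
  have hcomm : ∀ σ p, τM σ * bM p = bM (p.1 ∘ σ.symm, p.2) * τM σ := fun σ p => by
    simp [bM, τM, fromBlocks_multiply, top_mul_blk]
  let emb : (Fin m → ↥N2) × (Fin ε → Fˣ) →* (Fin m → Matrix (Fin 2) (Fin 2) F) × (Fin ε → F) :=
    MonoidHom.prodMap (MonoidHom.compLeft ((Units.coeHom _).comp N2.subtype) (Fin m))
      (MonoidHom.compLeft (Units.coeHom F) (Fin ε))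
  let b : (Fin m → ↥N2) × (Fin ε → Fˣ) →* GL ((Fin m ⊕ Fin m) ⊕ Fin ε) F := (bM.comp emb).toHomUnits
  let τ : Equiv.Perm (Fin m) →* GL ((Fin m ⊕ Fin m) ⊕ Fin ε) F := τM.toHomUnits
  have hbval : ∀ p, (b p : Matrix ((Fin m ⊕ Fin m) ⊕ Fin ε) ((Fin m ⊕ Fin m) ⊕ Fin ε) F) =
      fromBlocks (blk fun i => ((p.1 i : GL (Fin 2) F) : Matrix (Fin 2) (Fin 2) F)) 0 0 (diagonal fun i => (p.2 i : F)) :=
    fun p => rfl
  have hb : Function.Injective b := fun p p' h => by
    have h' := congrArg Units.val h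
    rw [hbval, hbval, fromBlocks_inj] at h'
    refine Prod.ext (funext fun i => Subtype.ext (Units.ext (congrFun (blk_injective h'.1) i))) (funext fun i => ?_)
    exact Units.ext (congrFun (diagonal_injective h'.2.2.2) i)
  let scG : ℤˣ →* GL (Fin 2) F := (Units.map (Matrix.scalar (Fin 2)).toMonoidHom).comp (sgn (F := F))
  let sc : ℤˣ →* ↥N2 := scG.codRestrict N2 fun u => by
    rw [Subgroup.mem_normalizer_iff]
    intro y
    rw [show scG u * y * (scG u)⁻¹ = y from by
      rw [mul_inv_eq_iff_eq_mul]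
      exact Units.ext (Matrix.scalar_commute _ (fun r => Commute.all _ r) _).eq]
  let s : (Fin m → ℤˣ) × (Fin ε → ℤˣ) →* (Fin m → ↥N2) × (Fin ε → Fˣ) :=
    MonoidHom.prodMap (MonoidHom.compLeft sc (Fin m)) (MonoidHom.compLeft (sgn (F := F)) (Fin ε))
  have hs : Function.Injective s := fun x y h => by
    refine Prod.ext (funext fun i => sgn_injective h2 (Units.ext ?_)) (funext fun i => sgn_injective h2 (congrFun (congrArg Prod.snd h) i))
    have := congrFun (congrFun (congrArg (fun g : ↥N2 => ((g : GL (Fin 2) F) : Matrix (Fin 2) (Fin 2) F))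
      (congrFun (congrArg Prod.fst h) i)) 0) 0
    simpa [s, sc, scG] using this
  obtain ⟨M, hMc, hMmem, hEM, hn', hEA⟩ := wreath_data b τ hb (fun σ p => (p.1 ∘ σ.symm, p.2))
    (fun σ p => Units.ext (hcomm σ (emb p))) (fun p σ h => by
      have h' := congrArg Units.val h
      rw [hbval] at h'
      exact blk_eq_top _ σ (fromBlocks_inj.1 h').1) s.range
    (fun z ⟨x, hx⟩ a => by
      rw [← hx]
      refine Prod.ext (funext fun i => Subtype.ext (Units.ext ?_)) (mul_comm _ _)
      exact (Matrix.scalar_commute _ (fun r => Commute.all _ r) _).eq)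
    (fun σ z ⟨x, hx⟩ => ⟨(x.1 ∘ σ.symm, x.2), by rw [← hx]; rfl⟩)
    (fun z ⟨x, hx⟩ => by
      rw [← hx, ← map_mul, show x * x = 1 from Prod.ext (sign_sq x.1) (sign_sq x.2), map_one])
  have hN2 : padicValNat 2 (Fintype.card F ^ 2 - 1) + 1 ≤ padicValNat 2 (Nat.card N2) := by
    have hsg : (sgl : GL (Fin 2) F) ∈ N2 := by
      rw [Subgroup.mem_normalizer_iff]
      refine fun y => ⟨fun hy => ?_, fun hy => ?_⟩
      · rw [sgl_conj hF h4 hy]; exact pow_mem hy _
      · have h := pow_mem hy (Fintype.card F)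
        rw [← sgl_conj hF h4 hy, sgl_inv] at h
        simpa [mul_assoc, ← mul_assoc sgl sgl, sgl_mul_self] using h
    have hns : (sgl : GL (Fin 2) F) ∉ rotGL (F := F) := by
      rintro ⟨x, y, h⟩
      have h00 := congrFun (congrFun h 0) 0
      have h11 := congrFun (congrFun h 1) 1
      simp [sgl, rot] at h00 h11
      exact h2 (by linear_combination h00 - h11)
    have hle : rotGL (F := F) ≤ N2 := Subgroup.le_normalizer
    have hcard := card_rotGL (F := F) h4
    have hd : 2 * (Fintype.card F ^ 2 - 1) ∣ Nat.card N2 := by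
      have hsgo : orderOf (⟨sgl, hsg⟩ : ↥N2) = 2 := by
        rw [← Subgroup.orderOf_coe]
        show orderOf (sgl : GL (Fin 2) F) = 2
        exact orderOf_eq_prime (by rw [pow_two, sgl_mul_self]) fun h => hns (by rw [h]; exact one_mem _)
      have hin : (rotGL (F := F)).subgroupOf N2 ⊓ Subgroup.zpowers (⟨sgl, hsg⟩ : ↥N2) = ⊥ := by
        rw [eq_bot_iff]
        rintro y ⟨hy, hy'⟩
        rw [Subgroup.mem_bot]
        obtain ⟨k, rfl⟩ := Subgroup.mem_zpowers_iff.1 hy'
        have hs2 : (⟨sgl, hsg⟩ : ↥N2) ^ (2 : ℤ) = 1 := by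
          rw [_root_.zpow_two]
          exact Subtype.ext sgl_mul_self
        rcases Int.even_or_odd k with ⟨l, rfl⟩ | ⟨l, rfl⟩
        · rw [← two_mul, _root_.zpow_mul, hs2, _root_.one_zpow]
        · rw [_root_.zpow_add, _root_.zpow_mul, hs2, _root_.one_zpow, one_mul, _root_.zpow_one] at hy
          exact absurd (Subgroup.mem_subgroupOf.1 hy) hns
      haveI : ((rotGL (F := F)).subgroupOf N2).Normal := Subgroup.normal_in_normalizer
      have h := Cfsg.Lib.Coprime.card_sup_mul_card_inf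
        (show Subgroup.zpowers (⟨sgl, hsg⟩ : ↥N2) ≤ Subgroup.normalizer (((rotGL (F := F)).subgroupOf N2 : Subgroup ↥N2) : Set ↥N2) from by
          rw [Subgroup.normalizer_eq_top_iff.2 inferInstance]; exact le_top)
      rw [hin, Subgroup.card_bot, mul_one, Nat.card_zpowers, hsgo,
        Nat.card_congr (Subgroup.subgroupOfEquivOfLe hle).toEquiv, hcard, mul_comm] at h
      exact h ▸ Subgroup.card_subgroup_dvd_card _
    calc padicValNat 2 (Fintype.card F ^ 2 - 1) + 1
        = padicValNat 2 (2 * (Fintype.card F ^ 2 - 1)) := by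
          rw [padicValNat.mul two_ne_zero (pow_sub_ne h1 two_ne_zero), padicValNat.self one_lt_two, add_comm]
      _ ≤ _ := by
          rw [← Nat.factorization_def _ Nat.prime_two, ← Nat.factorization_def _ Nat.prime_two]
          exact (Nat.factorization_le_iff_dvd (by positivity [pow_sub_ne h1 two_ne_zero]) Nat.card_pos.ne').2 hd 2
  have hM : ¬ 2 ∣ M.index := by
    refine not_dvd_index (le_antisymm ?_ ?_)
    · rw [← Nat.factorization_def _ Nat.prime_two, ← Nat.factorization_def _ Nat.prime_two]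
      exact (Nat.factorization_le_iff_dvd Nat.card_pos.ne' Nat.card_pos.ne').2 (Subgroup.card_subgroup_dvd_card M) 2
    rw [padic_GL hF _ (n := 2 * m + ε) (by simp; omega) hn, hMc, Nat.card_prod, Nat.card_pi, Nat.card_pi,
      Finset.prod_const, Finset.prod_const, Finset.card_univ, Finset.card_univ, Fintype.card_fin, Fintype.card_fin,
      padicValNat.mul (mul_ne_zero (pow_ne_zero _ Nat.card_pos.ne') (pow_ne_zero _ Nat.card_pos.ne'))
        (Nat.factorial_ne_zero m),
      padicValNat.mul (pow_ne_zero _ Nat.card_pos.ne') (pow_ne_zero _ Nat.card_pos.ne'), padicValNat.pow,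
      padicValNat.pow, Nat.card_units, Nat.card_eq_fintype_card (α := F)]
    have hq1 : padicValNat 2 (Fintype.card F - 1) = 1 := padic_two_of_mod_four (by omega)
    obtain ⟨hp0, hp1, hp2⟩ := padic_gl_prod hF h4 m
    have := Nat.mul_le_mul_left m hN2
    interval_cases ε
    · rw [add_zero, hp1]; omega
    · rw [Finset.prod_range_succ, padicValNat.mul hp0 (pow_sub_ne h1 (by omega)), hp1, hp2, hq1]; omega
  obtain ⟨T, hT⟩ := exists_sylow_le hM
  refine normRank_of M _ hM hEM hn' hEA ?_ ⟨T, hT, fun D hDT hD hDn => ?_⟩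
  · rw [Subgroup.card_map_of_injective hb, ← Nat.card_congr (MonoidHom.ofInjective hs).toEquiv, Nat.card_prod,
      Nat.card_fun, Nat.card_fun, Nat.card_fin, Nat.card_fin, Nat.card_eq_fintype_card, Fintype.card_units_int,
      pow_add]
  -- a rotation of order eight
  obtain ⟨c8, hc8, hc8sq⟩ : ∃ c ∈ R, ((c * c : GL (Fin 2) F) : Matrix (Fin 2) (Fin 2) F) = rot 0 1 := by
    have hex : ∃ x y : F, x * x - y * y = 0 ∧ x * y + y * x = 1 := by
      rcases (show IsSquare (2 : F) ∨ IsSquare (-2 : F) by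
        rw [FiniteField.isSquare_two_iff, FiniteField.isSquare_neg_two_iff]; omega) with ⟨r, hr⟩ | ⟨r, hr⟩
      · have hr0 : r ≠ 0 := fun h => h2 (by rw [hr, h, mul_zero])
        refine ⟨r⁻¹, r⁻¹, by ring, ?_⟩
        rw [← two_mul, hr]; field_simp
      · have hr0 : r ≠ 0 := fun h => h2 (neg_eq_zero.1 (by rw [hr, h, mul_zero]))
        refine ⟨r⁻¹, -r⁻¹, by ring, ?_⟩
        field_simp
        linear_combination hr
    obtain ⟨x, y, e1, e2⟩ := hex
    have hdet : (rot x y).det ≠ 0 := by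
      rw [det_rot]
      intro h
      obtain ⟨hx, hy⟩ := sum_sq_ne h4 h
      rw [hx, hy] at e2
      simp at e2
    let c : GL (Fin 2) F := Matrix.GeneralLinearGroup.mkOfDetNeZero _ hdet
    have hsq : ((c * c : GL (Fin 2) F) : Matrix (Fin 2) (Fin 2) F) = rot 0 1 := by
      show rot x y * rot x y = _
      rw [rot_mul, e1, e2]
    refine ⟨c, hRmem c ⟨x, y, rfl⟩ 3 (Units.ext ?_), hsq⟩
    rw [show c ^ 2 ^ 3 = (c * c) * (c * c) * ((c * c) * (c * c)) by
        rw [show (2 : ℕ) ^ 3 = 8 from rfl]; simp only [pow_succ, pow_zero, one_mul, mul_assoc],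
      Units.val_mul, Units.val_mul, hsq, rot_mul, rot_mul, Units.val_one, ← rot_one]
    congr 1 <;> ring
  -- the abelian normal subgroup of rotations
  have hRN : R ≤ N2 := hRR.trans Subgroup.le_normalizer
  let A : Subgroup (GL ((Fin m ⊕ Fin m) ⊕ Fin ε) F) :=
    (Subgroup.prod (Subgroup.pi Set.univ fun _ : Fin m => R.subgroupOf N2) (⊥ : Subgroup (Fin ε → Fˣ))).map b
  have hAmem : ∀ p : (Fin m → ↥N2) × (Fin ε → Fˣ), p ∈ Subgroup.prod (Subgroup.pi Set.univ fun _ : Fin m => R.subgroupOf N2) (⊥ : Subgroup (Fin ε → Fˣ)) ↔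
      (∀ i, (p.1 i : GL (Fin 2) F) ∈ R) ∧ p.2 = 1 := fun p => by
    simp [Subgroup.mem_prod, Subgroup.mem_pi, Subgroup.mem_subgroupOf]
  have hRconj : ∀ g ∈ N2, ∀ r ∈ R, g * r * g⁻¹ ∈ R := fun g hg r hr => by
    obtain ⟨k, hk⟩ := hR2 ⟨r, hr⟩
    refine hRmem _ ((Subgroup.mem_normalizer_iff.1 hg r).1 (hRR hr)) k ?_
    rw [conj_pow, show r ^ 2 ^ k = 1 from congrArg Subtype.val hk, mul_one, mul_inv_cancel]
  have hAcomm : ∀ a ∈ A, ∀ a' ∈ A, a * a' = a' * a := by
    rintro _ ⟨p, hp, rfl⟩ _ ⟨p', hp', rfl⟩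
    obtain ⟨h1', h2'⟩ := (hAmem p).1 hp
    obtain ⟨h3', h4'⟩ := (hAmem p').1 hp'
    rw [← map_mul, ← map_mul]
    exact congrArg b (Prod.ext (funext fun i => Subtype.ext (rotGL_comm _ (hRR (h1' i)) _ (hRR (h3' i)))) (mul_comm _ _))
  have hApg : IsPGroup 2 A := by
    refine IsPGroup.map ?_ b
    rintro ⟨p, hp⟩
    obtain ⟨h1', h2'⟩ := (hAmem p).1 hp
    obtain ⟨e, he⟩ := IsPGroup.iff_card.1 hR2
    refine ⟨e, Subtype.ext (Prod.ext (funext fun i => Subtype.ext ?_) ?_)⟩
    · have := congrArg Subtype.val (pow_card_eq_one' (G := R) (x := ⟨_, h1' i⟩))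
      rw [he] at this
      simpa using this
    · show p.2 ^ 2 ^ e = 1
      rw [h2', one_pow]
  have hAnorm : ∀ g ∈ M, ∀ a ∈ A, g * a * g⁻¹ ∈ A := by
    intro g hg _ ⟨p, hp, hpa⟩
    obtain ⟨u, σ, rfl⟩ := (hMmem g).1 hg
    obtain ⟨h1', h2'⟩ := (hAmem p).1 hp
    refine ⟨u * (p.1 ∘ σ.symm, p.2) * u⁻¹, (hAmem _).2 ⟨fun i => hRconj _ (u.1 i).2 _ (h1' _), ?_⟩, ?_⟩
    · show u.2 * p.2 * u.2⁻¹ = 1
      rw [h2', mul_one, mul_inv_cancel]
    · rw [← hpa, show b u * τ σ * b p * (b u * τ σ)⁻¹ = b u * (τ σ * b p) * (τ σ)⁻¹ * (b u)⁻¹ by group,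
        show τ σ * b p = b (p.1 ∘ σ.symm, p.2) * τ σ from Units.ext (hcomm σ (emb p)), map_mul, map_mul, map_inv]
      group
  have hAT : A ≤ (T : Subgroup _) := by
    have hp : IsPGroup 2 (A ⊔ (T : Subgroup (GL ((Fin m ⊕ Fin m) ⊕ Fin ε) F)) : Subgroup _) := by
      refine IsPGroup.to_sup_of_normal_left' hApg T.2 fun g hg => ?_
      rw [Subgroup.mem_normalizer_iff]
      refine fun e => ⟨hAnorm g (hT hg) e, fun h => ?_⟩
      have := hAnorm g⁻¹ (M.inv_mem (hT hg)) _ h
      simpa [mul_assoc] using this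
    exact le_sup_left.trans (T.is_maximal' hp le_sup_right).le
  have hcentral : ∀ e ∈ D, ∀ a ∈ A, e * (a * a) = a * a * e := by
    intro e he a ha
    set d := e * a * e⁻¹ * a⁻¹ with hd
    have hdA : d ∈ A := A.mul_mem (hAnorm e (hT (hDT he)) a ha) (A.inv_mem ha)
    have hdD : d ∈ D := by
      rw [hd, show e * a * e⁻¹ * a⁻¹ = e * (a * e⁻¹ * a⁻¹) by group]
      exact D.mul_mem he (hDn a (hAT ha) _ (D.inv_mem he))
    have h1 : e * a * e⁻¹ = d * a := by rw [hd]; group
    have h3 : e * (a * a) * e⁻¹ = a * a := by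
      rw [show e * (a * a) * e⁻¹ = (e * a * e⁻¹) * (e * a * e⁻¹) by group, h1,
        show d * a * (d * a) = d * (a * d) * a by group, hAcomm a ha d hdA,
        show d * (d * a) * a = d * d * (a * a) by group, (hD d hdD).1, one_mul]
    exact mul_inv_eq_iff_eq_mul.1 h3
  let J : Fin m → Fin m → Matrix (Fin 2) (Fin 2) F := fun i => Pi.mulSingle i (rot 0 1)
  have hJ : ∀ e ∈ D, ∀ i, (e : Matrix ((Fin m ⊕ Fin m) ⊕ Fin ε) ((Fin m ⊕ Fin m) ⊕ Fin ε) F) * fromBlocks (blk (J i)) 0 0 1 =
      fromBlocks (blk (J i)) 0 0 1 * (e : Matrix _ _ F) := by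
    intro e he i
    let p : (Fin m → ↥N2) × (Fin ε → Fˣ) := (Pi.mulSingle i ⟨c8, hRN hc8⟩, 1)
    have hp : b p ∈ A := Subgroup.mem_map_of_mem b ((hAmem p).2 ⟨fun l => by
      rcases eq_or_ne l i with rfl | hl
      · simp [p, hc8]
      · simp [p, hl], rfl⟩)
    have hv : Units.val (b p * b p) = fromBlocks (blk (J i)) 0 0 1 := by
      rw [← map_mul, hbval]
      have e1 : (fun l => (((p * p).1 l : GL (Fin 2) F) : Matrix (Fin 2) (Fin 2) F)) = J i := funext fun l => by
        rcases eq_or_ne l i with rfl | hl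
        · simpa [p, J] using hc8sq
        · simp [p, J, hl]
      rw [e1]
      simp [p]
    rw [← hv, ← Units.val_mul, hcentral e he _ hp, Units.val_mul]
  -- commuting with these forces signs
  let K : Subgroup (GL ((Fin m ⊕ Fin m) ⊕ Fin ε) F) := s.range.map b
  have hDK : D ≤ K := by
    intro e he
    set X := (e : Matrix ((Fin m ⊕ Fin m) ⊕ Fin ε) ((Fin m ⊕ Fin m) ⊕ Fin ε) F) with hX
    let lab : (Fin m ⊕ Fin m) ⊕ Fin ε → Option (Fin m) := Sum.elim (fun x => some (Sum.elim id id x)) fun _ => none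
    have hdiag : ∀ i, fromBlocks (blk (J i)) 0 0 (1 : Matrix (Fin ε) (Fin ε) F) * fromBlocks (blk (J i)) 0 0 1 =
        diagonal fun x => if lab x = some i then (-1 : F) else 1 := by
      intro i
      have e2 : J i * J i = Pi.mulSingle i (-1) := by
        funext l
        rcases eq_or_ne l i with rfl | hl
        · simp only [J, Pi.mul_apply, Pi.mulSingle_eq_same, rot_mul]
          ext a c; fin_cases a <;> fin_cases c <;> simp [rot]
        · simp [J, hl]
      rw [fromBlocks_multiply]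
      simp only [Matrix.zero_mul, Matrix.mul_zero, add_zero, zero_add, mul_one]
      rw [← map_mul, e2, blk_eq]
      ext x y
      rcases x with (a | a) | a <;> rcases y with (c | c) | c <;>
        simp [lab, Matrix.diagonal_apply, Matrix.one_apply]
      all_goals
        rcases eq_or_ne a c with rfl | hac
        · rcases eq_or_ne a i with rfl | hai <;> simp [*, Pi.mulSingle_apply]
        · simp [hac]
    have hzero : ∀ x y, lab x ≠ lab y → X x y = 0 := by
      intro x y hxy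
      have key : ∀ i, (if lab y = some i then (-1 : F) else 1) * X x y = (if lab x = some i then (-1 : F) else 1) * X x y := by
        intro i
        have h : X * (fromBlocks (blk (J i)) 0 0 1 * fromBlocks (blk (J i)) 0 0 1) =
            fromBlocks (blk (J i)) 0 0 1 * fromBlocks (blk (J i)) 0 0 1 * X := by
          rw [← Matrix.mul_assoc, hJ e he i, Matrix.mul_assoc, hJ e he i, ← Matrix.mul_assoc]
        rw [hdiag] at h
        have := congrFun (congrFun h x) y
        rw [mul_diagonal, diagonal_mul, mul_comm] at this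
        exact this
      by_contra hne
      have key' := fun i => mul_right_cancel₀ hne (key i)
      rcases hx : lab x with _ | i
      · rcases hy : lab y with _ | i
        · exact hxy (hx.trans hy.symm)
        · have := key' i
          rw [hx, hy] at this
          simp at this
          exact h2 (by linear_combination -this)
      · have := key' i
        rw [hx, if_pos rfl, if_neg fun h => hxy (hx.trans h.symm)] at this
        exact h2 (by linear_combination this)
    let blks : Fin m → Matrix (Fin 2) (Fin 2) F := fun i =>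
      !![X (.inl (.inl i)) (.inl (.inl i)), X (.inl (.inl i)) (.inl (.inr i));
         X (.inl (.inr i)) (.inl (.inl i)), X (.inl (.inr i)) (.inl (.inr i))]
    have hshape : X = fromBlocks (blk blks) 0 0 (diagonal fun a => X (.inr a) (.inr a)) := by
      ext x y
      by_cases hxy : lab x = lab y
      · rcases x with (a | a) | a <;> rcases y with (c | c) | c <;> simp [lab] at hxy <;>
          try subst hxy
        all_goals simp [blk_eq, blks, Matrix.diagonal_apply]
        all_goals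
          have : a = c := Fin.ext (by omega)
          subst this
          simp
      · rw [hzero x y hxy]
        rcases x with (a | a) | a <;> rcases y with (c | c) | c <;> simp [lab] at hxy <;>
          simp [blk_eq, Matrix.diagonal_apply, hxy]
    have hsq : X * X = 1 := by
      rw [hX, ← Units.val_mul, (hD e he).1, Units.val_one]
    have hsq1 : ∀ i, blks i * blks i = 1 := by
      have h := hsq
      rw [hshape, fromBlocks_multiply, ← fromBlocks_one, fromBlocks_inj] at h
      simp only [Matrix.zero_mul, add_zero, ← map_mul] at h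
      exact fun i => congrFun (blk_injective (h.1.trans (map_one blk).symm)) i
    have hsq2 : ∀ a, X (.inr a) (.inr a) * X (.inr a) (.inr a) = 1 := by
      intro a
      have h := congrFun (congrFun hsq (.inr a)) (.inr a)
      rw [hshape, fromBlocks_multiply] at h
      simpa [diagonal_mul_diagonal] using h
    have hrot : ∀ i, blks i * rot 0 1 = rot 0 1 * blks i := by
      intro i
      have h := hJ e he i
      rw [← hX, hshape, fromBlocks_multiply, fromBlocks_multiply, fromBlocks_inj] at h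
      simp only [Matrix.zero_mul, Matrix.mul_zero, add_zero, ← map_mul] at h
      simpa [J] using congrFun (blk_injective h.1) i
    have hpm : ∀ i, ∃ u : ℤˣ, blks i = Matrix.scalar (Fin 2) ((sgn u : Fˣ) : F) := by
      intro i
      have r00 := congrFun (congrFun (hrot i) 0) 0
      have r01 := congrFun (congrFun (hrot i) 0) 1
      have s00 := congrFun (congrFun (hsq1 i) 0) 0
      have s01 := congrFun (congrFun (hsq1 i) 0) 1
      simp [Matrix.mul_apply, Fin.sum_univ_two, rot] at r00 r01 s00 s01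
      set p := blks i 0 0
      set r := blks i 0 1
      have e10 : blks i 1 0 = -r := by linear_combination -r00
      have e11 : blks i 1 1 = p := by linear_combination -r01
      rw [e10] at s00
      rw [e11] at s01
      have hr : r = 0 := by
        by_contra hr
        have hp : p = 0 := by
          have : (2 : F) * (p * r) = 0 := by linear_combination s01
          exact (mul_eq_zero.1 ((mul_eq_zero.1 this).resolve_left h2)).resolve_right hr
        refine (show ¬ IsSquare (-1 : F) by rw [FiniteField.isSquare_neg_one_iff]; omega) ⟨r, ?_⟩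
        rw [hp] at s00
        linear_combination s00
      rw [hr] at s00 e10
      rcases mul_self_eq_one_iff.1 (show p * p = 1 by linear_combination s00) with hp | hp
      · refine ⟨1, ?_⟩
        ext x y
        fin_cases x <;> fin_cases y <;> simp [sgn] <;>
          first
          | exact hp
          | exact hr
          | exact e10.trans neg_zero
          | exact e11.trans hp
      · refine ⟨-1, ?_⟩
        ext x y
        fin_cases x <;> fin_cases y <;> simp [sgn] <;>
          first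
          | exact hp
          | exact hr
          | exact e10.trans neg_zero
          | exact e11.trans hp
    choose u hu using hpm
    have hsg : ∀ a, ∃ w : ℤˣ, X (.inr a) (.inr a) = ((sgn w : Fˣ) : F) := fun a => by
      rcases mul_self_eq_one_iff.1 (hsq2 a) with h | h
      · exact ⟨1, by simp [h]⟩
      · exact ⟨-1, by simp [h, sgn]⟩
    choose w hw using hsg
    refine ⟨s (u, w), ⟨(u, w), rfl⟩, Units.ext ?_⟩
    rw [hbval, ← hX, hshape]
    congr 1
    · exact congrArg blk (funext fun i => (hu i).symm)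
    · exact congrArg diagonal (funext fun a => (hw a).symm)
  refine (Subgroup.card_le_of_le hDK).trans (le_of_eq ?_)
  rw [Subgroup.card_map_of_injective hb, ← Nat.card_congr (MonoidHom.ofInjective hs).toEquiv, Nat.card_prod,
    Nat.card_fun, Nat.card_fun, Nat.card_fin, Nat.card_fin, Nat.card_eq_fintype_card, Fintype.card_units_int,
    pow_add]

/-- Both congruence classes. -/
theorem gl (hF : Odd (Fintype.card F)) (n : ℕ) (hn : 1 ≤ n) :
    (Fintype.card F % 4 = 1 → NormRank (GL (Fin n) F) n) ∧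
      (Fintype.card F % 4 = 3 → NormRank (GL (Fin n) F) ((n + 1) / 2)) := by
  refine ⟨fun h4 => gl_one_mod hF h4 n hn, fun h4 => ?_⟩
  obtain ⟨m, ε, hε, rfl⟩ : ∃ m ε, ε ≤ 1 ∧ n = 2 * m + ε := ⟨n / 2, n % 2, by omega, by omega⟩
  rw [show (2 * m + ε + 1) / 2 = m + ε by omega]
  let e : (Fin m ⊕ Fin m) ⊕ Fin ε ≃ Fin (2 * m + ε) :=
    ((Equiv.sumCongr finSumFinEquiv (Equiv.refl _)).trans finSumFinEquiv).trans (finCongr (by omega))
  exact normRank_congr (Units.mapEquiv (Matrix.reindexAlgEquiv F F e).toMulEquiv) (gl_three_mod hF h4 m ε hε hn)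

end Witness

end Cfsg.Lib.Known.NormalTwoRank
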