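import Mathlib

/-!
Sylow 2-subgroups of the orthogonal groups of plus type over the field with two elements meet non-trivially.
-/

set_option autoImplicit false
set_option linter.unusedSectionVars false
set_option linter.style.haveILetI false

namespace Cfsg.Lib.OPlusTwo

universe u

variable {V : Type u} [AddCommGroup V] [Module (ZMod 2) V]

/-- the polar form -/
def B (Q : V → ZMod 2) (v w : V) : ZMod 2 := Q (v + w) + Q v + Q w

/-- the isometry group -/
def Iso (Q : V → ZMod 2) : Subgroup (V ≃ₗ[ZMod 2] V) where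
  carrier := {g | ∀ v, Q (g v) = Q v}
  one_mem' := fun v => rfl
  mul_mem' := fun {g h} hg hh v => (hg (h v)).trans (hh v)
  inv_mem' := fun {g} hg v => by
    show Q (g.symm v) = Q v
    have h1 := hg (g.symm v)
    rw [LinearEquiv.apply_symm_apply] at h1
    exact h1.symm

/-- the sign of a value -/
def χ (t : ZMod 2) : ℤ := if t = 0 then 1 else -1

theorem χ_add (s t : ZMod 2) : χ (s + t) = χ s * χ t := by
  revert s t; decide

/-- a non-degenerate quadratic form of plus type in dimension `2m` -/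
structure Plus (Q : V → ZMod 2) (m : ℕ) : Prop where
  zero : Q 0 = 0
  add_left : ∀ u v w, B Q (u + v) w = B Q u w + B Q v w
  nondeg : ∀ v, v ≠ 0 → ∃ w, B Q v w = 1
  card : Nat.card V = 4 ^ m
  sign : ∑ᶠ v : V, χ (Q v) = 2 ^ m

theorem add_self (v : V) : v + v = 0 := by
  have h : (1 + 1 : ZMod 2) • v = 0 := by rw [show (1 + 1 : ZMod 2) = 0 from rfl, zero_smul]
  rwa [add_smul, one_smul] at h

theorem zmod_cases (t : ZMod 2) : t = 0 ∨ t = 1 := by revert t; decide

theorem z2 (t : ZMod 2) : t + t = 0 := by revert t; decide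

theorem B_comm (Q : V → ZMod 2) (v w : V) : B Q v w = B Q w v := by
  rw [B, B, add_comm v w]; ring

theorem iso_B {Q : V → ZMod 2} {g : V ≃ₗ[ZMod 2] V} (hg : g ∈ Iso Q) (v w : V) : B Q (g v) (g w) = B Q v w := by
  rw [B, B, ← map_add, hg, hg, hg]

section Facts

variable {Q : V → ZMod 2} {m : ℕ} (hQ : Plus Q m)
include hQ

theorem B_self (v : V) : B Q v v = 0 := by
  rw [B, add_self, hQ.zero, zero_add, z2]

theorem B_zero (v : V) : B Q 0 v = 0 := by
  rw [B, zero_add, hQ.zero, add_zero, z2]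

theorem B_add_right (u v w : V) : B Q u (v + w) = B Q u v + B Q u w := by
  rw [B_comm Q, hQ.add_left, B_comm Q v, B_comm Q w]

theorem B_smul (c : ZMod 2) (v w : V) : B Q (c • v) w = c * B Q v w := by
  rcases zmod_cases c with rfl | rfl
  · rw [zero_smul, B_zero hQ, zero_mul]
  · rw [one_smul, one_mul]

theorem B_smul_right (c : ZMod 2) (v w : V) : B Q v (c • w) = c * B Q v w := by
  rw [B_comm Q, B_smul hQ, B_comm Q]

theorem Q_add (v w : V) : Q (v + w) = Q v + Q w + B Q v w := by
  rw [B]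
  linear_combination -(z2 (Q v)) - z2 (Q w)

theorem Q_smul (c : ZMod 2) (v : V) : Q (c • v) = c * Q v := by
  rcases zmod_cases c with rfl | rfl
  · rw [zero_smul, hQ.zero, zero_mul]
  · rw [one_smul, one_mul]

/-- the Siegel map -/
def sieFun (Q : V → ZMod 2) (p a v : V) : V := v + (B Q v a + Q a * B Q v p) • p + B Q v p • a

theorem sieFun_add (p a v w : V) : sieFun Q p a (v + w) = sieFun Q p a v + sieFun Q p a w := by
  simp only [sieFun, hQ.add_left, mul_add, add_smul]
  abel

theorem sieFun_comp {p a b : V} (hp : Q p = 0) (ha : B Q p a = 0) (hb : B Q p b = 0) (v : V) :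
    sieFun Q p a (sieFun Q p b v) = sieFun Q p (a + b) v := by
  have hpp := B_self hQ p
  have h1 : B Q (sieFun Q p b v) p = B Q v p := by
    simp only [sieFun, hQ.add_left, B_smul hQ, hpp, B_comm Q b p, hb, mul_zero, add_zero]
  have h2 : B Q (sieFun Q p b v) a = B Q v a + B Q v p * B Q a b := by
    simp only [sieFun, hQ.add_left, B_smul hQ, ha, mul_zero, add_zero, B_comm Q b a]
  conv_lhs => rw [sieFun, h1, h2]
  rw [sieFun, sieFun, Q_add hQ a b, B_add_right hQ, smul_add]
  have e : B Q v a + B Q v p * B Q a b + Q a * B Q v p + (B Q v b + Q b * B Q v p) =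
      B Q v a + B Q v b + (Q a + Q b + B Q a b) * B Q v p := by ring
  rw [← e]
  simp only [add_smul]
  abel

theorem sieFun_zero (p v : V) : sieFun Q p 0 v = v := by
  rw [sieFun, B_comm Q v 0, B_zero hQ, hQ.zero, zero_mul, add_zero, zero_smul, add_zero, smul_zero, add_zero]

theorem sieFun_invol {p a : V} (hp : Q p = 0) (ha : B Q p a = 0) (v : V) :
    sieFun Q p a (sieFun Q p a v) = v := by
  rw [sieFun_comp hQ hp ha ha, add_self, sieFun_zero hQ]

theorem sieFun_isometry {p a : V} (hp : Q p = 0) (ha : B Q p a = 0) (v : V) :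
    Q (sieFun Q p a v) = Q v := by
  rw [sieFun]
  generalize hc : B Q v a + Q a * B Q v p = c
  simp only [Q_add hQ, hQ.add_left, B_smul hQ, B_smul_right hQ, Q_smul hQ, hp, ha, mul_zero, add_zero]
  have h1 := z2 (B Q v p * B Q v a)
  have h2 := z2 (B Q v p * Q a)
  have h3 : B Q v p * B Q v p = B Q v p := by
    rcases zmod_cases (B Q v p) with h | h <;> rw [h] <;> rfl
  rw [← hc]
  linear_combination h1 + h2 + Q a * h3

/-- the Siegel map as a linear equivalence -/
def sie {p a : V} (hp : Q p = 0) (ha : B Q p a = 0) : V ≃ₗ[ZMod 2] V where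
  toFun := sieFun Q p a
  map_add' := sieFun_add hQ p a
  map_smul' := fun c v => by
    rcases zmod_cases c with rfl | rfl
    · simp only [zero_smul, RingHom.id_apply]
      simp only [sieFun, B_zero hQ, mul_zero, add_zero, zero_smul]
    · simp only [one_smul, RingHom.id_apply]
  invFun := sieFun Q p a
  left_inv := sieFun_invol hQ hp ha
  right_inv := sieFun_invol hQ hp ha

theorem sie_mem {p a : V} (hp : Q p = 0) (ha : B Q p a = 0) : sie hQ hp ha ∈ Iso Q :=
  sieFun_isometry hQ hp ha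

theorem sie_fix {p a : V} (hp : Q p = 0) (ha : B Q p a = 0) : sie hQ hp ha p = p := by
  show sieFun Q p a p = p
  simp [sieFun, ha, B_self hQ]

theorem sie_symm_ne_one {p p' : V} (hp : Q p = 0) (hp' : Q p' = 0) (hpp : B Q p p' = 0) (v : V) :
    sie hQ hp hpp v = sie hQ hp' (show B Q p' p = 0 by rw [B_comm]; exact hpp) v := by
  show sieFun Q p p' v = sieFun Q p' p v
  rw [sieFun, sieFun, hp, hp', zero_mul, zero_mul, add_zero, add_zero]
  abel

variable [Finite V]

/-- the radical of a singular point -/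
def radical {p : V} (hp : Q p = 0) : Subgroup (Iso Q) where
  carrier := {g | ∃ (a : V) (ha : B Q p a = 0), (g : V ≃ₗ[ZMod 2] V) = sie hQ hp ha}
  one_mem' := ⟨0, by rw [B_comm Q, B_zero hQ],
    LinearEquiv.ext fun v => (sieFun_zero hQ p v).symm⟩
  mul_mem' := by
    rintro g h ⟨a, ha, hg⟩ ⟨b, hb, hh⟩
    refine ⟨a + b, by rw [B_add_right hQ, ha, hb, add_zero], LinearEquiv.ext fun v => ?_⟩
    show (g : V ≃ₗ[ZMod 2] V) ((h : V ≃ₗ[ZMod 2] V) v) = _
    rw [hg, hh]
    exact sieFun_comp hQ hp ha hb v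
  inv_mem' := by
    rintro g ⟨a, ha, hg⟩
    refine ⟨a, ha, LinearEquiv.ext fun v => ?_⟩
    show (g : V ≃ₗ[ZMod 2] V).symm v = _
    rw [hg]
    rfl

theorem radical_isPGroup {p : V} (hp : Q p = 0) : IsPGroup 2 (radical hQ hp) := by
  intro g
  refine ⟨1, ?_⟩
  obtain ⟨a, ha, hg⟩ := g.2
  refine Subtype.ext (Subtype.ext (LinearEquiv.ext fun v => ?_))
  rw [pow_one, pow_two]
  show (g.1 : V ≃ₗ[ZMod 2] V) ((g.1 : V ≃ₗ[ZMod 2] V) v) = v
  rw [hg]
  exact sieFun_invol hQ hp ha v

theorem stab_normalizes {p : V} (hp : Q p = 0) {g : Iso Q} (hg : (g : V ≃ₗ[ZMod 2] V) p = p) :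
    g ∈ Subgroup.normalizer (radical hQ hp : Set (Iso Q)) := by
  have : Finite (Iso Q) := Finite.of_injective (fun g : Iso Q => fun v => (g : V ≃ₗ[ZMod 2] V) v)
    (fun a b h => Subtype.ext (LinearEquiv.ext (congrFun h)))
  refine Subgroup.mem_normalizer_fintype fun r hr => ?_
  obtain ⟨a, ha, hr⟩ := hr
  refine ⟨(g : V ≃ₗ[ZMod 2] V) a, by conv_lhs => rw [← hg, iso_B g.2, ha], LinearEquiv.ext fun v => ?_⟩
  obtain ⟨w, rfl⟩ := (g : V ≃ₗ[ZMod 2] V).surjective v
  show (g : V ≃ₗ[ZMod 2] V) ((r : V ≃ₗ[ZMod 2] V) ((g : V ≃ₗ[ZMod 2] V).symm ((g : V ≃ₗ[ZMod 2] V) w))) =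
    sieFun Q p _ _
  rw [LinearEquiv.symm_apply_apply, hr]
  show (g : V ≃ₗ[ZMod 2] V) (sieFun Q p a w) = _
  rw [sieFun, sieFun, map_add, map_add, map_smul, map_smul, hg]
  congr 2
  · congr 1
    rw [iso_B g.2, g.2 a]
    conv_rhs => rw [← hg, iso_B g.2]
  · conv_rhs => rw [← hg, iso_B g.2]

theorem exists_fixed_point (hm : 2 ≤ m) (H : Subgroup (Iso Q)) (hH : IsPGroup 2 H) :
    ∃ p : V, p ≠ 0 ∧ Q p = 0 ∧ ∀ g ∈ H, (g : V ≃ₗ[ZMod 2] V) p = p := by
  classical
  haveI : Fact (Nat.Prime 2) := ⟨Nat.prime_two⟩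
  let X := {v : V // v ≠ 0 ∧ Q v = 0}
  let act : MulAction H X :=
    { smul := fun g v => ⟨((g : Iso Q) : V ≃ₗ[ZMod 2] V) v.1,
        fun h => v.2.1 ((LinearEquiv.map_eq_zero_iff _).1 h), ((g : Iso Q).2 v.1).trans v.2.2⟩
      one_smul := fun v => rfl
      mul_smul := fun g h v => rfl }
  have hodd : ¬ 2 ∣ Nat.card X := by
    have : Fintype V := Fintype.ofFinite V
    have hc : Nat.card V = 4 ^ m := hQ.card
    have hs : ∑ v : V, χ (Q v) = 2 ^ m := by rw [← finsum_eq_sum_of_fintype]; exact hQ.sign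
    have h1 : ∑ v : V, χ (Q v) = 2 * ((Finset.univ.filter fun v : V => Q v = 0).card : ℤ) - Nat.card V := by
      have e : ∀ v : V, χ (Q v) = 2 * (if Q v = 0 then 1 else 0) - 1 := fun v => by
        by_cases h : Q v = 0 <;> simp [χ, h]
      rw [Finset.sum_congr rfl fun v _ => e v, Finset.sum_sub_distrib, ← Finset.mul_sum, Finset.sum_boole,
        Finset.sum_const, Finset.card_univ, Nat.card_eq_fintype_card]
      simp
    have h2 : (Finset.univ.filter fun v : V => Q v = 0).card = Nat.card X + 1 := by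
      rw [Nat.card_eq_fintype_card, Fintype.card_subtype,
        show (Finset.univ.filter fun v : V => v ≠ 0 ∧ Q v = 0) =
          (Finset.univ.filter fun v : V => Q v = 0).erase 0 by ext v; simp,
        Finset.card_erase_of_mem (by simp [hQ.zero])]
      have : 0 < (Finset.univ.filter fun v : V => Q v = 0).card := Finset.card_pos.2 ⟨0, by simp [hQ.zero]⟩
      omega
    rw [h1, h2, hc] at hs
    obtain ⟨k, rfl⟩ : ∃ k, m = k + 2 := ⟨m - 2, by omega⟩
    intro hd
    obtain ⟨c, hc'⟩ := hd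
    rw [hc'] at hs
    push_cast at hs
    rw [pow_succ, pow_succ, pow_succ, pow_succ] at hs
    omega
  obtain ⟨x, hx⟩ := hH.nonempty_fixed_point_of_prime_not_dvd_card X hodd
  exact ⟨x.1, x.2.1, x.2.2, fun g hg => congrArg Subtype.val (hx ⟨g, hg⟩)⟩

theorem radical_le_sylow {p : V} (hp : Q p = 0) (H : Sylow 2 (Iso Q))
    (hfix : ∀ g ∈ (H : Subgroup (Iso Q)), (g : V ≃ₗ[ZMod 2] V) p = p) :
    radical hQ hp ≤ (H : Subgroup (Iso Q)) := by
  have h1 : IsPGroup 2 ((H : Subgroup (Iso Q)) ⊔ radical hQ hp : Subgroup (Iso Q)) :=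
    H.2.to_sup_of_normal_right' (radical_isPGroup hQ hp) fun g hg => stab_normalizes hQ hp (hfix g hg)
  have h2 := H.3 h1 le_sup_left
  exact le_sup_right.trans h2.le

end Facts

section Pair

variable {Q : V → ZMod 2} {m : ℕ} (hQ : Plus Q m) (p p' : V)

/-- the orthogonal complement of a pair -/
def perp : Submodule (ZMod 2) V where
  carrier := {v | B Q v p = 0 ∧ B Q v p' = 0}
  add_mem' := fun {a b} ha hb => ⟨by rw [hQ.add_left, ha.1, hb.1, add_zero],
    by rw [hQ.add_left, ha.2, hb.2, add_zero]⟩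
  zero_mem' := ⟨B_zero hQ p, B_zero hQ p'⟩
  smul_mem' := fun c v hv => ⟨by rw [B_smul hQ, hv.1, mul_zero], by rw [B_smul hQ, hv.2, mul_zero]⟩

theorem sign_sum {ι : Type*} [Fintype ι] (f g : ι → ℤ) (h : ∀ i, f i = g i) : ∑ i, f i = ∑ i, g i :=
  Finset.sum_congr rfl fun i _ => h i

variable {p p'} (hp : Q p = 0) (hp' : Q p' = 0) (hb : B Q p p' = 1)
include hQ hp hp' hb

/-- coordinates with respect to a hyperbolic pair -/
def split (hQ : Plus Q m) (hp : Q p = 0) (hp' : Q p' = 0) (hb : B Q p p' = 1) : ((ZMod 2 × ZMod 2) × perp hQ p p') ≃ₗ[ZMod 2] V where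
  toFun x := x.1.1 • p + x.1.2 • p' + x.2.1
  map_add' x y := by
    simp only [Prod.fst_add, Prod.snd_add, Submodule.coe_add, add_smul]; abel
  map_smul' c x := by
    simp only [Prod.smul_fst, Prod.smul_snd, Submodule.coe_smul, smul_eq_mul, RingHom.id_apply, smul_add,
      smul_smul]
  invFun v := ((B Q v p', B Q v p), ⟨v + B Q v p' • p + B Q v p • p', by
    constructor
    · simp only [hQ.add_left, B_smul hQ, B_self hQ, B_comm Q p' p, hb, mul_zero, mul_one, add_zero, z2]
    · simp only [hQ.add_left, B_smul hQ, B_self hQ, hb, mul_zero, mul_one, add_zero, z2]⟩)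
  left_inv x := by
    obtain ⟨⟨a, b⟩, ⟨v, hv⟩⟩ := x
    have h1 : B Q (a • p + b • p' + v) p = b := by
      simp [hQ.add_left, B_smul hQ, B_self hQ, B_comm Q p' p, hb, hv.1]
    have h2 : B Q (a • p + b • p' + v) p' = a := by
      simp [hQ.add_left, B_smul hQ, B_self hQ, hb, hv.2]
    refine Prod.ext (Prod.ext h2 h1) (Subtype.ext ?_)
    simp only [h1, h2]
    have e1 := add_self (a • p)
    have e2 := add_self (b • p')
    calc a • p + b • p' + v + a • p + b • p' = (a • p + a • p) + (b • p' + b • p') + v := by abel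
      _ = v := by rw [e1, e2, zero_add, zero_add]
  right_inv v := by
    show B Q v p' • p + B Q v p • p' + (v + B Q v p' • p + B Q v p • p') = v
    have e1 := add_self (B Q v p' • p)
    have e2 := add_self (B Q v p • p')
    calc B Q v p' • p + B Q v p • p' + (v + B Q v p' • p + B Q v p • p')
        = (B Q v p' • p + B Q v p' • p) + (B Q v p • p' + B Q v p • p') + v := by abel
      _ = v := by rw [e1, e2, zero_add, zero_add]

theorem Q_split (a b : ZMod 2) (v : perp hQ p p') :
    Q (a • p + b • p' + v.1) = a * b + Q v.1 := by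
  simp only [Q_add hQ, hQ.add_left, B_smul hQ, B_smul_right hQ, Q_smul hQ, hp, hp', hb, B_comm Q p v.1,
    B_comm Q p' v.1, v.2.1, v.2.2]
  ring

variable [Finite V]

theorem perp_plus (hm : 1 ≤ m) : Plus (fun v : perp hQ p p' => Q v.1) (m - 1) := by
  classical
  haveI : Fintype V := Fintype.ofFinite V
  haveI : Fintype (perp hQ p p') := Fintype.ofFinite _
  have hB : ∀ v w : perp hQ p p', B (fun v : perp hQ p p' => Q v.1) v w = B Q v.1 w.1 := fun v w => rfl
  have e := split hQ hp hp' hb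
  refine ⟨hQ.zero, fun u v w => by simp only [hB, Submodule.coe_add, hQ.add_left], fun v hv => ?_, ?_, ?_⟩
  · obtain ⟨w, hw⟩ := hQ.nondeg v.1 fun h => hv (Subtype.ext h)
    obtain ⟨⟨⟨a, b⟩, w0⟩, rfl⟩ := (split hQ hp hp' hb).surjective w
    refine ⟨w0, ?_⟩
    change B Q v.1 (a • p + b • p' + w0.1) = 1 at hw
    rw [B_add_right hQ, B_add_right hQ, B_smul_right hQ, B_smul_right hQ, v.2.1, v.2.2, mul_zero, mul_zero,
      add_zero, zero_add] at hw
    exact hw
  · have h1 := Nat.card_congr e.toEquiv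
    rw [Nat.card_prod, Nat.card_prod, Nat.card_zmod, hQ.card] at h1
    obtain ⟨k, rfl⟩ : ∃ k, m = k + 1 := ⟨m - 1, by omega⟩
    rw [Nat.add_sub_cancel]
    rw [pow_succ] at h1
    omega
  · have h1 := hQ.sign
    rw [finsum_eq_sum_of_fintype, ← Equiv.sum_comp (split hQ hp hp' hb).toEquiv,
      Fintype.sum_prod_type] at h1
    have h2 : ∀ (ab : ZMod 2 × ZMod 2) (v : perp hQ p p'),
        χ (Q ((split hQ hp hp' hb).toEquiv (ab, v))) = χ (ab.1 * ab.2) * χ (Q v.1) := fun ab v => by
      rw [← χ_add, ← Q_split hQ hp hp' hb ab.1 ab.2 v]; rfl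
    simp only [h2, ← Finset.mul_sum] at h1
    rw [← Finset.sum_mul, show (∑ ab : ZMod 2 × ZMod 2, χ (ab.1 * ab.2)) = 2 by decide] at h1
    obtain ⟨k, rfl⟩ : ∃ k, m = k + 1 := ⟨m - 1, by omega⟩
    rw [Nat.add_sub_cancel, finsum_eq_sum_of_fintype]
    rw [pow_succ, mul_comm _ (2 : ℤ)] at h1
    exact mul_left_cancel₀ two_ne_zero h1

/-- an isometry of the complement extends -/
def ext (hQ : Plus Q m) (hp : Q p = 0) (hp' : Q p' = 0) (hb : B Q p p' = 1) (h : Iso (fun v : perp hQ p p' => Q v.1)) : Iso Q :=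
  ⟨(split hQ hp hp' hb).symm.trans ((LinearEquiv.prodCongr (LinearEquiv.refl (ZMod 2) (ZMod 2 × ZMod 2))
      (h : perp hQ p p' ≃ₗ[ZMod 2] perp hQ p p')).trans (split hQ hp hp' hb)), fun v => by
    obtain ⟨⟨⟨a, b⟩, w⟩, rfl⟩ := (split hQ hp hp' hb).surjective v
    simp only [LinearEquiv.trans_apply, LinearEquiv.symm_apply_apply]
    show Q (a • p + b • p' + ((h : perp hQ p p' ≃ₗ[ZMod 2] perp hQ p p') w).1) = Q (a • p + b • p' + w.1)
    rw [Q_split hQ hp hp' hb, Q_split hQ hp hp' hb]
    congr 1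
    exact h.2 w⟩

/-- the extension homomorphism -/
def extHom (hQ : Plus Q m) (hp : Q p = 0) (hp' : Q p' = 0) (hb : B Q p p' = 1) : Iso (fun v : perp hQ p p' => Q v.1) →* Iso Q where
  toFun := ext hQ hp hp' hb
  map_one' := Subtype.ext (LinearEquiv.ext fun v => (split hQ hp hp' hb).apply_symm_apply v)
  map_mul' g h := Subtype.ext (LinearEquiv.ext fun v => by
    show _ = (ext hQ hp hp' hb g).1 ((ext hQ hp hp' hb h).1 v)
    simp only [ext, LinearEquiv.trans_apply, LinearEquiv.symm_apply_apply]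
    rfl)

theorem extHom_injective : Function.Injective (extHom hQ hp hp' hb) := by
  intro g h e
  refine Subtype.ext (LinearEquiv.ext fun w => ?_)
  have h1 := congrArg (fun x : Iso Q => (x : V ≃ₗ[ZMod 2] V) (split hQ hp hp' hb ((0, 0), w))) e
  simp only [extHom, MonoidHom.coe_mk, OneHom.coe_mk, ext, LinearEquiv.trans_apply,
    LinearEquiv.symm_apply_apply] at h1
  exact congrArg Prod.snd ((split hQ hp hp' hb).injective h1)

theorem extHom_fix (h : Iso (fun v : perp hQ p p' => Q v.1)) :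
    (extHom hQ hp hp' hb h : V ≃ₗ[ZMod 2] V) p = p ∧ (extHom hQ hp hp' hb h : V ≃ₗ[ZMod 2] V) p' = p' := by
  have e1 : split hQ hp hp' hb ((1, 0), 0) = p := by
    show (1 : ZMod 2) • p + (0 : ZMod 2) • p' + 0 = p
    rw [one_smul, zero_smul, add_zero, add_zero]
  have e2 : split hQ hp hp' hb ((0, 1), 0) = p' := by
    show (0 : ZMod 2) • p + (1 : ZMod 2) • p' + 0 = p'
    rw [one_smul, zero_smul, add_zero, zero_add]
  have key : ∀ ab : ZMod 2 × ZMod 2,
      (extHom hQ hp hp' hb h : V ≃ₗ[ZMod 2] V) (split hQ hp hp' hb (ab, 0)) = split hQ hp hp' hb (ab, 0) := by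
    intro ab
    show split hQ hp hp' hb ((LinearEquiv.prodCongr (LinearEquiv.refl (ZMod 2) (ZMod 2 × ZMod 2))
      (h : perp hQ p p' ≃ₗ[ZMod 2] perp hQ p p')) ((split hQ hp hp' hb).symm (split hQ hp hp' hb (ab, 0)))) = _
    rw [LinearEquiv.symm_apply_apply]
    congr 1
    exact Prod.ext rfl (map_zero (h : perp hQ p p' ≃ₗ[ZMod 2] perp hQ p p'))
  exact ⟨by simpa only [e1] using key (1, 0), by simpa only [e2] using key (0, 1)⟩

theorem exists_extHom (g : Iso Q) (h1 : (g : V ≃ₗ[ZMod 2] V) p = p) (h2 : (g : V ≃ₗ[ZMod 2] V) p' = p') :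
    ∃ h, extHom hQ hp hp' hb h = g := by
  have hperp : ∀ v ∈ perp hQ p p', (g : V ≃ₗ[ZMod 2] V) v ∈ perp hQ p p' := fun v hv => by
    refine ⟨?_, ?_⟩
    · conv_lhs => rw [← h1, iso_B g.2]; rw [hv.1]
    · conv_lhs => rw [← h2, iso_B g.2]; rw [hv.2]
  have hperp' : ∀ v ∈ perp hQ p p', (g : V ≃ₗ[ZMod 2] V).symm v ∈ perp hQ p p' := fun v hv => by
    have e1 : (g : V ≃ₗ[ZMod 2] V).symm p = p := by rw [LinearEquiv.symm_apply_eq, h1]
    have e2 : (g : V ≃ₗ[ZMod 2] V).symm p' = p' := by rw [LinearEquiv.symm_apply_eq, h2]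
    refine ⟨?_, ?_⟩
    · conv_lhs => rw [← e1, iso_B (g := (g : V ≃ₗ[ZMod 2] V).symm) (inv_mem g.2)]; rw [hv.1]
    · conv_lhs => rw [← e2, iso_B (g := (g : V ≃ₗ[ZMod 2] V).symm) (inv_mem g.2)]; rw [hv.2]
  let h : perp hQ p p' ≃ₗ[ZMod 2] perp hQ p p' :=
    { toFun := fun v => ⟨(g : V ≃ₗ[ZMod 2] V) v, hperp v v.2⟩
      map_add' := fun a b => Subtype.ext (map_add (g : V ≃ₗ[ZMod 2] V) _ _)
      map_smul' := fun c a => Subtype.ext (map_smul (g : V ≃ₗ[ZMod 2] V) _ _)
      invFun := fun v => ⟨(g : V ≃ₗ[ZMod 2] V).symm v, hperp' v v.2⟩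
      left_inv := fun v => Subtype.ext ((g : V ≃ₗ[ZMod 2] V).symm_apply_apply _)
      right_inv := fun v => Subtype.ext ((g : V ≃ₗ[ZMod 2] V).apply_symm_apply _) }
  refine ⟨⟨h, fun v => g.2 v.1⟩, Subtype.ext (LinearEquiv.ext fun v => ?_)⟩
  obtain ⟨⟨⟨a, b⟩, w⟩, rfl⟩ := (split hQ hp hp' hb).surjective v
  show split hQ hp hp' hb ((LinearEquiv.prodCongr (LinearEquiv.refl (ZMod 2) (ZMod 2 × ZMod 2)) h)
      ((split hQ hp hp' hb).symm (split hQ hp hp' hb ((a, b), w)))) = _
  rw [LinearEquiv.symm_apply_apply]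
  show a • p + b • p' + (g : V ≃ₗ[ZMod 2] V) w.1 = (g : V ≃ₗ[ZMod 2] V) (a • p + b • p' + w.1)
  rw [map_add, map_add, map_smul, map_smul, h1, h2]

/-- A Sylow subgroup fixing `p` meets the stabiliser of the pair in a Sylow subgroup. -/
theorem sylow_comap (H : Sylow 2 (Iso Q))
    (hfix : ∀ g ∈ (H : Subgroup (Iso Q)), (g : V ≃ₗ[ZMod 2] V) p = p) :
    ∃ K : Sylow 2 (Iso (fun v : perp hQ p p' => Q v.1)),
      (K : Subgroup _) = (H : Subgroup (Iso Q)).comap (extHom hQ hp hp' hb) := by
  set f := extHom hQ hp hp' hb with hf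
  have hK : IsPGroup 2 ((H : Subgroup (Iso Q)).comap f) :=
    H.2.comap_of_injective f (extHom_injective hQ hp hp' hb)
  refine ⟨⟨_, hK, fun {K'} hK' hle => ?_⟩, rfl⟩
  refine le_antisymm ?_ hle
  intro k hk
  show f k ∈ (H : Subgroup (Iso Q))
  have hR := radical_le_sylow hQ hp H hfix
  have hn : K'.map f ≤ Subgroup.normalizer (radical hQ hp : Set (Iso Q)) := by
    rintro _ ⟨k', -, rfl⟩
    exact stab_normalizes hQ hp (extHom_fix hQ hp hp' hb k').1
  have hsup := (hK'.map f).to_sup_of_normal_right' (radical_isPGroup hQ hp) hn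
  have hHle : (H : Subgroup (Iso Q)) ≤ K'.map f ⊔ radical hQ hp := by
    intro g hg
    -- correct `g` by an element of the radical so that it fixes `p'`
    set q := (g : V ≃ₗ[ZMod 2] V) p' with hq
    have hgp := hfix g hg
    have hqp : B Q p q = 1 := by rw [← hb]; conv_lhs => rw [← hgp, hq, iso_B g.2]
    have hQq : Q q = 0 := (g.2 p').trans hp'
    have ha : B Q p (q + p') = 0 := by rw [B_add_right hQ, hqp, hb, z2]
    have hs : sie hQ hp ha p' = q := by
      show sieFun Q p (q + p') p' = q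
      rw [sieFun, B_comm Q p' p, hb, mul_one, one_smul, B_add_right hQ, B_self hQ, add_zero, Q_add hQ, hQq, hp',
        add_zero, zero_add, B_comm Q q p', z2, zero_smul, add_zero]
      calc p' + (q + p') = (p' + p') + q := by abel
        _ = q := by rw [add_self, zero_add]
    have hrR : (⟨sie hQ hp ha, sie_mem hQ hp ha⟩ : Iso Q) ∈ radical hQ hp := ⟨_, ha, rfl⟩
    set r : Iso Q := ⟨sie hQ hp ha, sie_mem hQ hp ha⟩ with hr
    obtain ⟨k', hk'⟩ := exists_extHom hQ hp hp' hb (r⁻¹ * g)
      (by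
        show (sie hQ hp ha).symm ((g : V ≃ₗ[ZMod 2] V) p) = p
        rw [hgp, LinearEquiv.symm_apply_eq, sie_fix hQ hp ha])
      (by
        show (sie hQ hp ha).symm q = p'
        rw [LinearEquiv.symm_apply_eq, hs])
    have hk'K : k' ∈ K' := hle (show f k' ∈ (H : Subgroup (Iso Q)) by
      rw [hf, hk']; exact mul_mem (inv_mem (hR hrR)) hg)
    have : g = r * f k' := by rw [hf, hk', mul_inv_cancel_left]
    rw [this]
    exact mul_mem (Subgroup.mem_sup_right hrR) (Subgroup.mem_sup_left (Subgroup.mem_map_of_mem f hk'K))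
  rw [← H.3 hsup hHle]
  exact Subgroup.mem_sup_left (Subgroup.mem_map_of_mem f hk)

end Pair

theorem base {Q : V → ZMod 2} [Finite V] (hQ : Plus Q 1) (H : Sylow 2 (Iso Q)) :
    (H : Subgroup (Iso Q)) = ⊤ ∧ Nontrivial (Iso Q) := by
  classical
  haveI : Fintype V := Fintype.ofFinite V
  have hc : Fintype.card V = 4 := by rw [← Nat.card_eq_fintype_card, hQ.card, pow_one]
  have hs : ∑ v : V, χ (Q v) = 2 := by rw [← finsum_eq_sum_of_fintype, hQ.sign, pow_one]
  -- the singular vectors
  set S := Finset.univ.filter fun v : V => v ≠ 0 ∧ Q v = 0 with hS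
  have hS2 : S.card = 2 := by
    have e : ∀ v : V, χ (Q v) = 2 * (if Q v = 0 then 1 else 0) - 1 := fun v => by
      by_cases h : Q v = 0 <;> simp [χ, h]
    rw [Finset.sum_congr rfl fun v _ => e v, Finset.sum_sub_distrib, ← Finset.mul_sum, Finset.sum_boole,
      Finset.sum_const, Finset.card_univ, hc] at hs
    have h2 : S = (Finset.univ.filter fun v : V => Q v = 0).erase 0 := by ext v; simp [hS]
    have h3 : 0 ∈ Finset.univ.filter fun v : V => Q v = 0 := by simp [hQ.zero]
    rw [h2, Finset.card_erase_of_mem h3]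
    simp at hs
    omega
  obtain ⟨a, b, hab, hSe⟩ := Finset.card_eq_two.1 hS2
  have ha : a ≠ 0 ∧ Q a = 0 := by
    have : a ∈ S := by rw [hSe]; simp
    simpa [hS] using this
  have hb : b ≠ 0 ∧ Q b = 0 := by
    have : b ∈ S := by rw [hSe]; simp
    simpa [hS] using this
  have hmem : ∀ v : V, v ≠ 0 → Q v = 0 → v = a ∨ v = b := fun v h1 h2 => by
    have : v ∈ S := by simp [hS, h1, h2]
    rw [hSe] at this
    simpa using this
  have hBab : B Q a b = 1 := by
    rcases zmod_cases (B Q a b) with h | h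
    · exfalso
      have h1 : Q (a + b) = 0 := by rw [Q_add hQ, ha.2, hb.2, h]; rfl
      have h2 : a + b ≠ 0 := fun e => hab (by
        calc a = a + (b + b) := by rw [add_self, add_zero]
          _ = (a + b) + b := by rw [add_assoc]
          _ = b := by rw [e, zero_add])
      rcases hmem _ h2 h1 with e | e
      · exact hb.1 (add_eq_left.1 e)
      · exact ha.1 (add_eq_right.1 e)
    · exact h
  set w := a + b with hw
  have hQw : Q w = 1 := by rw [hw, Q_add hQ, ha.2, hb.2, hBab]; rfl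
  have hfix : ∀ g : Iso Q, (g : V ≃ₗ[ZMod 2] V) a = a → g = 1 := by
    intro g hga
    have hgb : (g : V ≃ₗ[ZMod 2] V) b = b := by
      rcases hmem _ (fun h => hb.1 ((LinearEquiv.map_eq_zero_iff _).1 h)) ((g.2 b).trans hb.2) with h | h
      · exact absurd ((g : V ≃ₗ[ZMod 2] V).injective (h.trans hga.symm)).symm hab
      · exact h
    obtain ⟨h, rfl⟩ := exists_extHom hQ ha.2 hb.2 hBab g hga hgb
    have hP := perp_plus hQ ha.2 hb.2 hBab le_rfl
    have h1 : Nat.card (perp hQ a b) = 1 := by rw [hP.card]; rfl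
    have : Subsingleton (perp hQ a b) := (Nat.card_eq_one_iff_unique.1 h1).1
    rw [show h = 1 from Subtype.ext (LinearEquiv.ext fun v => Subsingleton.elim _ _), map_one]
  haveI : Fact (Nat.Prime 2) := ⟨Nat.prime_two⟩
  -- the transvection
  have ht1 : ∀ v, Q (v + B Q v w • w) = Q v := fun v => by
    rw [Q_add hQ, B_smul_right hQ, Q_smul hQ, hQw]
    rcases zmod_cases (B Q v w) with h | h <;> rw [h] <;> rcases zmod_cases (Q v) with h' | h' <;> rw [h'] <;> rfl
  have ht2 : ∀ v, (v + B Q v w • w) + B Q (v + B Q v w • w) w • w = v := fun v => by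
    rw [hQ.add_left, B_smul hQ, B_self hQ, mul_zero, add_zero, add_assoc, add_self, add_zero]
  let t : V ≃ₗ[ZMod 2] V :=
    { toFun := fun v => v + B Q v w • w
      map_add' := fun u v => by rw [hQ.add_left, add_smul]; abel
      map_smul' := fun c v => by
        simp only [RingHom.id_apply, smul_add, smul_smul, B_smul hQ]
      invFun := fun v => v + B Q v w • w
      left_inv := ht2
      right_inv := ht2 }
  have hta : t a = b := by
    show a + B Q a w • w = b
    rw [hw, B_add_right hQ, B_self hQ, hBab, zero_add, one_smul, ← add_assoc, add_self, zero_add]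
  let T : Iso Q := ⟨t, ht1⟩
  have hne : T ≠ 1 := fun h => hab (by
    have := congrArg (fun x : Iso Q => (x : V ≃ₗ[ZMod 2] V) a) h
    exact this.symm.trans hta)
  have hall : ∀ g : Iso Q, g = 1 ∨ g = T := by
    intro g
    rcases hmem _ (fun h => ha.1 ((LinearEquiv.map_eq_zero_iff _).1 h)) ((g.2 a).trans ha.2) with h | h
    · exact Or.inl (hfix g h)
    · refine Or.inr ?_
      have : T⁻¹ * g = 1 := hfix _ (by
        show t.symm ((g : V ≃ₗ[ZMod 2] V) a) = a
        rw [h, LinearEquiv.symm_apply_eq, hta])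
      exact (inv_mul_eq_one.1 this).symm
  refine ⟨?_, nontrivial_of_ne T 1 hne⟩
  have hP : IsPGroup 2 (⊤ : Subgroup (Iso Q)) := fun g => ⟨1, by
    rcases hall g.1 with h | h
    · exact Subtype.ext (by simp [h])
    · refine Subtype.ext (Subtype.ext (LinearEquiv.ext fun v => ?_))
      rw [pow_one, pow_two]
      show (g.1 : V ≃ₗ[ZMod 2] V) ((g.1 : V ≃ₗ[ZMod 2] V) v) = v
      rw [h]
      exact ht2 v⟩
  exact (H.3 hP le_top).symm

theorem main : ∀ (m : ℕ), 1 ≤ m → ∀ (V : Type u) [AddCommGroup V] [Module (ZMod 2) V] [Finite V]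
    (Q : V → ZMod 2), Plus Q m → ∀ H H' : Sylow 2 (Iso Q),
    (H : Subgroup (Iso Q)) ⊓ (H' : Subgroup (Iso Q)) ≠ ⊥ := by
  intro m
  induction m using Nat.strong_induction_on with
  | _ m ih =>
    intro hm V _ _ _ Q hQ H H'
    rcases Nat.lt_or_ge m 2 with hm1 | hm2
    · obtain rfl : m = 1 := by omega
      obtain ⟨h, hn⟩ := base hQ H
      obtain ⟨h', -⟩ := base hQ H'
      rw [h, h', inf_top_eq]
      exact top_ne_bot
    classical
    obtain ⟨p, hp0, hp, hfix⟩ := exists_fixed_point hQ hm2 H H.2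
    obtain ⟨p', hp'0, hp', hfix'⟩ := exists_fixed_point hQ hm2 H' H'.2
    have hR := radical_le_sylow hQ hp H hfix
    have hR' := radical_le_sylow hQ hp' H' hfix'
    rcases zmod_cases (B Q p p') with hb | hb
    · rw [Subgroup.ne_bot_iff_exists_ne_one]
      by_cases hpp : p = p'
      · subst hpp
        -- a third vector orthogonal to `p`
        obtain ⟨a, ha, ha0, hap⟩ : ∃ a, B Q p a = 0 ∧ a ≠ 0 ∧ a ≠ p := by
          by_contra h
          push Not at h
          obtain ⟨w, hw⟩ := hQ.nondeg p hp0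
          haveI : Fintype V := Fintype.ofFinite V
          have hall : (Finset.univ : Finset V) ⊆ {0, p, w, p + w} := by
            intro v _
            rcases zmod_cases (B Q p v) with hv | hv
            · by_cases h0 : v = 0
              · simp [h0]
              · simp [h v hv h0]
            · have e : v = v + w + w := by rw [add_assoc, add_self, add_zero]
              have hvw : B Q p (v + w) = 0 := by rw [B_add_right hQ, hv, hw, z2]
              by_cases h0 : v + w = 0
              · rw [h0, zero_add] at e; simp [e]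
              · rw [h _ hvw h0] at e; simp [e]
          have h4 := (Finset.card_le_card hall).trans Finset.card_le_four
          rw [Finset.card_univ, ← Nat.card_eq_fintype_card, hQ.card] at h4
          have : 4 ^ 2 ≤ 4 ^ m := Nat.pow_le_pow_right (by norm_num) hm2
          omega
        refine ⟨⟨⟨sie hQ hp ha, sie_mem hQ hp ha⟩, hR ⟨a, ha, rfl⟩, hR' ⟨a, ha, rfl⟩⟩, fun h => ?_⟩
        have h' : ∀ v, sieFun Q p a v = v := fun v =>
          congrArg (fun x : Iso Q => (x : V ≃ₗ[ZMod 2] V) v) (congrArg Subtype.val h)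
        obtain ⟨w, hw⟩ := hQ.nondeg p hp0
        have := h' w
        rw [sieFun, B_comm Q w p, hw, mul_one, one_smul, add_assoc, add_eq_left] at this
        rcases zmod_cases (B Q w a + Q a) with hc | hc
        · rw [hc, zero_smul, zero_add] at this; exact ha0 this
        · rw [hc, one_smul] at this
          exact hap (by
            calc a = (p + p) + a := by rw [add_self, zero_add]
              _ = p + (p + a) := by rw [add_assoc]
              _ = p := by rw [this, add_zero])
      · have hb' : B Q p' p = 0 := by rw [B_comm]; exact hb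
        refine ⟨⟨⟨sie hQ hp hb, sie_mem hQ hp hb⟩, hR ⟨p', hb, rfl⟩,
          hR' ⟨p, hb', LinearEquiv.ext fun v => sie_symm_ne_one hQ hp hp' hb v⟩⟩, fun h => ?_⟩
        have h' : ∀ v, sieFun Q p p' v = v := fun v =>
          congrArg (fun x : Iso Q => (x : V ≃ₗ[ZMod 2] V) v) (congrArg Subtype.val h)
        obtain ⟨w, hw⟩ := hQ.nondeg p hp0
        have := h' w
        rw [sieFun, B_comm Q w p, hw, hp', mul_one, add_zero, one_smul, add_assoc, add_eq_left] at this
        rcases zmod_cases (B Q w p') with hc | hc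
        · rw [hc, zero_smul, zero_add] at this; exact hp'0 this
        · rw [hc, one_smul] at this
          exact hpp (by
            calc p = p + (p' + p') := by rw [add_self, add_zero]
              _ = (p + p') + p' := by rw [add_assoc]
              _ = p' := by rw [this, zero_add])
    · obtain ⟨K, hK⟩ := sylow_comap hQ hp hp' hb H hfix
      have hb' : B Q p' p = 1 := by rw [B_comm]; exact hb
      -- the same complement for the reversed pair
      let e : perp hQ p p' ≃ₗ[ZMod 2] perp hQ p' p :=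
        { toFun := fun v => ⟨v.1, v.2.2, v.2.1⟩
          invFun := fun v => ⟨v.1, v.2.2, v.2.1⟩
          map_add' := fun _ _ => rfl
          map_smul' := fun _ _ => rfl
          left_inv := fun _ => rfl
          right_inv := fun _ => rfl }
      let E : Iso (fun v : perp hQ p p' => Q v.1) ≃* Iso (fun v : perp hQ p' p => Q v.1) :=
        { toFun := fun g => ⟨(e.symm.trans g.1).trans e, fun v => g.2 (e.symm v)⟩
          invFun := fun g => ⟨(e.trans g.1).trans e.symm, fun v => g.2 (e v)⟩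
          left_inv := fun g => rfl
          right_inv := fun g => rfl
          map_mul' := fun g h => rfl }
      have hcompat : ∀ g, extHom hQ hp' hp hb' (E g) = extHom hQ hp hp' hb g := by
        intro g
        refine Subtype.ext (LinearEquiv.ext fun v => ?_)
        obtain ⟨⟨⟨a, b⟩, w⟩, rfl⟩ := (split hQ hp hp' hb).surjective v
        have e2 : split hQ hp hp' hb ((a, b), w) = split hQ hp' hp hb' ((b, a), e w) := by
          show a • p + b • p' + w.1 = b • p' + a • p + w.1
          rw [add_comm (a • p)]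
        conv_lhs => rw [e2]
        simp only [extHom, MonoidHom.coe_mk, OneHom.coe_mk, ext, LinearEquiv.trans_apply,
          LinearEquiv.symm_apply_apply]
        show b • p' + a • p + _ = a • p + b • p' + _
        rw [add_comm (a • p)]
        rfl
      obtain ⟨K', hK'⟩ := sylow_comap hQ hp' hp hb' H' hfix'
      have hK'c : IsPGroup 2 ((K' : Subgroup _).comap E.toMonoidHom) :=
        K'.2.comap_of_injective _ E.injective
      obtain ⟨K'', hK''⟩ := hK'c.exists_le_sylow
      have hK''eq : (K'' : Subgroup _) ≤ (K' : Subgroup _).comap E.toMonoidHom := by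
        intro g hg
        have h1 := K'.3 (K''.2.map E.toMonoidHom) fun x hx => ⟨E.symm x, hK'' (by
          show E (E.symm x) ∈ (K' : Subgroup _)
          rw [E.apply_symm_apply]; exact hx), E.apply_symm_apply x⟩
        show E g ∈ (K' : Subgroup _)
        rw [← h1]
        exact Subgroup.mem_map_of_mem _ hg
      have hne := ih (m - 1) (by omega) (by omega) _ _ (perp_plus hQ hp hp' hb (by omega)) K K''
      rw [Subgroup.ne_bot_iff_exists_ne_one] at hne ⊢
      obtain ⟨⟨g, hg1, hg2⟩, hg⟩ := hne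
      refine ⟨⟨extHom hQ hp hp' hb g, ?_, ?_⟩, fun h => hg (Subtype.ext ?_)⟩
      · have : g ∈ (K : Subgroup _) := hg1
        rw [hK] at this
        exact this
      · have h2 : E g ∈ (K' : Subgroup _) := hK''eq hg2
        rw [hK'] at h2
        rw [← hcompat]
        exact h2
      · exact extHom_injective hQ hp hp' hb ((congrArg Subtype.val h).trans (map_one _).symm)

end Cfsg.Lib.OPlusTwo
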