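import Cfsg.Agent.Known.OmegaClasses
import Cfsg.Agent.Classical.Orth.StdForms
import Cfsg.Agent.Classical.Orth.OmegaGen
import Mathlib

/-! Involutions negating hyperbolic planes, and orthogonal summands. -/

set_option autoImplicit false
set_option linter.style.haveILetI false
set_option linter.unusedSectionVars false

namespace Cfsg.Lib.OmegaCls

open Cfsg.Lib.Classical Cfsg.Lib.Classical.Refl

universe u

variable {F : Type u} [Field F] [Fintype F] {ι : Type} [Fintype ι] [DecidableEq ι] {Q : QuadraticForm F (ι → F)}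

/-- The involution negating `j` hyperbolic planes. -/
theorem exists_neg_pairs (hQ : (QuadraticMap.polarBilin Q).Nondegenerate) {i : ℕ}
    (e f : Fin (i + 1) → ι → F) (he : ∀ a, Q (e a) = 0) (hf : ∀ a, Q (f a) = 0)
    (hee : ∀ a b, QuadraticMap.polar (⇑Q) (e a) (e b) = 0) (hff : ∀ a b, QuadraticMap.polar (⇑Q) (f a) (f b) = 0)
    (hef : ∀ a b, QuadraticMap.polar (⇑Q) (e a) (f b) = if a = b then 1 else 0) (j : ℕ) (hj : j ≤ i + 1) :
    ∃ g : Cfsg.isometryGroup F (⇑Q),
      (∀ x, ((g : Matrix.GeneralLinearGroup ι F) : Matrix ι ι F).mulVec x = x - (2 : F) •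
        ∑ a ∈ Finset.univ.filter (fun a : Fin (i + 1) => (a : ℕ) < j),
          (QuadraticMap.polar (⇑Q) (f a) x • e a + QuadraticMap.polar (⇑Q) (e a) x • f a)) ∧
      ∀ (h1 : Q (e 0 + f 0) ≠ 0) (h2 : Q (e 0 - f 0) ≠ 0), Abelianization.of g =
        (Abelianization.of (refl Q (e 0 + f 0) h1) * Abelianization.of (refl Q (e 0 - f 0) h2)) ^ j := by
  classical
  induction j with
  | zero => exact ⟨1, fun x => by simp, fun _ _ => by simp⟩
  | succ j ih =>
    obtain ⟨g, hg, hgc⟩ := ih (by omega)
    set a : Fin (i + 1) := ⟨j, by omega⟩ with ha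
    have hp : Q (e a + f a) = 1 := by rw [QuadraticMap.map_add (f := Q), he, hf, hef, if_pos rfl]; ring
    have hm : Q (e a - f a) = -1 := by
      rw [sub_eq_add_neg, QuadraticMap.map_add (f := Q), QuadraticMap.map_neg, he, hf, QuadraticMap.polar_neg_right,
        hef, if_pos rfl]
      ring
    refine ⟨refl Q (e a + f a) (by rw [hp]; exact one_ne_zero) * refl Q (e a - f a) (by rw [hm]; simp) * g,
      fun x => ?_, fun h1 h2 => ?_⟩
    · rw [mulVec_mul, mulVec_mul, hg]
      set S := ∑ b ∈ Finset.univ.filter (fun b : Fin (i + 1) => (b : ℕ) < j),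
        (QuadraticMap.polar (⇑Q) (f b) x • e b + QuadraticMap.polar (⇑Q) (e b) x • f b) with hS
      have hset : Finset.univ.filter (fun b : Fin (i + 1) => (b : ℕ) < j + 1) =
          insert a (Finset.univ.filter (fun b : Fin (i + 1) => (b : ℕ) < j)) := by
        ext b; simp [ha, Fin.ext_iff]; omega
      rw [hset, Finset.sum_insert (by simp [ha]), ← hS]
      have horth : ∀ w, (w = e a ∨ w = f a) → QuadraticMap.polar (⇑Q) w S = 0 := fun w hw => by
        show QuadraticMap.polarBilin Q w S = 0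
        rw [hS, map_sum]
        refine Finset.sum_eq_zero fun b hb => ?_
        have hba : a ≠ b := by
          intro h; simp [← h, ha] at hb
        show QuadraticMap.polar (⇑Q) w _ = 0
        rw [QuadraticMap.polar_add_right, QuadraticMap.polar_smul_right, QuadraticMap.polar_smul_right]
        rcases hw with rfl | rfl
        · simp [hee, hef, hba]
        · rw [QuadraticMap.polar_comm (⇑Q) (f a) (e b), hef, if_neg (Ne.symm hba), hff]; simp
      have hfe : QuadraticMap.polar (⇑Q) (f a) (e a) = 1 := by rw [QuadraticMap.polar_comm, hef, if_pos rfl]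
      have hef' : QuadraticMap.polar (⇑Q) (e a) (f a) = 1 := by rw [hef, if_pos rfl]
      rw [coe_refl, coe_refl, mulVec_eq, mulVec_eq, hp, hm]
      simp only [sub_eq_add_neg, ← neg_smul, QuadraticMap.polar_add_left, QuadraticMap.polar_neg_left,
        QuadraticMap.polar_add_right, QuadraticMap.polar_smul_right, QuadraticMap.polar_neg_right,
        horth _ (Or.inl rfl), horth _ (Or.inr rfl), hef', hfe, hee, hff, smul_eq_mul, inv_one, inv_neg]
      match_scalars <;> ring
    · rw [map_mul, map_mul, hgc h1 h2, pow_succ',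
        cls_eq hQ (u := e a + f a) (v := e 0 + f 0) _ h1 ⟨1, by
          rw [hp, QuadraticMap.map_add (f := Q), he, hf, hef, if_pos rfl]; ring⟩,
        cls_eq hQ (u := e a - f a) (v := e 0 - f 0) _ h2 ⟨1, by
          rw [hm, sub_eq_add_neg, QuadraticMap.map_add (f := Q), QuadraticMap.map_neg, he, hf,
            QuadraticMap.polar_neg_right, hef, if_pos rfl]; ring⟩]

/-- The criterion for an involution negating `i` hyperbolic planes. -/
theorem neg_pairs_iff (h2 : (2 : F) ≠ 0) (hQ : (QuadraticMap.polarBilin Q).Nondegenerate) {i : ℕ}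
    (e f : Fin (i + 1) → ι → F) (he : ∀ a, Q (e a) = 0) (hf : ∀ a, Q (f a) = 0)
    (hee : ∀ a b, QuadraticMap.polar (⇑Q) (e a) (e b) = 0) (hff : ∀ a b, QuadraticMap.polar (⇑Q) (f a) (f b) = 0)
    (hef : ∀ a b, QuadraticMap.polar (⇑Q) (e a) (f b) = if a = b then 1 else 0) (D : Matrix ι ι F)
    (hD : ∀ x, D.mulVec x = x - (2 : F) •
        ∑ a, (QuadraticMap.polar (⇑Q) (f a) x • e a + QuadraticMap.polar (⇑Q) (e a) x • f a)) :
    (∃ g : Cfsg.isometryGroup F (⇑Q), g ∈ Cfsg.Omega F (⇑Q) ∧
      ((g : Matrix.GeneralLinearGroup ι F) : Matrix ι ι F) = D) ↔ Fintype.card F ^ (i + 1) % 4 = 1 := by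
  classical
  have hcard : 2 ≤ Fintype.card ι := by
    by_contra hlt
    haveI : Subsingleton ι := Fintype.card_le_one_iff_subsingleton.1 (by omega)
    rcases isEmpty_or_nonempty ι with hι | ⟨⟨k⟩⟩
    · have h := hef 0 0
      rw [Subsingleton.elim (e 0) 0, QuadraticMap.polar_zero_left, if_pos rfl] at h
      exact zero_ne_one h
    · have hk : ∀ w : ι → F, w = w k • (fun _ => (1 : F)) := fun w => funext fun l => by
        rw [Subsingleton.elim l k]; simp
      have h0 := he 0
      rw [hk (e 0), QuadraticMap.map_smul, smul_eq_mul] at h0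
      have h := hef 0 0
      rw [hk (e 0), hk (f 0), QuadraticMap.polar_smul_left, QuadraticMap.polar_smul_right, QuadraticMap.polar_self,
        if_pos rfl] at h
      rcases mul_eq_zero.1 h0 with h' | h'
      · have : e 0 k = 0 := mul_self_eq_zero.1 h'
        simp [this] at h
      · simp [h'] at h
  have hp : Q (e 0 + f 0) = 1 := by rw [QuadraticMap.map_add (f := Q), he, hf, hef, if_pos rfl]; ring
  have hm : Q (e 0 - f 0) = -1 := by
    rw [sub_eq_add_neg, QuadraticMap.map_add (f := Q), QuadraticMap.map_neg, he, hf, QuadraticMap.polar_neg_right,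
      hef, if_pos rfl]
    ring
  have h1 : Q (e 0 + f 0) ≠ 0 := by rw [hp]; exact one_ne_zero
  have h1' : Q (e 0 - f 0) ≠ 0 := by rw [hm]; simp
  obtain ⟨g, hg, hgc⟩ := exists_neg_pairs hQ e f he hf hee hff hef (i + 1) le_rfl
  have hgD : ((g : Matrix.GeneralLinearGroup ι F) : Matrix ι ι F) = D := by
    refine Matrix.toLin'.injective (LinearMap.ext fun x => ?_)
    rw [Matrix.toLin'_apply, Matrix.toLin'_apply, hg, hD,
      Finset.filter_true_of_mem (fun (a : Fin (i + 1)) _ => a.2)]
  have hiff : (∃ g' : Cfsg.isometryGroup F (⇑Q), g' ∈ Cfsg.Omega F (⇑Q) ∧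
      ((g' : Matrix.GeneralLinearGroup ι F) : Matrix ι ι F) = D) ↔ Abelianization.of g = 1 := by
    rw [← omega_iff]
    exact ⟨fun ⟨g', hg', he'⟩ => (Subtype.ext (Units.ext (he'.trans hgD.symm)) : g' = g) ▸ hg',
      fun h => ⟨g, h, hgD⟩⟩
  rw [hiff, hgc h1 h1']
  have hsq : (Abelianization.of (refl Q (e 0 + f 0) h1) * Abelianization.of (refl Q (e 0 - f 0) h1')) ^ 2 = 1 := by
    rw [sq, mul_mul_mul_comm, cls_sq h1, cls_sq h1', one_mul]
  have hone : Abelianization.of (refl Q (e 0 + f 0) h1) * Abelianization.of (refl Q (e 0 - f 0) h1') = 1 ↔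
      IsSquare (-1 : F) := by
    constructor
    · intro h
      have := congrArg (Abelianization.lift (spin Q)) h
      rw [map_mul, map_one, Abelianization.lift_apply_of, Abelianization.lift_apply_of] at this
      have h3 := (spin_eq_iff Q h2 hQ hcard h1 h1').1 (by
        rw [← Int.units_inv_eq_self (spin Q (refl Q (e 0 - f 0) h1'))]; exact eq_inv_of_mul_eq_one_left this)
      rwa [hp, hm, one_mul] at h3
    · intro h
      rw [cls_eq hQ h1 h1' (by rwa [hp, hm, one_mul]), cls_sq h1']
  have hq2 : ringChar F ≠ 2 := fun h => h2 (by haveI := ringChar.of_eq h; exact CharTwo.two_eq_zero)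
  have hodd : Fintype.card F % 2 = 1 := FiniteField.odd_card_of_char_ne_two hq2
  have hm4 : IsSquare (-1 : F) ↔ Fintype.card F % 4 ≠ 3 := FiniteField.isSquare_neg_one_iff
  rw [Nat.pow_mod]
  generalize Abelianization.of (refl Q (e 0 + f 0) h1) * Abelianization.of (refl Q (e 0 - f 0) h1') = y at hsq hone ⊢
  rcases Nat.even_or_odd (i + 1) with ⟨c, hc⟩ | ⟨c, hc⟩
  · rw [hc, ← two_mul, pow_mul, hsq, one_pow, pow_mul]
    refine iff_of_true rfl ?_
    have : (Fintype.card F % 4) ^ 2 % 4 = 1 := by
      obtain h | h : Fintype.card F % 4 = 1 ∨ Fintype.card F % 4 = 3 := by omega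
      all_goals simp [h]
    rw [Nat.pow_mod, this, one_pow]; rfl
  · rw [hc, pow_succ, pow_mul, hsq, one_pow, one_mul, hone, hm4, pow_succ, pow_mul]
    have : (Fintype.card F % 4) ^ 2 % 4 = 1 := by
      obtain h | h : Fintype.card F % 4 = 1 ∨ Fintype.card F % 4 = 3 := by omega
      all_goals simp [h]
    rw [Nat.mul_mod, Nat.pow_mod, this, one_pow]
    omega

end Cfsg.Lib.OmegaCls
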