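import Cfsg.Agent.Known.OmegaClasses
import Mathlib

/-! `Ω` and orthogonal summands. -/

set_option autoImplicit false
set_option linter.style.haveILetI false
set_option linter.unusedSectionVars false

namespace Cfsg.Lib.OmegaCls

open Cfsg.Lib.Classical Cfsg.Lib.Classical.Refl

universe u

variable {F : Type u} [Field F] {α β : Type} [Fintype α] [DecidableEq α] [Fintype β] [DecidableEq β]

/-- The orthogonal sum of two forms. -/
def sumForm (Q₁ : QuadraticForm F (α → F)) (Q₂ : QuadraticForm F (β → F)) : QuadraticForm F (α ⊕ β → F) :=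
  Q₁.comp (LinearMap.funLeft F F Sum.inl) + Q₂.comp (LinearMap.funLeft F F Sum.inr)

theorem sumForm_coe (Q₁ : QuadraticForm F (α → F)) (Q₂ : QuadraticForm F (β → F)) :
    (⇑(sumForm Q₁ Q₂)) = fun v : α ⊕ β → F => Q₁ (v ∘ Sum.inl) + Q₂ (v ∘ Sum.inr) := rfl

theorem sumForm_polar (Q₁ : QuadraticForm F (α → F)) (Q₂ : QuadraticForm F (β → F)) (x y : α ⊕ β → F) :
    QuadraticMap.polar (⇑(sumForm Q₁ Q₂)) x y = QuadraticMap.polar (⇑Q₁) (x ∘ Sum.inl) (y ∘ Sum.inl) +
      QuadraticMap.polar (⇑Q₂) (x ∘ Sum.inr) (y ∘ Sum.inr) := by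
  simp only [QuadraticMap.polar, sumForm_coe]
  rw [show (x + y) ∘ Sum.inl = x ∘ Sum.inl + y ∘ Sum.inl from rfl, show (x + y) ∘ Sum.inr = x ∘ Sum.inr + y ∘ Sum.inr from rfl]
  ring

theorem sumForm_nondegenerate {Q₁ : QuadraticForm F (α → F)} {Q₂ : QuadraticForm F (β → F)}
    (h₁ : (QuadraticMap.polarBilin Q₁).Nondegenerate) (h₂ : (QuadraticMap.polarBilin Q₂).Nondegenerate) :
    (QuadraticMap.polarBilin (sumForm Q₁ Q₂)).Nondegenerate := by
  have h : ∀ x, (∀ y, QuadraticMap.polar (⇑(sumForm Q₁ Q₂)) x y = 0) → x = 0 := fun x hx => by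
    have e1 := h₁.1 (x ∘ Sum.inl) fun y => by
      have h := hx (Sum.elim y 0)
      rw [sumForm_polar, Sum.elim_comp_inl, Sum.elim_comp_inr, QuadraticMap.polar_zero_right, add_zero] at h
      exact h
    have e2 := h₂.1 (x ∘ Sum.inr) fun y => by
      have h := hx (Sum.elim 0 y)
      rw [sumForm_polar, Sum.elim_comp_inl, Sum.elim_comp_inr, QuadraticMap.polar_zero_right, zero_add] at h
      exact h
    funext i
    rcases i with i | i
    · exact congrFun e1 i
    · exact congrFun e2 i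
  exact ⟨h, fun x hx => h x fun y => by rw [QuadraticMap.polar_comm]; exact hx y⟩

variable (Q₁ : QuadraticForm F (α → F)) (Q₂ : QuadraticForm F (β → F))

/-- The first factor. -/
def emb : Cfsg.isometryGroup F (⇑Q₁) →* Cfsg.isometryGroup F (⇑(sumForm Q₁ Q₂)) where
  toFun g := ⟨{ val := Matrix.fromBlocks ((g : Matrix.GeneralLinearGroup α F) : Matrix α α F) 0 0 1
                inv := Matrix.fromBlocks (((g : Matrix.GeneralLinearGroup α F)⁻¹ : Matrix.GeneralLinearGroup α F) : Matrix α α F) 0 0 1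
                val_inv := by rw [Matrix.fromBlocks_multiply, ← Units.val_mul, mul_inv_cancel]; simp
                inv_val := by rw [Matrix.fromBlocks_multiply, ← Units.val_mul, inv_mul_cancel]; simp },
    (mem_iff _).2 fun x => by
      simp only [Matrix.fromBlocks_mulVec, sumForm_coe, Sum.elim_comp_inl, Sum.elim_comp_inr, Matrix.zero_mulVec,
        add_zero, zero_add, Matrix.one_mulVec]
      rw [(mem_iff Q₁).1 g.2]⟩
  map_one' := Subtype.ext (Units.ext (by simp))
  map_mul' g h := Subtype.ext (Units.ext (by simp [Matrix.fromBlocks_multiply]))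

theorem coe_emb (g : Cfsg.isometryGroup F (⇑Q₁)) :
    ((emb Q₁ Q₂ g : Matrix.GeneralLinearGroup (α ⊕ β) F) : Matrix (α ⊕ β) (α ⊕ β) F) =
      Matrix.fromBlocks ((g : Matrix.GeneralLinearGroup α F) : Matrix α α F) 0 0 1 := rfl

theorem val_inl (v : α → F) : sumForm Q₁ Q₂ (Sum.elim v 0) = Q₁ v := by
  simp [sumForm_coe]

theorem emb_refl (v : α → F) (hv : Q₁ v ≠ 0) :
    emb Q₁ Q₂ (refl Q₁ v hv) = refl (sumForm Q₁ Q₂) (Sum.elim v 0) (by rw [val_inl]; exact hv) := by
  refine ext_mulVec _ fun x => ?_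
  show Matrix.mulVec (Matrix.fromBlocks (Cfsg.reflectionMatrix (⇑Q₁) v) 0 0 1) x =
    Matrix.mulVec (Cfsg.reflectionMatrix (⇑(sumForm Q₁ Q₂)) (Sum.elim v 0)) x
  rw [Matrix.fromBlocks_mulVec, mulVec_eq, mulVec_eq, val_inl, sumForm_polar, Sum.elim_comp_inl, Sum.elim_comp_inr,
    QuadraticMap.polar_zero_left, add_zero]
  funext i
  rcases i with i | i <;> simp

variable [Fintype F]

theorem emb_omega (g : Cfsg.isometryGroup F (⇑Q₁)) (hg : g ∈ Cfsg.Omega F (⇑Q₁)) :
    emb Q₁ Q₂ g ∈ Cfsg.Omega F (⇑(sumForm Q₁ Q₂)) :=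
  (omega_iff _).2 (hom_eq_one_of_omega Q₁ (Abelianization.of.comp (emb Q₁ Q₂)) hg)

theorem emb_omega_iff (h₁ : (QuadraticMap.polarBilin Q₁).Nondegenerate) (h₂ : (QuadraticMap.polarBilin Q₂).Nondegenerate)
    (h : Fintype.card F ≠ 2 ∨ Fintype.card α ≠ 4) (g : Cfsg.isometryGroup F (⇑Q₁)) :
    emb Q₁ Q₂ g ∈ Cfsg.Omega F (⇑(sumForm Q₁ Q₂)) ↔ g ∈ Cfsg.Omega F (⇑Q₁) := by
  classical
  refine ⟨fun hg => ?_, emb_omega Q₁ Q₂ g⟩
  rcases isEmpty_or_nonempty α with hα | hα
  · have : g = 1 := Subtype.ext (Units.ext (Subsingleton.elim _ _))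
    rw [this]; exact Subgroup.one_mem _
  have hn : 1 ≤ Fintype.card α := Fintype.card_pos
  have hbig := sumForm_nondegenerate h₁ h₂
  have hd : dickson Q₁ h₁ g = 1 := by
    have key : ∀ x, dickson (sumForm Q₁ Q₂) hbig (emb Q₁ Q₂ x) = dickson Q₁ h₁ x := fun x => by
      induction mem_closure_refl Q₁ h₁ h x using Subgroup.closure_induction with
      | mem r hr => obtain ⟨v, hv, rfl⟩ := hr; rw [emb_refl, dickson_refl, dickson_refl]
      | one => simp
      | mul a b _ _ ha hb => rw [map_mul, map_mul, map_mul, ha, hb]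
      | inv a _ ha => rw [map_inv, map_inv, map_inv, ha]
    rw [← key]
    exact hom_eq_one_of_omega _ (dickson _ hbig) hg
  by_cases h2 : (2 : F) = 0
  · haveI : CharP F 2 := CharTwo.of_one_ne_zero_of_two_eq_zero one_ne_zero h2
    exact (dickson_iff h₁ hn h g).2 hd
  have hdet : detHom Q₁ g = 1 := by
    refine Units.ext ?_
    show ((g : Matrix.GeneralLinearGroup α F) : Matrix α α F).det = 1
    rw [det_dickson h2 h₁ g, hd]; simp
  rcases Nat.lt_or_ge (Fintype.card α) 2 with h1 | h1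
  · haveI : Unique α := Classical.choice (Fintype.card_eq_one_iff_nonempty_unique.1 (by omega))
    have : g = 1 := by
      refine Subtype.ext (Units.ext (Matrix.ext fun i j => ?_))
      have hd' := congrArg Units.val hdet
      change ((g : Matrix.GeneralLinearGroup α F) : Matrix α α F).det = 1 at hd'
      rw [Matrix.det_unique] at hd'
      rw [Unique.eq_default i, Unique.eq_default j, hd']
      simp
    rw [this]; exact Subgroup.one_mem _
  rw [mem_omega_iff Q₁ h2 h₁ h1]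
  refine ⟨hdet, ?_⟩
  have hcard : 2 ≤ Fintype.card (α ⊕ β) := by rw [Fintype.card_sum]; omega
  let η : Cfsg.isometryGroup F (⇑Q₁) →* ℤˣ := (spin (sumForm Q₁ Q₂)).comp (emb Q₁ Q₂) * spin Q₁
  obtain ⟨a, ha⟩ := exists_ne_zero h₁ hn
  have hη : ∀ v (hv : Q₁ v ≠ 0), η (refl Q₁ v hv) = η (refl Q₁ a ha) := by
    intro v hv
    have hv' : sumForm Q₁ Q₂ (Sum.elim v 0) ≠ 0 := by rw [val_inl]; exact hv
    have ha' : sumForm Q₁ Q₂ (Sum.elim a 0) ≠ 0 := by rw [val_inl]; exact ha
    show spin (sumForm Q₁ Q₂) (emb Q₁ Q₂ (refl Q₁ v hv)) * spin Q₁ (refl Q₁ v hv) =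
      spin (sumForm Q₁ Q₂) (emb Q₁ Q₂ (refl Q₁ a ha)) * spin Q₁ (refl Q₁ a ha)
    rw [emb_refl, emb_refl]
    have e1 := spin_eq_iff (sumForm Q₁ Q₂) h2 hbig hcard hv' ha'
    have e2 := spin_eq_iff Q₁ h2 h₁ h1 hv ha
    rw [val_inl, val_inl, ← e2] at e1
    generalize spin (sumForm Q₁ Q₂) (refl _ (Sum.elim v 0) hv') = A at e1 ⊢
    generalize spin (sumForm Q₁ Q₂) (refl _ (Sum.elim a 0) ha') = B at e1 ⊢
    generalize spin Q₁ (refl Q₁ v hv) = C at e1 ⊢
    generalize spin Q₁ (refl Q₁ a ha) = D at e1 ⊢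
    rcases Int.units_eq_one_or A with rfl | rfl <;> rcases Int.units_eq_one_or B with rfl | rfl <;>
      rcases Int.units_eq_one_or C with rfl | rfl <;> rcases Int.units_eq_one_or D with rfl | rfl <;> simp_all
  have hηd : ∀ x, η x = if dickson Q₁ h₁ x = 1 then 1 else η (refl Q₁ a ha) := fun x => by
    induction mem_closure_refl Q₁ h₁ h x using Subgroup.closure_induction with
    | mem r hr => obtain ⟨v, hv, rfl⟩ := hr; rw [dickson_refl, if_neg (by decide), hη]
    | one => simp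
    | mul y z _ _ hy hz =>
      rw [map_mul, map_mul, hy, hz]
      rcases Int.units_eq_one_or (dickson Q₁ h₁ y) with e | e <;>
        rcases Int.units_eq_one_or (dickson Q₁ h₁ z) with e' | e' <;> simp [e, e', Int.units_mul_self]
    | inv y _ hy =>
      rw [map_inv, map_inv, hy]
      rcases Int.units_eq_one_or (dickson Q₁ h₁ y) with e | e <;> simp [e, Int.units_inv_eq_self]
  have h3 := hηd g
  rw [hd, if_pos rfl] at h3
  have h4 : spin (sumForm Q₁ Q₂) (emb Q₁ Q₂ g) = 1 := hom_eq_one_of_omega _ _ hg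
  change spin (sumForm Q₁ Q₂) (emb Q₁ Q₂ g) * spin Q₁ g = 1 at h3
  rwa [h4, one_mul] at h3

/-- The doubled isometry. -/
theorem diag_omega (Q : QuadraticForm F (α → F)) (hQ : (QuadraticMap.polarBilin Q).Nondegenerate)
    (h : Fintype.card F ≠ 2 ∨ Fintype.card α ≠ 2) (g : Cfsg.isometryGroup F (⇑Q)) :
    ∃ x : Cfsg.isometryGroup F (⇑(sumForm Q Q)), x ∈ Cfsg.Omega F (⇑(sumForm Q Q)) ∧
      ((x : Matrix.GeneralLinearGroup (α ⊕ α) F) : Matrix (α ⊕ α) (α ⊕ α) F) =
        Matrix.fromBlocks ((g : Matrix.GeneralLinearGroup α F) : Matrix α α F) 0 0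
          ((g : Matrix.GeneralLinearGroup α F) : Matrix α α F) := by
  classical
  have hbig := sumForm_nondegenerate hQ hQ
  have hswap : (Matrix.fromBlocks (0 : Matrix α α F) 1 1 (0 : Matrix α α F)) * Matrix.fromBlocks 0 1 1 0 = 1 := by
    simp [Matrix.fromBlocks_multiply]
  let s : Cfsg.isometryGroup F (⇑(sumForm Q Q)) :=
    ⟨⟨Matrix.fromBlocks 0 1 1 0, Matrix.fromBlocks 0 1 1 0, hswap, hswap⟩, (mem_iff _).2 fun x => by
      simp only [Matrix.fromBlocks_mulVec, sumForm_coe, Sum.elim_comp_inl, Sum.elim_comp_inr, Matrix.zero_mulVec,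
        add_zero, zero_add, Matrix.one_mulVec]
      exact add_comm _ _⟩
  refine ⟨emb Q Q g * (s * emb Q Q g * s⁻¹), (omega_iff _).2 ?_, ?_⟩
  · rw [map_mul, map_mul, map_mul, map_inv, mul_comm (Abelianization.of s), mul_inv_cancel_right]
    suffices hsq : ∀ y : Cfsg.isometryGroup F (⇑(sumForm Q Q)), Abelianization.of y * Abelianization.of y = 1 from hsq _
    intro y
    have hne : Fintype.card F ≠ 2 ∨ Fintype.card (α ⊕ α) ≠ 4 := h.imp_right fun hc => by
      rw [Fintype.card_sum]; omega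
    induction mem_closure_refl (sumForm Q Q) hbig hne y using Subgroup.closure_induction with
    | mem r hr => obtain ⟨v, hv, rfl⟩ := hr; exact cls_sq hv
    | one => simp
    | mul a b _ _ ha hb => rw [map_mul, mul_mul_mul_comm, ha, hb, one_mul]
    | inv a _ ha => rw [map_inv, ← mul_inv, ha, inv_one]
  · show Matrix.fromBlocks _ 0 0 1 * (Matrix.fromBlocks 0 1 1 0 * Matrix.fromBlocks _ 0 0 1 * Matrix.fromBlocks 0 1 1 0) = _
    simp [Matrix.fromBlocks_multiply]

end Cfsg.Lib.OmegaCls
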