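import Cfsg.Agent.Known.OmegaClasses
import Cfsg.Agent.Classical.Orth.OmegaGen
import Cfsg.Agent.Classical.Misc.Witt
import Mathlib

/-! `Ω` on subspaces of the natural module. -/

set_option autoImplicit false
set_option linter.style.haveILetI false
set_option linter.unusedSectionVars false

open Submodule

namespace Cfsg.Lib.OmegaCls

open Cfsg.Lib.Classical Cfsg.Lib.Classical.Refl

universe u

variable {F : Type u} [Field F] [Fintype F] {ι : Type} [Fintype ι] [DecidableEq ι] {Q : QuadraticForm F (ι → F)}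

theorem exists_isometry (hQ : (QuadraticMap.polarBilin Q).Nondegenerate) (U W : Submodule F (ι → F)) (e : U ≃ₗ[F] W)
    (he : ∀ u : U, Q (e u : ι → F) = Q (u : ι → F)) :
    ∃ g : Cfsg.isometryGroup F (⇑Q),
      U.map (Matrix.mulVecLin ((g : Matrix.GeneralLinearGroup ι F) : Matrix ι ι F)) = W := by
  obtain ⟨E, hE, hEe⟩ := WittQuad.witt Q hQ U W e he
  obtain ⟨g, hg⟩ := exists_of_equiv Q E hE
  refine ⟨g, le_antisymm ?_ fun w hw => ?_⟩
  · rintro _ ⟨u, hu, rfl⟩
    show Matrix.mulVec _ u ∈ W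
    rw [hg, hEe ⟨u, hu⟩]
    exact (e ⟨u, hu⟩).2
  · refine ⟨(e.symm ⟨w, hw⟩ : U), (e.symm ⟨w, hw⟩).2, ?_⟩
    show Matrix.mulVec _ _ = w
    rw [hg, hEe, e.apply_symm_apply]

theorem map_mul (g h : Cfsg.isometryGroup F (⇑Q)) (U : Submodule F (ι → F)) :
    U.map (Matrix.mulVecLin (((g * h : Cfsg.isometryGroup F (⇑Q)) : Matrix.GeneralLinearGroup ι F) : Matrix ι ι F)) =
      (U.map (Matrix.mulVecLin ((h : Matrix.GeneralLinearGroup ι F) : Matrix ι ι F))).map
        (Matrix.mulVecLin ((g : Matrix.GeneralLinearGroup ι F) : Matrix ι ι F)) := by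
  rw [Subgroup.coe_mul, Units.val_mul, Matrix.mulVecLin_mul, Submodule.map_comp]

/-- A singular vector and a singular partner. -/
theorem exists_partner (hQ : (QuadraticMap.polarBilin Q).Nondegenerate) {e : ι → F} (he0 : e ≠ 0) (he : Q e = 0) :
    ∃ f, Q f = 0 ∧ QuadraticMap.polar (⇑Q) e f = 1 := by
  obtain ⟨y, hy⟩ : ∃ y, QuadraticMap.polar (⇑Q) e y ≠ 0 := by
    by_contra h
    push Not at h
    exact he0 (hQ.1 e h)
  obtain ⟨z, hz⟩ : ∃ z, QuadraticMap.polar (⇑Q) e z = 1 := ⟨(QuadraticMap.polar (⇑Q) e y)⁻¹ • y, by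
    rw [QuadraticMap.polar_smul_right, smul_eq_mul, inv_mul_cancel₀ hy]⟩
  refine ⟨z - Q z • e, ?_, ?_⟩
  · rw [sub_eq_add_neg, ← neg_smul, QuadraticMap.map_add (f := Q), QuadraticMap.map_smul, he,
      QuadraticMap.polar_smul_right, QuadraticMap.polar_comm (⇑Q) z e, hz, smul_eq_mul, smul_eq_mul]
    ring
  · rw [sub_eq_add_neg, ← neg_smul, QuadraticMap.polar_add_right, QuadraticMap.polar_smul_right, hz,
      QuadraticMap.polar_self, he, smul_zero, smul_zero, add_zero]

theorem val_pair {e f : ι → F} (he : Q e = 0) (hf : Q f = 0) (hef : QuadraticMap.polar (⇑Q) e f = 1) (a : F) :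
    Q (e + a • f) = a := by
  rw [QuadraticMap.map_add (f := Q), QuadraticMap.map_smul, he, hf, QuadraticMap.polar_smul_right, hef, smul_eq_mul,
    smul_eq_mul]
  ring

/-- A product of two reflections fixing a totally singular subspace. -/
theorem pair_mem_stab {W : Submodule F (ι → F)} (hW : ∀ w ∈ W, Q w = 0) {e f : ι → F} (he : e ∈ W) (hf : Q f = 0)
    (hef : QuadraticMap.polar (⇑Q) e f = 1) {a b : F} (ha : a ≠ 0) (hb : b ≠ 0) :
    refl Q (e + a • f) (by rw [val_pair (hW e he) hf hef]; exact ha) *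
      refl Q (e + b • f) (by rw [val_pair (hW e he) hf hef]; exact hb) ∈ stab W := by
  refine mem_stab_of_forall W _ fun w hw => ?_
  have hew : QuadraticMap.polar (⇑Q) e w = 0 := HypQuad.polar_zero_of_singular Q hW he hw
  have hee : QuadraticMap.polar (⇑Q) e e = 0 := HypQuad.polar_zero_of_singular Q hW he he
  have hff : QuadraticMap.polar (⇑Q) f f = 0 := by rw [QuadraticMap.polar_self, hf, smul_zero]
  have hfe : QuadraticMap.polar (⇑Q) f e = 1 := by rw [QuadraticMap.polar_comm]; exact hef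
  set t := QuadraticMap.polar (⇑Q) f w
  rw [mulVec_mul, coe_refl, coe_refl, mulVec_eq, mulVec_eq, val_pair (hW e he) hf hef, val_pair (hW e he) hf hef]
  have key : w - (b⁻¹ * QuadraticMap.polar (⇑Q) (e + b • f) w) • (e + b • f) -
      (a⁻¹ * QuadraticMap.polar (⇑Q) (e + a • f)
        (w - (b⁻¹ * QuadraticMap.polar (⇑Q) (e + b • f) w) • (e + b • f))) • (e + a • f) = w + (t * (b / a - 1)) • e := by
    simp only [sub_eq_add_neg, ← neg_smul, QuadraticMap.polar_add_left, QuadraticMap.polar_smul_left,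
      QuadraticMap.polar_add_right, QuadraticMap.polar_smul_right, hew, hef, hfe, hee, hff, smul_eq_mul]
    match_scalars <;> field_simp <;> ring
  rw [key]
  exact W.add_mem hw (W.smul_mem _ he)

/-- Moving a subspace within an orbit by an element of `Ω`. -/
theorem exists_omega_map (hQ : (QuadraticMap.polarBilin Q).Nondegenerate) (h : Fintype.card F ≠ 2 ∨ Fintype.card ι ≠ 4)
    (U W : Submodule F (ι → F)) (e : U ≃ₗ[F] W) (he : ∀ u : U, Q (e u : ι → F) = Q (u : ι → F))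
    (hH : ∀ v (hv : Q v ≠ 0), ∃ x ∈ stab W, Abelianization.of x = Abelianization.of (refl Q v hv)) :
    ∃ g : Cfsg.isometryGroup F (⇑Q), g ∈ Cfsg.Omega F (⇑Q) ∧
      U.map (Matrix.mulVecLin ((g : Matrix.GeneralLinearGroup ι F) : Matrix ι ι F)) = W := by
  obtain ⟨g, hg⟩ := exists_isometry hQ U W e he
  obtain ⟨x, hx, hxg⟩ := adjust hQ h (stab W) hH g
  exact ⟨x * g, hxg, by rw [map_mul, hg]; exact hx⟩

/-- Nondegenerate subspaces. -/
theorem omega_nondegenerate (hQ : (QuadraticMap.polarBilin Q).Nondegenerate) (hn : 3 ≤ Fintype.card ι)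
    (h : Fintype.card F ≠ 2 ∨ Fintype.card ι ≠ 4) (U W : Submodule F (ι → F))
    (hW : W ⊓ HypQuad.perp Q W = ⊥) (e : U ≃ₗ[F] W) (he : ∀ u : U, Q (e u : ι → F) = Q (u : ι → F)) :
    ∃ g : Cfsg.isometryGroup F (⇑Q), g ∈ Cfsg.Omega F (⇑Q) ∧
      U.map (Matrix.mulVecLin ((g : Matrix.GeneralLinearGroup ι F) : Matrix ι ι F)) = W := by
  refine exists_omega_map hQ h U W e he fun v hv => ?_
  have hdim := HypQuad.finrank_perp Q hQ W
  rw [Module.finrank_fintype_fun_eq_card] at hdim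
  by_cases h2 : 2 ≤ Module.finrank F W
  · obtain ⟨x, hx, hx0, hxe⟩ := exists_in_subspace hQ W hW h2 hv
    exact ⟨_, refl_mem_stab W hx0 (Or.inl hx), hxe⟩
  · obtain ⟨x, hx, hx0, hxe⟩ := exists_in_subspace hQ (HypQuad.perp Q W)
      (by rw [perp_perp Q hQ W, inf_comm, hW]) (by omega) hv
    exact ⟨_, refl_mem_stab W hx0 (Or.inr hx), hxe⟩

/-- Small totally singular subspaces. -/
theorem omega_singular (hQ : (QuadraticMap.polarBilin Q).Nondegenerate) (h : Fintype.card F ≠ 2 ∨ Fintype.card ι ≠ 4)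
    (U W : Submodule F (ι → F)) {k : ℕ} (hk : 2 * k < Fintype.card ι) (hU : Module.finrank F U = k)
    (hW : Module.finrank F W = k) (hU0 : ∀ u ∈ U, Q u = 0) (hW0 : ∀ w ∈ W, Q w = 0) :
    ∃ g : Cfsg.isometryGroup F (⇑Q), g ∈ Cfsg.Omega F (⇑Q) ∧
      U.map (Matrix.mulVecLin ((g : Matrix.GeneralLinearGroup ι F) : Matrix ι ι F)) = W := by
  rcases Nat.eq_zero_or_pos k with hk0 | hk0
  · refine ⟨1, Subgroup.one_mem _, ?_⟩
    rw [hk0] at hU hW
    rw [Submodule.finrank_eq_zero.1 hU, Submodule.finrank_eq_zero.1 hW]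
    simp
  refine exists_omega_map hQ h U W (LinearEquiv.ofFinrankEq U W (hU.trans hW.symm))
    (fun u => by rw [hU0 _ u.2, hW0 _ (SetLike.coe_mem _)]) fun v hv => ?_
  obtain ⟨x, hx, hx0⟩ : ∃ x ∈ HypQuad.perp Q W, Q x ≠ 0 := by
    by_contra hc
    push Not at hc
    have h1 := Submodule.finrank_mono (HypQuad.le_perp Q hc)
    rw [perp_perp Q hQ W, HypQuad.finrank_perp Q hQ, Module.finrank_fintype_fun_eq_card, hW] at h1
    omega
  obtain ⟨e, he, he0⟩ := Submodule.exists_mem_ne_zero_of_ne_bot (p := W) (fun hb => by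
    rw [hb, finrank_bot] at hW; omega)
  obtain ⟨f, hf, hef⟩ := exists_partner hQ he0 (hW0 e he)
  refine ⟨_, Subgroup.mul_mem _ (refl_mem_stab W hx0 (Or.inr hx)) (pair_mem_stab hW0 he hf hef hx0 hv), ?_⟩
  have hxf : Q (e + Q x • f) = Q x := val_pair (hW0 e he) hf hef _
  have hvf : Q (e + Q v • f) = Q v := val_pair (hW0 e he) hf hef _
  rw [_root_.map_mul, _root_.map_mul, ← mul_assoc,
    cls_eq hQ (u := e + Q x • f) (v := x) (by rw [hxf]; exact hx0) hx0 ⟨Q x, by rw [hxf]⟩, cls_sq hx0, one_mul]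
  exact cls_eq hQ _ hv ⟨Q v, by rw [hvf]⟩

/-- Maximal totally singular subspaces of one parity. -/
theorem omega_maximal (hQ : (QuadraticMap.polarBilin Q).Nondegenerate) {m : ℕ} (hι : Fintype.card ι = 2 * m)
    (hm : 1 ≤ m) (h : Fintype.card F ≠ 2 ∨ Fintype.card ι ≠ 4) (U W : Submodule F (ι → F))
    (hU : HypQuad.IsMax Q m U) (hW : HypQuad.IsMax Q m W) (he : Even (m - Module.finrank F ↥(U ⊓ W))) :
    ∃ g : Cfsg.isometryGroup F (⇑Q), g ∈ Cfsg.Omega F (⇑Q) ∧
      U.map (Matrix.mulVecLin ((g : Matrix.GeneralLinearGroup ι F) : Matrix ι ι F)) = W := by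
  classical
  obtain ⟨g, hg⟩ := exists_isometry hQ U W (LinearEquiv.ofFinrankEq U W (hU.1.trans hW.1.symm))
    (fun u => by rw [hU.2 _ u.2, hW.2 _ (SetLike.coe_mem _)])
  have hdg : dickson Q hQ g = 1 := (parity_dickson hQ hι h hU g).1 (by rw [hg]; exact he)
  have hds : ∀ s ∈ stab W, dickson Q hQ s = 1 := fun s hs => (parity_dickson hQ hι h hW s).1 (by
    rw [(mem_stab W s).1 hs, inf_idem, hW.1, Nat.sub_self]; exact ⟨0, rfl⟩)
  obtain ⟨e, he', he0⟩ := Submodule.exists_mem_ne_zero_of_ne_bot (p := W) (fun hb => by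
    have := hW.1; rw [hb, finrank_bot] at this; omega)
  obtain ⟨f, hf, hef⟩ := exists_partner hQ he0 (hW.2 e he')
  obtain ⟨a, ha⟩ := exists_ne_zero hQ (by omega)
  set A := Abelianization.of (refl Q a ha) with hA
  suffices hs : ∀ x : Cfsg.isometryGroup F (⇑Q), ∃ s ∈ stab W,
      Abelianization.of x = Abelianization.of s ∨ Abelianization.of x = Abelianization.of s * A by
    obtain ⟨s, hs', hx | hx⟩ := hs g
    · refine ⟨s⁻¹ * g, (omega_iff _).2 (by rw [_root_.map_mul, map_inv, hx, inv_mul_cancel]), ?_⟩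
      rw [map_mul, hg]
      exact (stab W).inv_mem hs'
    · have := congrArg (Abelianization.lift (dickson Q hQ)) hx
      rw [hA, _root_.map_mul, Abelianization.lift_apply_of, Abelianization.lift_apply_of, Abelianization.lift_apply_of,
        hdg, hds s hs', dickson_refl] at this
      exact absurd this (by decide)
  intro x
  induction mem_closure_refl Q hQ h x using Subgroup.closure_induction with
  | mem r hr =>
    obtain ⟨v, hv, rfl⟩ := hr
    refine ⟨_, pair_mem_stab hW.2 he' hf hef hv ha, Or.inr ?_⟩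
    rw [_root_.map_mul, cls_eq hQ (u := e + Q v • f) (v := v) (by rw [val_pair (hW.2 e he') hf hef]; exact hv) hv ⟨Q v, by rw [val_pair (hW.2 e he') hf hef]⟩,
      cls_eq hQ (u := e + Q a • f) (v := a) (by rw [val_pair (hW.2 e he') hf hef]; exact ha) ha ⟨Q a, by rw [val_pair (hW.2 e he') hf hef]⟩, mul_assoc, hA, cls_sq ha, mul_one]
  | one => exact ⟨1, (stab W).one_mem, Or.inl rfl⟩
  | mul y z _ _ hy hz =>
    obtain ⟨s, hs, hy⟩ := hy
    obtain ⟨t, ht, hz⟩ := hz
    refine ⟨s * t, (stab W).mul_mem hs ht, ?_⟩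
    rw [_root_.map_mul, _root_.map_mul]
    rcases hy with hy | hy <;> rcases hz with hz | hz <;> rw [hy, hz]
    · exact Or.inl rfl
    · exact Or.inr (mul_assoc _ _ _).symm
    · exact Or.inr (mul_right_comm _ _ _)
    · exact Or.inl (by rw [mul_mul_mul_comm, hA, cls_sq ha, mul_one])
  | inv y _ hy =>
    obtain ⟨s, hs, hy⟩ := hy
    refine ⟨s⁻¹, (stab W).inv_mem hs, ?_⟩
    rw [map_inv, map_inv]
    rcases hy with hy | hy <;> rw [hy]
    · exact Or.inl rfl
    · exact Or.inr (by rw [mul_inv, inv_eq_of_mul_eq_one_left (show A * A = 1 from cls_sq ha)])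

end Cfsg.Lib.OmegaCls
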