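import Cfsg.Agent.Known.OrthModel
import Mathlib

/-! Classes of elements of odd prime order in orthogonal groups. -/

set_option autoImplicit false
set_option linter.style.haveILetI false
set_option linter.unusedSectionVars false

open Polynomial Cfsg.Lib.Classical

namespace Cfsg.Lib.OrthClasses

open DualPoly PrimeOrderPoly

universe u

variable {F : Type u} [Field F] [Fintype F] {p r : ℕ} [Fact p.Prime] [CharP F p] [Fact r.Prime]

/-- The self-dual polynomials of degree `n` with roots of order dividing `r`. -/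
abbrev Polys (F : Type u) [Field F] (r n : ℕ) : Type u :=
  {f : F[X] // f.Monic ∧ f.natDegree = n ∧ (∀ g, g.Monic → Irreducible g → g ∣ f → g ∣ X ^ r - 1) ∧
    dual (RingHom.id F) f = f}

/-- The count of `Polys`. -/
noncomputable def cnt (q r i t n : ℕ) : ℕ :=
  if Even i then Nat.choose (n / i + t) t else Nat.choose (n / (2 * i) + t / 2) (t / 2)

theorem card_polys (hr2 : r ≠ 2) (hrp : r ≠ p) {i t : ℕ} (hi : i = orderOf (Fintype.card F : ZMod r)) (hi0 : 0 < i)
    (ht : t * i = r - 1) (n : ℕ) : Nat.card (Polys F r n) = cnt (Fintype.card F) r i t n := by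
  classical
  have hS : (factorSet F r).card = t := by
    have hcard := card_factorSet (F := F) (p := p) (r := r) hrp
    rw [← hi, ← ht] at hcard
    exact Nat.eq_of_mul_eq_mul_right hi0 hcard
  have h := card_self_dual (σ := RingHom.id F) (p := p) (fun _ => rfl) (k := 0) (fun a => by simp) hrp hi hi0 n
  simp only [pow_zero, DualCount.exists_neg_one_iff hr2 hi hi0, hS] at h
  unfold Polys cnt
  convert h using 1

theorem finite_polys (hr2 : r ≠ 2) (hrp : r ≠ p) {i t : ℕ} (hi : i = orderOf (Fintype.card F : ZMod r)) (hi0 : 0 < i)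
    (ht : t * i = r - 1) (n : ℕ) : Finite (Polys F r n) :=
  Nat.finite_of_card_ne_zero (by
    rw [card_polys (p := p) hr2 hrp hi hi0 ht n, cnt]; split_ifs <;> exact (Nat.choose_pos (Nat.le_add_left _ _)).ne')

/-- Multiplying by `X - 1`. -/
theorem card_root_one (n : ℕ) : Nat.card {f : Polys F r (n + 1) // f.1.IsRoot 1} = Nat.card (Polys F r n) := by
  classical
  have hX : dual (RingHom.id F) (X - C (1 : F)) = X - C 1 := dual_X_sub_one
  have hXd : (X - C (1 : F)) ∣ X ^ r - 1 := by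
    rw [dvd_iff_isRoot, IsRoot.def]; simp
  let φ : Polys F r n → {f : Polys F r (n + 1) // f.1.IsRoot 1} := fun f =>
    ⟨⟨(X - C 1) * f.1, (monic_X_sub_C 1).mul f.2.1, by
        rw [(monic_X_sub_C (1 : F)).natDegree_mul f.2.1, natDegree_X_sub_C, f.2.2.1, add_comm],
      fun g hg hgi hgd => by
        rcases hgi.prime.dvd_mul.1 hgd with h | h
        · exact h.trans hXd
        · exact f.2.2.2.1 g hg hgi h,
      by rw [dual_mul, hX, f.2.2.2.2]⟩, by simp [IsRoot.def]⟩
  refine (Nat.card_eq_of_bijective φ ⟨fun f g h => ?_, fun f => ?_⟩).symm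
  · have h' := congrArg (fun x : {f : Polys F r (n + 1) // f.1.IsRoot 1} => x.1.1) h
    exact Subtype.ext (mul_left_cancel₀ (X_sub_C_ne_zero 1) h')
  · obtain ⟨⟨f, hf, hd, hfac, hdual⟩, h1⟩ := f
    obtain ⟨g, rfl⟩ := dvd_iff_isRoot.2 h1
    have hg : g.Monic := (monic_X_sub_C (1 : F)).of_mul_monic_left hf
    refine ⟨⟨g, hg, ?_, fun a ha hai had => hfac a ha hai (had.mul_left _), ?_⟩, Subtype.ext (Subtype.ext rfl)⟩
    · rw [(monic_X_sub_C (1 : F)).natDegree_mul hg, natDegree_X_sub_C] at hd; omega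
    · rw [dual_mul, hX] at hdual
      exact mul_left_cancel₀ (X_sub_C_ne_zero 1) hdual

variable {ι : Type} [Fintype ι] [DecidableEq ι] {P : QuadraticForm F (ι → F)}

/-- Classes are polynomials satisfying the existence condition. -/
theorem card_classes (hP : (QuadraticMap.polarBilin P).Nondegenerate) (hr2 : r ≠ 2) (hrp : r ≠ p) {i t : ℕ}
    (hi : i = orderOf (Fintype.card F : ZMod r)) (hi0 : 0 < i) (ht : t * i = r - 1) (ok : F[X] → Prop)
    (hnec : ∀ g : Cfsg.isometryGroup F (⇑P), g ^ r = 1 →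
      ok ((g : Matrix.GeneralLinearGroup ι F) : Matrix ι ι F).charpoly)
    (hmodel : ∀ f : Polys F r (Fintype.card ι), ok f.1 → ∃ b : Module.End F (ι → F),
      (∀ v, P (b v) = P v) ∧ b ^ r = 1 ∧ b.charpoly = f.1) :
    Nat.card {C : ConjClasses ↥(Cfsg.isometryGroup F (⇑P)) //
        ∃ g : ↥(Cfsg.isometryGroup F (⇑P)), ConjClasses.mk g = C ∧ orderOf g = r} =
      Nat.card {f : Polys F r (Fintype.card ι) // ok f.1} - 1 := by
  classical
  have hr : r.Prime := Fact.out
  let χ : Cfsg.isometryGroup F (⇑P) → F[X] := fun g =>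
    ((g : Matrix.GeneralLinearGroup ι F) : Matrix ι ι F).charpoly
  have hmem : ∀ g, g ^ r = 1 → (χ g).Monic ∧ (χ g).natDegree = Fintype.card ι ∧
      (∀ f, f.Monic → Irreducible f → f ∣ χ g → f ∣ X ^ r - 1) ∧ dual (RingHom.id F) (χ g) = χ g :=
    fun g hg => ⟨Matrix.charpoly_monic _, Matrix.charpoly_natDegree_eq_dim _,
      DualCount.factors_of_pow_eq_one _ (by
        rw [← Units.val_pow_eq_pow_val, ← Subgroup.coe_pow, hg, Subgroup.coe_one, Units.val_one]),
      OrthModel.dual_charpoly hP g⟩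
  let T := {f : Polys F r (Fintype.card ι) // ok f.1}
  let f1 : T := ⟨⟨_, hmem 1 (one_pow r)⟩, hnec 1 (one_pow r)⟩
  have hr' : ∀ g : Cfsg.isometryGroup F (⇑P), orderOf g = r → g ^ r = 1 := fun g h => h ▸ pow_orderOf_eq_one g
  let φ : {C : ConjClasses ↥(Cfsg.isometryGroup F (⇑P)) //
      ∃ g : ↥(Cfsg.isometryGroup F (⇑P)), ConjClasses.mk g = C ∧ orderOf g = r} → {f : T // f ≠ f1} :=
    fun C => ⟨⟨⟨_, hmem C.2.choose (hr' _ C.2.choose_spec.2)⟩, hnec _ (hr' _ C.2.choose_spec.2)⟩, fun h => by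
      have hc := congrArg (fun x : T => x.1.1) h
      have h' := C.2.choose_spec.2
      have := OrthModel.isConj_of_charpoly hP hr2 hrp C.2.choose 1 (hr' _ h') (one_pow r) hc
      rw [isConj_one_left.1 this, orderOf_one] at h'
      exact hr.ne_one h'.symm⟩
  have hφ : Function.Bijective φ := by
    constructor
    · intro C D e
      apply Subtype.ext
      rw [← C.2.choose_spec.1, ← D.2.choose_spec.1, ConjClasses.mk_eq_mk_iff_isConj]
      exact OrthModel.isConj_of_charpoly hP hr2 hrp _ _ (hr' _ C.2.choose_spec.2) (hr' _ D.2.choose_spec.2)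
        (congrArg (fun x : {f : T // f ≠ f1} => x.1.1.1) e)
    · rintro ⟨⟨f, hok⟩, hne⟩
      obtain ⟨b, hb1, hb2, hb3⟩ := hmodel f hok
      obtain ⟨g, hg, hgc⟩ := OrthModel.to_group b hb1 hb2
      have hgr : orderOf g = r := orderOf_eq_prime hg (fun h => hne (Subtype.ext (Subtype.ext (by
        show f.1 = χ 1
        rw [← hb3, ← hgc, h]))))
      refine ⟨⟨ConjClasses.mk g, g, rfl, hgr⟩, Subtype.ext (Subtype.ext (Subtype.ext ?_))⟩
      have hex : ∃ g' : Cfsg.isometryGroup F (⇑P), ConjClasses.mk g' = ConjClasses.mk g ∧ orderOf g' = r := ⟨g, rfl, hgr⟩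
      show χ hex.choose = f.1
      obtain ⟨u, hu⟩ := isConj_iff.1 (ConjClasses.mk_eq_mk_iff_isConj.1 hex.choose_spec.1)
      rw [← hb3, ← hgc]
      have e2 := congrArg χ hu
      simp only [χ, Subgroup.coe_mul, Units.val_mul, Subgroup.coe_inv, Matrix.coe_units_inv, Matrix.charpoly_units_conj] at e2
      exact e2
  haveI := finite_polys (p := p) (F := F) hr2 hrp hi hi0 ht (Fintype.card ι)
  haveI := Fintype.ofFinite T
  rw [Nat.card_eq_of_bijective φ hφ, Nat.card_eq_fintype_card, Fintype.card_subtype_compl, Fintype.card_subtype_eq,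
    ← Nat.card_eq_fintype_card]

/-- The even-dimensional count. -/
theorem card_classes_even (hP : (QuadraticMap.polarBilin P).Nondegenerate) (hr2 : r ≠ 2) (hrp : r ≠ p) {i t : ℕ}
    (hi : i = orderOf (Fintype.card F : ZMod r)) (hi0 : 0 < i) (ht : t * i = r - 1) {m : ℕ} (hm : 1 ≤ m)
    (hι : Fintype.card ι = 2 * m) (D : FormNormal.Decomp P (⊤ : Submodule F (ι → F))) :
    Nat.card {C : ConjClasses ↥(Cfsg.isometryGroup F (⇑P)) //
        ∃ g : ↥(Cfsg.isometryGroup F (⇑P)), ConjClasses.mk g = C ∧ orderOf g = r} =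
      (if (Fintype.card F : ZMod r) ^ m = (if Module.finrank F D.K = 0 then 1 else -1) then
        cnt (Fintype.card F) r i t (2 * m) else cnt (Fintype.card F) r i t (2 * m - 1)) - 1 := by
  classical
  have hq : (Fintype.card F : ZMod r) ≠ 0 := by
    intro h
    have h1 := pow_orderOf_eq_one (Fintype.card F : ZMod r)
    rw [← hi, h, zero_pow hi0.ne'] at h1
    exact zero_ne_one h1
  have hW : Module.finrank F (ι → F) = 2 * m := by simp [hι]
  rw [card_classes hP hr2 hrp hi hi0 ht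
    (fun f => f.IsRoot 1 ∨ (Fintype.card F : ZMod r) ^ m = if Module.finrank F D.K = 0 then 1 else -1) ?_ ?_]
  · by_cases hc : (Fintype.card F : ZMod r) ^ m = if Module.finrank F D.K = 0 then 1 else -1
    · rw [if_pos hc, Nat.card_congr (Equiv.subtypeUnivEquiv fun f => Or.inr hc), hι, card_polys (p := p) hr2 hrp hi hi0 ht]
    · rw [if_neg hc, Nat.card_congr (Equiv.subtypeEquivRight (q := fun f : Polys F r (Fintype.card ι) => f.1.IsRoot 1) fun f => (or_iff_left hc : f.1.IsRoot 1 ∨ _ ↔ f.1.IsRoot 1)), hι,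
        show 2 * m = (2 * m - 1) + 1 by omega, card_root_one, card_polys (p := p) hr2 hrp hi hi0 ht]
      congr 2
  · intro g hg
    by_cases h1 : ((g : Matrix.GeneralLinearGroup ι F) : Matrix ι ι F).charpoly.IsRoot 1
    · exact Or.inl h1
    refine Or.inr (OrthCount.free_sign hP D hW hq (Matrix.toLin' ((g : Matrix.GeneralLinearGroup ι F) : Matrix ι ι F))
      (fun v => (Refl.mem_iff _).1 g.2 v) ?_ fun v hv => ?_)
    · rw [← Matrix.toLin'_pow, ← Units.val_pow_eq_pow_val, ← Subgroup.coe_pow, hg, Subgroup.coe_one, Units.val_one,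
        Matrix.toLin'_one]
      rfl
    · by_contra hv0
      refine h1 ?_
      rw [IsRoot.def, Matrix.eval_charpoly, ← Matrix.exists_mulVec_eq_zero_iff]
      refine ⟨v, hv0, ?_⟩
      rw [Matrix.sub_mulVec, map_one, Matrix.one_mulVec, ← Matrix.toLin'_apply, hv, sub_self]
  · rintro ⟨f, hf, hd, hfac, hdual⟩ hok
    exact OrthModel.model_even hr2 hq hP D hW hf (hd.trans hι) hdual hfac hok

/-- Arithmetic of the correction term. -/
theorem cnt_pred (q : ℕ) {i t m : ℕ} (hi0 : 0 < i) (ht2 : Odd i → 2 ≤ t) (ht1 : 1 ≤ t) (hm : 1 ≤ m) :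
    cnt q r i t (2 * m - 1) = cnt q r i t (2 * m) -
      (if Even i then (if i ∣ 2 * m then Nat.choose (2 * m / i + t - 1) (t - 1) else 0)
      else (if i ∣ m then Nat.choose (m / i + t / 2 - 1) (t / 2 - 1) else 0)) := by
  have key : ∀ n D s : ℕ, 0 < D → 1 ≤ n → 1 ≤ s →
      Nat.choose ((n - 1) / D + s) s = Nat.choose (n / D + s) s - if D ∣ n then Nat.choose (n / D + s - 1) (s - 1) else 0 := by
    intro n D s hD hn hs
    have h := @Nat.succ_div (n - 1) D
    rw [show n - 1 + 1 = n by omega] at h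
    split_ifs with hdiv
    · rw [if_pos hdiv] at h
      rw [h, show (n - 1) / D + 1 + s - 1 = (n - 1) / D + s by rw [Nat.add_right_comm, Nat.add_sub_cancel]]
      obtain ⟨s', rfl⟩ : ∃ s', s = s' + 1 := ⟨s - 1, by omega⟩
      rw [Nat.add_sub_cancel, show (n - 1) / D + 1 + (s' + 1) = ((n - 1) / D + (s' + 1)) + 1 by ring, Nat.choose_succ_succ]
      simp
    · rw [if_neg hdiv, add_zero] at h
      rw [h, Nat.sub_zero]
  rw [cnt, cnt]
  split_ifs with he h1 h2
  · rw [key (2 * m) i t hi0 (by omega) ht1, if_pos h1]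
  · rw [key (2 * m) i t hi0 (by omega) ht1, if_neg h1]
  · rw [key (2 * m) (2 * i) (t / 2) (by omega) (by omega) (by have := ht2 (Nat.not_even_iff_odd.1 he); omega),
      if_pos (Nat.mul_dvd_mul_left 2 h2), Nat.mul_div_mul_left _ _ two_pos]
  · rw [key (2 * m) (2 * i) (t / 2) (by omega) (by omega) (by have := ht2 (Nat.not_even_iff_odd.1 he); omega),
      if_neg (fun h => h2 (Nat.dvd_of_mul_dvd_mul_left two_pos h)), Nat.mul_div_mul_left _ _ two_pos]

/-- The sign `q ^ m` when the period divides `2 * m`. -/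
theorem sign_pow {i m q : ℕ} (hr2 : r ≠ 2) (hi : i = orderOf (q : ZMod r)) (hi0 : 0 < i) :
    (Odd i → i ∣ m → (q : ZMod r) ^ m = 1) ∧ (Even i → i ∣ 2 * m →
      (q : ZMod r) ^ m = if Even (2 * m / i) then 1 else -1) := by
  refine ⟨fun _ h => by rwa [← orderOf_dvd_iff_pow_eq_one, ← hi], fun he h => ?_⟩
  obtain ⟨c, hc⟩ := he
  have hq : (q : ZMod r) ^ c = -1 := by
    have h1 : (q : ZMod r) ^ c * (q : ZMod r) ^ c = 1 := by rw [← pow_add, ← hc, hi, pow_orderOf_eq_one]
    refine (mul_self_eq_one_iff.1 h1).resolve_left fun h => ?_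
    have h6 := orderOf_dvd_of_pow_eq_one h
    rw [← hi] at h6
    have := Nat.le_of_dvd (by omega) h6
    omega
  obtain ⟨k, hk⟩ := h
  have hm : m = c * k := by nlinarith
  rw [hk, Nat.mul_div_cancel_left _ hi0, hm, pow_mul, hq]
  split_ifs with hev
  · exact hev.neg_one_pow
  · exact (Nat.not_even_iff_odd.1 hev).neg_one_pow

end Cfsg.Lib.OrthClasses
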