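import Cfsg.Agent.Known.FormSemisimple
import Cfsg.Agent.Classical.Misc.Witt
import Mathlib

/-! Linearly conjugate semisimple isometries of odd order of a quadratic form are conjugate by an isometry. -/

set_option autoImplicit false
set_option linter.style.haveILetI false

open Submodule QuadraticMap

namespace Cfsg.Lib.QuadSemisimple

universe u v

variable {F : Type u} [Field F] [Finite F] {V : Type v} [AddCommGroup V] [Module F V] [FiniteDimensional F V]

theorem exists_conj (Q : QuadraticForm F V) (hQ : (QuadraticMap.polarBilin Q).Nondegenerate)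
    (a b : Module.End F V) (ha : ∀ v, Q (a v) = Q v) (hb : ∀ v, Q (b v) = Q v)
    {N : ℕ} (hN : (N : F) ≠ 0) (hNodd : Odd N) (haN : a ^ N = 1) (T : V ≃ₗ[F] V) (hT : ∀ v, T (a v) = b (T v)) :
    ∃ g : V ≃ₗ[F] V, (∀ v, Q (g v) = Q v) ∧ ∀ v, g (a v) = b (g v) := by
  classical
  let B : LinearMap.BilinForm F V := QuadraticMap.polarBilin Q
  have hBapp : ∀ u w, B u w = Q (u + w) - Q u - Q w := fun u w => by
    simp [B, QuadraticMap.polarBilin_apply_apply, QuadraticMap.polar]
  have hsym : ∀ u w, B u w = 1 * B w u := fun u w => by rw [hBapp, hBapp, one_mul, add_comm]; ring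
  have haB : ∀ u w, B (a u) (a w) = B u w := fun u w => by rw [hBapp, hBapp, ← map_add, ha, ha, ha]
  have hbB : ∀ u w, B (b u) (b w) = B u w := fun u w => by rw [hBapp, hBapp, ← map_add, hb, hb, hb]
  have hbN : b ^ N = 1 := by
    have h : ∀ (k : ℕ) v, T ((a ^ k) v) = (b ^ k) (T v) := fun k => by
      induction k with
      | zero => intro v; rfl
      | succ k ih => intro v; rw [pow_succ', pow_succ', Module.End.mul_apply, Module.End.mul_apply, hT, ih]
    refine LinearMap.ext fun v => ?_
    have := h N (T.symm v)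
    rw [haN, T.apply_symm_apply] at this
    rw [← this]
    exact T.apply_symm_apply v
  have ca := FormSemisimple.isCompl_eigen a (1 : F) hN haN
  have cb := FormSemisimple.isCompl_eigen b (1 : F) hN hbN
  set W := LinearMap.range (a - (1 : F) • 1) with hW
  set W' := LinearMap.range (b - (1 : F) • 1) with hW'
  have oa := fun u hu w hw => FormSemisimple.eigen_orth B a haB 1 (one_mul 1) (u := u) (w := w) hu hw
  have ob := fun u hu w hw => FormSemisimple.eigen_orth B b hbB 1 (one_mul 1) (u := u) (w := w) hu hw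
  have hdW := FormSemisimple.restrict_nondegenerate B hQ W _ ca.symm fun w hw u hu => (oa u hu w hw).symm
  have hdW' := FormSemisimple.restrict_nondegenerate B hQ W' _ cb.symm fun w hw u hu => (ob u hu w hw).symm
  have hTW : ∀ v ∈ W, T v ∈ W' := by
    rintro _ ⟨z, rfl⟩
    exact ⟨T z, by simp [hT]⟩
  have hTW' : ∀ v ∈ W', T.symm v ∈ W := by
    rintro _ ⟨z, rfl⟩
    refine ⟨T.symm z, T.injective ?_⟩
    simp [hT]
  have haW : ∀ v ∈ W, a v ∈ W := by
    rintro _ ⟨z, rfl⟩
    exact ⟨a z, by simp⟩
  set aW : Module.End F W := a.restrict haW with haWdef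
  let TW : W →ₗ[F] W' := T.toLinearMap.restrict hTW
  have hTWv : ∀ u : W, (TW u : V) = T u := fun u => rfl
  obtain ⟨M, hM⟩ : ∃ M : Module.End F W, ∀ u w, B.restrict W (M u) w = B (T (u : V)) (T (w : V)) := by
    refine ⟨((B.restrict W).toDual hdW).symm.toLinearMap.comp ((B.restrict W').compl₁₂ TW TW), fun u w => ?_⟩
    exact LinearMap.BilinForm.apply_toDual_symm_apply (hB := hdW) _ _
  have hiso : ∀ u w : W, B.restrict W (aW u) (aW w) = B.restrict W u w := fun u w => haB u w
  have haWsurj : Function.Surjective aW := by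
    refine LinearMap.surjective_of_injective ((injective_iff_map_eq_zero aW).2 fun u hu => hdW.1 u fun w => ?_)
    rw [← hiso u w, hu]; simp
  have hMa : aW * M = M * aW := LinearMap.ext fun u => by
    refine sub_eq_zero.1 (hdW.1 _ fun w => ?_)
    obtain ⟨w, rfl⟩ := haWsurj w
    rw [map_sub, LinearMap.sub_apply, Module.End.mul_apply, Module.End.mul_apply, hiso, hM, hM]
    show _ - B (T (a (u : V))) (T (a (w : V))) = 0
    rw [hT, hT, hbB, sub_self]
  have hfix : ∀ z : W, a (z : V) = z → z = 0 := fun z hz => by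
    have h : (z : V) ∈ LinearMap.ker (a - (1 : F) • 1) ⊓ W := ⟨by simp [hz], z.2⟩
    rw [ca.inf_eq_bot, Submodule.mem_bot] at h
    exact Subtype.ext h
  have hreg : Function.Injective (fun u => aW (aW u) - u) := by
    intro u v huv
    have h0 : aW (aW (u - v)) = u - v := by
      have := sub_eq_zero.2 huv
      simp only [map_sub] at this ⊢
      rw [← sub_eq_zero, ← this]; abel
    refine sub_eq_zero.1 (hfix _ ?_)
    have h1 : a (a ((u - v : W) : V)) = ((u - v : W) : V) := congrArg Subtype.val h0
    obtain ⟨k, hk⟩ := hNodd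
    have h2 : ∀ j, (a ^ (2 * j)) ((u - v : W) : V) = ((u - v : W) : V) := fun j => by
      induction j with
      | zero => rfl
      | succ j ih => rw [show 2 * (j + 1) = 2 * j + 1 + 1 by ring, pow_succ, pow_succ, Module.End.mul_apply,
          Module.End.mul_apply, h1, ih]
    conv_rhs => rw [← Module.End.one_apply (R := F) ((u - v : W) : V), ← haN, hk, pow_succ', Module.End.mul_apply, h2]
  obtain ⟨x, hx, hxc, hxf⟩ := FormSemisimple.exists_root_regular (B.restrict W) hdW 1 (fun u w => hsym u w) aW M hiso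
    (fun u w => by
      have e : B.restrict W u (M w) = B.restrict W (M w) u := by rw [← one_mul (B.restrict W (M w) u)]; exact hsym _ _
      rw [e, hM, hM, ← one_mul (B (T (w : V)) (T (u : V)))]
      exact hsym _ _)
    ((injective_iff_map_eq_zero M).2 fun u hu => by
      have h : TW u = 0 := hdW'.1 _ fun z => by
        have := hM u ⟨T.symm z, hTW' z z.2⟩
        rw [hu, map_zero, LinearMap.zero_apply, T.apply_symm_apply] at this
        exact this.symm
      exact Subtype.ext (T.map_eq_zero_iff.1 (congrArg Subtype.val h)))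
    hMa hreg
  let X := LinearEquiv.ofBijective x ⟨hx, LinearMap.surjective_of_injective hx⟩
  let TE : W ≃ₗ[F] W' := LinearEquiv.ofLinearMap TW (T.symm.toLinearMap.restrict hTW')
    (LinearMap.ext fun u => Subtype.ext (T.apply_symm_apply _)) (LinearMap.ext fun u => Subtype.ext (T.symm_apply_apply _))
  let φ : W ≃ₗ[F] W' := X.symm.trans TE
  have hφ : ∀ u : W, (φ u : V) = T (X.symm u : V) := fun u => rfl
  have hφB : ∀ u w : W, B (φ u : V) (φ w : V) = B (u : V) (w : V) := fun u w => by
    rw [hφ, hφ, ← hM, ← hxf]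
    show B.restrict W (X (X.symm u)) (X (X.symm w)) = B.restrict W u w
    rw [X.apply_symm_apply, X.apply_symm_apply]
  have hφa : ∀ u : W, (φ (aW u) : V) = b (φ u : V) := fun u => by
    rw [hφ, hφ, ← hT]
    congr 1
    show ((X.symm (aW u)) : V) = ((aW (X.symm u)) : V)
    congr 1
    refine X.injective ?_
    rw [X.apply_symm_apply]
    show aW u = x (aW (X.symm u))
    rw [← Module.End.mul_apply x, ← hxc, Module.End.mul_apply]
    exact congrArg aW (X.apply_symm_apply u).symm
  have hQadd : ∀ u w : W, Q (φ (u + w) : V) - Q ((u + w : W) : V) =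
      (Q (φ u : V) - Q (u : V)) + (Q (φ w : V) - Q (w : V)) := fun u w => by
    have h := hφB u w
    rw [hBapp, hBapp] at h
    rw [map_add, Submodule.coe_add, Submodule.coe_add]
    linear_combination h
  let δ : W →+ F := AddMonoidHom.mk' (fun u => Q (φ u : V) - Q (u : V)) hQadd
  have hδa : ∀ u, δ (aW u) = δ u := fun u => by
    show Q (φ (aW u) : V) - Q (a (u : V)) = Q (φ u : V) - Q (u : V)
    rw [hφa, hb, ha]
  have hδ : ∀ u, δ u = 0 := by
    intro u
    have hinj : Function.Injective (aW - 1 : Module.End F W) := (injective_iff_map_eq_zero _).2 fun z hz => by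
      refine hfix z ?_
      rw [LinearMap.sub_apply, Module.End.one_apply, sub_eq_zero] at hz
      exact congrArg Subtype.val hz
    obtain ⟨z, rfl⟩ := LinearMap.surjective_of_injective hinj u
    rw [LinearMap.sub_apply, Module.End.one_apply, map_sub, hδa, sub_self]
  obtain ⟨g, hg, hgφ⟩ := Classical.WittQuad.witt Q hQ W W' φ (fun u => sub_eq_zero.1 (hδ u))
  have hgB : ∀ u w, B (g u) (g w) = B u w := fun u w => by rw [hBapp, hBapp, ← map_add, hg, hg, hg]
  refine ⟨g, hg, fun v => ?_⟩
  obtain ⟨u, hu, w, hw, rfl⟩ := Submodule.mem_sup.1 (show v ∈ LinearMap.ker (a - (1 : F) • 1) ⊔ W by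
    rw [ca.sup_eq_top]; exact Submodule.mem_top)
  have hau : a u = u := by simpa [sub_eq_zero] using hu
  obtain ⟨z1, hz1, z2, hz2, hz⟩ := Submodule.mem_sup.1 (show g u ∈ LinearMap.ker (b - (1 : F) • 1) ⊔ W' by
    rw [cb.sup_eq_top]; exact Submodule.mem_top)
  have hz20 : z2 = 0 := congrArg Subtype.val (hdW'.1 ⟨z2, hz2⟩ fun t => by
    obtain ⟨t0, rfl⟩ := φ.surjective t
    show B z2 (φ t0 : V) = 0
    have h := (oa u hu (t0 : V) t0.2).1
    rw [← hgB, hgφ, ← hz, map_add, LinearMap.add_apply, (ob z1 hz1 _ (φ t0).2).1, zero_add] at h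
    exact h)
  have hbu : b (g u) = g u := by
    rw [← hz, hz20, add_zero]
    simpa [sub_eq_zero] using hz1
  rw [map_add, map_add, map_add, map_add, hau, hbu, show a w = ((aW ⟨w, hw⟩ : W) : V) from rfl, hgφ, hφa,
    ← hgφ ⟨w, hw⟩]

end Cfsg.Lib.QuadSemisimple
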