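import Cfsg.Agent.Known.SympJordan
import Cfsg.Agent.Classical.Misc.OrthUnipotentFixed
import Cfsg.Agent.Classical.Misc.OrthUnipotentModels
import Mathlib

/-! Jordan types of unipotent elements of orthogonal groups in odd characteristic. -/

set_option autoImplicit false
set_option linter.style.haveILetI false

open Matrix QuadraticMap Cfsg.Lib.Classical

namespace Cfsg.Lib.OrthJordan

universe u

variable {F : Type u} [Field F]

section Model

variable {β : Type} [Fintype β] [DecidableEq β] {A : β → ℕ} {τ : β → β}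

theorem sum_shift (f : (Σ k, Fin (A k)) → F) (a : Σ k, Fin (A k)) :
    ∑ c, (UnipClasses.J A : Matrix _ _ F) c a * f c =
      if h : (a.2 : ℕ) + 1 < A a.1 then f ⟨a.1, ⟨a.2 + 1, h⟩⟩ else 0 := by
  split_ifs with h
  · rw [Finset.sum_eq_single (⟨a.1, ⟨a.2 + 1, h⟩⟩ : Σ k, Fin (A k))]
    · simp [UnipClasses.J]
    · intro c _ hne
      rw [UnipClasses.J, if_neg, zero_mul]
      rintro ⟨h1, h2⟩
      exact hne (OrthUni.idx_ext h1 h2)
    · simp
  · refine Finset.sum_eq_zero fun c _ => ?_
    rw [UnipClasses.J, if_neg, zero_mul]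
    rintro ⟨h1, h2⟩
    have h3 := c.2.isLt
    have h4 : A c.1 = A a.1 := congrArg A h1
    omega

theorem skew (hA : ∀ k, A (τ k) = A k) (c : β → F) :
    (UnipClasses.J A : Matrix _ _ F)ᵀ * OrthUni.gram A τ c = -(OrthUni.gram A τ c * UnipClasses.J A) := by
  ext a b
  rw [Matrix.mul_apply, Matrix.neg_apply, Matrix.mul_apply,
    show ∑ j, (UnipClasses.J A : Matrix _ _ F)ᵀ a j * OrthUni.gram A τ c j b =
      ∑ j, (UnipClasses.J A : Matrix _ _ F) j a * OrthUni.gram A τ c j b from rfl,
    sum_shift (fun j => OrthUni.gram A τ c j b),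
    show ∑ j, OrthUni.gram A τ c a j * (UnipClasses.J A : Matrix _ _ F) j b =
      ∑ j, (UnipClasses.J A : Matrix _ _ F) j b * OrthUni.gram A τ c a j from
        Finset.sum_congr rfl fun j _ => mul_comm _ _,
    sum_shift (fun j => OrthUni.gram A τ c a j)]
  have key : b.1 = τ a.1 → A b.1 = A a.1 := fun h => (congrArg A h).trans (hA _)
  simp only [OrthUni.gram, Matrix.of_apply]
  by_cases h3 : b.1 = τ a.1 ∧ (b.2 : ℕ) + a.2 + 1 + 1 = A a.1
  · have := key h3.1
    rw [dif_pos (by omega), dif_pos (by omega), if_pos ⟨h3.1, by omega⟩, if_pos ⟨h3.1, by omega⟩, pow_succ]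
    ring
  · split_ifs <;> first
      | (simp; done)
      | (exfalso; apply h3; refine ⟨by tauto, by omega⟩)

theorem cayley {ι : Type*} [Fintype ι] [DecidableEq ι] {G K : Matrix ι ι F} (hskew : Kᵀ * G = -(G * K))
    (R : (Matrix ι ι F)ˣ) (hR : (R : Matrix ι ι F) = 1 - K) :
    ((1 + K) * ((R⁻¹ : (Matrix ι ι F)ˣ) : Matrix ι ι F))ᵀ * G * ((1 + K) * ((R⁻¹ : (Matrix ι ι F)ˣ) : Matrix ι ι F)) = G := by
  have e : (1 + K)ᵀ * G * (1 + K) = (R : Matrix ι ι F)ᵀ * G * (R : Matrix ι ι F) := by
    rw [hR, Matrix.transpose_add, Matrix.transpose_sub, Matrix.transpose_one]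
    simp only [add_mul, sub_mul, mul_add, mul_sub, one_mul, mul_one, hskew, neg_mul]
    abel
  rw [Matrix.transpose_mul, show ∀ a b c d : Matrix ι ι F, a * b * G * (c * d) = a * (b * G * c) * d by
    intro a b c d; simp only [mul_assoc], e]
  have h1 : ((R⁻¹ : (Matrix ι ι F)ˣ) : Matrix ι ι F)ᵀ * (R : Matrix ι ι F)ᵀ = 1 := by
    rw [← Matrix.transpose_mul, Units.mul_inv, Matrix.transpose_one]
  simp only [← mul_assoc]
  rw [h1, one_mul, mul_assoc, Units.mul_inv, mul_one]

end Model

/-- The fixed-point-free pairing of indices. -/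
def flipIdx {c : ℕ} (h : Even c) (i : Fin c) : Fin c :=
  ⟨if (i : ℕ) % 2 = 0 then i + 1 else i - 1, by obtain ⟨r, rfl⟩ := h; have := i.isLt; split_ifs <;> omega⟩

theorem flipIdx_flip {c : ℕ} (h : Even c) (i : Fin c) : flipIdx h (flipIdx h i) = i := by
  apply Fin.ext
  show (if (if (i : ℕ) % 2 = 0 then (i : ℕ) + 1 else i - 1) % 2 = 0 then _ else _) = (i : ℕ)
  simp only [flipIdx]
  split_ifs <;> omega

/-- Jordan types occurring in orthogonal groups. -/
theorem types [Fintype F] (h2 : (2 : F) ≠ 0) {n t : ℕ} (d : Fin t → ℕ) (hd : ∀ k, 1 ≤ d k) (hsum : ∑ k, d k = n) :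
    (∃ Q : QuadraticForm F (Fin n → F), (QuadraticMap.polarBilin Q).Nondegenerate ∧
      ∃ e : ((k : Fin t) × Fin (d k)) ≃ Fin n, ∃ A : ↥(Cfsg.isometryGroup F ⇑Q),
        IsConj (Matrix.reindex e e (Cfsg.jordanTypeMatrix d F))
          ((A : Matrix.GeneralLinearGroup (Fin n) F) : Matrix (Fin n) (Fin n) F)) ↔
    ∀ j : ℕ, Even j → 0 < j → Even (Finset.univ.filter (fun k : Fin t => d k = j)).card := by
  classical
  have hq : 1 < Nat.card F := Finite.one_lt_card
  obtain ⟨p, hp⟩ := CharP.exists F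
  haveI : Fact p.Prime := ⟨CharP.char_is_prime F p⟩
  have hp2 : p ≠ 2 := by rintro rfl; exact h2 (CharP.cast_eq_zero F 2)
  constructor
  · rintro ⟨Q, hQ, e, A, P, hP⟩ j hj hj0
    set M := ((A : Matrix.GeneralLinearGroup (Fin n) F) : Matrix (Fin n) (Fin n) F) with hM
    have hMQ : ∀ v, Q (M *ᵥ v) = Q v := fun v => (Refl.mem_iff Q).1 A.2 v
    have hs : SemiconjBy (P : Matrix (Fin n) (Fin n) F)
        (Matrix.reindex e e (Cfsg.jordanTypeMatrix d F - 1)) (M - 1) := by
      have : Matrix.reindex e e (Cfsg.jordanTypeMatrix d F - 1) = Matrix.reindex e e (Cfsg.jordanTypeMatrix d F) - 1 := by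
        ext x y; simp [Matrix.one_apply]
      rw [this]
      exact hP.sub_right (SemiconjBy.one_right _)
    have hkc : ∀ i, SympJordan.kc ((M - 1) ^ i) = Nat.card F ^ ∑ x, min i (d x) := fun i => by
      rw [← SympJordan.kc_jordanType, ← SympJordan.kc_reindex e, ← SympJordan.reindex_pow]
      exact (UnipClasses.card_ker_conj P (hs.pow_right i).eq).symm
    have hnil : (M - 1) ^ n = 0 := by
      refine Known.Unip.pow_card_eq_zero ⟨n, Matrix.ext_of_mulVec_single fun i => ?_⟩
      have h := hkc n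
      rw [Finset.sum_congr rfl (fun x _ => min_eq_right (show d x ≤ n by
        rw [← hsum]; exact Finset.single_le_sum (f := d) (fun i _ => Nat.zero_le _) (Finset.mem_univ x))), hsum,
        SympJordan.kc_eq_pow] at h
      have htop : LinearMap.ker (Matrix.mulVecLin ((M - 1) ^ n)) = ⊤ := Submodule.eq_top_of_finrank_eq (by
        rw [Nat.pow_right_injective hq h]; simp)
      rw [zero_mulVec]
      exact LinearMap.mem_ker.1 (htop ▸ Submodule.mem_top : Pi.single i 1 ∈ LinearMap.ker (Matrix.mulVecLin ((M - 1) ^ n)))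
    set T : Module.End F (Fin n → F) := Matrix.toLin' M with hT
    have hTp : T ^ p ^ n = 1 := by
      rw [hT, ← Matrix.toLin'_pow, show M ^ p ^ n = 1 from ?_, Matrix.toLin'_one]
      · rfl
      · rw [← sub_eq_zero, ← Known.Unip.pow_sub_one]
        exact pow_eq_zero_of_le (Nat.lt_pow_self (Fact.out : p.Prime).one_lt).le hnil
    have hev : ∀ i, Odd i → Even (n - ∑ x, min i (d x)) := by
      intro i hi
      have h := OrthUni.rk_odd_even h2 (polarBilin Q) (fun u v => polar_comm _ _ _) T (fun u v => by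
        show polar (⇑Q) _ _ = polar (⇑Q) u v
        simp only [hT, Matrix.toLin'_apply, polar, ← Matrix.mulVec_add, hMQ])
        ((Fact.out : p.Prime).odd_of_ne_two hp2).pow hTp ⊤ (fun _ _ => trivial)
        (fun w _ hw => hQ.1 w fun v => hw v trivial) hi
      have h3 := (Matrix.toLin' ((M - 1) ^ i)).finrank_range_add_finrank_ker
      have h4 : (OrthUni.rk (T - 1) ⊤ i) = Module.finrank F (LinearMap.range (Matrix.toLin' ((M - 1) ^ i))) := by
        rw [OrthUni.rk, Submodule.map_top, Matrix.toLin'_pow, map_sub, Matrix.toLin'_one]; rfl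
      rw [h4] at h
      have h5 := hkc i
      rw [SympJordan.kc_eq_pow] at h5
      rw [← Nat.pow_right_injective hq h5]
      rw [Module.finrank_pi, Fintype.card_fin] at h3
      suffices Even (n - Module.finrank F (LinearMap.ker (Matrix.toLin' ((M - 1) ^ i)))) from this
      rwa [show n - Module.finrank F (LinearMap.ker (Matrix.toLin' ((M - 1) ^ i))) =
        Module.finrank F (LinearMap.range (Matrix.toLin' ((M - 1) ^ i))) by omega]
    obtain ⟨r, rfl⟩ := hj
    obtain ⟨i, rfl⟩ : ∃ i, r = i + 1 := ⟨r - 1, by omega⟩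
    have e1 := hev (2 * i + 1) ⟨i, rfl⟩
    have e2 := hev (2 * i + 3) ⟨i + 1, by ring⟩
    have key : ∑ x, min (2 * i + 1) (d x) + ∑ x, min (2 * i + 3) (d x) +
        (Finset.univ.filter (fun x : Fin t => d x = i + 1 + (i + 1))).card = 2 * ∑ x, min (2 * i + 2) (d x) := by
      rw [Finset.card_filter, ← Finset.sum_add_distrib, ← Finset.sum_add_distrib, Finset.mul_sum]
      refine Finset.sum_congr rfl fun x _ => ?_
      split_ifs <;> omega
    have hle : ∀ i, ∑ x, min i (d x) ≤ n := fun i => hsum ▸ Finset.sum_le_sum fun x _ => min_le_right _ _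
    have := hle (2 * i + 1)
    have := hle (2 * i + 3)
    rw [Nat.even_iff] at e1 e2 ⊢
    omega
  · intro hpar
    let fib : ℕ → Type := fun a => {x : Fin t // d x = a}
    have hle : ∀ x, d x < n + 1 := fun x => by
      have := Finset.single_le_sum (f := d) (fun i _ => Nat.zero_le _) (Finset.mem_univ x)
      omega
    let β := Σ a : Fin (n + 1), Fin (Fintype.card (fib a))
    let A : β → ℕ := fun x => (x.1 : ℕ)
    have hev : ∀ (x : β), Even (x.1 : ℕ) → Even (Fintype.card (fib x.1)) := fun x h => by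
      have hpos : 0 < (x.1 : ℕ) := by
        have hc : 0 < Fintype.card (fib x.1) := lt_of_le_of_lt (Nat.zero_le _) x.2.isLt
        obtain ⟨y, hy⟩ := Fintype.card_pos_iff.1 hc
        have := hd y
        omega
      have := hpar x.1 h hpos
      rwa [show Fintype.card (fib x.1) = (Finset.univ.filter (fun k : Fin t => d k = x.1)).card from
        Fintype.card_subtype _]
    let τ : β → β := fun x => if h : Even (x.1 : ℕ) then ⟨x.1, flipIdx (hev x h) x.2⟩ else x
    let c : β → F := fun x => if Even (x.1 : ℕ) ∧ (x.2 : ℕ) % 2 = 1 then -1 else 1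
    have hA : ∀ x, A (τ x) = A x := fun x => by simp only [A, τ]; split_ifs <;> rfl
    have hτ : ∀ x, τ (τ x) = x := fun x => by
      by_cases h : Even (x.1 : ℕ)
      · rw [show τ x = ⟨x.1, flipIdx (hev x h) x.2⟩ from dif_pos h]
        refine (dif_pos h).trans ?_
        show Sigma.mk x.1 (flipIdx (hev x h) (flipIdx (hev x h) x.2)) = x
        rw [flipIdx_flip]
      · rw [show τ x = x from dif_neg h, show τ x = x from dif_neg h]
    have hc : ∀ x, c (τ x) = (-1) ^ (A x + 1) * c x := fun x => by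
      by_cases h : Even (x.1 : ℕ)
      · have hτx : τ x = ⟨x.1, flipIdx (hev x h) x.2⟩ := dif_pos h
        rw [hτx]
        simp only [c, A, h, true_and, h.add_one.neg_one_pow, flipIdx]
        split_ifs <;> first | omega | simp
      · have hτx : τ x = x := dif_neg h
        rw [hτx, show (-1 : F) ^ (A x + 1) = 1 from (Nat.not_even_iff_odd.1 h).add_one.neg_one_pow, one_mul]
    have hc0 : ∀ x, c x ≠ 0 := fun x => by simp only [c]; split_ifs <;> simp
    let eβ : β ≃ Fin t :=
      (Equiv.sigmaCongrRight fun a : Fin (n + 1) => (Fintype.equivFin (fib a)).symm).trans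
        ((Equiv.sigmaCongrRight fun a : Fin (n + 1) => Equiv.subtypeEquivRight fun x => (Fin.ext_iff (a := (⟨d x, hle x⟩ : Fin (n + 1))) (b := a)).symm).trans
          (Equiv.sigmaFiberEquiv fun x => (⟨d x, hle x⟩ : Fin (n + 1))))
    have hde : ∀ x, d (eβ x) = A x := fun x => ((Fintype.equivFin (fib x.1)).symm x.2).2
    have hcard : Fintype.card (Σ k, Fin (A k)) = n := by
      rw [Fintype.card_sigma]
      simp only [Fintype.card_fin, ← hde]
      rw [eβ.sum_comp d, hsum]
    let g := Fintype.equivFinOfCardEq hcard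
    set K : Matrix (Σ k, Fin (A k)) (Σ k, Fin (A k)) F := UnipClasses.J A with hKdef
    have hKn : K ^ n = 0 := UnipClasses.J_pow_eq_zero A fun x => Nat.lt_succ_iff.1 x.1.isLt
    set G := OrthUni.gram A τ c with hG
    obtain ⟨R, hR⟩ := (IsNilpotent.isUnit_one_sub ⟨n, hKn⟩ : IsUnit (1 - K))
    set Y := (1 + K) * ((R⁻¹ : (Matrix _ _ F)ˣ) : Matrix (Σ k, Fin (A k)) (Σ k, Fin (A k)) F) with hY
    have hYG : Yᵀ * G * Y = G := cayley (skew hA c) R hR
    have hY1 : Y - 1 = (2 : F) • (K * ((R⁻¹ : (Matrix _ _ F)ˣ) : Matrix _ _ F)) := by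
      have e1 : (1 : Matrix (Σ k, Fin (A k)) (Σ k, Fin (A k)) F) = (1 - K) * ((R⁻¹ : (Matrix _ _ F)ˣ) : Matrix _ _ F) := by
        rw [← hR, Units.mul_inv]
      rw [hY]
      conv_lhs => arg 2; rw [e1]
      rw [← sub_mul, show (1 : Matrix (Σ k, Fin (A k)) (Σ k, Fin (A k)) F) + K - (1 - K) = (2 : F) • K by module,
        smul_mul_assoc]
    have hcom : Commute K ((R⁻¹ : (Matrix _ _ F)ˣ) : Matrix (Σ k, Fin (A k)) (Σ k, Fin (A k)) F) := by
      refine Commute.units_inv_right ?_
      rw [hR]; exact (Commute.one_right K).sub_right (Commute.refl K)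
    have hkY : ∀ j, SympJordan.kc ((Y - 1) ^ j) = Nat.card F ^ ∑ x, min j (A x) := fun j => by
      rw [← UnipClasses.card_ker A j]
      refine Nat.card_congr (Equiv.subtypeEquivRight fun v => ?_)
      rw [hY1, _root_.smul_pow, hcom.mul_pow, Matrix.smul_mulVec, smul_eq_zero_iff_right (pow_ne_zero _ h2),
        (hcom.pow_pow j j).eq, ← mulVec_mulVec, ← Units.val_pow_eq_pow_val]
      refine ⟨fun h => ?_, fun h => by rw [h, mulVec_zero]⟩
      set Z : (Matrix (Σ k, Fin (A k)) (Σ k, Fin (A k)) F)ˣ := R ^ j with hZ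
      have := congrArg (fun w => (Z : Matrix (Σ k, Fin (A k)) (Σ k, Fin (A k)) F) *ᵥ w) h
      simpa only [mulVec_mulVec, inv_pow, ← hZ, ← mul_assoc, Units.mul_inv, one_mul, one_mulVec, mulVec_zero] using this
    have hYn : IsNilpotent (Y - 1) := ⟨n, by rw [hY1, _root_.smul_pow, hcom.mul_pow, hKn, zero_mul, smul_zero]⟩
    set G' := Matrix.reindex g g G with hG'
    set Y' := Matrix.reindex g g Y with hY'
    have hYG' : Y'ᵀ * G' * Y' = G' := by
      rw [hY', hG', Matrix.transpose_reindex]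
      simp only [← Matrix.reindexAlgEquiv_apply F F, ← map_mul, hYG]
    have hGs : G'ᵀ = G' := by
      ext a b
      simp only [hG', hG, Matrix.transpose_apply, Matrix.reindex_apply, Matrix.submatrix_apply]
      exact OrthUni.gram_symm hA hτ hc _ _
    have hsymm : ∀ u v, Matrix.toBilin' G' u v = Matrix.toBilin' G' v u := fun u v => by
      rw [Matrix.toBilin'_apply', Matrix.toBilin'_apply', dotProduct_mulVec, ← mulVec_transpose, hGs, dotProduct_comm]
    let Q : QuadraticForm F (Fin n → F) :=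
      LinearMap.BilinMap.toQuadraticMap ((2 : F)⁻¹ • Matrix.toBilin' G')
    have hQv : ∀ v, Q v = (2 : F)⁻¹ * Matrix.toBilin' G' v v := fun v => rfl
    have hpol : polarBilin Q = Matrix.toBilin' G' := by
      refine LinearMap.ext fun u => LinearMap.ext fun v => ?_
      rw [polarBilin_apply_apply]
      simp only [polar, hQv, map_add, LinearMap.add_apply, hsymm v u]
      field_simp
      ring
    have hYdet : IsUnit Y'.det := by
      have h := congrArg Matrix.det hYG'
      rw [Matrix.det_mul, Matrix.det_mul, Matrix.det_transpose] at h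
      have hG0 : G'.det ≠ 0 := by rw [hG', Matrix.det_reindex_self]; exact OrthUni.gram_det hA hτ hc0
      refine isUnit_iff_ne_zero.2 fun h0 => hG0 ?_
      rw [← h, h0, mul_zero]
    refine ⟨Q, ?_, ?_⟩
    · rw [hpol]
      refine LinearMap.BilinForm.nondegenerate_toBilin'_iff_det_ne_zero.2 ?_
      rw [hG', Matrix.det_reindex_self]
      exact OrthUni.gram_det hA hτ hc0
    have hcard' : Fintype.card ((k : Fin t) × Fin (d k)) = Fintype.card (Fin n) := by
      rw [Fintype.card_sigma, Fintype.card_fin]; simpa using hsum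
    refine ⟨Fintype.equivOfCardEq hcard', ⟨Matrix.nonsingInvUnit Y' hYdet, (Refl.mem_iff Q).2 fun v => ?_⟩, ?_⟩
    · show Q (Y' *ᵥ v) = Q v
      rw [hQv, hQv, Matrix.toBilin'_apply', Matrix.toBilin'_apply', mulVec_mulVec,
        show Y' *ᵥ v ⬝ᵥ (G' * Y') *ᵥ v = v ⬝ᵥ (Y'ᵀ * G' * Y') *ᵥ v by
          rw [mul_assoc, ← mulVec_mulVec _ (Y'ᵀ), dotProduct_mulVec v (Y'ᵀ), vecMul_transpose], hYG']
    have hnilJ : IsNilpotent (Cfsg.jordanTypeMatrix d F - 1) := by
      refine ⟨n, ?_⟩
      rw [show Cfsg.jordanTypeMatrix d F - 1 = Matrix.blockDiagonal' (fun x => SympJordan.shiftBlock (F := F) (d x)) by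
        rw [sub_eq_iff_eq_add, ← Matrix.blockDiagonal'_one, ← Matrix.blockDiagonal'_add, Cfsg.jordanTypeMatrix]
        congr 1
        funext x
        rw [SympJordan.jordanBlock_eq, Pi.add_apply, Pi.one_apply, add_comm]]
      rw [← Matrix.blockDiagonal'_pow, show ((fun x => SympJordan.shiftBlock (F := F) (d x)) ^ n) = 0 from
        funext fun x => pow_eq_zero_of_le (Nat.lt_succ_iff.1 (hle x)) (SympJordan.shiftBlock_nilpotent (F := F) (d x)),
        Matrix.blockDiagonal'_zero]
    have hsim := SympJordan.similar_of_kc (Fintype.equivOfCardEq hcard') hnilJ (M' := Y' - 1) fun j => by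
      have e1 : Y' - 1 = Matrix.reindex g g (Y - 1) := by
        ext a b; simp [hY', Matrix.one_apply]
      rw [SympJordan.kc_jordanType, e1, SympJordan.reindex_pow, SympJordan.kc_reindex, hkY, ← eβ.sum_comp]
      simp only [hde]
    rwa [add_sub_cancel, add_sub_cancel] at hsim

end Cfsg.Lib.OrthJordan
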