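import Cfsg.Agent.Known.SympJordan
import Cfsg.Agent.Known.SympInvol.Forms
import Cfsg.Agent.Known.OrthInvol.Models
import Mathlib

/-! Unipotent Jordan types in orthogonal groups in characteristic two. -/

set_option autoImplicit false
set_option linter.style.haveILetI false
set_option linter.unusedSectionVars false

open Matrix Submodule Cfsg.Lib.Classical Cfsg.Lib.SympJordan

namespace Cfsg.Lib.OrthJordanTwo

universe u v

variable {F : Type u} [Field F] [Fintype F] [CharP F 2]

/-- An isometry of the polar form of a quadratic form fixes some quadratic form with the same polar form. -/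
theorem exists_invariant {V : Type v} [AddCommGroup V] [Module F V] [FiniteDimensional F V] (Q₀ : QuadraticForm F V)
    (T : V →ₗ[F] V) (hT : ∀ x y, QuadraticMap.polar (⇑Q₀) (T x) (T y) = QuadraticMap.polar (⇑Q₀) x y) :
    ∃ Q : QuadraticForm F V, QuadraticMap.polarBilin Q = QuadraticMap.polarBilin Q₀ ∧ ∀ x, Q (T x) = Q x := by
  choose l hl using fun x => SympInvol.sqrt_exists (Q₀ (T x) + Q₀ x)
  let L : V →ₗ[F] F :=
    { toFun := l
      map_add' := fun x y => SympInvol.sq_inj (by
        rw [CharTwo.add_mul_self, hl, hl, hl, map_add, QuadraticMap.map_add (⇑Q₀), QuadraticMap.map_add (⇑Q₀), hT]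
        rw [show Q₀ (T x) + Q₀ (T y) + QuadraticMap.polar (⇑Q₀) x y + (Q₀ x + Q₀ y + QuadraticMap.polar (⇑Q₀) x y) =
          Q₀ (T x) + Q₀ x + (Q₀ (T y) + Q₀ y) + (QuadraticMap.polar (⇑Q₀) x y + QuadraticMap.polar (⇑Q₀) x y) by ring,
          CharTwo.add_self_eq_zero, add_zero])
      map_smul' := fun c x => SympInvol.sq_inj (by
        rw [hl, map_smul, QuadraticMap.map_smul, QuadraticMap.map_smul, RingHom.id_apply, smul_eq_mul, smul_eq_mul,
          smul_eq_mul, show c * l x * (c * l x) = c * c * (l x * l x) by ring, hl]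
        ring) }
  have hmem : L ∈ LinearMap.range (T - LinearMap.id).dualMap := by
    rw [LinearMap.range_dualMap_eq_dualAnnihilator_ker, Submodule.mem_dualAnnihilator]
    intro x hx
    rw [LinearMap.mem_ker, LinearMap.sub_apply, LinearMap.id_apply, sub_eq_zero] at hx
    refine SympInvol.sq_inj ?_
    show l x * l x = 0 * 0
    rw [hl, hx, CharTwo.add_self_eq_zero, mul_zero]
  obtain ⟨μ, hμ⟩ := hmem
  refine ⟨Q₀ + QuadraticMap.linMulLin μ μ, ?_, fun x => ?_⟩
  · refine LinearMap.ext fun x => LinearMap.ext fun y => ?_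
    show QuadraticMap.polar (⇑(Q₀ + QuadraticMap.linMulLin μ μ)) x y = QuadraticMap.polar (⇑Q₀) x y
    simp only [QuadraticMap.polar, QuadraticMap.add_apply, QuadraticMap.linMulLin_apply, map_add, CharTwo.sub_eq_add]
    rw [CharTwo.add_mul_self]
    linear_combination (μ x * μ x + μ y * μ y) * (CharTwo.two_eq_zero : (2 : F) = 0)
  · have h1 : μ (T x) = l x + μ x := by
      have : μ (T x - x) = l x := LinearMap.congr_fun hμ x
      rw [map_sub] at this
      rw [← this, sub_add_cancel]
    simp only [QuadraticMap.add_apply, QuadraticMap.linMulLin_apply, h1, CharTwo.add_mul_self, hl]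
    linear_combination Q₀ (T x) * (CharTwo.two_eq_zero : (2 : F) = 0)

theorem types {m t : ℕ} (d : Fin t → ℕ) (hd : ∀ k, 1 ≤ d k) (hsum : ∑ k, d k = 2 * m) :
    (∃ Q : QuadraticForm F (Fin (2 * m) → F), (QuadraticMap.polarBilin Q).Nondegenerate ∧
      ∃ e : ((k : Fin t) × Fin (d k)) ≃ Fin (2 * m), ∃ A : ↥(Cfsg.isometryGroup F ⇑Q),
        IsConj (Matrix.reindex e e (Cfsg.jordanTypeMatrix d F))
          ((A : Matrix.GeneralLinearGroup (Fin (2 * m)) F) : Matrix (Fin (2 * m)) (Fin (2 * m)) F)) ↔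
      ∀ j : ℕ, Odd j → Even (Finset.univ.filter (fun k : Fin t => d k = j)).card := by
  classical
  constructor
  · rintro ⟨Q, hQ, e, A, P, hP⟩ j hj
    refine count_odd d (fun i => ?_) hj
    set M := ((A : Matrix.GeneralLinearGroup (Fin (2 * m)) F) : Matrix (Fin (2 * m)) (Fin (2 * m)) F) with hM
    have hs : SemiconjBy (P : Matrix (Fin (2 * m)) (Fin (2 * m)) F)
        (Matrix.reindex e e (Cfsg.jordanTypeMatrix d F - 1)) (M - 1) := by
      have : Matrix.reindex e e (Cfsg.jordanTypeMatrix d F - 1) = Matrix.reindex e e (Cfsg.jordanTypeMatrix d F) - 1 := by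
        ext x y; simp [Matrix.one_apply]
      rw [this]
      exact hP.sub_right (SemiconjBy.one_right _)
    have h1 : kc ((M - 1) ^ (i + i)) = Nat.card F ^ ∑ x, min (i + i) (d x) := by
      rw [← kc_jordanType, ← kc_reindex e, ← reindex_pow]
      exact (UnipClasses.card_ker_conj P (hs.pow_right (i + i)).eq).symm
    rw [kc_eq_pow] at h1
    rw [← Nat.pow_right_injective Finite.one_lt_card h1]
    have hdet : IsUnit M.det := (Matrix.isUnit_iff_isUnit_det _).1 (A : Matrix.GeneralLinearGroup (Fin (2 * m)) F).isUnit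
    let T : (Fin (2 * m) → F) ≃ₗ[F] (Fin (2 * m) → F) := Matrix.toLinearEquiv' M (M.invertibleOfIsUnitDet hdet)
    have hev := even_rank_sq (QuadraticMap.polarBilin Q) (OrthInvol.polar_alt Q) hQ T
      (fun x y => (OrthInvol.toBI Q A).2 x y) i
    have e1 : ((T : Module.End F (Fin (2 * m) → F)) - 1) ^ (i + i) = Matrix.toLin' ((M - 1) ^ (i + i)) := by
      rw [Matrix.toLin'_pow, map_sub, Matrix.toLin'_one]; rfl
    rw [e1] at hev
    have h3 := (Matrix.toLin' ((M - 1) ^ (i + i))).finrank_range_add_finrank_ker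
    rw [Module.finrank_pi, Fintype.card_fin] at h3
    suffices hk : Even (Module.finrank F (LinearMap.ker (Matrix.toLin' ((M - 1) ^ (i + i))))) from hk
    rw [Nat.even_iff] at hev ⊢
    omega
  · intro hpar
    obtain ⟨e, A, hA⟩ := (SympJordan.types (F := F) d hd hsum).2 hpar
    let ε : Fin m ⊕ Fin m ≃ Fin (2 * m) := finSumFinEquiv.trans (finCongr (two_mul m).symm)
    have hB : ∀ x y, sympBilin m F x y = QuadraticMap.polar (⇑(HypQuad.plusForm m F)) x y := fun x y => by
      rw [sympBilin_eq_sum, OrthInvol.plus_coe]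
      simp only [QuadraticMap.polar, Cfsg.quadFormPlus, Pi.add_apply, add_mul, mul_add, CharTwo.sub_eq_add,
        Finset.sum_add_distrib]
      rw [show ∑ i, y (Sum.inl i) * x (Sum.inr i) = ∑ i, x (Sum.inr i) * y (Sum.inl i) from
        Finset.sum_congr rfl fun i _ => mul_comm _ _]
      linear_combination -(∑ i, x (Sum.inl i) * x (Sum.inr i) + ∑ i, y (Sum.inl i) * y (Sum.inr i)) * (CharTwo.two_eq_zero : (2 : F) = 0)
    let R := Matrix.reindex ε ε (A : Matrix (Fin m ⊕ Fin m) (Fin m ⊕ Fin m) F)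
    let φ : (Fin (2 * m) → F) ≃ₗ[F] (Fin m ⊕ Fin m → F) := LinearEquiv.funCongrLeft F F ε
    have hR : ∀ x, φ (R *ᵥ x) = (A : Matrix (Fin m ⊕ Fin m) (Fin m ⊕ Fin m) F) *ᵥ φ x := fun x => by
      funext i
      simp only [φ, R, Matrix.reindex_apply, LinearEquiv.funCongrLeft_apply, LinearMap.funLeft_apply,
        Matrix.submatrix_mulVec_equiv, Function.comp_apply, Equiv.symm_apply_apply]
      rfl
    let Q₀ : QuadraticForm F (Fin (2 * m) → F) := (HypQuad.plusForm m F).comp φ.toLinearMap
    have hp : ∀ x y, QuadraticMap.polar (⇑Q₀) x y = QuadraticMap.polar (⇑(HypQuad.plusForm m F)) (φ x) (φ y) := fun x y => by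
      simp [Q₀, QuadraticMap.polar]
    obtain ⟨Q, hQ, hQT⟩ := exists_invariant Q₀ (Matrix.toLin' R) fun x y => by
      rw [hp, hp, Matrix.toLin'_apply, Matrix.toLin'_apply, hR, hR, ← hB, ← hB]
      exact (mem_symplectic_iff_form _).1 A.2 _ _
    have hdet : R.det ≠ 0 := by
      rw [show R.det = _ from Matrix.det_reindex_self ε _]
      exact (SymplecticGroup.symplectic_det A.2).ne_zero
    refine ⟨Q, ?_, e.trans ε, ⟨Matrix.GeneralLinearGroup.mkOfDetNeZero R hdet,
      (Refl.mem_iff Q).mpr fun x => by simpa using hQT x⟩, ?_⟩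
    · rw [hQ]
      refine ⟨fun x hx => φ.map_eq_zero_iff.1 ((HypQuad.plusForm_nondegenerate m).1 _ fun y => ?_),
        fun x hx => φ.map_eq_zero_iff.1 ((HypQuad.plusForm_nondegenerate m).2 _ fun y => ?_)⟩
      · obtain ⟨y, rfl⟩ := φ.surjective y
        exact (hp x y).symm.trans (hx y)
      · obtain ⟨y, rfl⟩ := φ.surjective y
        exact (hp y x).symm.trans (hx y)
    · show IsConj _ R
      rw [show Matrix.reindex (e.trans ε) (e.trans ε) (Cfsg.jordanTypeMatrix d F) =
        Matrix.reindexAlgEquiv F F ε (Matrix.reindex e e (Cfsg.jordanTypeMatrix d F)) from rfl]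
      exact MonoidHom.map_isConj (Matrix.reindexAlgEquiv F F ε).toMulEquiv.toMonoidHom hA

end Cfsg.Lib.OrthJordanTwo
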