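import Cfsg.Agent.Known.OrthCount
import Cfsg.Agent.Known.OrthGlue
import Cfsg.Agent.Known.DualCount
import Cfsg.Agent.Known.SympModel
import Cfsg.Agent.Known.QuadSemisimple
import Mathlib

/-! Semisimple orthogonal transformations with prescribed characteristic polynomial. -/

set_option autoImplicit false
set_option linter.style.haveILetI false
set_option linter.unusedSectionVars false

open Polynomial Cfsg.Lib.Classical

namespace Cfsg.Lib.OrthModel

open DualPoly FormNormal

universe u v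

variable {F : Type u} [Field F] [Fintype F] {p r : ℕ} [Fact p.Prime] [CharP F p] [Fact r.Prime]

theorem isRoot_of_pow (hr2 : r ≠ 2) {f : F[X]} (hfac : ∀ g, g.Monic → Irreducible g → g ∣ f → g ∣ X ^ r - 1)
    (h : f.IsRoot (-1)) : f.IsRoot 1 := by
  have h1 := hfac _ (monic_X_sub_C (-1 : F)) (irreducible_X_sub_C (-1 : F)) (dvd_iff_isRoot.2 h)
  rw [dvd_iff_isRoot, IsRoot.def, eval_sub, eval_pow, eval_X, eval_one,
    (Nat.Prime.odd_of_ne_two Fact.out hr2).neg_one_pow, sub_eq_zero] at h1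
  rwa [h1] at h

/-- A self-dual polynomial without root `1` is palindromic of even degree. -/
theorem even_of_regular (hr2 : r ≠ 2) {f : F[X]} (hf : f.Monic) (hdual : dual (RingHom.id F) f = f)
    (hfac : ∀ g, g.Monic → Irreducible g → g ∣ f → g ∣ X ^ r - 1) (h1 : ¬ f.IsRoot 1) :
    f.reverse = f ∧ Even f.natDegree := by
  have hrev : f.reverse = C (f.coeff 0) * f := by
    have h0 : f.coeff 0 ≠ 0 := fun h0 => by
      rw [dual, RingHom.id_apply, h0, inv_zero, map_zero, zero_mul] at hdual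
      exact hf.ne_zero hdual.symm
    have hh : f.reverse = C (f.coeff 0) * dual (RingHom.id F) f := by
      rw [dual, RingHom.id_apply, Polynomial.map_id, ← mul_assoc, ← map_mul, mul_inv_cancel₀ h0, map_one, one_mul]
    rwa [hdual] at hh
  have he : f.reverse.eval 1 = f.eval 1 := by
    letI : Invertible (1 : F) := invertibleOne
    have h := eval₂_reverse_mul_pow (RingHom.id F) (1 : F) f
    rw [one_pow, mul_one, invOf_one] at h
    exact h
  have hc : f.coeff 0 = 1 := by
    rw [hrev, eval_mul, eval_C] at he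
    exact mul_right_cancel₀ h1 (he.trans (one_mul _).symm)
  rw [hc, map_one, one_mul] at hrev
  refine ⟨hrev, ?_⟩
  by_contra hodd
  rw [Nat.not_even_iff_odd] at hodd
  refine h1 (isRoot_of_pow hr2 hfac ?_)
  rw [IsRoot.def, eval_eq_sum_range]
  refine Finset.sum_involution (fun k _ => f.natDegree - k) (fun k hk => ?_) (fun k hk _ => ?_)
    (fun k hk => Finset.mem_range.2 (Nat.lt_succ_of_le (Nat.sub_le _ _)))
    (fun k hk => Nat.sub_sub_self (Nat.lt_succ_iff.1 (Finset.mem_range.1 hk)))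
  · have hk' := Nat.lt_succ_iff.1 (Finset.mem_range.1 hk)
    have hcoef : f.coeff (f.natDegree - k) = f.coeff k := by
      conv_rhs => rw [← hrev, coeff_reverse, revAt_le hk']
    have hpow : (-1 : F) ^ (f.natDegree - k) = -(-1) ^ k := by
      have h : (-1 : F) ^ (f.natDegree - k) * (-1) ^ k = -1 := by
        rw [← pow_add, Nat.sub_add_cancel hk', hodd.neg_one_pow]
      have h' : (-1 : F) ^ k * (-1) ^ k = 1 := by rw [← mul_pow]; simp
      linear_combination ((-1 : F) ^ k) * h - ((-1 : F) ^ (f.natDegree - k)) * h'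
    rw [hcoef, hpow]; ring
  · have hk' := Nat.lt_succ_iff.1 (Finset.mem_range.1 hk)
    obtain ⟨d, hd⟩ := hodd
    omega

/-- A regular semisimple isometry with given characteristic polynomial. -/
theorem regular (hr2 : r ≠ 2) (w : ℕ) {f : F[X]} (hf : f.Monic) (hd : f.natDegree = 2 * w)
    (hdual : dual (RingHom.id F) f = f) (hfac : ∀ g, g.Monic → Irreducible g → g ∣ f → g ∣ X ^ r - 1)
    (h1 : ¬ f.IsRoot 1) :
    ∃ (Q : QuadraticForm F (Fin w ⊕ Fin w → F)) (a : Module.End F (Fin w ⊕ Fin w → F)),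
      (QuadraticMap.polarBilin Q).Nondegenerate ∧ (∀ v, Q (a v) = Q v) ∧ a ^ r = 1 ∧ (∀ v, a v = v → v = 0) ∧
      a.charpoly = f := by
  classical
  obtain ⟨p, hp⟩ := CharP.exists F
  haveI : Fact p.Prime := ⟨CharP.char_is_prime F p⟩
  obtain ⟨A, hA, hAf⟩ := SympModel.exists_model p w f hf hd (even_of_regular hr2 hf hdual hfac h1).1
  set M : Matrix (Fin w ⊕ Fin w) (Fin w ⊕ Fin w) F := ↑A with hM
  have hMr : M ^ r = 1 := DualCount.pow_eq_one (p := p) M hA
    (by rw [hM, ← SubmonoidClass.coe_pow, pow_orderOf_eq_one, Submonoid.coe_one]) (hAf ▸ DualCount.dvd_pow_of_factors hf hfac)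
  set a := Matrix.toLin' M with ha
  have har : a ^ r = 1 := by rw [ha, ← Matrix.toLin'_pow, hMr, Matrix.toLin'_one]; rfl
  have hB : ∀ u x, sympBilin w F (a u) (a x) = sympBilin w F u x := fun u x => by
    rw [ha, Matrix.toLin'_apply, Matrix.toLin'_apply]; exact (mem_symplectic_iff_form _).1 A.2 u x
  have hfree : ∀ v, a v = v → v = 0 := fun v hv => by
    by_contra hv0
    refine h1 ?_
    rw [IsRoot.def, ← hAf, Matrix.eval_charpoly, ← Matrix.exists_mulVec_eq_zero_iff]
    refine ⟨v, hv0, ?_⟩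
    rw [Matrix.sub_mulVec, map_one, Matrix.one_mulVec, ← Matrix.toLin'_apply, ← ha, hv, sub_self]
  let Q : QuadraticForm F (Fin w ⊕ Fin w → F) := LinearMap.BilinMap.toQuadraticMap (LinearMap.comp (sympBilin w F) a)
  have hQ : ∀ v, Q v = sympBilin w F (a v) v := fun v => rfl
  have hskew : ∀ x y, sympBilin w F x y = -sympBilin w F y x := fun x y => by
    have := sympBilin_isAlt w F (x + y)
    simp only [map_add, LinearMap.add_apply, (sympBilin_isAlt w F) x, (sympBilin_isAlt w F) y, zero_add, add_zero] at this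
    linear_combination this
  have hpol : ∀ u x, QuadraticMap.polar (⇑Q) u x = sympBilin w F (a (a u) - u) (a x) := fun u x => by
    rw [QuadraticMap.polar, hQ, hQ, hQ]
    simp only [map_add, LinearMap.add_apply, map_sub, LinearMap.sub_apply, hB]
    linear_combination hskew (a x) u
  have hinj : ∀ u, a (a u) - u = 0 → u = 0 := fun u hu => by
    rw [sub_eq_zero] at hu
    refine hfree u ?_
    obtain ⟨k, hk⟩ := (Nat.Prime.odd_of_ne_two (Fact.out : r.Prime) hr2)
    have h2 : ∀ j, (a ^ (2 * j)) u = u := fun j => by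
      induction j with
      | zero => rfl
      | succ j ih =>
        rw [show 2 * (j + 1) = 2 * j + 2 by ring, pow_add, Module.End.mul_apply, sq, Module.End.mul_apply, hu, ih]
    have := h2 (k + 1)
    rw [show 2 * (k + 1) = 1 + r by omega, pow_add, har, mul_one, pow_one] at this
    exact this
  have hnd : ∀ u, (∀ x, QuadraticMap.polar (⇑Q) u x = 0) → u = 0 := fun u h => by
    refine hinj u ((sympBilin_nondegenerate w F).1 _ fun x => ?_)
    have hs : Function.Surjective a := fun y => ⟨(a ^ (r - 1)) y, by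
      rw [← Module.End.mul_apply, ← pow_succ', Nat.sub_add_cancel (Fact.out : r.Prime).one_le, har]; rfl⟩
    obtain ⟨x, rfl⟩ := hs x
    rw [← hpol]; exact h x
  refine ⟨Q, a, ⟨hnd, fun x hx => hnd x fun y => by rw [QuadraticMap.polar_comm]; exact hx y⟩,
    fun v => by rw [hQ, hQ, hB], har, hfree, by rw [ha, Matrix.charpoly_toLin', hAf]⟩

/-- Splitting off the root `1`. -/
theorem split_one {f : F[X]} (hf : f.Monic) (hdual : dual (RingHom.id F) f = f)
    (hfac : ∀ g, g.Monic → Irreducible g → g ∣ f → g ∣ X ^ r - 1) :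
    ∃ f₀ : F[X], f = (X - C 1) ^ f.rootMultiplicity 1 * f₀ ∧ f₀.Monic ∧ dual (RingHom.id F) f₀ = f₀ ∧
      (∀ g, g.Monic → Irreducible g → g ∣ f₀ → g ∣ X ^ r - 1) ∧ ¬ f₀.IsRoot 1 ∧
      f.natDegree = f.rootMultiplicity 1 + f₀.natDegree := by
  obtain ⟨f₀, he, hn⟩ := exists_eq_pow_rootMultiplicity_mul_and_not_dvd f hf.ne_zero 1
  have hm : f₀.Monic := ((monic_X_sub_C (1 : F)).pow _).of_mul_monic_left (he ▸ hf)
  refine ⟨f₀, he, hm, ?_, fun g hg hgi hgd => hfac g hg hgi (he ▸ hgd.mul_left _), by rwa [dvd_iff_isRoot] at hn, ?_⟩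
  · have h := hdual
    rw [he, dual_mul] at h
    have hp : dual (RingHom.id F) ((X - C (1 : F)) ^ f.rootMultiplicity 1) = (X - C 1) ^ f.rootMultiplicity 1 := by
      rw [← Multiset.prod_replicate, dual_prod, Multiset.map_replicate, dual_X_sub_one]
    rw [hp] at h
    exact mul_left_cancel₀ (pow_ne_zero _ (X_sub_C_ne_zero 1)) h
  · conv_lhs => rw [he]
    rw [((monic_X_sub_C (1 : F)).pow _).natDegree_mul hm, natDegree_pow, natDegree_X_sub_C, mul_one]

/-- Extending an isometry by the identity and moving it to a given space. -/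
theorem transfer {V W U : Type*} [AddCommGroup V] [Module F V] [FiniteDimensional F V] [AddCommGroup W] [Module F W]
    [FiniteDimensional F W] [AddCommGroup U] [Module F U] [FiniteDimensional F U]
    (Q : QuadraticForm F V) (R : QuadraticForm F U) (P : QuadraticForm F W) (a : Module.End F V)
    (ha : ∀ v, Q (a v) = Q v) (har : a ^ r = 1) {c : F} (e : (V × U) ≃ₗ[F] W) (hc : c ≠ 0)
    (he : ∀ x, c * P (e x) = (Q.prod R) x) :
    ∃ b : Module.End F W, (∀ v, P (b v) = P v) ∧ b ^ r = 1 ∧ b.charpoly = a.charpoly * (X - C 1) ^ Module.finrank F U := by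
  refine ⟨e.conj (LinearMap.prodMap a LinearMap.id), fun v => ?_, ?_, ?_⟩
  · obtain ⟨x, rfl⟩ := e.surjective v
    refine mul_left_cancel₀ hc ?_
    rw [he, show e.conj (LinearMap.prodMap a LinearMap.id) (e x) = e (a x.1, x.2) by simp [LinearEquiv.conj_apply]]
    rw [he, QuadraticMap.prod_apply, QuadraticMap.prod_apply, ha]
  · have h : ∀ k : ℕ, (e.conj (LinearMap.prodMap a LinearMap.id)) ^ k = e.conj (LinearMap.prodMap (a ^ k) LinearMap.id) := by
      intro k
      induction k with
      | zero =>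
        refine LinearMap.ext fun v => ?_
        simp [LinearEquiv.conj_apply]
      | succ k ih =>
        refine LinearMap.ext fun v => ?_
        rw [pow_succ, ih, pow_succ]
        simp [LinearEquiv.conj_apply]
    rw [h, har]
    refine LinearMap.ext fun v => ?_
    simp [LinearEquiv.conj_apply]
  · rw [LinearEquiv.charpoly_conj, LinearMap.charpoly_prodMap, ← Module.End.one_eq_id, LinearMap.charpoly_one, C_1]

/-- Even dimension. -/
theorem model_even (hr2 : r ≠ 2) (hq : (Fintype.card F : ZMod r) ≠ 0) {W : Type v} [AddCommGroup W] [Module F W]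
    [FiniteDimensional F W] {P : QuadraticForm F W} (hP : (QuadraticMap.polarBilin P).Nondegenerate)
    (D : Decomp P (⊤ : Submodule F W)) {m : ℕ} (hW : Module.finrank F W = 2 * m) {f : F[X]} (hf : f.Monic)
    (hd : f.natDegree = 2 * m) (hdual : dual (RingHom.id F) f = f)
    (hfac : ∀ g, g.Monic → Irreducible g → g ∣ f → g ∣ X ^ r - 1)
    (hcond : f.IsRoot 1 ∨ (Fintype.card F : ZMod r) ^ m = if Module.finrank F D.K = 0 then 1 else -1) :
    ∃ b : Module.End F W, (∀ v, P (b v) = P v) ∧ b ^ r = 1 ∧ b.charpoly = f := by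
  classical
  obtain ⟨f₀, he, hm₀, hdual₀, hfac₀, hn₀, hdeg⟩ := split_one hf hdual hfac
  obtain ⟨w, hw⟩ := (even_of_regular hr2 hm₀ hdual₀ hfac₀ hn₀).2
  obtain ⟨d, hmw⟩ : ∃ d, m = w + d := ⟨m - w, by omega⟩
  have hmult : f.rootMultiplicity 1 = 2 * d := by omega
  obtain ⟨Q, a, hQ, ha, har, hfree, hac⟩ := regular hr2 w hm₀ (by omega) hdual₀ hfac₀ hn₀
  obtain ⟨D₀⟩ := exists_decomp Q _ ⊤ rfl (nd_top Q hQ)
  have hd₀ : Module.finrank F (Fin w ⊕ Fin w → F) = 2 * w := by simp [two_mul]
  have hs₀ := OrthCount.free_sign hQ D₀ hd₀ hq a ha har hfree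
  have hne : (-1 : ZMod r) ≠ 1 := fun h => by
    have h2 : ((2 : ℕ) : ZMod r) = 0 := by push_cast; linear_combination -h
    rw [ZMod.natCast_eq_zero_iff] at h2
    exact hr2 ((Nat.prime_dvd_prime_iff_eq Fact.out Nat.prime_two).1 h2)
  have hK : ∀ {U : Type v} [AddCommGroup U] [Module F U] [FiniteDimensional F U] {R : QuadraticForm F U}
      (E : Decomp R (⊤ : Submodule F U)), (∃ k, Module.finrank F U = 2 * k) →
      Module.finrank F E.K = 0 ∨ Module.finrank F E.K = 2 := fun E ⟨k, hk⟩ => by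
    have h1 := E.dim
    have h2 := E.small
    rw [finrank_top, hk] at h1
    omega
  have hKW := hK D ⟨m, hW⟩
  have hKQ : Module.finrank F D₀.K = 0 ∨ Module.finrank F D₀.K = 2 := by
    have h1 := D₀.dim
    have h2 := D₀.small
    rw [finrank_top, hd₀] at h1
    omega
  -- the finishing step
  have fin : ∀ {U : Type u} [AddCommGroup U] [Module F U] [FiniteDimensional F U] (R : QuadraticForm F U)
      (E : Decomp (Q.prod R) (⊤ : Submodule F ((Fin w ⊕ Fin w → F) × U))), Module.finrank F U = 2 * d →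
      Module.finrank F E.K = Module.finrank F D.K →
      ∃ b : Module.End F W, (∀ v, P (b v) = P v) ∧ b ^ r = 1 ∧ b.charpoly = f := by
    intro U _ _ _ R E hU hEK
    have h1 := E.dim
    have h2 := D.dim
    rw [finrank_top] at h1 h2
    rw [Module.finrank_prod, hd₀, hU] at h1
    obtain ⟨g, hg⟩ := equiv_of_index E D (by omega) (by rw [Module.finrank_prod, hd₀, hU, hW]; omega)
      (by rw [Module.finrank_prod, hd₀, hU]; exact ⟨w + d, by ring⟩)
    obtain ⟨b, hb1, hb2, hb3⟩ := transfer Q R P a ha har g one_ne_zero fun x => by rw [one_mul, hg]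
    exact ⟨b, hb1, hb2, by rw [hb3, hac, hU, he, hmult, mul_comm]⟩
  by_cases hsame : Module.finrank F D₀.K = Module.finrank F D.K
  · obtain ⟨DU, hDUm, hDUK, hRnd⟩ := OrthGlue.exists_plus_space F d
    obtain ⟨E, -, hEK⟩ := OrthGlue.exists_union D₀ DU (Or.inr hDUK)
    exact fin _ E (by simp [two_mul]) (by rw [hEK, hDUK, add_zero, hsame])
  · have hd1 : 1 ≤ d := by
      by_contra hd0
      have hd0 : d = 0 := by omega
      refine hsame ?_
      have hnr : ¬ f.IsRoot 1 := fun h => by
        have := (rootMultiplicity_pos hf.ne_zero).2 h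
        omega
      have h := hcond.resolve_left hnr
      rw [hmw, hd0, add_zero, hs₀] at h
      rcases hKW with e | e <;> rcases hKQ with e' | e' <;> rw [e, e'] at h ⊢ <;> simp at h
      · exact absurd h hne
      · exact absurd h.symm hne
    have hplane : ∃ ζ : F, ∀ t : F, t ^ 2 + t + ζ ≠ 0 := by
      rcases hKW with e | e
      · obtain ⟨ζ, hζ, -⟩ := exists_plane Q D₀.ndK D₀.aniso (hKQ.resolve_left fun e' => hsame (e'.trans e.symm))
        exact ⟨ζ, hζ⟩
      · obtain ⟨ζ, hζ, -⟩ := exists_plane P D.ndK D.aniso e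
        exact ⟨ζ, hζ⟩
    obtain ⟨ζ, hζ⟩ := hplane
    have hab := OrthCount.aniso_of_root_free hζ
    have hRnd := Refl.minusForm_nondegenerate' (d - 1) hab
    obtain ⟨DU⟩ := exists_decomp (Refl.minusForm (d - 1) F 1 ζ) _ ⊤ rfl (nd_top _ hRnd)
    have hDUm : DU.m = d - 1 := MinusExtend.minus_index _ hab DU
    have hUd : Module.finrank F ((Fin (d - 1) ⊕ Fin (d - 1)) ⊕ Fin 2 → F) = 2 * d := by
      simp; omega
    have hDUK : Module.finrank F DU.K = 2 := by
      have h1 := DU.dim
      rw [finrank_top, hUd] at h1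
      omega
    rcases hKQ with e | e
    · obtain ⟨E, -, hEK⟩ := OrthGlue.exists_union D₀ DU (Or.inl e)
      exact fin _ E hUd (by rw [hEK, e, hDUK, zero_add]; exact (hKW.resolve_left fun e' => hsame (e.trans e'.symm)).symm)
    · obtain ⟨E⟩ := exists_decomp (Q.prod (Refl.minusForm (d - 1) F 1 ζ)) _ ⊤ rfl
        (nd_top _ (OrthGlue.prod_nondegenerate hQ hRnd))
      exact fin _ E hUd (by
        rw [OrthGlue.plus_of_two_planes D₀ DU hQ hRnd e hDUK E]
        exact (hKW.resolve_right fun e' => hsame (e.trans e'.symm)).symm)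

/-- Odd dimension. -/
theorem model_odd (hr2 : r ≠ 2) (h2 : (2 : F) ≠ 0) (m : ℕ) {f : F[X]} (hf : f.Monic) (hd : f.natDegree = 2 * m + 1)
    (hdual : dual (RingHom.id F) f = f) (hfac : ∀ g, g.Monic → Irreducible g → g ∣ f → g ∣ X ^ r - 1) :
    ∃ b : Module.End F (Unit ⊕ (Fin m ⊕ Fin m) → F), (∀ v, Refl.oddForm m F (b v) = Refl.oddForm m F v) ∧
      b ^ r = 1 ∧ b.charpoly = f := by
  classical
  obtain ⟨f₀, he, hm₀, hdual₀, hfac₀, hn₀, hdeg⟩ := split_one hf hdual hfac
  obtain ⟨w, hw⟩ := (even_of_regular hr2 hm₀ hdual₀ hfac₀ hn₀).2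
  obtain ⟨d, hmw⟩ : ∃ d, m = w + d := ⟨m - w, by omega⟩
  have hmult : f.rootMultiplicity 1 = 2 * d + 1 := by omega
  obtain ⟨Q, a, hQ, ha, har, hfree, hac⟩ := regular hr2 w hm₀ (by omega) hdual₀ hfac₀ hn₀
  have hRnd := Refl.oddForm_nondegenerate (F := F) h2 d
  obtain ⟨g, c, hc, hg⟩ := OrthGlue.odd_equiv (m := m) (Q := Q.prod (Refl.oddForm d F))
    (by rw [Module.finrank_prod]; simp; omega) (OrthGlue.prod_nondegenerate hQ hRnd)
  obtain ⟨b, hb1, hb2, hb3⟩ := transfer Q (Refl.oddForm d F) (Refl.oddForm m F) a ha har g.symm hc fun x => by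
    rw [Refl.oddForm_coe, ← hg, g.apply_symm_apply]
  refine ⟨b, hb1, hb2, ?_⟩
  rw [hb3, hac, he, hmult, mul_comm]
  congr 2
  simp; omega

variable {ι : Type} [Fintype ι] [DecidableEq ι] {P : QuadraticForm F (ι → F)}

/-- The element of the isometry group. -/
theorem to_group (b : Module.End F (ι → F)) (hb : ∀ v, P (b v) = P v) (hbr : b ^ r = 1) :
    ∃ g : Cfsg.isometryGroup F (⇑P), g ^ r = 1 ∧
      ((g : Matrix.GeneralLinearGroup ι F) : Matrix ι ι F).charpoly = b.charpoly := by
  classical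
  let M := LinearMap.toMatrix' b
  have hMb : Matrix.toLin' M = b := Matrix.toLin'_toMatrix' b
  have hMr : M ^ r = 1 := Matrix.toLin'.injective (by rw [Matrix.toLin'_pow, hMb, hbr, Matrix.toLin'_one]; rfl)
  refine ⟨⟨Units.ofPowEqOne M r hMr (Fact.out : r.Prime).ne_zero, fun x _ => ?_⟩, Subtype.ext (Units.ext ?_), ?_⟩
  · show P (M.mulVec x) = P x
    rw [← Matrix.toLin'_apply, hMb]
    exact hb x
  · exact hMr
  · show M.charpoly = _
    rw [← Matrix.charpoly_toLin' M, hMb]

/-- Isometries have self-dual characteristic polynomial. -/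
theorem dual_charpoly (hP : (QuadraticMap.polarBilin P).Nondegenerate) (g : Cfsg.isometryGroup F (⇑P)) :
    dual (RingHom.id F) ((g : Matrix.GeneralLinearGroup ι F) : Matrix ι ι F).charpoly =
      ((g : Matrix.GeneralLinearGroup ι F) : Matrix ι ι F).charpoly := by
  classical
  set M := ((g : Matrix.GeneralLinearGroup ι F) : Matrix ι ι F)
  have hM : IsUnit M := Units.isUnit _
  let B : LinearMap.BilinForm F (ι → F) := QuadraticMap.polarBilin P
  set G := LinearMap.BilinForm.toMatrix' B with hG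
  have hGd : IsUnit G.det := isUnit_iff_ne_zero.2 (Matrix.nondegenerate_iff_det_ne_zero.1
    (LinearMap.BilinForm.nondegenerate_toMatrix'_iff.2 hP))
  have hMG : Matrix.transpose M * G * M = G := by
    have h : B.comp (Matrix.toLin' M) (Matrix.toLin' M) = B := by
      refine LinearMap.ext fun x => LinearMap.ext fun y => ?_
      have hg : ∀ v, P (M.mulVec v) = P v := (Refl.mem_iff _).1 g.2
      simp only [LinearMap.BilinForm.comp_apply, Matrix.toLin'_apply]
      simp only [B, QuadraticMap.polarBilin_apply_apply, QuadraticMap.polar, ← Matrix.mulVec_add, hg]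
    conv_rhs => rw [hG, ← h, LinearMap.BilinForm.toMatrix'_comp, LinearMap.toMatrix'_toLin', ← hG]
  have hinv : M⁻¹ = G⁻¹ * Matrix.transpose M * G := Matrix.inv_eq_left_inv (by
    rw [Matrix.mul_assoc, Matrix.mul_assoc, ← Matrix.mul_assoc _ G, hMG, Matrix.nonsing_inv_mul _ hGd])
  rw [DualCount.dual_charpoly _ M hM, RingHom.coe_id, Matrix.map_id, hinv, Matrix.charpoly_mul_comm, ← Matrix.mul_assoc,
    Matrix.mul_nonsing_inv _ hGd, Matrix.one_mul, Matrix.charpoly_transpose]

/-- Semisimple isometries of odd order with one characteristic polynomial are conjugate. -/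
theorem isConj_of_charpoly (hP : (QuadraticMap.polarBilin P).Nondegenerate) (hr2 : r ≠ 2) (hrp : r ≠ p)
    (g h : Cfsg.isometryGroup F (⇑P)) (hg : g ^ r = 1) (hh : h ^ r = 1)
    (hc : ((g : Matrix.GeneralLinearGroup ι F) : Matrix ι ι F).charpoly =
      ((h : Matrix.GeneralLinearGroup ι F) : Matrix ι ι F).charpoly) : IsConj g h := by
  classical
  have hr : r.Prime := Fact.out
  have hN : (r : F) ≠ 0 := PrimeOrderPoly.cast_prime_ne_zero hr hrp
  let A : Cfsg.isometryGroup F (⇑P) → Module.End F (ι → F) := fun x =>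
    Matrix.toLin' ((x : Matrix.GeneralLinearGroup ι F) : Matrix ι ι F)
  have hpow : ∀ x : Cfsg.isometryGroup F (⇑P), x ^ r = 1 → A x ^ r = 1 := fun x hx => by
    show Matrix.toLin' _ ^ r = 1
    rw [← Matrix.toLin'_pow, ← Units.val_pow_eq_pow_val, ← Subgroup.coe_pow, hx, Subgroup.coe_one, Units.val_one,
      Matrix.toLin'_one]
    rfl
  have hiso : ∀ (x : Cfsg.isometryGroup F (⇑P)) v, P (A x v) = P v := fun x v => (Refl.mem_iff _).1 x.2 v
  have hss : ∀ x : Cfsg.isometryGroup F (⇑P), x ^ r = 1 → (A x).IsSemisimple := fun x hx =>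
    PrimeOrd.semisimple (r := r) hN one_ne_zero (by rw [hpow x hx, one_smul])
  obtain ⟨T, hT⟩ := SemisimpleSimilar.similar (F := F) _ (ι → F) (ι → F) (A g) (A h) (hss g hg) (hss h hh)
    (by rw [Matrix.charpoly_toLin', Matrix.charpoly_toLin']; exact hc) rfl
  obtain ⟨e, he, heg⟩ := QuadSemisimple.exists_conj P hP (A g) (A h) (hiso g) (hiso h) hN
    (hr.odd_of_ne_two hr2) (hpow g hg) T hT
  let u : Matrix.GeneralLinearGroup ι F := Matrix.GeneralLinearGroup.mkOfDetNeZero
    (LinearMap.toMatrix' (e : (ι → F) →ₗ[F] (ι → F))) (by rw [LinearMap.det_toMatrix']; exact (LinearEquiv.isUnit_det' e).ne_zero)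
  have hu : ∀ v, (u : Matrix ι ι F).mulVec v = e v := fun v => by
    show (LinearMap.toMatrix' (e : (ι → F) →ₗ[F] (ι → F))).mulVec v = e v
    rw [LinearMap.toMatrix'_mulVec]; rfl
  refine isConj_iff.2 ⟨⟨u, (Refl.mem_iff _).2 fun v => by rw [hu]; exact he v⟩, mul_inv_eq_iff_eq_mul.2 (Subtype.ext (Units.ext ?_))⟩
  refine Matrix.toLin'.injective (LinearMap.ext fun v => ?_)
  simp only [Subgroup.coe_mul, Units.val_mul, Matrix.toLin'_mul, LinearMap.comp_apply, Matrix.toLin'_apply, hu]
  exact heg v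

end Cfsg.Lib.OrthModel
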