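import Cfsg.Agent.Known.SLTwo.Cases
import Cfsg.Agent.Classical.SL

/-! Sylow 2-subgroups of PGL(2,q), q a Mersenne prime, meet pairwise. -/

set_option autoImplicit false

open Matrix
open scoped Pointwise

namespace Cfsg.Lib.PGLTwoMersenne

variable {F : Type*} [Field F]

/-- Elements commuting or anticommuting with `J`. -/
def M (J : GL (Fin 2) F) : Subgroup (GL (Fin 2) F) where
  carrier := {g | g * J * g⁻¹ = J ∨ g * J * g⁻¹ = -J}
  mul_mem' := by
    intro a b ha hb
    have e : a * b * J * (a * b)⁻¹ = a * (b * J * b⁻¹) * a⁻¹ := by group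
    show a * b * J * (a * b)⁻¹ = J ∨ _
    rw [e]
    rcases hb with hb | hb <;> rw [hb]
    · exact ha
    · rw [mul_neg, neg_mul]
      rcases ha with ha | ha <;> rw [ha] <;> simp
  one_mem' := by simp
  inv_mem' := by
    intro a ha
    show a⁻¹ * J * a⁻¹⁻¹ = J ∨ a⁻¹ * J * a⁻¹⁻¹ = -J
    rcases ha with ha | ha
    · left
      nth_rw 1 [← ha]
      group
    · right
      have : J = -(a * J * a⁻¹) := by rw [ha, neg_neg]
      nth_rw 1 [this]
      rw [mul_neg, neg_mul]
      group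

theorem center_le_M (J : GL (Fin 2) F) : Subgroup.center (GL (Fin 2) F) ≤ M J := fun z hz =>
  Or.inl (by rw [← Subgroup.mem_center_iff.1 hz J, mul_inv_cancel_right])

open Cfsg.Lib.GLTwo in
theorem card_M [Fintype F] (h2 : (2 : F) ≠ 0) (hns : ¬ IsSquare (-1 : F)) (J : GL (Fin 2) F)
    (hJ : (J : Matrix (Fin 2) (Fin 2) F) = !![0, -1; 1, 0]) :
    Nat.card ↥(M J) = 2 * (Fintype.card F ^ 2 - 1) := by
  classical
  have hn : NonScalar (J : Matrix (Fin 2) (Fin 2) F) := fun h => by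
    rw [hJ] at h; simpa using h.2.1
  have hC : Nat.card ↥(Subgroup.centralizer ({J} : Set (GL (Fin 2) F))) = Fintype.card F ^ 2 - 1 := by
    rw [card_cent hn]
    refine card_good_irred fun x hx => hns ⟨x, ?_⟩
    rw [hJ] at hx
    simp [Matrix.trace_fin_two, Matrix.det_fin_two] at hx
    linear_combination -hx
  have hle : Subgroup.centralizer ({J} : Set (GL (Fin 2) F)) ≤ M J := fun g hg =>
    Or.inl (by rw [Subgroup.mem_centralizer_singleton_iff.1 hg, mul_inv_cancel_right])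
  let X : GL (Fin 2) F := Matrix.GeneralLinearGroup.mkOfDetNeZero !![1, 0; 0, -1] (by simp [Matrix.det_fin_two])
  have hX : X * J = -J * X := Units.ext (by
    rw [Units.val_mul, Units.val_mul, Units.val_neg, hJ]
    ext i j; fin_cases i <;> fin_cases j <;> simp [X, Matrix.mul_apply, Fin.sum_univ_two])
  have hXM : X ∈ M J := Or.inr (by rw [hX, mul_inv_cancel_right])
  have hne : -J ≠ J := fun h => by
    have e := congrFun (congrFun (congrArg (fun z : GL (Fin 2) F => (z : Matrix (Fin 2) (Fin 2) F)) h) 1) 0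
    simp [hJ] at e
    exact h2 (by linear_combination -e)
  have hidx : ((Subgroup.centralizer ({J} : Set (GL (Fin 2) F))).subgroupOf (M J)).index = 2 := by
    refine Subgroup.index_eq_two_iff'.2 ⟨⟨X, hXM⟩, fun ⟨b, hb⟩ => ?_⟩
    simp only [Subgroup.mem_subgroupOf, Subgroup.coe_mul, Subgroup.mem_centralizer_singleton_iff]
    rw [← mul_inv_eq_iff_eq_mul, ← mul_inv_eq_iff_eq_mul]
    have e : X * b * J * (X * b)⁻¹ = X * (b * J * b⁻¹) * X⁻¹ := by group
    rw [e]
    rcases hb with hb | hb <;> rw [hb]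
    · exact Or.inr ⟨rfl, by rw [hX, mul_inv_cancel_right]; exact hne⟩
    · refine Or.inl ⟨?_, hne⟩
      rw [mul_neg, neg_mul, hX, mul_inv_cancel_right, neg_neg]
  rw [← Subgroup.card_mul_index ((Subgroup.centralizer ({J} : Set (GL (Fin 2) F))).subgroupOf (M J)), hidx,
    Nat.card_congr (Subgroup.subgroupOfEquivOfLe hle).toEquiv, hC, mul_comm]

theorem exists_common (hns : ¬ IsSquare (-1 : F)) (J : GL (Fin 2) F)
    (hJ : (J : Matrix (Fin 2) (Fin 2) F) = !![0, -1; 1, 0]) (y : GL (Fin 2) F) :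
    ∃ X : GL (Fin 2) F, X ∈ M J ∧ y⁻¹ * X * y ∈ M J ∧ X ∉ Subgroup.center (GL (Fin 2) F) := by
  obtain ⟨B, hB⟩ : ∃ B : GL (Fin 2) F, B = y * J * y⁻¹ := ⟨_, rfl⟩
  set b := (B : Matrix (Fin 2) (Fin 2) F) with hb
  have htr : b 0 0 + b 1 1 = 0 := by
    rw [← Matrix.trace_fin_two, hb, hB, Units.val_mul, Matrix.trace_mul_comm, ← Units.val_mul, ← mul_assoc,
      inv_mul_cancel, one_mul, hJ, Matrix.trace_fin_two]
    simp
  obtain ⟨x, z, hne, hxz⟩ : ∃ x z : F, ¬ (x = 0 ∧ z = 0) ∧ 2 * x * b 0 0 + z * (b 0 1 + b 1 0) = 0 := by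
    by_cases h : b 0 1 + b 1 0 = 0
    · exact ⟨0, 1, by simp, by simp [h]⟩
    · exact ⟨b 0 1 + b 1 0, -(2 * b 0 0), fun e => h e.1, by ring⟩
  have hdet : (!![x, z; z, -x] : Matrix (Fin 2) (Fin 2) F).det ≠ 0 := by
    rw [Matrix.det_fin_two]
    simp
    intro h
    by_cases hz : z = 0
    · subst hz
      exact hne ⟨mul_self_eq_zero.1 (by linear_combination -h), rfl⟩
    · exact hns ⟨x / z, by field_simp; linear_combination h⟩
  let X : GL (Fin 2) F := Matrix.GeneralLinearGroup.mkOfDetNeZero _ hdet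
  have hXc : (X : Matrix (Fin 2) (Fin 2) F) = !![x, z; z, -x] := rfl
  have hXJ : X * J = -J * X := Units.ext (by
    rw [Units.val_mul, Units.val_mul, Units.val_neg, hXc, hJ]
    ext i j; fin_cases i <;> fin_cases j <;> simp [Matrix.mul_apply, Fin.sum_univ_two])
  have hXB : X * B = -B * X := Units.ext (by
    rw [Units.val_mul, Units.val_mul, Units.val_neg, hXc, ← hb]
    ext i j; fin_cases i <;> fin_cases j <;> simp [Matrix.mul_apply, Fin.sum_univ_two]
    · linear_combination hxz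
    · linear_combination z * htr
    · linear_combination z * htr
    · linear_combination hxz + (-2 * x) * htr)
  have h20 : (2 : F) ≠ 0 := fun h => hns ⟨1, by linear_combination -h⟩
  refine ⟨X, Or.inr (by rw [hXJ, mul_inv_cancel_right]), Or.inr ?_, fun hc => ?_⟩
  · calc y⁻¹ * X * y * J * (y⁻¹ * X * y)⁻¹ = y⁻¹ * (X * B * X⁻¹) * y := by rw [hB]; group
      _ = y⁻¹ * (-B) * y := by rw [hXB, mul_inv_cancel_right]
      _ = -J := by rw [mul_neg, neg_mul, hB]; group
  · have e := congrArg (fun g : GL (Fin 2) F => (g : Matrix (Fin 2) (Fin 2) F)) (Subgroup.mem_center_iff.1 hc J)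
    simp only [Units.val_mul, hXc, hJ] at e
    have e00 := congrFun (congrFun e 0) 0
    have e01 := congrFun (congrFun e 0) 1
    simp [Matrix.mul_apply, Fin.sum_univ_two] at e00 e01
    exact hne ⟨(mul_eq_zero.1 (show (2 : F) * x = 0 by linear_combination e01)).resolve_left h20,
      (mul_eq_zero.1 (show (2 : F) * z = 0 by linear_combination -e00)).resolve_left h20⟩

theorem meet [Fintype F] {k : ℕ} (hk : Fintype.card F + 1 = 2 ^ k) (hq : 7 ≤ Fintype.card F)
    (H : Sylow 2 (GL (Fin 2) F ⧸ Subgroup.center (GL (Fin 2) F)))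
    (x : GL (Fin 2) F ⧸ Subgroup.center (GL (Fin 2) F)) :
    (H : Subgroup (GL (Fin 2) F ⧸ Subgroup.center (GL (Fin 2) F))) ⊓
      MulAut.conj x • (H : Subgroup (GL (Fin 2) F ⧸ Subgroup.center (GL (Fin 2) F))) ≠ ⊥ := by
  classical
  haveI := Fact.mk Nat.prime_two
  obtain ⟨j, rfl⟩ : ∃ j, k = j + 2 := ⟨k - 2, by
    rcases k with - | - | k <;> simp at hk ⊢ <;> omega⟩
  have hj1 : 1 ≤ j := by
    rcases j with - | j
    · simp at hk; omega
    · omega
  set q := Fintype.card F with hqdef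
  have hp4 : 2 ^ (j + 2) = 4 * 2 ^ j := by rw [pow_add]; ring
  rw [hp4] at hk
  have hns : ¬ IsSquare (-1 : F) := by
    rw [FiniteField.isSquare_neg_one_iff, not_not]; omega
  have h2 : (2 : F) ≠ 0 := fun h => hns ⟨1, by linear_combination -h⟩
  obtain ⟨J, hJ⟩ : ∃ J : GL (Fin 2) F, (J : Matrix (Fin 2) (Fin 2) F) = !![0, -1; 1, 0] :=
    ⟨Matrix.GeneralLinearGroup.mkOfDetNeZero !![0, -1; 1, 0] (by simp [Matrix.det_fin_two]), rfl⟩
  set π := QuotientGroup.mk' (Subgroup.center (GL (Fin 2) F))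
  have hZ : Nat.card ↥(Subgroup.center (GL (Fin 2) F)) = q - 1 := by
    rw [Cfsg.Lib.Classical.card_center_GL, Nat.card_eq_fintype_card]
  have hker : π.ker ≤ M J := by rw [QuotientGroup.ker_mk']; exact center_le_M J
  have hM := card_M h2 hns J hJ
  have hH0 : Nat.card ↥((M J).map π) = 2 * (4 * 2 ^ j) := by
    have h := Subgroup.card_mul_index ((π.comp (M J).subtype).ker)
    rw [Subgroup.index_ker, MonoidHom.range_comp, Subgroup.range_subtype, hM] at h
    have hk' : Nat.card ↥((π.comp (M J).subtype).ker) = q - 1 := by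
      rw [← hZ]
      refine Nat.card_congr ((Equiv.subtypeSubtypeEquivSubtype (p := fun g => g ∈ M J) (q := fun g => g ∈ (Subgroup.center (GL (Fin 2) F)))
        (fun {g} hg => center_le_M J hg)) |>.symm.trans (Equiv.subtypeEquivRight fun g => ?_)).symm
      simp [π, MonoidHom.mem_ker, QuotientGroup.eq_one_iff]
    rw [hk', show q ^ 2 - 1 = (q + 1) * (q - 1) by rw [← Nat.sq_sub_sq], hk] at h
    refine Nat.eq_of_mul_eq_mul_left (show 0 < q - 1 by omega) ?_
    rw [h]; ring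
  have hG : Nat.card (GL (Fin 2) F ⧸ (Subgroup.center (GL (Fin 2) F))) = (4 * 2 ^ j * 2) * (q * (2 * 2 ^ j - 1)) := by
    have h := Subgroup.card_eq_card_quotient_mul_card_subgroup (Subgroup.center (GL (Fin 2) F))
    rw [hZ, Matrix.card_GL_field, Fin.prod_univ_two, ← hqdef] at h
    simp only [Fin.val_zero, Fin.val_one, pow_zero, pow_one] at h
    refine Nat.eq_of_mul_eq_mul_right (show 0 < q - 1 by omega) ?_
    rw [← h, show q ^ 2 - q = q * (q - 1) by rw [Nat.mul_sub_one, sq], show q ^ 2 - 1 = (q + 1) * (q - 1) by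
      rw [← Nat.sq_sub_sq], hk, show q - 1 = 2 * (2 * 2 ^ j - 1) by omega]
    ring
  have hfac : (Nat.card (GL (Fin 2) F ⧸ (Subgroup.center (GL (Fin 2) F)))).factorization 2 = j + 3 := by
    have hodd : ¬ 2 ∣ q * (2 * 2 ^ j - 1) := by
      rw [Nat.prime_two.dvd_mul]; omega
    rw [hG, show 4 * 2 ^ j * 2 = 2 ^ (j + 3) by rw [pow_add]; ring,
      Nat.factorization_mul (by positivity) (fun h0 => hodd (by rw [h0]; exact dvd_zero 2)),
      Nat.Prime.factorization_pow Nat.prime_two]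
    simp [Nat.factorization_eq_zero_of_not_dvd hodd]
  let S0 : Sylow 2 (GL (Fin 2) F ⧸ (Subgroup.center (GL (Fin 2) F))) := Sylow.ofCard ((M J).map π) (by
    rw [hH0, hfac, pow_add]; ring)
  obtain ⟨g, hg⟩ := MulAction.exists_smul_eq (GL (Fin 2) F ⧸ (Subgroup.center (GL (Fin 2) F))) S0 H
  have hcoe : ∀ z, z ∈ (H : Subgroup (GL (Fin 2) F ⧸ (Subgroup.center (GL (Fin 2) F)))) ↔ g⁻¹ * z * g ∈ (M J).map π := by
    intro z
    rw [← hg, Sylow.coe_subgroup_smul, Subgroup.mem_pointwise_smul_iff_inv_smul_mem]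
    simp [S0]
  obtain ⟨gl, rfl⟩ := QuotientGroup.mk'_surjective (Subgroup.center (GL (Fin 2) F)) g
  obtain ⟨xl, rfl⟩ := QuotientGroup.mk'_surjective (Subgroup.center (GL (Fin 2) F)) x
  obtain ⟨X, hX1, hX2, hX3⟩ := exists_common hns J hJ (gl⁻¹ * xl * gl)
  rw [Ne, Subgroup.eq_bot_iff_forall]
  intro hall
  have hmem : π (gl * X * gl⁻¹) ∈ (H : Subgroup (GL (Fin 2) F ⧸ (Subgroup.center (GL (Fin 2) F)))) ⊓
      MulAut.conj (π xl) • (H : Subgroup (GL (Fin 2) F ⧸ (Subgroup.center (GL (Fin 2) F)))) := by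
    refine Subgroup.mem_inf.2 ⟨(hcoe _).2 ⟨X, hX1, ?_⟩, ?_⟩
    · simp only [map_mul, map_inv, π]; group
    · rw [Subgroup.mem_pointwise_smul_iff_inv_smul_mem]
      refine (hcoe _).2 ⟨_, hX2, ?_⟩
      simp only [MulAut.smul_def, MulAut.conj_inv_apply, map_mul, map_inv, π]
      group
  have h1 := hall _ hmem
  rw [map_mul, map_mul, map_inv, conj_eq_one_iff, QuotientGroup.mk'_apply, QuotientGroup.eq_one_iff] at h1
  exact hX3 h1

end Cfsg.Lib.PGLTwoMersenne
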