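import Mathlib
import Cfsg.Prelude.Def_OddOrderLocal
import Cfsg.Agent.Classical.Misc.PSLTori
import Cfsg.Agent.Classical.Misc.PSLSolvableSubgroups
import Cfsg.Agent.Classical.Misc.SmallPSL

/-! Hall `{2,3}`-subgroups of `PSL₂(q)`. -/

set_option autoImplicit false

namespace Cfsg.Lib.Known.PSLHallTT

open Cfsg.Lib.Classical

universe u

/-- The `{2,3}`-part. -/
def part (m : ℕ) : ℕ := 2 ^ m.factorization 2 * 3 ^ m.factorization 3

theorem part_mul {a b : ℕ} (ha : a ≠ 0) (hb : b ≠ 0) : part (a * b) = part a * part b := by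
  unfold part
  rw [Nat.factorization_mul ha hb]
  simp only [Finsupp.add_apply, pow_add]
  ring

theorem part_pos (m : ℕ) : 0 < part m := by unfold part; positivity

theorem part_dvd (m : ℕ) : part m ∣ m :=
  Nat.Coprime.mul_dvd_of_dvd_of_dvd (Nat.Coprime.pow _ _ (by norm_num)) (Nat.ordProj_dvd m 2) (Nat.ordProj_dvd m 3)

theorem part_eq_one {m : ℕ} (h2 : ¬ 2 ∣ m) (h3 : ¬ 3 ∣ m) : part m = 1 := by
  simp [part, Nat.factorization_eq_zero_of_not_dvd h2, Nat.factorization_eq_zero_of_not_dvd h3]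

theorem part_eq_self {m : ℕ} (hm : m ≠ 0) (h : ∀ r : ℕ, r.Prime → r ∣ m → r = 2 ∨ r = 3) : part m = m := by
  refine Nat.eq_of_factorization_eq (part_pos m).ne' hm fun r => ?_
  unfold part
  rw [Nat.factorization_mul (by positivity) (by positivity), Finsupp.add_apply,
    Nat.Prime.factorization_pow Nat.prime_two, Nat.Prime.factorization_pow Nat.prime_three]
  by_cases hr : r.Prime ∧ r ∣ m
  · rcases h r hr.1 hr.2 with rfl | rfl <;> simp
  · have h0 : m.factorization r = 0 := by
      rw [Nat.factorization_eq_zero_iff]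
      by_cases h1 : r.Prime
      · exact Or.inr (Or.inl fun e => hr ⟨h1, e⟩)
      · exact Or.inl h1
    rw [h0]
    rcases eq_or_ne r 2 with rfl | e2
    · simp [h0]
    rcases eq_or_ne r 3 with rfl | e3
    · simp [h0]
    simp [e2.symm, e3.symm]

theorem prime_of_dvd_part {r m : ℕ} (hr : r.Prime) (h : r ∣ part m) : r = 2 ∨ r = 3 := by
  rcases (Nat.Prime.dvd_mul hr).mp h with h | h
  · exact Or.inl ((Nat.prime_dvd_prime_iff_eq hr Nat.prime_two).mp (hr.dvd_of_dvd_pow h))
  · exact Or.inr ((Nat.prime_dvd_prime_iff_eq hr Nat.prime_three).mp (hr.dvd_of_dvd_pow h))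

theorem hall_iff {G : Type*} [Group G] [Finite G] (H : Subgroup G) :
    Cfsg.IsPiHall ({2, 3} : Set ℕ) H ↔ Nat.card H = part (Nat.card G) := by
  have hH : Nat.card H ≠ 0 := Nat.card_pos.ne'
  have hi : H.index ≠ 0 := Subgroup.index_ne_zero_of_finite
  have e : part (Nat.card G) = part (Nat.card H) * part H.index := by
    rw [← part_mul hH hi, H.card_mul_index]
  constructor
  · rintro ⟨h1, h2⟩
    rw [e, part_eq_one (h2 2 Nat.prime_two (by simp)) (h2 3 Nat.prime_three (by simp)), mul_one,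
      part_eq_self hH fun r hr hd => by simpa using h1 r hr hd]
  · intro h
    have hp : part (Nat.card H) = Nat.card H :=
      part_eq_self hH fun r hr hd => prime_of_dvd_part (m := Nat.card G) hr (h ▸ hd)
    have h1 : part H.index = 1 := by
      refine Nat.eq_of_mul_eq_mul_left (Nat.pos_of_ne_zero hH) ?_
      rw [mul_one]
      calc Nat.card H * part H.index = part (Nat.card H) * part H.index := by rw [hp]
        _ = Nat.card H := by rw [← e, h]
    refine ⟨fun r hr hd => by simpa using prime_of_dvd_part (m := Nat.card G) hr (h ▸ hd), fun r hr hr' hd => ?_⟩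
    have hmul := mul_eq_one.mp h1
    rcases (by simpa using hr' : r = 2 ∨ r = 3) with rfl | rfl
    · have := hr.factorization_pos_of_dvd hi hd
      simp only [Nat.pow_eq_one] at hmul
      omega
    · have := hr.factorization_pos_of_dvd hi hd
      simp only [Nat.pow_eq_one] at hmul
      omega

/-- The dihedral group of order `2 * d` inside the one of order `2 * (d * k)`. -/
theorem exists_dihedral_sub {G : Type*} [Group G] (H : Subgroup G) {n d : ℕ} (e : H ≃* DihedralGroup n) (hd : d ∣ n)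
    (hn : n ≠ 0) : ∃ K : Subgroup G, Nat.card K = 2 * d := by
  obtain ⟨k, rfl⟩ := hd
  obtain ⟨hd0, hk0⟩ : d ≠ 0 ∧ k ≠ 0 := by simpa [not_or] using hn
  haveI : NeZero d := ⟨hd0⟩
  haveI : NeZero (d * k) := ⟨hn⟩
  have hker : zmultiplesHom (ZMod (d * k)) (k : ZMod (d * k)) (d : ℤ) = 0 := by
    rw [zmultiplesHom_apply, natCast_zsmul, nsmul_eq_mul, ← Nat.cast_mul, ZMod.natCast_self]
  let φ : ZMod d →+ ZMod (d * k) := ZMod.lift d ⟨zmultiplesHom (ZMod (d * k)) (k : ZMod (d * k)), hker⟩
  have hφ : Function.Injective φ := by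
    rw [injective_iff_map_eq_zero]
    intro x hx
    obtain ⟨m, rfl⟩ := ZMod.natCast_zmod_surjective x
    have hx' : φ ((m : ℤ) : ZMod d) = 0 := by simpa using hx
    simp only [φ, ZMod.lift_coe, zmultiplesHom_apply, natCast_zsmul, nsmul_eq_mul] at hx'
    rw [← Nat.cast_mul, ZMod.natCast_eq_zero_iff] at hx'
    rw [ZMod.natCast_eq_zero_iff]
    exact Nat.dvd_of_mul_dvd_mul_right (Nat.pos_of_ne_zero hk0) hx'
  let f : DihedralGroup d → DihedralGroup (d * k)
    | .r i => .r (φ i)
    | .sr i => .sr (φ i)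
  have hmul : ∀ a b, f (a * b) = f a * f b := by
    rintro (i | i) (j | j) <;> simp [f]
  let F : DihedralGroup d →* DihedralGroup (d * k) := MonoidHom.mk' f hmul
  have hF : Function.Injective F := by
    rintro (i | i) (j | j) h <;> simp [F, f] at h
    · rw [hφ h]
    · rw [hφ h]
  let ψ : DihedralGroup d →* G := H.subtype.comp (e.symm.toMonoidHom.comp F)
  have hψ : Function.Injective ψ := Subtype.val_injective.comp (e.symm.injective.comp hF)
  exact ⟨ψ.range, by rw [Nat.card_congr (MonoidHom.ofInjective hψ).toEquiv.symm, DihedralGroup.nat_card]⟩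

theorem main {F : Type u} [Field F] [Fintype F] (p : ℕ) [Fact p.Prime] [CharP F p] (hp : 5 ≤ p) (q : ℕ)
    (hq : Fintype.card F = q) :
    (∃ H : Subgroup (Matrix.ProjectiveSpecialLinearGroup (Fin 2) F), Cfsg.IsPiHall ({2, 3} : Set ℕ) H) ↔
      (3 ∣ q - 1 ∧ q % 4 = 1) ∨ (3 ∣ q + 1 ∧ q % 4 = 3) ∨ part (q ^ 2 - 1) = 24 ∨ part (q ^ 2 - 1) = 48 := by
  classical
  haveI : Finite (Matrix.ProjectiveSpecialLinearGroup (Fin 2) F) :=
    Finite.of_surjective _ (QuotientGroup.mk'_surjective (Subgroup.center (Matrix.SpecialLinearGroup (Fin 2) F)))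
  obtain ⟨⟨n, hn0⟩, hpp, hn⟩ := FiniteField.card F p
  rw [hq] at hn
  simp only [PNat.mk_coe] at hn
  have h2q : ¬ 2 ∣ q := fun h => by
    rw [hn] at h
    have := (Nat.prime_dvd_prime_iff_eq Nat.prime_two hpp).mp (Nat.prime_two.dvd_of_dvd_pow h)
    omega
  have h3q : ¬ 3 ∣ q := fun h => by
    rw [hn] at h
    have := (Nat.prime_dvd_prime_iff_eq Nat.prime_three hpp).mp (Nat.prime_three.dvd_of_dvd_pow h)
    omega
  have hq5 : 5 ≤ q := hn ▸ hp.trans (Nat.le_self_pow hn0.ne' p)
  have hd : Nat.gcd 2 (q - 1) = 2 := Nat.gcd_eq_left (by omega)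
  obtain ⟨w, hw⟩ : ∃ w, q = 2 * w + 1 := ⟨q / 2, by omega⟩
  have hM : q ^ 2 - 1 = 4 * (w * (w + 1)) := by
    rw [hw]
    have : (2 * w + 1) ^ 2 = 4 * (w * (w + 1)) + 1 := by ring
    omega
  have hw0 : w ≠ 0 := by omega
  have hwv : w * (w + 1) ≠ 0 := Nat.mul_ne_zero hw0 (by omega)
  have p4 : part 4 = 4 := part_eq_self (by norm_num) fun r hr hd => Or.inl
    ((Nat.prime_dvd_prime_iff_eq hr Nat.prime_two).mp (hr.dvd_of_dvd_pow (show r ∣ 2 ^ 2 by simpa using hd)))
  have p2 : part 2 = 2 := part_eq_self (by norm_num) fun r hr hd => Or.inl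
    ((Nat.prime_dvd_prime_iff_eq hr Nat.prime_two).mp hd)
  set N := part (Nat.card (Matrix.ProjectiveSpecialLinearGroup (Fin 2) F)) with hN
  have hcard := SmallPSL.card_psl hq
  rw [hd] at hcard
  have hNN : N = 2 * (part w * part (w + 1)) := by
    have h := congrArg part hcard
    rw [part_mul (by norm_num) Nat.card_pos.ne', part_mul (by omega) (by rw [hM]; omega), p2, part_eq_one h2q h3q,
      one_mul, hM, part_mul (by norm_num) hwv, p4, part_mul hw0 (by omega), ← hN] at h
    omega
  have hPM : part (q ^ 2 - 1) = 2 * N := by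
    rw [hM, part_mul (by norm_num) hwv, p4, part_mul hw0 (by omega), hNN]
    ring
  have hv2 : N.factorization 2 = 1 + (w.factorization 2 + (w + 1).factorization 2) := by
    have a := part_pos w
    have b := part_pos (w + 1)
    rw [hNN, Nat.factorization_mul (by norm_num) (by positivity), Nat.factorization_mul a.ne' b.ne', part, part,
      Nat.factorization_mul (by positivity) (by positivity), Nat.factorization_mul (by positivity) (by positivity)]
    simp [Nat.Prime.factorization_pow Nat.prime_two, Nat.Prime.factorization_pow Nat.prime_three,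
      Nat.prime_two.factorization_self]
  have hnd : ¬ N ∣ w ∧ ¬ N ∣ w + 1 := by
    constructor <;> intro h
    · have : N.factorization 2 ≤ w.factorization 2 := (Nat.factorization_le_iff_dvd (part_pos _).ne' hw0).mpr h 2
      omega
    · have : N.factorization 2 ≤ (w + 1).factorization 2 :=
        (Nat.factorization_le_iff_dvd (part_pos _).ne' (Nat.succ_ne_zero w)).mpr h 2
      omega
  have hA : Nat.gcd 2 (q - 1) = 2 := hd
  have hdu : (q + 1) / Nat.gcd 2 (q - 1) = w + 1 ∧ (q - 1) / Nat.gcd 2 (q - 1) = w := by rw [hA]; omega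
  simp only [hall_iff, ← hN, hPM]
  constructor
  · rintro ⟨H, hH⟩
    rcases PSLDickson.dickson p hq H with ⟨h, hk⟩ | ⟨m, hm, ⟨ψ⟩, hk⟩ | ⟨P, h⟩ | ⟨⟨ψ⟩⟩ | ⟨⟨ψ⟩⟩ | ⟨⟨ψ⟩⟩ |
      ⟨K, m, h3, hodd, hm, ⟨ψ⟩⟩ | ⟨K, m, h3, hm, ⟨ψ⟩⟩
    · rw [hdu.1, hdu.2, hH] at hk
      rcases hk with h | h
      exacts [absurd h hnd.2, absurd h hnd.1]
    · rw [Nat.card_congr ψ.toEquiv, DihedralGroup.nat_card, hNN] at hH
      rw [hdu.1, hdu.2] at hk
      have hm' : m = part w * part (w + 1) := by omega
      have h3m : 3 ∣ m := by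
        rw [hm']
        have hw3 : w % 3 ≠ 1 := fun h1 => h3q ⟨2 * (w / 3) + 1, by omega⟩
        rcases (by omega : 3 ∣ w ∨ 3 ∣ w + 1) with h | h
        · exact ((dvd_pow_self 3 (Nat.prime_three.factorization_pos_of_dvd hw0 h).ne').trans
            (Dvd.intro_left _ rfl : (3 : ℕ) ^ w.factorization 3 ∣ part w)).mul_right _
        · exact ((dvd_pow_self 3 (Nat.prime_three.factorization_pos_of_dvd (Nat.succ_ne_zero w) h).ne').trans
            (Dvd.intro_left _ rfl : (3 : ℕ) ^ (w + 1).factorization 3 ∣ part (w + 1))).mul_left _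
      have h2m : 2 ∣ m := by
        rw [hm']
        rcases (by omega : 2 ∣ w ∨ 2 ∣ w + 1) with h | h
        · exact ((dvd_pow_self 2 (Nat.prime_two.factorization_pos_of_dvd hw0 h).ne').trans
            (Dvd.intro _ rfl : (2 : ℕ) ^ w.factorization 2 ∣ part w)).mul_right _
        · exact ((dvd_pow_self 2 (Nat.prime_two.factorization_pos_of_dvd (Nat.succ_ne_zero w) h).ne').trans
            (Dvd.intro _ rfl : (2 : ℕ) ^ (w + 1).factorization 2 ∣ part (w + 1))).mul_left _
      rcases hk with h | h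
      · have := h3m.trans h
        have := h2m.trans h
        exact Or.inr (Or.inl (by omega))
      · have := h3m.trans h
        have := h2m.trans h
        exact Or.inl (by omega)
    · exfalso
      have hb := PSLFull.borel_card (k := AlgebraicClosure F) (algebraMap F (AlgebraicClosure F)) p hq P H h
      rw [hA, hH] at hb
      have hco : Nat.Coprime (N * 2) q := by
        refine Nat.coprime_of_dvd fun r hr h1 h2 => ?_
        rcases (Nat.Prime.dvd_mul hr).mp h1 with h1 | h1
        · rcases prime_of_dvd_part hr h1 with rfl | rfl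
          exacts [h2q h2, h3q h2]
        · exact h2q ((Nat.prime_dvd_prime_iff_eq hr Nat.prime_two).mp h1 ▸ h2)
      have := hco.dvd_of_dvd_mul_left hb
      rw [show q - 1 = w * 2 by omega] at this
      exact hnd.1 (Nat.dvd_of_mul_dvd_mul_right two_pos this)
    · rw [Nat.card_congr ψ.toEquiv, nat_card_alternatingGroup, Nat.card_fin] at hH
      norm_num [Nat.factorial] at hH
      omega
    · rw [Nat.card_congr ψ.toEquiv, Nat.card_perm, Nat.card_fin] at hH
      norm_num [Nat.factorial] at hH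
      omega
    · exfalso
      rw [Nat.card_congr ψ.toEquiv, nat_card_alternatingGroup, Nat.card_fin] at hH
      norm_num [Nat.factorial] at hH
      have := prime_of_dvd_part (r := 5) (by norm_num) (show 5 ∣ N by omega)
      omega
    · exfalso
      rw [Nat.card_congr ψ.toEquiv] at hH
      have h := SmallPSL.card_psl (F := K) rfl
      rw [hH] at h
      have hm0 : m ≠ 0 := by rintro rfl; rw [pow_zero] at hm; omega
      have hKq : Fintype.card K ∣ q := hm ▸ dvd_pow_self _ hm0
      obtain ⟨r, hr, hrK⟩ := Nat.exists_prime_and_dvd (show Fintype.card K ≠ 1 by omega)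
      have h1 : r ∣ Nat.gcd 2 (Fintype.card K - 1) * N := h ▸ hrK.mul_right _
      have h23 : r = 2 ∨ r = 3 := by
        rcases (Nat.Prime.dvd_mul hr).mp h1 with h1 | h1
        · exact Or.inl ((Nat.prime_dvd_prime_iff_eq hr Nat.prime_two).mp (h1.trans (Nat.gcd_dvd_left _ _)))
        · exact prime_of_dvd_part hr h1
      rcases h23 with rfl | rfl
      exacts [h2q (hrK.trans hKq), h3q (hrK.trans hKq)]
    · exfalso
      rw [Nat.card_congr ψ.toEquiv, PSLBounds.card_pgl_two] at hH
      have hm0 : m ≠ 0 := by rintro rfl; rw [pow_zero] at hm; omega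
      have hKq : Fintype.card K ∣ q := hm ▸ dvd_pow_self _ hm0
      obtain ⟨r, hr, hrK⟩ := Nat.exists_prime_and_dvd (show Fintype.card K ≠ 1 by omega)
      rcases prime_of_dvd_part hr (show r ∣ N from hH ▸ hrK.mul_right _) with rfl | rfl
      exacts [h2q (hrK.trans hKq), h3q (hrK.trans hKq)]
  · rintro (⟨h3, h4⟩ | ⟨h3, h4⟩ | h | h)
    · have hv : part (w + 1) = 1 := part_eq_one (by omega) (by omega)
      obtain ⟨D, -, ⟨ψ⟩⟩ := PSLTori.exists_split hq (by
        simp only [Finset.mem_insert, Finset.mem_singleton]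
        omega)
      obtain ⟨K, hK⟩ := exists_dihedral_sub D ψ (d := part w) (by rw [hdu.2]; exact part_dvd w)
        (by rw [hdu.2]; exact hw0)
      exact ⟨K, by rw [hK, hNN, hv, mul_one]⟩
    · have hv : part w = 1 := part_eq_one (by omega) (by omega)
      obtain ⟨D, -, ⟨ψ⟩⟩ := PSLTori.exists_nonsplit hq (by
        simp only [Finset.mem_insert, Finset.mem_singleton]
        omega)
      obtain ⟨K, hK⟩ := exists_dihedral_sub D ψ (d := part (w + 1)) (by rw [hdu.1]; exact part_dvd _)
        (by rw [hdu.1]; exact Nat.succ_ne_zero w)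
      exact ⟨K, by rw [hK, hNN, hv, one_mul]⟩
    · obtain ⟨H, ⟨e⟩⟩ := (PSLSolvable.iff_A4 (F := F) p n (hq.trans hn)).mpr (by omega)
      refine ⟨H, ?_⟩
      rw [Nat.card_congr e.toEquiv, nat_card_alternatingGroup, Nat.card_fin]
      norm_num [Nat.factorial]
      omega
    · have h16 : 16 ∣ q ^ 2 - 1 := by
        refine Dvd.dvd.trans ?_ (part_dvd _)
        rw [hPM, h]
        norm_num
      obtain ⟨H, ⟨e⟩⟩ := (PSLSolvable.iff_S4 (F := F) hq).mpr (by
        have : 1 ≤ q ^ 2 := Nat.one_le_pow _ _ (by omega)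
        omega)
      refine ⟨H, ?_⟩
      rw [Nat.card_congr e.toEquiv, Nat.card_perm, Nat.card_fin]
      norm_num [Nat.factorial]
      omega

end Cfsg.Lib.Known.PSLHallTT
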