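import Mathlib
import Cfsg.Agent.Known.SLUnit

/-!
Element orders in `PSL n F` relative to a prime `r ∣ q - 1`, `r ∤ n`: an element either commutes with
an element of order `r`, or its order divides `p ^ A` times the order of a fixed Singer element.
-/

namespace Cfsg.Lib.Known

open Polynomial Matrix

variable {F : Type*} [Field F]

theorem psl_mk_eq_one_iff {n : ℕ} (_hn : 0 < n) (g : Matrix.SpecialLinearGroup (Fin n) F) :
    (QuotientGroup.mk g : Matrix.ProjectiveSpecialLinearGroup (Fin n) F) = 1 ↔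
      ∃ c : F, scalar (Fin n) c = (g : Matrix (Fin n) (Fin n) F) := by
  rw [QuotientGroup.eq_one_iff, Matrix.SpecialLinearGroup.mem_center_iff]
  constructor
  · rintro ⟨c, _, h⟩; exact ⟨c, h⟩
  · rintro ⟨c, h⟩
    refine ⟨c, ?_, h⟩
    have := g.2
    rw [← h] at this
    simpa using this

theorem psl_mk_pow_eq_one_iff {n : ℕ} (hn : 0 < n) (g : Matrix.SpecialLinearGroup (Fin n) F) (k : ℕ) :
    (QuotientGroup.mk g : Matrix.ProjectiveSpecialLinearGroup (Fin n) F) ^ k = 1 ↔
      ∃ c : F, scalar (Fin n) c = (g : Matrix (Fin n) (Fin n) F) ^ k := by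
  rw [← QuotientGroup.mk_pow, psl_mk_eq_one_iff hn, Matrix.SpecialLinearGroup.coe_pow]

/-- A `p`-power order element of `GL n` lies in `SL n` and keeps its order in `PSL n`. -/
theorem exists_psl_orderOf_of_ppow (p : ℕ) [Fact p.Prime] [CharP F p] {n k : ℕ} (hn : 0 < n) (g : GL (Fin n) F)
    (hg : orderOf g = p ^ k) : ∃ x : Matrix.SpecialLinearGroup (Fin n) F,
      (x : Matrix (Fin n) (Fin n) F) = g ∧
      orderOf (QuotientGroup.mk x : Matrix.ProjectiveSpecialLinearGroup (Fin n) F) = p ^ k := by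
  have hroot : ∀ c : F, c ^ p ^ k = 1 → c = 1 := by
    intro c h
    have h1 : (c - 1) ^ p ^ k = 0 := by rw [sub_pow_char_pow, h, one_pow, sub_self]
    exact sub_eq_zero.1 (eq_zero_of_pow_eq_zero h1)
  have hgk : (g : Matrix (Fin n) (Fin n) F) ^ p ^ k = 1 := by
    rw [← Units.val_pow_eq_pow_val, ← hg, pow_orderOf_eq_one]; rfl
  have hd : (g : Matrix (Fin n) (Fin n) F).det = 1 := hroot _ (by rw [← det_pow, hgk, det_one])
  let x : Matrix.SpecialLinearGroup (Fin n) F := ⟨_, hd⟩
  have hx : (x : Matrix (Fin n) (Fin n) F) = g := rfl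
  refine ⟨x, hx, ?_⟩
  refine orderOf_eq_orderOf_iff.2 (fun j => ?_) |>.trans hg
  rw [psl_mk_pow_eq_one_iff hn, hx]
  constructor
  · rintro ⟨c, hc⟩
    have h1 : scalar (Fin n) (c ^ p ^ k) = 1 := by
      rw [map_pow, hc, ← pow_mul, mul_comm, pow_mul, hgk, one_pow]
    have hc1 : c ^ p ^ k = 1 := by
      have := congrArg (fun A : Matrix (Fin n) (Fin n) F => A ⟨0, hn⟩ ⟨0, hn⟩) h1
      simpa using this
    rw [hroot c hc1, map_one] at hc
    exact Units.ext (by rw [Units.val_pow_eq_pow_val]; exact hc.symm)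
  · intro h
    exact ⟨1, by rw [map_one, ← Units.val_pow_eq_pow_val, h]; rfl⟩

/-- A nontrivial idempotent commuting with `M` gives an element of `SL n` of projective order `r` commuting
with `M`. -/
theorem exists_r_elt_of_idempotent [Finite F] {n r : ℕ} (hn : 0 < n) (hr : r.Prime) (hrq : r ∣ Nat.card F - 1)
    (hrn : ¬ r ∣ n) (M e : Matrix (Fin n) (Fin n) F) (hc : Commute e M) (he : e * e = e) (he0 : e ≠ 0)
    (he1 : e ≠ 1) :
    ∃ z : Matrix.SpecialLinearGroup (Fin n) F, Commute (z : Matrix (Fin n) (Fin n) F) M ∧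
      orderOf (QuotientGroup.mk z : Matrix.ProjectiveSpecialLinearGroup (Fin n) F) = r := by
  classical
  have := Fact.mk hr
  have := Fintype.ofFinite F
  obtain ⟨ζ, hζ⟩ := exists_prime_orderOf_dvd_card' (G := Fˣ) r (by rwa [Nat.card_units])
  let z0 : Matrix (Fin n) (Fin n) F := 1 + ((ζ : F) - 1) • e
  have hz : ∀ k, z0 ^ k = 1 + ((ζ : F) ^ k - 1) • e := by
    intro k
    induction k with
    | zero => simp
    | succ k ih =>
      rw [pow_succ, ih]
      simp only [z0, mul_add, add_mul, one_mul, mul_one, smul_mul_assoc, mul_smul_comm, he]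
      module
  have hzr : z0 ^ r = 1 := by
    have : (ζ : F) ^ r = 1 := by rw [← Units.val_pow_eq_pow_val, ← hζ, pow_orderOf_eq_one]; rfl
    simp [hz, this]
  have hδ : z0.det ^ r = 1 := by rw [← det_pow, hzr, det_one]
  obtain ⟨t, -, ht⟩ := Nat.exists_mul_mod_eq_one_of_coprime ((hr.coprime_iff_not_dvd.2 hrn).symm) hr.one_lt
  have hδn : (z0.det ^ t)⁻¹ ^ n * z0.det = 1 := by
    have h1 : z0.det ^ (t * n) = z0.det := by
      conv_lhs => rw [← Nat.mod_add_div (t * n) r, mul_comm t n, ht, pow_add, pow_mul, hδ]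
      simp
    rw [inv_pow, ← pow_mul, h1]
    refine inv_mul_cancel₀ fun h => ?_
    simp [h, zero_pow hr.ne_zero] at hδ
  let c : F := (z0.det ^ t)⁻¹
  have hcr : c ^ r = 1 := by
    simp only [c, inv_pow, ← pow_mul]
    rw [mul_comm, pow_mul, hδ, one_pow, inv_one]
  let z : Matrix.SpecialLinearGroup (Fin n) F := ⟨c • z0, by rw [det_smul, Fintype.card_fin]; exact hδn⟩
  have hzval : (z : Matrix (Fin n) (Fin n) F) = c • z0 := rfl
  refine ⟨z, ?_, ?_⟩
  · rw [hzval]
    exact (((Commute.one_left M).add_left (hc.smul_left _)).smul_left c)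
  · refine orderOf_eq_prime ?_ ?_
    · rw [psl_mk_pow_eq_one_iff hn, hzval]
      exact ⟨1, by rw [_root_.smul_pow, hzr, hcr, one_smul, map_one]⟩
    · rw [Ne, psl_mk_eq_one_iff hn, hzval]
      rintro ⟨d, hd⟩
      have hζ1 : (ζ : F) - 1 ≠ 0 := by
        intro h
        have : ζ = 1 := Units.ext (sub_eq_zero.1 h)
        rw [this, orderOf_one] at hζ
        exact hr.one_lt.ne hζ
      have hc0 : c ≠ 0 := fun h => by simp [h, zero_pow hr.ne_zero] at hcr
      have hes : e = ((c⁻¹ * d - 1) / ((ζ : F) - 1)) • (1 : Matrix (Fin n) (Fin n) F) := by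
        have h1 : scalar (Fin n) d = d • (1 : Matrix (Fin n) (Fin n) F) := (smul_one_eq_diagonal d).symm
        rw [h1] at hd
        have h2 : z0 = (c⁻¹ * d) • (1 : Matrix (Fin n) (Fin n) F) := by
          rw [← smul_smul, hd, smul_smul, inv_mul_cancel₀ hc0, one_smul]
        have h3 : ((ζ : F) - 1) • e = ((c⁻¹ * d) - 1) • (1 : Matrix (Fin n) (Fin n) F) := by
          rw [sub_smul (c⁻¹ * d), ← h2]; simp [z0]
        rw [div_eq_inv_mul, ← smul_smul, ← h3, smul_smul, inv_mul_cancel₀ hζ1, one_smul]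
      set w := (c⁻¹ * d - 1) / ((ζ : F) - 1)
      have hw : w * w = w := by
        have := congrArg (fun A : Matrix (Fin n) (Fin n) F => A ⟨0, hn⟩ ⟨0, hn⟩) he
        simpa [hes] using this
      rcases mul_eq_zero.1 (show w * (w - 1) = 0 by rw [mul_sub, hw, mul_one, sub_self]) with h | h
      · exact he0 (by rw [hes, h, zero_smul])
      · exact he1 (by rw [hes, sub_eq_zero.1 h, one_smul])

/-- If `g` commutes with a nontrivial idempotent, its projective order can be enlarged to a multiple of `r`. -/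
theorem exists_psl_r_dvd_of_idempotent [Finite F] {n r : ℕ} (hn : 0 < n) (hr : r.Prime)
    (hrq : r ∣ Nat.card F - 1) (hrn : ¬ r ∣ n) (g : Matrix.SpecialLinearGroup (Fin n) F)
    (e : Matrix (Fin n) (Fin n) F) (hc : Commute e (g : Matrix (Fin n) (Fin n) F)) (he : e * e = e) (he0 : e ≠ 0)
    (he1 : e ≠ 1) :
    ∃ a' : Matrix.ProjectiveSpecialLinearGroup (Fin n) F,
      orderOf (QuotientGroup.mk g : Matrix.ProjectiveSpecialLinearGroup (Fin n) F) ∣ orderOf a' ∧ r ∣ orderOf a' := by
  by_cases hrg : r ∣ orderOf (QuotientGroup.mk g : Matrix.ProjectiveSpecialLinearGroup (Fin n) F)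
  · exact ⟨_, dvd_rfl, hrg⟩
  obtain ⟨z, hzc, hzo⟩ := exists_r_elt_of_idempotent hn hr hrq hrn _ e hc he he0 he1
  have hcz : Commute g z := by
    refine Subtype.ext ?_
    simpa using hzc.eq.symm
  refine ⟨QuotientGroup.mk g * QuotientGroup.mk z, ?_⟩
  have hcm : Commute (QuotientGroup.mk g : Matrix.ProjectiveSpecialLinearGroup (Fin n) F) (QuotientGroup.mk z) :=
    hcz.map (QuotientGroup.mk' _)
  rw [hcm.orderOf_mul_eq_mul_orderOf_of_coprime (by rw [hzo]; exact (hr.coprime_iff_not_dvd.2 hrg).symm), hzo]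
  exact ⟨dvd_mul_right _ _, dvd_mul_left _ _⟩

/-- The dichotomy. -/
theorem psl_order_dichotomy [Finite F] (p : ℕ) [Fact p.Prime] [CharP F p] {n r : ℕ} (hn : 0 < n) (hr : r.Prime)
    (hrq : r ∣ Nat.card F - 1) (hrn : ¬ r ∣ n) :
    ∃ s : Matrix.ProjectiveSpecialLinearGroup (Fin n) F, ¬ p ∣ orderOf s ∧
      ∀ a : Matrix.ProjectiveSpecialLinearGroup (Fin n) F,
      (∃ a' : Matrix.ProjectiveSpecialLinearGroup (Fin n) F, orderOf a ∣ orderOf a' ∧ r ∣ orderOf a') ∨ orderOf a ∣ p ^ Nat.clog p n * orderOf s := by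
  classical
  have : NeZero n := ⟨hn.ne'⟩
  let K := FiniteField.Extension F p n
  let bs : Module.Basis (Fin n) F K := Module.finBasisOfFinrankEq F K (FiniteField.finrank_extension F p n)
  let ψ : K →ₐ[F] Matrix (Fin n) (Fin n) F := Algebra.leftMulMatrix bs
  let D : Kˣ →* Fˣ := Units.map ((Matrix.detMonoidHom).comp ψ.toRingHom.toMonoidHom)
  obtain ⟨c0, hc0⟩ := IsCyclic.exists_generator (α := D.ker)
  have hc0det : (ψ ((c0 : Kˣ) : K)).det = 1 := congrArg Units.val (MonoidHom.mem_ker.1 c0.2)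
  let S : Matrix.SpecialLinearGroup (Fin n) F := ⟨ψ ((c0 : Kˣ) : K), hc0det⟩
  refine ⟨QuotientGroup.mk S, ?_, fun a => ?_⟩
  · intro hps
    have h1 : orderOf (QuotientGroup.mk S : Matrix.ProjectiveSpecialLinearGroup (Fin n) F) ∣ Nat.card Kˣ := by
      refine orderOf_dvd_of_pow_eq_one ((psl_mk_pow_eq_one_iff hn S _).2 ⟨1, ?_⟩)
      have h2 : (((c0 : Kˣ) : K)) ^ Nat.card Kˣ = 1 := by
        rw [← Units.val_pow_eq_pow_val, pow_card_eq_one']; rfl
      change scalar (Fin n) 1 = ψ _ ^ _
      rw [← map_pow, h2, map_one, map_one]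
    have h3 := hps.trans h1
    rw [Nat.card_units, FiniteField.natCard_extension] at h3
    have h4 : p ∣ Nat.card F := by
      have := Fintype.ofFinite F
      obtain ⟨j, -, hj⟩ := FiniteField.card F p
      rw [Nat.card_eq_fintype_card, hj]
      exact dvd_pow_self p j.pos.ne'
    have h5 : p ∣ Nat.card F ^ n := h4.trans (dvd_pow_self _ hn.ne')
    have h6 := Nat.dvd_sub h5 h3
    rw [Nat.sub_sub_self (Nat.one_le_pow _ _ Nat.card_pos)] at h6
    exact (Fact.out (p := p.Prime)).not_dvd_one h6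
  induction a using QuotientGroup.induction_on with
  | H g =>
    set M := (g : Matrix (Fin n) (Fin n) F) with hMdef
    set mp := minpoly F M with hmp
    have hint : IsIntegral F M := IsIntegral.of_finite F M
    have hmp0 : mp ≠ 0 := minpoly.ne_zero hint
    by_cases hsplit : ∃ (a : F[X]) (b : F[X]) (u : F[X]) (v : F[X]),
        mp = a * b ∧ u * a + v * b = 1 ∧ ¬ IsUnit a ∧ ¬ IsUnit b
    · left
      obtain ⟨a, b, u, v, hab, huv, ha, hb⟩ := hsplit
      set e := aeval M (u * a) with he
      refine exists_psl_r_dvd_of_idempotent hn hr hrq hrn g e ?_ ?_ ?_ ?_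
      · have h := ((Commute.all (u * a) X).map (aeval M (R := F))).eq
        rw [aeval_X] at h
        exact h
      · have h1 : aeval M ((u * a) * (v * b)) = 0 := by
          rw [show u * a * (v * b) = u * v * (a * b) by ring, ← hab, map_mul, minpoly.aeval, mul_zero]
        rw [show v * b = 1 - u * a by rw [← huv]; ring, map_mul, map_sub, map_one, mul_sub, mul_one,
          sub_eq_zero] at h1
        exact h1.symm
      · intro h0
        have hdvd : a * b ∣ u * a := hab ▸ minpoly.dvd F M h0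
        have ha0 : a ≠ 0 := by rintro rfl; simp at hab; exact hmp0 hab
        rw [mul_comm u a, mul_dvd_mul_iff_left ha0] at hdvd
        exact hb (isUnit_of_dvd_one (huv ▸ dvd_add (hdvd.mul_right a) (dvd_mul_left b v)))
      · intro h1
        have hv : aeval M (v * b) = 0 := by
          rw [show v * b = 1 - u * a by rw [← huv]; ring, map_sub, map_one, ← he, h1, sub_self]
        have hdvd : a * b ∣ v * b := hab ▸ minpoly.dvd F M hv
        have hb0 : b ≠ 0 := by rintro rfl; simp at hab; exact hmp0 hab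
        rw [mul_dvd_mul_iff_right hb0] at hdvd
        exact ha (isUnit_of_dvd_one (huv ▸ dvd_add (dvd_mul_left a u) (hdvd.mul_right b)))
    · right
      obtain ⟨f, hf, hfd⟩ := WfDvdMonoid.exists_irreducible_factor (minpoly.not_isUnit F M) hmp0
      obtain ⟨k, b, hb, hab⟩ := WfDvdMonoid.max_power_factor hmp0 hf
      have hk : k ≠ 0 := fun h => hb (by rw [h, pow_zero, one_mul] at hab; exact hab ▸ hfd)
      have hbu : IsUnit b := by
        by_contra hbn
        obtain ⟨u, v, huv⟩ := ((hf.coprime_iff_not_dvd).2 hb).pow_left (m := k)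
        exact hsplit ⟨f ^ k, b, u, v, hab, huv,
          fun h => hf.not_isUnit (isUnit_of_dvd_unit (dvd_pow_self f hk) h), hbn⟩
      set A := Nat.clog p n with hA
      have hkA : k ≤ p ^ A := by
        have h1 : k * f.natDegree ≤ mp.natDegree := by
          rw [← natDegree_pow]; exact natDegree_le_of_dvd (hab ▸ dvd_mul_right _ _) hmp0
        have h2 : mp.natDegree ≤ n := by
          have := natDegree_le_of_dvd (Matrix.minpoly_dvd_charpoly M) (charpoly_monic M).ne_zero
          rwa [charpoly_natDegree_eq_dim, Fintype.card_fin] at this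
        have := Nat.le_pow_clog (Fact.out (p := p.Prime)).one_lt n
        nlinarith [hf.natDegree_pos]
      let σ : F ≃+* F := RingEquiv.ofBijective (iterateFrobenius F p A)
        ⟨(iterateFrobenius F p A).injective, Finite.surjective_of_injective (iterateFrobenius F p A).injective⟩
      let f' : F[X] := f.map σ.toRingHom
      have hf' : Irreducible f' := (MulEquiv.irreducible_iff (Polynomial.mapEquiv σ).toMulEquiv).2 hf
      have hs : aeval (M ^ p ^ A) f' = 0 := by
        have h1 : aeval M (f ^ p ^ A) = 0 := by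
          have h2 : mp ∣ f ^ p ^ A := by
            rw [hab]
            exact (Associated.dvd (associated_mul_unit_left _ _ hbu)).trans (pow_dvd_pow f hkA)
          exact aeval_eq_zero_of_dvd_aeval_eq_zero h2 (minpoly.aeval F M)
        rw [← map_iterateFrobenius_expand (R := F) p f A, map_expand, expand_aeval] at h1
        exact h1
      have := Fact.mk hf'
      let φ : AdjoinRoot f' →ₐ[F] Matrix (Fin n) (Fin n) F :=
        Ideal.Quotient.liftₐ (Ideal.span {f'}) (aeval (M ^ p ^ A)) fun a ha => by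
          obtain ⟨c, rfl⟩ := Ideal.mem_span_singleton.1 ha
          rw [map_mul, hs, zero_mul]
      have hφ : φ (AdjoinRoot.root f') = M ^ p ^ A := by
        change aeval (M ^ p ^ A) X = _
        rw [aeval_X]
      let K' := AdjoinRoot f'
      have : Module.Finite F K' := (AdjoinRoot.powerBasis hf'.ne_zero).finite
      have : Finite K' := Module.finite_of_finite F
      let Φ : K' →+* Module.End F (Fin n → F) :=
        (Matrix.toLinAlgEquiv' : Matrix (Fin n) (Fin n) F ≃ₐ[F] _).toRingEquiv.toRingHom.comp φ.toRingHom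
      let : Module K' (Fin n → F) := Module.compHom _ Φ
      have hsmul : ∀ (x : K') (v : Fin n → F), x • v = (φ x).mulVec v := fun x v => rfl
      have : IsScalarTower F K' (Fin n → F) := ⟨fun c x v => by
        rw [hsmul, hsmul, map_smul, Matrix.smul_mulVec]⟩
      have : Module.Finite K' (Fin n → F) := Module.Finite.of_restrictScalars_finite F K' _
      have hdim : Module.finrank F K' * Module.finrank K' (Fin n → F) = n := by
        rw [Module.finrank_mul_finrank, Module.finrank_fin_fun]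
      obtain ⟨ι⟩ := FiniteField.nonempty_algHom_of_finrank_dvd (F := F) (K := K') (L := K)
        (by rw [FiniteField.finrank_extension]; exact Dvd.intro _ hdim)
      let : Algebra K' K := ι.toRingHom.toAlgebra
      have : IsScalarTower F K' K := IsScalarTower.of_algebraMap_eq fun x => (ι.commutes x).symm
      have : Module.Finite K' K := Module.Finite.of_finite
      have hdim' : Module.finrank K' (Fin n → F) = Module.finrank K' K := by
        have h1 := Module.finrank_mul_finrank F K' K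
        rw [FiniteField.finrank_extension] at h1
        exact Nat.eq_of_mul_eq_mul_left Module.finrank_pos (hdim.trans h1.symm)
      let h : (Fin n → F) ≃ₗ[K'] K := LinearEquiv.ofFinrankEq _ _ hdim'
      let hF : (Fin n → F) ≃ₗ[F] (Fin n → F) := (h.restrictScalars F).trans bs.equivFun
      let P := LinearMap.toMatrix' (hF : (Fin n → F) →ₗ[F] (Fin n → F))
      have hP : IsUnit P := by
        refine ⟨⟨P, LinearMap.toMatrix' (hF.symm : (Fin n → F) →ₗ[F] (Fin n → F)), ?_, ?_⟩, rfl⟩ <;>
          simp [P, ← LinearMap.toMatrix'_comp]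
      have hint' : ∀ x : K', P * φ x = ψ (ι x) * P := by
        intro x
        refine Matrix.toLin'.injective (LinearMap.ext fun v => ?_)
        simp only [Matrix.toLin'_apply, ← Matrix.mulVec_mulVec]
        simp only [P, LinearMap.toMatrix'_mulVec]
        change hF ((φ x).mulVec v) = (ψ (ι x)).mulVec (hF v)
        rw [← hsmul]
        change bs.equivFun (h (x • v)) = (ψ (ι x)).mulVec (bs.equivFun (h v))
        rw [map_smul, Algebra.smul_def, Module.Basis.equivFun_apply, Module.Basis.equivFun_apply,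
          Algebra.leftMulMatrix_mulVec_repr]
        rfl
      obtain ⟨U, hU⟩ := hP
      rw [← hU] at hint'
      set y := ι (AdjoinRoot.root f') with hy
      have hconj : ψ y = (U : Matrix (Fin n) (Fin n) F) * M ^ p ^ A * ((U⁻¹ : GL (Fin n) F) : Matrix (Fin n) (Fin n) F) := by
        rw [← hφ, hint' (AdjoinRoot.root f'), mul_assoc, Units.mul_inv, mul_one]
      have hdet : (ψ y).det = 1 := by
        rw [hconj, det_units_conj, det_pow]
        simp [hMdef]
      have hy0 : y ≠ 0 := by
        intro h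
        rw [h, map_zero, det_zero] at hdet
        exact zero_ne_one hdet
      have hmem : Units.mk0 y hy0 ∈ D.ker := Units.ext hdet
      obtain ⟨j, hj⟩ := (mem_powers_iff_mem_zpowers.2 (hc0 ⟨_, hmem⟩) : (⟨_, hmem⟩ : D.ker) ∈ Submonoid.powers c0)
      have hyj : ψ y = ψ ((c0 : Kˣ) : K) ^ j := by
        rw [← map_pow]
        congr 1
        exact (congrArg (fun u : D.ker => ((u : Kˣ) : K)) hj).symm
      set m := orderOf (QuotientGroup.mk S : Matrix.ProjectiveSpecialLinearGroup (Fin n) F)
      refine orderOf_dvd_of_pow_eq_one ((psl_mk_pow_eq_one_iff hn g _).2 ?_)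
      obtain ⟨c, hc⟩ := (psl_mk_pow_eq_one_iff hn S m).1 (pow_orderOf_eq_one _)
      refine ⟨c ^ j, ?_⟩
      have hps : ((U : Matrix (Fin n) (Fin n) F) * M ^ p ^ A * ((U⁻¹ : GL (Fin n) F) : Matrix (Fin n) (Fin n) F)) ^ m =
          scalar (Fin n) (c ^ j) := by
        rw [← hconj, hyj, ← pow_mul, mul_comm, pow_mul, map_pow, hc]
      rw [Units.conj_pow, ← pow_mul] at hps
      have h2 : M ^ (p ^ A * m) = ((U⁻¹ : GL (Fin n) F) : Matrix (Fin n) (Fin n) F) * scalar (Fin n) (c ^ j) *
          (U : Matrix (Fin n) (Fin n) F) := by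
        rw [← hps, ← mul_assoc, ← mul_assoc, Units.inv_mul, one_mul, mul_assoc, Units.inv_mul, mul_one]
      rw [h2, ← (scalar_commute (c ^ j) (Commute.all _) ((U⁻¹ : GL (Fin n) F) : Matrix (Fin n) (Fin n) F)).eq,
        mul_assoc, Units.inv_mul, mul_one]

/-- An element whose projective order is divisible by `p ^ clog p n` and by `r`. -/
theorem exists_psl_ppow_mul_r [Finite F] (p : ℕ) [Fact p.Prime] [CharP F p] {n r : ℕ} (hn : 2 ≤ n)
    (hr : r.Prime) (hrq : r ∣ Nat.card F - 1) (hrn : ¬ r ∣ n) (hne : ¬ ∃ j : ℕ, n - 1 = p ^ j) :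
    ∃ a : Matrix.ProjectiveSpecialLinearGroup (Fin n) F, p ^ Nat.clog p n ∣ orderOf a ∧ r ∣ orderOf a := by
  classical
  have hp := Fact.out (p := p.Prime)
  obtain ⟨n', rfl⟩ : ∃ n', n = n' + 1 := ⟨n - 1, by omega⟩
  simp only [Nat.add_sub_cancel] at hne
  have hA : 0 < Nat.clog p (n' + 1) := Nat.clog_pos hp.one_lt hn
  have hlt : p ^ (Nat.clog p (n' + 1) - 1) < n' := by
    have := Nat.pow_pred_clog_lt_self hp.one_lt hn
    rcases Nat.lt_or_ge (p ^ (Nat.clog p (n' + 1) - 1)) n' with h | h
    · exact h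
    · exact absurd ⟨_, le_antisymm h (Nat.lt_succ_iff.1 this)⟩ hne
  obtain ⟨g0, hg0⟩ := exists_gl_orderOf_prime_pow (F := F) p n' _ hlt
    (by rw [Nat.sub_add_cancel hA]; have := Nat.le_pow_clog hp.one_lt (n' + 1); omega)
  rw [Nat.sub_add_cancel hA] at hg0
  let R := Matrix.reindexAlgEquiv F F (finSumFinEquiv (m := n') (n := 1))
  let B : GL (Fin n') F →* Matrix (Fin n' ⊕ Fin 1) (Fin n' ⊕ Fin 1) F :=
    { toFun := fun u => fromBlocks (u : Matrix (Fin n') (Fin n') F) 0 0 1
      map_one' := by simp [fromBlocks_one]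
      map_mul' := fun u v => by simp [fromBlocks_multiply] }
  let B' : GL (Fin n') F →* GL (Fin (n' + 1)) F := MonoidHom.toHomUnits (R.toMonoidHom.comp B)
  have hB : Function.Injective B' := by
    intro u v huv
    have := R.injective (congrArg Units.val huv)
    exact Units.ext (fromBlocks_inj.1 this).1
  have ho : orderOf (B' g0) = p ^ Nat.clog p (n' + 1) := by rw [orderOf_injective B' hB, hg0]
  obtain ⟨x, hx, hxo⟩ := exists_psl_orderOf_of_ppow p (by omega) _ ho
  let e : Matrix (Fin (n' + 1)) (Fin (n' + 1)) F := R (fromBlocks 1 0 0 0)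
  suffices hh : Commute e (x : Matrix (Fin (n' + 1)) (Fin (n' + 1)) F) ∧ e * e = e ∧ e ≠ 0 ∧ e ≠ 1 by
    obtain ⟨a', h1, h2⟩ := exists_psl_r_dvd_of_idempotent (by omega) hr hrq hrn x e hh.1 hh.2.1 hh.2.2.1 hh.2.2.2
    exact ⟨a', hxo ▸ h1, h2⟩
  refine ⟨?_, ?_, ?_, ?_⟩
  · rw [hx]
    change R (fromBlocks 1 0 0 0) * R (B g0) = R (B g0) * R (fromBlocks 1 0 0 0)
    rw [← map_mul, ← map_mul]
    congr 1
    simp [B, fromBlocks_multiply]
  · rw [← map_mul]; simp [e, fromBlocks_multiply]
  · intro h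
    have hn' : 0 < n' := by have := pow_pos hp.pos (Nat.clog p (n' + 1) - 1); omega
    have := congrArg (fun A => A (Sum.inl ⟨0, hn'⟩) (Sum.inl ⟨0, hn'⟩)) (R.injective (h.trans (map_zero R).symm))
    simp at this
  · intro h
    have := congrArg (fun A => A (Sum.inr 0) (Sum.inr 0)) (R.injective (h.trans (map_one R).symm))
    simp at this

/-- An element of order divisible by `r`. -/
theorem exists_psl_r_elt [Finite F] {n r : ℕ} (hn : 2 ≤ n) (hr : r.Prime) (hrq : r ∣ Nat.card F - 1)
    (hrn : ¬ r ∣ n) : ∃ a : Matrix.ProjectiveSpecialLinearGroup (Fin n) F, r ∣ orderOf a := by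
  classical
  let i : Fin n := ⟨0, by omega⟩
  obtain ⟨z, -, hz⟩ := exists_r_elt_of_idempotent (by omega : 0 < n) hr hrq hrn 1
    (Matrix.single i i (1 : F)) (Commute.one_right _) (by simp)
    (fun h => by simpa using congrArg (fun A => A i i) h)
    (fun h => by
      have := congrArg (fun A => A (⟨1, by omega⟩ : Fin n) (⟨1, by omega⟩ : Fin n)) h
      simp [Matrix.single, i, Fin.ext_iff] at this)
  exact ⟨QuotientGroup.mk z, by rw [hz]⟩

end Cfsg.Lib.Known
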