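import Mathlib
import Cfsg.Agent.Classical.Misc.PSLTori
import Cfsg.Agent.Classical.Misc.PSLSolvableSubgroups
import Cfsg.Agent.Classical.Misc.SmallPSL

/-! Normalisers of the subgroups of `PSL₂(13)` and `SL₂(13)`. -/

set_option autoImplicit false
set_option maxRecDepth 8000

namespace Cfsg.Lib.Known.PSLThirteen

open Cfsg.Lib.Classical
open scoped Pointwise

/-- The facts about `PSL₂(13)` that are used. -/
structure Data (G : Type*) [Group G] : Prop where
  card : Nat.card G = 1092
  proper : ∀ H : Subgroup G, H ≠ ⊤ → Nat.card H ∣ 12 ∨ Nat.card H ∣ 14 ∨ Nat.card H ∣ 78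
  tet : ∃ A : Subgroup G, Nonempty (A ≃* alternatingGroup (Fin 4))
  dih : ∃ D : Subgroup G, Nonempty (D ≃* DihedralGroup 6)
  bound : ∀ x : G, orderOf x ≤ 14

instance fact_thirteen : Fact (Nat.Prime 13) := ⟨by norm_num⟩

theorem data_psl : Data (Matrix.ProjectiveSpecialLinearGroup (Fin 2) (ZMod 13)) := by
  classical
  haveI : Finite (Matrix.ProjectiveSpecialLinearGroup (Fin 2) (ZMod 13)) :=
    Finite.of_surjective _ (QuotientGroup.mk'_surjective (Subgroup.center (Matrix.SpecialLinearGroup (Fin 2) (ZMod 13))))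
  have hq : Fintype.card (ZMod 13) = 13 := ZMod.card 13
  have hc := SmallPSL.card_psl hq
  rw [show Nat.gcd 2 (13 - 1) = 2 from rfl] at hc
  have hG : Nat.card (Matrix.ProjectiveSpecialLinearGroup (Fin 2) (ZMod 13)) = 1092 := by omega
  refine ⟨hG, fun H hH => ?_, (PSLSolvable.iff_A4 (F := ZMod 13) 13 1 (by rw [hq]; norm_num)).mpr (by omega), ?_, fun x => ?_⟩
  · rcases PSLDickson.dickson 13 hq H with ⟨h, hk⟩ | ⟨m, hm, ⟨ψ⟩, hk⟩ | ⟨P, h⟩ | ⟨⟨ψ⟩⟩ | ⟨⟨ψ⟩⟩ | ⟨⟨ψ⟩⟩ |
      ⟨K, m, h3, hodd, hm, ⟨ψ⟩⟩ | ⟨K, m, h3, hm, ⟨ψ⟩⟩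
    · rw [show (13 + 1) / Nat.gcd 2 (13 - 1) = 7 from rfl, show (13 - 1) / Nat.gcd 2 (13 - 1) = 6 from rfl] at hk
      rcases hk with h | h
      · exact Or.inr (Or.inl (h.trans (by norm_num)))
      · exact Or.inl (h.trans (by norm_num))
    · rw [Nat.card_congr ψ.toEquiv, DihedralGroup.nat_card]
      rw [show (13 + 1) / Nat.gcd 2 (13 - 1) = 7 from rfl, show (13 - 1) / Nat.gcd 2 (13 - 1) = 6 from rfl] at hk
      rcases hk with h | h
      · exact Or.inr (Or.inl ((Nat.mul_dvd_mul_left 2 h).trans (by norm_num)))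
      · exact Or.inl ((Nat.mul_dvd_mul_left 2 h).trans (by norm_num))
    · have hb := PSLFull.borel_card (k := AlgebraicClosure (ZMod 13)) (algebraMap (ZMod 13) _) 13 hq P H h
      refine Or.inr (Or.inr (Nat.dvd_of_mul_dvd_mul_right two_pos ?_))
      rw [show Nat.gcd 2 (13 - 1) = 2 from rfl] at hb
      exact hb
    · refine Or.inl (dvd_of_eq ?_)
      rw [Nat.card_congr ψ.toEquiv, nat_card_alternatingGroup, Nat.card_fin]
      norm_num [Nat.factorial]
    · exact absurd ((PSLSolvable.iff_S4 (F := ZMod 13) hq).mp ⟨H, ⟨ψ⟩⟩) (by norm_num)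
    · exfalso
      have h := Subgroup.card_subgroup_dvd_card H
      rw [hG, Nat.card_congr ψ.toEquiv, nat_card_alternatingGroup, Nat.card_fin] at h
      norm_num [Nat.factorial] at h
    · exfalso
      have hK : Fintype.card K = 13 := ((Nat.prime_def.mp (by norm_num : Nat.Prime 13)).2 _
        (hm ▸ dvd_pow_self _ (by rintro rfl; simp at hm))).resolve_left (by omega)
      have h := SmallPSL.card_psl (F := K) hK
      rw [← Nat.card_congr ψ.toEquiv] at h
      rw [show Nat.gcd 2 (13 - 1) = 2 from rfl] at h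
      exact hH (Subgroup.eq_top_of_card_eq H (by omega))
    · exfalso
      have hK : Fintype.card K = 13 := ((Nat.prime_def.mp (by norm_num : Nat.Prime 13)).2 _
        (hm ▸ dvd_pow_self _ (by rintro rfl; simp at hm))).resolve_left (by omega)
      have h := Nat.le_of_dvd (by omega) (Subgroup.card_subgroup_dvd_card H)
      rw [hG, Nat.card_congr ψ.toEquiv, PSLBounds.card_pgl_two, hK] at h
      norm_num at h
  · obtain ⟨D, -, e⟩ := PSLTori.exists_split hq (by decide)
    rw [show (13 - 1) / Nat.gcd 2 (13 - 1) = 6 from rfl] at e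
    exact ⟨D, e⟩
  · have := PSLBounds.orderOf_psl x
    rw [hq] at this
    omega

variable {G : Type*} [Group G] [Finite G]

theorem Data.coatom (d : Data G) {M : Subgroup G} (h : Nat.card M = 12 ∨ Nat.card M = 14 ∨ Nat.card M = 78) : IsCoatom M := by
  refine ⟨fun e => ?_, fun N hN => ?_⟩
  · rw [e, Subgroup.card_top, d.card] at h
    omega
  · by_contra hne
    have hd := Subgroup.card_dvd_of_le hN.le
    have hpos : 0 < Nat.card N := Nat.card_pos
    have hlt : Nat.card M < Nat.card N := by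
      refine lt_of_le_of_ne (Nat.le_of_dvd hpos hd) fun e => hN.ne ?_
      exact Subgroup.eq_of_le_of_card_ge hN.le e.ge
    obtain ⟨c, hc⟩ := hd
    rcases d.proper N hne with h' | h' | h' <;> rw [hc] at h' hlt <;>
      rcases h with h | h | h <;> rw [h] at h' hlt <;>
      (have := Nat.le_of_dvd (by norm_num) h'; have : c ≤ 6 := by omega
       interval_cases c <;> omega)

theorem le_normalizer_of {K H : Subgroup G} (hH : H ≤ K) (h : ∀ k ∈ K, ∀ x ∈ H, k * x * k⁻¹ ∈ H) :
    K ≤ Subgroup.normalizer (H : Set G) := fun k hk => by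
  rw [Subgroup.mem_normalizer_iff]
  intro x
  refine ⟨h k hk x, fun hx => ?_⟩
  have := h k⁻¹ (K.inv_mem hk) _ hx
  simpa [mul_assoc] using this

theorem card_normalizer_conj (H : Subgroup G) (g : G) :
    Nat.card ↥(Subgroup.normalizer ((H.map (MulAut.conj g).toMonoidHom : Subgroup G) : Set G)) =
      Nat.card ↥(Subgroup.normalizer (H : Set G)) := by
  rw [← Subgroup.map_equiv_normalizer_eq, Subgroup.card_map_of_injective (MulAut.conj g).injective]

theorem conj_sylow (r : ℕ) [Fact r.Prime] {H K : Subgroup G} (hH : IsPGroup r H) (hH' : ¬ r ∣ H.index)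
    (hK : IsPGroup r K) (hK' : ¬ r ∣ K.index) : ∃ g : G, H = K.map (MulAut.conj g).toMonoidHom := by
  obtain ⟨g, hg⟩ := MulAction.exists_smul_eq G (hK.toSylow hK') (hH.toSylow hH')
  exact ⟨g, (congrArg Sylow.toSubgroup hg).symm⟩

theorem isPGroup_of_card {r : ℕ} {H : Subgroup G} (n : ℕ) (h : Nat.card H = r ^ n) : IsPGroup r H := IsPGroup.of_card h

theorem index_eq (d : Data G) {H : Subgroup G} {a b : ℕ} (h : Nat.card H = a) (ha : 0 < a) (hab : a * b = 1092) : H.index = b := by
  have := H.card_mul_index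
  rw [h, d.card, ← hab] at this
  exact Nat.eq_of_mul_eq_mul_left ha this

theorem Data.not_normal_pair (d : Data G) {R A : Subgroup G} {a b : ℕ} (hR : Nat.card R = a) (hA : Nat.card A = b)
    (hab : a * b < 1092) (h12 : ¬ (a ∣ 12 ∧ b ∣ 12)) (h14 : ¬ (a ∣ 14 ∧ b ∣ 14)) (h78 : ¬ (a ∣ 78 ∧ b ∣ 78)) :
    ¬ R.Normal := by
  intro hn
  have h1 : a ∣ Nat.card ↥(R ⊔ A) := hR ▸ Subgroup.card_dvd_of_le le_sup_left
  have h2 : b ∣ Nat.card ↥(R ⊔ A) := hA ▸ Subgroup.card_dvd_of_le le_sup_right
  have hne : R ⊔ A ≠ ⊤ := fun e' => by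
    have h3 := congrArg (fun S : Subgroup G => (S : Set G)) e'
    simp only [Subgroup.coe_top, Subgroup.normal_mul] at h3
    have h4 : Nat.card G ≤ Nat.card R * Nat.card A := by
      rw [← Nat.card_prod]
      refine Nat.card_le_card_of_surjective (fun x : R × A => (x.1 : G) * x.2) fun g => ?_
      obtain ⟨a, ha, b, hb, rfl⟩ : g ∈ (R : Set G) * (A : Set G) := by rw [h3]; trivial
      exact ⟨(⟨a, ha⟩, ⟨b, hb⟩), rfl⟩
    rw [d.card, hR, hA] at h4
    omega
  rcases d.proper _ hne with h | h | h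
  exacts [h12 ⟨h1.trans h, h2.trans h⟩, h14 ⟨h1.trans h, h2.trans h⟩, h78 ⟨h1.trans h, h2.trans h⟩]

theorem Data.not_normal (d : Data G) {R : Subgroup G} {r : ℕ} (hR : Nat.card R = r) (hr : r = 7 ∨ r = 13) :
    ¬ R.Normal := by
  obtain ⟨A, ⟨e⟩⟩ := d.tet
  have hA : Nat.card A = 12 := by
    rw [Nat.card_congr e.toEquiv, nat_card_alternatingGroup, Nat.card_fin]; norm_num [Nat.factorial]
  rcases hr with rfl | rfl <;> exact d.not_normal_pair hR hA (by norm_num) (by norm_num) (by norm_num) (by norm_num)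

theorem Data.card_normalizer_big (d : Data G) {r : ℕ} (hr : r = 7 ∨ r = 13) {R : Subgroup G} (hR : Nat.card R = r) :
    Nat.card ↥(Subgroup.normalizer (R : Set G)) = if r = 7 then 14 else 78 := by
  haveI : Fact r.Prime := ⟨by rcases hr with rfl | rfl <;> norm_num⟩
  have hi : ¬ r ∣ R.index := by
    rcases hr with rfl | rfl
    · rw [index_eq d hR (by norm_num) (b := 156) (by norm_num)]; norm_num
    · rw [index_eq d hR (by norm_num) (b := 84) (by norm_num)]; norm_num
  let P : Sylow r G := (IsPGroup.of_card (n := 1) (by rw [hR, pow_one]) : IsPGroup r R).toSylow hi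
  have h1 := card_sylow_modEq_one r G
  rw [Sylow.card_eq_index_normalizer P] at h1
  change (Subgroup.normalizer (R : Set G)).index ≡ 1 [MOD r] at h1
  set N := Subgroup.normalizer (R : Set G) with hN
  have hne : N ≠ ⊤ := fun e => d.not_normal hR hr (Subgroup.normalizer_eq_top_iff.mp e)
  have h2 : r ∣ Nat.card N := hR ▸ Subgroup.card_dvd_of_le Subgroup.le_normalizer
  have h3 := N.card_mul_index
  rw [d.card] at h3
  obtain ⟨c, hc⟩ := h2
  rw [hc] at h3
  unfold Nat.ModEq at h1
  rcases hr with rfl | rfl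
  · have h4 : Nat.card N ∣ 14 := by
      rcases d.proper N hne with h | h | h
      · have := (Dvd.intro c hc.symm).trans h; omega
      · exact h
      · have := (Dvd.intro c hc.symm).trans h; omega
    rw [hc] at h4 ⊢
    have := Nat.le_of_dvd (by norm_num) h4
    have : c ≤ 2 := by omega
    interval_cases c <;> simp_all <;> omega
  · have h4 : Nat.card N ∣ 78 := by
      rcases d.proper N hne with h | h | h
      · have := (Dvd.intro c hc.symm).trans h; omega
      · have := (Dvd.intro c hc.symm).trans h; omega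
      · exact h
    rw [hc] at h4 ⊢
    have := Nat.le_of_dvd (by norm_num) h4
    have : c ≤ 6 := by omega
    interval_cases c <;> simp_all <;> omega

theorem Data.normalizer_three (d : Data G) {R : Subgroup G} (hR : Nat.card R = 3) :
    12 ∣ Nat.card ↥(Subgroup.normalizer (R : Set G)) := by
  haveI : Fact (Nat.Prime 3) := ⟨Nat.prime_three⟩
  obtain ⟨D, ⟨e⟩⟩ := d.dih
  let f : DihedralGroup 6 →* G := D.subtype.comp e.symm.toMonoidHom
  have hf : Function.Injective f := Subtype.val_injective.comp e.symm.injective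
  have hK : Nat.card (Subgroup.zpowers (f (.r 2))) = 3 := by
    rw [Nat.card_zpowers, orderOf_injective f hf]
    exact orderOf_eq_prime (by decide) (by decide)
  have h3 : ¬ 3 ∣ R.index ∧ ¬ 3 ∣ (Subgroup.zpowers (f (.r 2))).index := by
    rw [index_eq d hR (by norm_num) (b := 364) (by norm_num), index_eq d hK (by norm_num) (b := 364) (by norm_num)]
    norm_num
  obtain ⟨g, rfl⟩ := conj_sylow 3 (IsPGroup.of_card (n := 1) hR) h3.1 (IsPGroup.of_card (n := 1) hK) h3.2
  rw [card_normalizer_conj]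
  have hle : f.range ≤ Subgroup.normalizer (Subgroup.zpowers (f (.r 2)) : Set G) := by
    refine le_normalizer_of (Subgroup.zpowers_le.mpr ⟨_, rfl⟩) ?_
    rintro _ ⟨a, rfl⟩ _ ⟨k, rfl⟩
    dsimp only
    rw [← conj_zpow]
    refine Subgroup.zpow_mem _ ?_ k
    rcases (by revert a; decide : a * .r 2 * a⁻¹ = .r 2 ∨ a * .r 2 * a⁻¹ = (.r 2)⁻¹) with h | h
    · rw [← map_inv, ← map_mul, ← map_mul, h]; exact Subgroup.mem_zpowers _
    · rw [← map_inv, ← map_mul, ← map_mul, h, map_inv]; exact Subgroup.inv_mem _ (Subgroup.mem_zpowers _)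
  have := Subgroup.card_dvd_of_le hle
  rwa [Nat.card_congr (MonoidHom.ofInjective hf).toEquiv.symm, DihedralGroup.nat_card] at this

/-- The normal four-group of the alternating group of degree four. -/
def kleinFour : Subgroup (alternatingGroup (Fin 4)) where
  carrier := {x | x * x = 1}
  one_mem' := one_mul _
  mul_mem' {x y} hx hy := (by decide +kernel : ∀ x y : alternatingGroup (Fin 4), x * x = 1 → y * y = 1 →
    x * y * (x * y) = 1) x y hx hy
  inv_mem' {x} hx := by simpa [mul_eq_one_iff_eq_inv, eq_comm] using hx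

theorem card_kleinFour : Nat.card kleinFour = 4 := by
  classical
  rw [show Nat.card kleinFour = Nat.card {x : alternatingGroup (Fin 4) // x * x = 1} from Nat.card_congr (Equiv.refl _),
    Nat.card_eq_fintype_card, Fintype.card_subtype]
  decide +kernel

theorem Data.sylow_two (d : Data G) {A : Subgroup G} (e : A ≃* alternatingGroup (Fin 4)) {H : Subgroup G}
    (hH : IsPGroup 2 H) (hi : ¬ 2 ∣ H.index) :
    ∃ g : G, H = (kleinFour.map (A.subtype.comp e.symm.toMonoidHom)).map (MulAut.conj g).toMonoidHom := by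
  have hK : Nat.card (kleinFour.map (A.subtype.comp e.symm.toMonoidHom)) = 4 := by
    rw [Subgroup.card_map_of_injective (Subtype.val_injective.comp e.symm.injective), card_kleinFour]
  refine conj_sylow 2 hH hi (IsPGroup.of_card (n := 2) hK) ?_
  rw [index_eq d hK (by norm_num) (b := 273) (by norm_num)]
  norm_num

theorem Data.normalizer_four (d : Data G) {H : Subgroup G} (hH : Nat.card H = 4) :
    12 ∣ Nat.card ↥(Subgroup.normalizer (H : Set G)) := by
  obtain ⟨A, ⟨e⟩⟩ := d.tet
  obtain ⟨g, rfl⟩ := d.sylow_two e (IsPGroup.of_card (n := 2) hH)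
    (by rw [index_eq d hH (by norm_num) (b := 273) (by norm_num)]; norm_num)
  rw [card_normalizer_conj]
  let f : alternatingGroup (Fin 4) →* G := A.subtype.comp e.symm.toMonoidHom
  have hf : Function.Injective f := Subtype.val_injective.comp e.symm.injective
  have hle : f.range ≤ Subgroup.normalizer ((kleinFour.map f : Subgroup G) : Set G) := by
    refine le_normalizer_of ?_ ?_
    · rw [MonoidHom.range_eq_map]; exact Subgroup.map_mono le_top
    rintro _ ⟨a, rfl⟩ _ ⟨x, hx, rfl⟩
    refine ⟨a * x * a⁻¹, ?_, by simp⟩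
    change a * x * a⁻¹ * (a * x * a⁻¹) = 1
    rw [show a * x * a⁻¹ * (a * x * a⁻¹) = a * (x * x) * a⁻¹ by group, show x * x = 1 from hx]
    group
  have h := Subgroup.card_dvd_of_le hle
  rw [Nat.card_congr (MonoidHom.ofInjective hf).toEquiv.symm, nat_card_alternatingGroup, Nat.card_fin] at h
  norm_num [Nat.factorial] at h
  exact h

theorem Data.involutions_conj (d : Data G) {x y : G} (hx : orderOf x = 2) (hy : orderOf y = 2) : IsConj x y := by
  obtain ⟨A, ⟨e⟩⟩ := d.tet
  let f : alternatingGroup (Fin 4) →* G := A.subtype.comp e.symm.toMonoidHom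
  have key : ∀ x : G, orderOf x = 2 → ∃ a : alternatingGroup (Fin 4), a * a = 1 ∧ a ≠ 1 ∧ IsConj (f a) x := by
    intro x hx
    obtain ⟨P, hP⟩ := (IsPGroup.of_card (n := 1) (by rw [Nat.card_zpowers, hx, pow_one]) :
      IsPGroup 2 (Subgroup.zpowers x)).exists_le_sylow
    obtain ⟨g, hg⟩ := d.sylow_two e P.isPGroup' P.not_dvd_index
    have hmem : x ∈ (kleinFour.map f).map (MulAut.conj g).toMonoidHom := hg ▸ hP (Subgroup.mem_zpowers x)
    obtain ⟨_, ⟨a, ha, rfl⟩, rfl⟩ := hmem
    refine ⟨a, ha, ?_, isConj_iff.mpr ⟨g, rfl⟩⟩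
    rintro rfl
    simp at hx
  obtain ⟨a, ha, ha', hax⟩ := key x hx
  obtain ⟨b, hb, hb', hby⟩ := key y hy
  obtain ⟨c, rfl⟩ : ∃ c, c * a * c⁻¹ = b :=
    (by decide +kernel : ∀ a b : alternatingGroup (Fin 4), a * a = 1 → a ≠ 1 → b * b = 1 → b ≠ 1 →
      ∃ c, c * a * c⁻¹ = b) a b ha ha' hb hb'
  exact (hax.symm.trans (isConj_iff.mpr ⟨f c, by simp⟩)).trans hby

theorem Data.normalizer_two (d : Data G) {H : Subgroup G} (hH : Nat.card H = 2) :
    12 ∣ Nat.card ↥(Subgroup.normalizer (H : Set G)) := by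
  haveI : Fact (Nat.Prime 2) := ⟨Nat.prime_two⟩
  obtain ⟨D, ⟨e⟩⟩ := d.dih
  let f : DihedralGroup 6 →* G := D.subtype.comp e.symm.toMonoidHom
  have hf : Function.Injective f := Subtype.val_injective.comp e.symm.injective
  have h3 : orderOf (f (.r 3)) = 2 := by
    rw [orderOf_injective f hf]
    exact orderOf_eq_prime (by decide) (by decide)
  obtain ⟨t, ht⟩ := exists_prime_orderOf_dvd_card' (G := H) 2 (dvd_of_eq hH.symm)
  have ht' : orderOf (t : G) = 2 := by rw [Subgroup.orderOf_coe]; exact ht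
  obtain ⟨g, hg⟩ := isConj_iff.mp (d.involutions_conj h3 ht')
  have hHz : H = (Subgroup.zpowers (f (.r 3))).map (MulAut.conj g).toMonoidHom := by
    rw [MonoidHom.map_zpowers]
    refine (Subgroup.eq_of_le_of_card_ge ?_ ?_).symm
    · refine Subgroup.zpowers_le.mpr ?_
      simp [hg]
    · rw [hH, Nat.card_zpowers]
      simp [hg, ht']
  rw [hHz, card_normalizer_conj]
  have hle : f.range ≤ Subgroup.normalizer (Subgroup.zpowers (f (.r 3)) : Set G) := by
    refine le_normalizer_of (Subgroup.zpowers_le.mpr ⟨_, rfl⟩) ?_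
    rintro _ ⟨a, rfl⟩ _ ⟨k, rfl⟩
    dsimp only
    rw [← conj_zpow]
    refine Subgroup.zpow_mem _ ?_ k
    rw [← map_inv, ← map_mul, ← map_mul, (by revert a; decide : a * .r 3 * a⁻¹ = .r 3)]
    exact Subgroup.mem_zpowers _
  have := Subgroup.card_dvd_of_le hle
  rwa [Nat.card_congr (MonoidHom.ofInjective hf).toEquiv.symm, DihedralGroup.nat_card] at this

theorem exists_unique_sylow {H : Subgroup G} {r : ℕ} [Fact r.Prime] {c : ℕ} (hH : Nat.card H = r * c) (hc : ¬ r ∣ c)
    (hu : ∀ n, n ∣ c → n % r = 1 → n = 1) :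
    ∃ R : Subgroup G, R ≤ H ∧ Nat.card R = r ∧ H ≤ Subgroup.normalizer (R : Set G) := by
  obtain ⟨P⟩ : Nonempty (Sylow r H) := inferInstance
  have hc0 : c ≠ 0 := fun e => hc (e ▸ dvd_zero r)
  have hr : r.Prime := Fact.out
  have hP : Nat.card P = r := by
    rw [Sylow.card_eq_multiplicity, hH, Nat.factorization_mul hr.ne_zero hc0, Finsupp.add_apply,
      hr.factorization_self, Nat.factorization_eq_zero_of_not_dvd hc, pow_one]
  have hn : Nat.card (Sylow r H) = 1 := by
    refine hu _ ?_ ?_
    · have h := Sylow.card_dvd_index P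
      have h2 := (P : Subgroup H).card_mul_index
      rw [hH, hP] at h2
      rwa [Nat.eq_of_mul_eq_mul_left hr.pos h2] at h
    · have h := card_sylow_modEq_one r H
      rw [Nat.ModEq, Nat.mod_eq_of_lt hr.one_lt] at h
      exact h
  haveI := (Nat.card_eq_one_iff_unique.mp hn).1
  haveI : (P : Subgroup H).Normal := Sylow.normal_of_subsingleton P
  refine ⟨(P : Subgroup H).map H.subtype, Subgroup.map_subtype_le _, ?_, ?_⟩
  · rw [Subgroup.card_map_of_injective H.subtype_injective, hP]
  · refine le_normalizer_of (Subgroup.map_subtype_le _) ?_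
    rintro k hk _ ⟨x, hx, rfl⟩
    exact ⟨⟨k, hk⟩ * x * ⟨k, hk⟩⁻¹, Subgroup.Normal.conj_mem inferInstance x hx ⟨k, hk⟩, rfl⟩

theorem Data.borel_normal (d : Data G) {R H : Subgroup G} (hR : Nat.card R = 13) (hRH : R ≤ H)
    (hH : H ≤ Subgroup.normalizer (R : Set G)) : Subgroup.normalizer (R : Set G) ≤ Subgroup.normalizer (H : Set G) := by
  haveI : IsCyclic R := isCyclic_of_prime_card hR
  obtain ⟨⟨z, hzR⟩, hz⟩ := IsCyclic.exists_generator (α := R)
  have hgen : ∀ x ∈ R, ∃ m : ℤ, z ^ m = x := fun x hx => by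
    obtain ⟨m, hm⟩ := Subgroup.mem_zpowers_iff.mp (hz ⟨x, hx⟩)
    exact ⟨m, congrArg Subtype.val hm⟩
  have hzo : orderOf z = 13 := by
    have : orderOf (⟨z, hzR⟩ : R) = 13 := by rw [orderOf_eq_card_of_forall_mem_zpowers hz, hR]
    rwa [← Subgroup.orderOf_coe] at this
  have hcent : ∀ x ∈ Subgroup.normalizer (R : Set G), x * z = z * x → x ∈ R := by
    intro x hx hxz
    have hi : ¬ 13 ∣ R.index := by rw [index_eq d hR (by norm_num) (b := 84) (by norm_num)]; norm_num
    have hN := d.card_normalizer_big (Or.inr rfl) hR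
    simp only [show ¬ (13 = 7) by norm_num, if_false] at hN
    have h78 : x ^ 78 = 1 := by
      have := pow_card_eq_one' (x := (⟨x, hx⟩ : ↥(Subgroup.normalizer (R : Set G))))
      rw [hN] at this
      exact congrArg Subtype.val this
    by_contra hxR
    have h13 : x ^ 13 ≠ 1 := by
      intro h1
      have hP : IsPGroup 13 (Subgroup.zpowers x) := IsPGroup.of_card (n := 1) (by
        rw [Nat.card_zpowers, pow_one]
        refine orderOf_eq_prime h1 fun e => hxR (e ▸ R.one_mem))
      let P : Sylow 13 G := (IsPGroup.of_card (n := 1) (by rw [hR, pow_one]) : IsPGroup 13 R).toSylow hi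
      refine hxR ?_
      have := hP.inf_normalizer_sylow P
      exact ((this.le ⟨Subgroup.mem_zpowers x, hx⟩) : x ∈ Subgroup.zpowers x ⊓ (P : Subgroup G)).2
    have hco : Nat.Coprime (orderOf (x ^ 13)) (orderOf z) := by
      rw [hzo]
      refine Nat.Coprime.coprime_dvd_left (orderOf_dvd_of_pow_eq_one (n := 6) (by rw [← pow_mul]; exact h78)) ?_
      norm_num
    have := (Commute.orderOf_mul_eq_mul_orderOf_of_coprime (Commute.pow_left hxz 13) hco)
    have hb := d.bound (x ^ 13 * z)
    rw [this, hzo] at hb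
    have : 2 ≤ orderOf (x ^ 13) := by
      rcases Nat.lt_or_ge (orderOf (x ^ 13)) 2 with h | h
      · have := orderOf_pos (x ^ 13)
        exact absurd (orderOf_eq_one_iff.mp (by omega)) h13
      · exact h
    omega
  intro g hg
  rw [Subgroup.mem_normalizer_iff]
  have main : ∀ g ∈ Subgroup.normalizer (R : Set G), ∀ h ∈ H, g * h * g⁻¹ ∈ H := by
    intro g hg h hh
    obtain ⟨a, ha⟩ := hgen _ ((Subgroup.mem_normalizer_iff.mp hg z).mp hzR)
    obtain ⟨b, hb⟩ := hgen _ ((Subgroup.mem_normalizer_iff.mp (hH hh) z).mp hzR)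
    have e1 : g * h * z * (g * h)⁻¹ = z ^ (a * b) := by
      rw [show g * h * z * (g * h)⁻¹ = g * (h * z * h⁻¹) * g⁻¹ by group, ← hb, ← conj_zpow, ← ha, ← zpow_mul]
    have e2 : h * g * z * (h * g)⁻¹ = z ^ (b * a) := by
      rw [show h * g * z * (h * g)⁻¹ = h * (g * z * g⁻¹) * h⁻¹ by group, ← ha, ← conj_zpow, ← hb, ← zpow_mul]
    have hc : (h * g)⁻¹ * (g * h) ∈ R := by
      refine hcent _ (Subgroup.mul_mem _ (Subgroup.inv_mem _ (Subgroup.mul_mem _ (hH hh) hg))
        (Subgroup.mul_mem _ hg (hH hh))) ?_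
      have e : g * h * z * (g * h)⁻¹ = h * g * z * (h * g)⁻¹ := by rw [e1, e2, mul_comm]
      calc (h * g)⁻¹ * (g * h) * z = (h * g)⁻¹ * (g * h * z * (g * h)⁻¹) * (g * h) := by group
        _ = (h * g)⁻¹ * (h * g * z * (h * g)⁻¹) * (g * h) := by rw [e]
        _ = z * ((h * g)⁻¹ * (g * h)) := by group
    have := (Subgroup.mem_normalizer_iff.mp hg _).mp hc
    rw [show g * h * g⁻¹ = h * (g * ((h * g)⁻¹ * (g * h)) * g⁻¹) by group]
    exact H.mul_mem hh (hRH this)
  intro x
  refine ⟨main g hg x, fun hx => ?_⟩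
  have := main g⁻¹ (Subgroup.inv_mem _ hg) _ hx
  simpa [mul_assoc] using this

theorem Data.normalizer_coatom (d : Data G) {H : Subgroup G} (hH : ¬ H.Normal) :
    IsCoatom (Subgroup.normalizer (H : Set G)) := by
  set N := Subgroup.normalizer (H : Set G) with hN
  have hne : N ≠ ⊤ := fun e => hH (Subgroup.normalizer_eq_top_iff.mp e)
  have hHt : H ≠ ⊤ := fun e => hH (e ▸ inferInstance)
  have hH1 : H ≠ ⊥ := fun e => hH (e ▸ inferInstance)
  suffices h : 12 ∣ Nat.card N ∨ 14 ∣ Nat.card N ∨ 78 ∣ Nat.card N by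
    refine d.coatom ?_
    obtain ⟨c, hc⟩ | ⟨c, hc⟩ | ⟨c, hc⟩ := h <;>
      (rcases d.proper N hne with h' | h' | h' <;> rw [hc] at h' ⊢ <;>
        (have := Nat.le_of_dvd (by norm_num) h'
         have : c ≤ 6 := by omega
         interval_cases c <;> omega))
  have h2 : 2 ≤ Nat.card H := by
    have := Subgroup.one_lt_card_iff_ne_bot H |>.mpr hH1
    omega
  have hle : H ≤ N := Subgroup.le_normalizer
  have hset : Nat.card H ∈ [2, 3, 4, 6, 7, 12, 13, 14, 26, 39, 78] := by
    rcases d.proper H hHt with h | h | h <;>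
      (have := Nat.le_of_dvd (by norm_num) h
       generalize Nat.card H = n at *
       interval_cases n <;> first | omega | simp)
  simp only [List.mem_cons, List.not_mem_nil, or_false] at hset
  rcases hset with e | e | e | e | e | e | e | e | e | e | e
  · exact Or.inl (d.normalizer_two e)
  · exact Or.inl (d.normalizer_three e)
  · exact Or.inl (d.normalizer_four e)
  · haveI : Fact (Nat.Prime 3) := ⟨Nat.prime_three⟩
    obtain ⟨R, hRH, hR, hHR⟩ := exists_unique_sylow (r := 3) (c := 2) e (by norm_num) (fun n hn h => by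
      have := Nat.le_of_dvd (by norm_num) hn; interval_cases n <;> omega)
    have h12 := d.normalizer_three hR
    haveI : Fact (Nat.Prime 7) := ⟨by norm_num⟩
    obtain ⟨y, hy⟩ := exists_prime_orderOf_dvd_card' (G := G) 7 (by rw [d.card]; norm_num)
    have hNR : Subgroup.normalizer (R : Set G) ≠ ⊤ := fun ht =>
      d.not_normal_pair hR (A := Subgroup.zpowers y) (by rw [Nat.card_zpowers, hy]) (by norm_num) (by norm_num)
        (by norm_num) (by norm_num) (Subgroup.normalizer_eq_top_iff.mp ht)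
    have hc12 : Nat.card ↥(Subgroup.normalizer (R : Set G)) = 12 := by
      obtain ⟨c, hc⟩ := h12
      rcases d.proper _ hNR with h' | h' | h' <;> rw [hc] at h' ⊢ <;>
        (have := Nat.le_of_dvd (by norm_num) h'
         have : c ≤ 6 := by omega
         interval_cases c <;> omega)
    refine Or.inl (hc12 ▸ Subgroup.card_dvd_of_le (le_normalizer_of hHR ?_))
    have hidx : (H.subgroupOf (Subgroup.normalizer (R : Set G))).index = 2 := by
      have := (H.subgroupOf (Subgroup.normalizer (R : Set G))).card_mul_index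
      rw [Nat.card_congr (Subgroup.subgroupOfEquivOfLe hHR).toEquiv, e, hc12] at this
      omega
    haveI := Subgroup.normal_of_index_eq_two hidx
    intro k hk x hx
    exact Subgroup.Normal.conj_mem (H := H.subgroupOf (Subgroup.normalizer (R : Set G))) inferInstance
      ⟨x, hHR hx⟩ hx ⟨k, hk⟩
  · have := d.card_normalizer_big (Or.inl rfl) e
    simp only [if_true] at this
    exact Or.inr (Or.inl (by rw [hN, this]))
  · exact Or.inl (e ▸ Subgroup.card_dvd_of_le hle)
  · have := d.card_normalizer_big (Or.inr rfl) e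
    simp only [show ¬ (13 = 7) by norm_num, if_false] at this
    exact Or.inr (Or.inr (by rw [hN, this]))
  · exact Or.inr (Or.inl (e ▸ Subgroup.card_dvd_of_le hle))
  all_goals
    first
      | exact Or.inr (Or.inr (e ▸ Subgroup.card_dvd_of_le hle))
      | (obtain ⟨R, hRH, hR, hHR⟩ := exists_unique_sylow (H := H) (r := 13) (c := Nat.card H / 13) (by omega) (by omega)
          (fun n hn h => by have := Nat.le_of_dvd (by omega) hn; omega)
         have h13 := d.card_normalizer_big (Or.inr rfl) hR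
         simp only [show ¬ (13 = 7) by norm_num, if_false] at h13
         exact Or.inr (Or.inr (h13 ▸ Subgroup.card_dvd_of_le (d.borel_normal hR hRH hHR))))

theorem sl_involution {F : Type*} [Field F] (h2 : (2 : F) ≠ 0) {x : Matrix.SpecialLinearGroup (Fin 2) F} (hx : x * x = 1)
    (hne : x ≠ 1) : x = -1 := by
  have he : x⁻¹ = x := inv_eq_of_mul_eq_one_left hx
  have h := congrArg (fun g : Matrix.SpecialLinearGroup (Fin 2) F => g.1) he
  simp only [Matrix.SpecialLinearGroup.coe_inv, Matrix.adjugate_fin_two] at h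
  have h01 := congrFun (congrFun h 0) 1
  have h10 := congrFun (congrFun h 1) 0
  have h00 := congrFun (congrFun h 0) 0
  simp only [Matrix.cons_val_zero, Matrix.cons_val_one, Matrix.of_apply, Matrix.cons_val',
    Matrix.cons_val_fin_one] at h01 h10 h00
  have a : x.1 0 1 = 0 := by
    have : (2 : F) * x.1 0 1 = 0 := by linear_combination -h01
    exact (mul_eq_zero.mp this).resolve_left h2
  have b : x.1 1 0 = 0 := by
    have : (2 : F) * x.1 1 0 = 0 := by linear_combination -h10
    exact (mul_eq_zero.mp this).resolve_left h2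
  have hd : x.1 0 0 * x.1 1 1 - x.1 0 1 * x.1 1 0 = 1 := by
    have := x.2
    rwa [Matrix.det_fin_two] at this
  rw [a, b, h00] at hd
  rcases mul_self_eq_one_iff.mp (show x.1 0 0 * x.1 0 0 = 1 by linear_combination hd) with e | e
  · refine absurd (Subtype.ext (Matrix.ext fun i j => ?_)) hne
    fin_cases i <;> fin_cases j <;> simp [a, b, e, h00]
  · refine Subtype.ext (Matrix.ext fun i j => ?_)
    fin_cases i <;> fin_cases j <;> simp [a, b, e, h00]

theorem coatom_comap {L : Type*} [Group L] {f : L →* G} (hf : Function.Surjective f) {M : Subgroup G}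
    (hM : IsCoatom M) : IsCoatom (M.comap f) := by
  refine ⟨fun e => hM.1 ?_, fun N hN => ?_⟩
  · have := congrArg (Subgroup.map f) e
    rwa [Subgroup.map_comap_eq_self_of_surjective hf, Subgroup.map_top_of_surjective f hf] at this
  · have hker : f.ker ≤ N := le_trans (f.ker_le_comap (H := M)) hN.le
    have hlt : M < N.map f := by
      rcases eq_or_lt_of_le (Subgroup.map_comap_eq_self_of_surjective hf M ▸ Subgroup.map_mono (f := f) hN.le :
        M ≤ N.map f) with e | e
      · exact absurd (e ▸ (Subgroup.comap_map_eq_self hker)) hN.ne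
      · exact e
    have := congrArg (Subgroup.comap f) (hM.2 _ hlt)
    rwa [Subgroup.comap_map_eq_self hker, Subgroup.comap_top] at this

theorem lift {L : Type*} [Group L] [Finite L] (d : Data G) {f : L →* G} (hf : Function.Surjective f) (z : L)
    (hker : ∀ x, f x = 1 ↔ x = 1 ∨ x = z) (hz : z * z = 1) (huniq : ∀ x : L, x * x = 1 → x = 1 ∨ x = z)
    (H : Subgroup L) (hH : ¬ H.Normal) : IsCoatom (Subgroup.normalizer (H : Set L)) := by
  have key : ∀ g : L, f g ∈ Subgroup.normalizer ((H.map f : Subgroup G) : Set G) → ∀ h ∈ H, g * h * g⁻¹ ∈ H := by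
    intro g hg h hh
    obtain ⟨h', hh', he⟩ := (Subgroup.mem_normalizer_iff.mp hg (f h)).mp ⟨h, hh, rfl⟩
    by_cases hzH : z ∈ H
    · have h1 : f (h'⁻¹ * (g * h * g⁻¹)) = 1 := by rw [map_mul, map_inv, map_mul, map_mul, map_inv, he, inv_mul_cancel]
      rcases (hker _).mp h1 with e | e
      · rw [inv_mul_eq_one] at e; rw [← e]; exact hh'
      · rw [inv_mul_eq_iff_eq_mul] at e; rw [e]; exact H.mul_mem hh' hzH
    · have hodd : ∀ x ∈ H, Odd (orderOf x) := by
        intro x hx
        by_contra hev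
        obtain ⟨k, hk⟩ := Nat.not_odd_iff_even.mp hev
        have hpos := orderOf_pos x
        have hne : x ^ k ≠ 1 := fun e => by
          have := Nat.le_of_dvd (by omega) (orderOf_dvd_of_pow_eq_one e); omega
        refine hzH ?_
        rw [← (huniq (x ^ k) (by rw [← pow_add, ← hk, pow_orderOf_eq_one])).resolve_left hne]
        exact H.pow_mem hx k
      have h1 : f (h'⁻¹ * (g * h * g⁻¹)) = 1 := by rw [map_mul, map_inv, map_mul, map_mul, map_inv, he, inv_mul_cancel]
      rcases (hker _).mp h1 with e | e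
      · rw [inv_mul_eq_one] at e; rw [← e]; exact hh'
      · exfalso
        rw [inv_mul_eq_iff_eq_mul] at e
        have hzc : ∀ y : L, y * z = z * y := fun y => by
          rcases huniq (y * z * y⁻¹) (by rw [show y * z * y⁻¹ * (y * z * y⁻¹) = y * (z * z) * y⁻¹ by group, hz]; group)
            with e' | e'
          · have hz1 : z = 1 := by
              calc z = y⁻¹ * (y * z * y⁻¹) * y := by group
                _ = 1 := by rw [e']; group
            rw [hz1]; simp
          · calc y * z = y * z * y⁻¹ * y := by group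
              _ = z * y := by rw [e']
        have hm : Odd (orderOf h * orderOf h') := (hodd h hh).mul (hodd h' hh')
        have hl : (g * h * g⁻¹) ^ (orderOf h * orderOf h') = 1 := by
          rw [conj_pow, pow_mul, pow_orderOf_eq_one, one_pow]; group
        rw [e, (show Commute h' z from hzc h').mul_pow, mul_comm (orderOf h), pow_mul, pow_orderOf_eq_one, one_pow,
          one_mul] at hl
        obtain ⟨k, hk⟩ := hm
        rw [show orderOf h' * orderOf h = 2 * k + 1 by rw [mul_comm]; exact hk, pow_succ, pow_mul, pow_two, hz, one_pow,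
          one_mul] at hl
        exact hzH (hl ▸ H.one_mem)
  have hN : Subgroup.normalizer (H : Set L) = (Subgroup.normalizer ((H.map f : Subgroup G) : Set G)).comap f := by
    refine le_antisymm (fun g hg => Subgroup.le_normalizer_map f ⟨g, hg, rfl⟩) fun g hg => ?_
    rw [Subgroup.mem_normalizer_iff]
    intro x
    refine ⟨key g hg x, fun hx => ?_⟩
    have := key g⁻¹ (by rw [map_inv]; exact Subgroup.inv_mem _ hg) _ hx
    simpa [mul_assoc] using this
  rw [hN]
  refine coatom_comap hf (d.normalizer_coatom fun hn => hH ⟨fun x hx g => key g ?_ x hx⟩)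
  rw [Subgroup.normalizer_eq_top_iff.mpr hn]
  trivial

theorem sl_coatom (H : Subgroup (Matrix.SpecialLinearGroup (Fin 2) (ZMod 13))) (hH : ¬ H.Normal) :
    IsCoatom (Subgroup.normalizer (H : Set (Matrix.SpecialLinearGroup (Fin 2) (ZMod 13)))) := by
  haveI : Finite (Matrix.ProjectiveSpecialLinearGroup (Fin 2) (ZMod 13)) :=
    Finite.of_surjective _ (QuotientGroup.mk'_surjective (Subgroup.center (Matrix.SpecialLinearGroup (Fin 2) (ZMod 13))))
  have h2 : (2 : ZMod 13) ≠ 0 := by decide
  refine lift data_psl (QuotientGroup.mk'_surjective (Subgroup.center _)) (-1) (fun x => ?_) (by simp)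
    (fun x hx => (em (x = 1)).imp_right (sl_involution h2 hx)) H hH
  rw [QuotientGroup.mk'_apply, QuotientGroup.eq_one_iff]
  constructor
  · intro hx
    obtain ⟨r, hr, hr'⟩ := Matrix.SpecialLinearGroup.mem_center_iff.mp hx
    rw [Fintype.card_fin] at hr
    rcases mul_self_eq_one_iff.mp (show r * r = 1 by rw [← hr, pow_two]) with e | e
    · exact Or.inl (Subtype.ext (by rw [← hr', e]; simp))
    · refine Or.inr (Subtype.ext ?_)
      rw [← hr', e]
      ext i j
      fin_cases i <;> fin_cases j <;> simp [Matrix.diagonal]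
  · rintro (rfl | rfl)
    · exact Subgroup.one_mem _
    · rw [Subgroup.mem_center_iff]
      simp

theorem of_equiv {K L : Type*} [Group K] [Group L] (e : K ≃* L)
    (h : ∀ H : Subgroup L, ¬ H.Normal → IsCoatom (Subgroup.normalizer (H : Set L))) (H : Subgroup K) (hH : ¬ H.Normal) :
    IsCoatom (Subgroup.normalizer (H : Set K)) := by
  have h1 := h (H.map e.toMonoidHom) fun hn => hH (by
    have := Subgroup.Normal.comap hn e.toMonoidHom
    rwa [Subgroup.comap_map_eq_self_of_injective e.injective] at this)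
  rw [← Subgroup.map_equiv_normalizer_eq] at h1
  exact (OrderIso.isCoatom_iff e.mapSubgroup _).mp h1

theorem main {K S : Type*} [Group K] [CommGroup S] [Finite K] [Finite S]
    (hK : Nonempty (K ≃* Matrix.ProjectiveSpecialLinearGroup (Fin 2) (ZMod 13)) ∨
      Nonempty (K ≃* Matrix.SpecialLinearGroup (Fin 2) (ZMod 13)))
    (hKS : (Nat.card K).Coprime (Nat.card S)) (H : Subgroup (K × S)) (hH : ¬ H.Normal) :
    IsCoatom (Subgroup.normalizer (H : Set (K × S))) := by
  have hK' : ∀ A : Subgroup K, ¬ A.Normal → IsCoatom (Subgroup.normalizer (A : Set K)) := by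
    haveI : Finite (Matrix.ProjectiveSpecialLinearGroup (Fin 2) (ZMod 13)) :=
      Finite.of_surjective _ (QuotientGroup.mk'_surjective (Subgroup.center (Matrix.SpecialLinearGroup (Fin 2) (ZMod 13))))
    rcases hK with h | h <;> obtain ⟨e⟩ := h
    · exact of_equiv e fun A hA => data_psl.normalizer_coatom hA
    · exact of_equiv e sl_coatom
  have hsplit : ∀ k : K, ∀ s : S, (k, s) ∈ H → (k, (1 : S)) ∈ H := by
    intro k s hks
    set m := Nat.card S
    have h1 : ((k ^ m, (1 : S)) : K × S) ∈ H := by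
      have := H.pow_mem hks m
      rwa [Prod.pow_mk, pow_card_eq_one'] at this
    obtain ⟨i, hi⟩ := exists_pow_eq_self_of_coprime (x := k) (n := m)
      (hKS.symm.coprime_dvd_right (orderOf_dvd_natCard k))
    have := H.pow_mem h1 i
    rwa [Prod.pow_mk, hi, one_pow] at this
  let A : Subgroup K := H.comap (MonoidHom.inl K S)
  have key : ∀ g : K, g ∈ Subgroup.normalizer (A : Set K) → ∀ t : S, ∀ x ∈ H, (g, t) * x * (g, t)⁻¹ ∈ H := by
    rintro g hg t ⟨k, s⟩ hx
    have h1 : (g * k * g⁻¹, (1 : S)) ∈ H := (Subgroup.mem_normalizer_iff.mp hg k).mp (hsplit k s hx)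
    have h2 : ((1 : K), s) ∈ H := by
      have := H.mul_mem (H.inv_mem (hsplit k s hx)) hx
      simpa using this
    convert H.mul_mem h1 h2 using 1
    simp [mul_comm t s]
  have hN : Subgroup.normalizer (H : Set (K × S)) = (Subgroup.normalizer (A : Set K)).comap (MonoidHom.fst K S) := by
    refine le_antisymm ?_ ?_
    · rintro ⟨g, t⟩ hg
      rw [Subgroup.mem_comap, Subgroup.mem_normalizer_iff]
      intro k
      have := Subgroup.mem_normalizer_iff.mp hg (k, 1)
      simpa [A] using this
    · rintro ⟨g, t⟩ hg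
      rw [Subgroup.mem_normalizer_iff]
      intro x
      refine ⟨key g hg t x, fun hx => ?_⟩
      have := key g⁻¹ (Subgroup.inv_mem _ hg) t⁻¹ _ hx
      rwa [← Prod.inv_mk, inv_inv, mul_assoc (g, t) x, inv_mul_cancel_left, mul_assoc, inv_mul_cancel, mul_one] at this
  rw [hN]
  refine coatom_comap Prod.fst_surjective (hK' A fun hn => hH ⟨fun x hx g => key g.1 ?_ g.2 x hx⟩)
  rw [Subgroup.normalizer_eq_top_iff.mpr hn]
  trivial

end Cfsg.Lib.Known.PSLThirteen
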