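import Cfsg.Agent.Components.Module.UnitaryThree
import Cfsg.Agent.Classical.Unitary.IsoLines

/-!
The special unitary group of dimension three over 25 elements has no proper subgroup of index below fifty:
such a subgroup contains every root group.
-/

set_option autoImplicit false
set_option linter.style.haveILetI false
set_option maxHeartbeats 1000000

namespace Cfsg.Lib.Known.UThreeFive

open Cfsg.Lib.Classical Cfsg.Lib.Components.UnitaryThree

variable {F : Type*} [Field F] [Fintype F] (hF : Fintype.card F = 5 ^ 2)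

/-- The Hermitian space. -/
noncomputable abbrev HS : HermSpace F (Fin 3 → F) := stdHerm 3 hF

theorem hd : Module.finrank F (Fin 3 → F) = 3 := Module.finrank_fin_fun F

theorem σ_apply (x : F) : (HS hF).σ x = x ^ 5 := powConj_apply hF x

theorem card_S : Nat.card (HS hF).SIsom = 378000 := by
  have h := card_SU_mul hF (n := 3) (by norm_num)
  rw [← Nat.card_congr (suEquiv 3 hF).toEquiv] at h
  rw [show cardGUFormula 5 3 = 2268000 by decide +kernel] at h
  have h' : 6 * Nat.card (HS hF).SIsom = 2268000 := h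
  omega

instance finite_S : Finite (HS hF).SIsom :=
  Nat.finite_of_card_ne_zero (by rw [card_S hF]; norm_num)

instance finite_isoPt : Finite (HS hF).IsoPt := Subtype.finite

theorem card_isoPt : Nat.card (HS hF).IsoPt * 24 ≤ 3024 := by
  classical
  have hu : Nat.card Fˣ = 24 := by rw [Nat.card_units, Nat.card_eq_fintype_card, hF]; norm_num
  have hz := card_iso_nonzero hF 3
  rw [if_neg (by decide)] at hz
  norm_num at hz
  rw [← hu, ← Nat.card_prod, ← hz]
  rw [Nat.card_eq_fintype_card (α := {x : Fin 3 → F // Cfsg.hermForm 3 F 5 x x = 0 ∧ x ≠ 0}) |>.symm]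
  refine Nat.card_le_card_of_injective
    (β := {x : Fin 3 → F // Cfsg.hermForm 3 F 5 x x = 0 ∧ x ≠ 0})
    (fun x : (HS hF).IsoPt × Fˣ => ⟨(x.2 : F) • x.1.1.rep, ?_, ?_⟩) ?_
  · rw [← stdHerm_h hF, (HS hF).smul_left, (HS hF).smul_right, x.1.2, mul_zero, mul_zero]
  · exact smul_ne_zero x.2.ne_zero x.1.1.rep_nonzero
  · rintro ⟨p, a⟩ ⟨p', a'⟩ h
    have e : (a : F) • p.1.rep = (a' : F) • p'.1.rep := congrArg Subtype.val h
    have hp : p = p' := by
      refine Subtype.ext ?_
      rw [← Projectivization.mk_rep p.1, ← Projectivization.mk_rep p'.1, Projectivization.mk_eq_mk_iff']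
      exact ⟨(a : F)⁻¹ * a', by rw [mul_smul, ← e, smul_smul, inv_mul_cancel₀ a.ne_zero, one_smul]⟩
    subst hp
    exact Prod.ext rfl (Units.ext (smul_left_injective F p.1.rep_nonzero e))

section
variable (B : Frame (HS hF))

/-- The factor at the first vector. -/
noncomputable def ea (g : (HS hF).SIsom) : F := (HS hF).h (g.1.1 B.e) B.f
/-- The factor at the middle vector. -/
noncomputable def ed (g : (HS hF).SIsom) : F := (HS hF).h (g.1.1 B.w) B.w
/-- The coefficient of the first vector in the image of the middle one. -/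
noncomputable def eb (g : (HS hF).SIsom) : F := (HS hF).h (g.1.1 B.w) B.f
/-- The coefficient of the first vector in the image of the last one. -/
noncomputable def ec (g : (HS hF).SIsom) : F := (HS hF).h (g.1.1 B.f) B.f
/-- The coefficient of the middle vector in the image of the last one. -/
noncomputable def em (g : (HS hF).SIsom) : F := (HS hF).h (g.1.1 B.f) B.w
/-- The factor at the last vector. -/
noncomputable def en (g : (HS hF).SIsom) : F := (HS hF).h (g.1.1 B.f) B.e

theorem coords {g : (HS hF).SIsom} (hg : ∃ a : F, g.1.1 B.e = a • B.e) :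
    g.1.1 B.e = ea hF B g • B.e ∧ ea hF B g ≠ 0 ∧ g.1.1 B.w = eb hF B g • B.e + ed hF B g • B.w ∧
    g.1.1 B.f = ec hF B g • B.e + em hF B g • B.w + en hF B g • B.f := by
  obtain ⟨a, ha⟩ := hg
  have ea' : ea hF B g = a := by rw [ea, ha, (HS hF).smul_left, B.ef, mul_one]
  have ha0 : a ≠ 0 := fun h => by
    rw [h, zero_smul] at ha
    exact (HS hF).isom_ne_zero g.1 B.e_ne ha
  refine ⟨by rw [ea', ha], ea' ▸ ha0, ?_, decomp hd B _⟩
  have h0 : (HS hF).h (g.1.1 B.w) B.e = 0 := by
    have h := (HS hF).map_form g.1 B.w B.e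
    rw [B.we, ha, (HS hF).smul_right] at h
    exact (mul_eq_zero.1 h).resolve_left ((map_ne_zero _).2 ha0)
  conv_lhs => rw [decomp hd B (g.1.1 B.w)]
  rw [h0, zero_smul, add_zero]
  rfl

theorem relations {g : (HS hF).SIsom} (hg : ∃ a : F, g.1.1 B.e = a • B.e) :
    ea hF B g * en hF B g ^ 5 = 1 ∧ ed hF B g ^ 6 = 1 ∧ ea hF B g * ed hF B g * en hF B g = 1 ∧
    em hF B g * ed hF B g ^ 5 + en hF B g * eb hF B g ^ 5 = 0 := by
  obtain ⟨he, -, hw, hf⟩ := coords hF B hg
  have hh := (HS hF).map_form g.1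
  refine ⟨?_, ?_, ?_, ?_⟩
  · have h := hh B.e B.f
    rw [B.ef, he, hf] at h
    simpa [(HS hF).smul_left, (HS hF).smul_right, (HS hF).add_right, B.ee, B.ew, B.ef, σ_apply hF] using h
  · have h := hh B.w B.w
    rw [B.ww, hw] at h
    simp [(HS hF).smul_left, (HS hF).smul_right, (HS hF).add_left, (HS hF).add_right, B.ee, B.ew, B.we, B.ww,
      σ_apply hF] at h
    rw [pow_succ']
    linear_combination h
  · have h := det_frame hd B g.1.1.toLinearMap
    rw [det_one g] at h
    simp only [LinearEquiv.coe_coe] at h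
    rw [he, hw] at h
    simp [Matrix.det_fin_three, (HS hF).smul_left, (HS hF).add_left, B.ee, B.ew, B.ef, B.we, B.ww, B.wf] at h
    rw [en]
    linear_combination -h
  · have h := hh B.f B.w
    rw [B.fw, hf, hw] at h
    simp [(HS hF).smul_left, (HS hF).smul_right, (HS hF).add_left, (HS hF).add_right, B.ee, B.ew, B.we, B.ww,
      B.fe, B.fw, σ_apply hF] at h
    linear_combination h

theorem unipotent {g : (HS hF).SIsom} (hg : g.1.1 B.e = B.e) :
    g.1.1 B.w = eb hF B g • B.e + B.w ∧
      g.1.1 B.f = ec hF B g • B.e + (-(eb hF B g ^ 5)) • B.w + B.f := by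
  have hg' : ∃ a : F, g.1.1 B.e = a • B.e := ⟨1, by rw [one_smul, hg]⟩
  obtain ⟨he, -, hw, hf⟩ := coords hF B hg'
  obtain ⟨r1, r2, r3, r4⟩ := relations hF B hg'
  have ha : ea hF B g = 1 := by rw [ea, hg, B.ef]
  have hn : en hF B g = 1 := by
    have h := (HS hF).map_form g.1 B.f B.e
    rw [hg, B.fe] at h
    exact h
  rw [ha, hn, one_mul, mul_one] at r3
  rw [hn, r3, one_pow, mul_one, one_mul] at r4
  rw [r3, one_smul] at hw
  rw [hn, one_smul, show em hF B g = -(eb hF B g ^ 5) by linear_combination r4] at hf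
  exact ⟨hw, hf⟩

theorem eb_mul {g k : (HS hF).SIsom} (hg : g.1.1 B.e = B.e) (hk : k.1.1 B.e = B.e) :
    eb hF B (g * k) = eb hF B g + eb hF B k ∧
      ec hF B (g * k) = ec hF B g + ec hF B k - eb hF B k ^ 5 * eb hF B g := by
  obtain ⟨g1, g2⟩ := unipotent hF B hg
  obtain ⟨k1, k2⟩ := unipotent hF B hk
  refine ⟨?_, ?_⟩
  · rw [eb, (HS hF).smul_mul_apply, k1, map_add, map_smul, hg, (HS hF).add_left, (HS hF).smul_left, B.ef,
      mul_one, ← eb]
    ring
  · rw [ec, (HS hF).smul_mul_apply, k2, map_add, map_add, map_smul, map_smul, hg, g1, g2]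
    simp [(HS hF).add_left, (HS hF).smul_left, (HS hF).neg_left, B.ef, B.wf, B.ff]
    ring

theorem mem_root_of_eb {g : (HS hF).SIsom} (hg : g.1.1 B.e = B.e) (hb : eb hF B g = 0) :
    g ∈ (HS hF).rootGroup B.ee := by
  obtain ⟨g1, g2⟩ := unipotent hF B hg
  rw [hb] at g1 g2
  simp only [zero_smul, zero_add, zero_pow (by norm_num : (5 : ℕ) ≠ 0), neg_zero, add_zero] at g1 g2
  have hc : ec hF B g + (HS hF).σ (ec hF B g) = 0 := by
    have h := (HS hF).map_form g.1 B.f B.f
    rw [B.ff, g2] at h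
    simp [(HS hF).smul_left, (HS hF).smul_right, (HS hF).add_left, (HS hF).add_right, B.ee, B.ef, B.fe, B.ff] at h
    linear_combination h
  refine ⟨_, hc, congrArg Subtype.val ((HS hF).sisom_ext (g := g) (h := (HS hF).sT B.ee hc) fun x => ?_)⟩
  rw [(HS hF).sT_apply]
  conv_lhs => rw [decomp hd B x]
  conv_rhs => arg 1; rw [decomp hd B x]
  rw [map_add, map_add, map_smul, map_smul, map_smul, hg, g1, g2]
  module

include hF in
theorem card_root_le {v : Fin 3 → F} (hv : (HS hF).h v v = 0) : Nat.card ((HS hF).rootGroup hv) ≤ 5 := by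
  classical
  let P : Polynomial F := Polynomial.X ^ 5 + Polynomial.X
  have hP : P.natDegree = 5 := by
    simp only [P]
    rw [Polynomial.natDegree_add_eq_left_of_natDegree_lt] <;> simp
  have hP0 : P ≠ 0 := fun h => by rw [h, Polynomial.natDegree_zero] at hP; norm_num at hP
  have hmem : ∀ g : (HS hF).rootGroup hv, ∃ c : P.roots.toFinset, ∃ hc : (c : F) + (HS hF).σ c = 0,
      g.1.1 = (HS hF).uT hv hc := by
    rintro ⟨g, c, hc, e⟩
    refine ⟨⟨c, ?_⟩, hc, e⟩
    rw [Multiset.mem_toFinset, Polynomial.mem_roots hP0]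
    rw [σ_apply hF] at hc
    simp [P, Polynomial.IsRoot.def, ← hc, add_comm]
  choose f hf hfe using hmem
  refine (Nat.card_le_card_of_injective f fun a b e => Subtype.ext (Subtype.ext ?_)).trans ?_
  · rw [hfe a, hfe b]
    exact (HS hF).isom_ext fun x => by simp only [HermSpace.uT_apply, e]
  · rw [Nat.card_eq_fintype_card, Fintype.card_coe]
    exact (Multiset.toFinset_card_le _).trans ((Polynomial.card_roots' P).trans hP.le)

include hF in
theorem five_cast (x : F) : 5 * x = 0 := by
  haveI : Fact (Nat.Prime 5) := ⟨by norm_num⟩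
  have h : (5 : F) = 0 := by
    have h1 : ((Fintype.card F : ℕ) : F) = 0 := Nat.cast_card_eq_zero F
    rw [hF] at h1
    rw [Nat.cast_pow, Nat.cast_ofNat] at h1
    exact pow_eq_zero_iff two_ne_zero |>.1 h1
  rw [h, zero_mul]

end

theorem root_le {K : Subgroup (HS hF).SIsom} {v : Fin 3 → F} (hv : (HS hF).h v v = 0)
    {g : (HS hF).SIsom} (hgK : g ∈ K) (hgR : g ∈ (HS hF).rootGroup hv) (hg1 : g ≠ 1) :
    (HS hF).rootGroup hv ≤ K := by
  haveI : Fact (Nat.Prime 5) := ⟨by norm_num⟩
  obtain ⟨c, hc, e⟩ := hgR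
  have hpow : ∀ n : ℕ, ∀ x, (g ^ n).1.1 x = x + ((n : F) * c * (HS hF).h x v) • v := by
    intro n
    induction n with
    | zero => intro x; simp
    | succ n ih =>
      intro x
      rw [pow_succ', (HS hF).smul_mul_apply, ih]
      show g.1.1 _ = _
      rw [e, HermSpace.uT_apply, (HS hF).add_left, (HS hF).smul_left, hv, Nat.cast_succ]
      module
  have h5 : g ^ 5 = 1 := (HS hF).sisom_ext fun x => by
    rw [hpow, Nat.cast_ofNat, five_cast hF c, zero_mul, zero_smul, add_zero]
    rfl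
  have ho : orderOf g = 5 := orderOf_eq_prime h5 hg1
  have hle : Subgroup.zpowers g ≤ (HS hF).rootGroup hv := Subgroup.zpowers_le.2 ⟨c, hc, e⟩
  have heq := Subgroup.eq_of_le_of_card_ge hle
    ((card_root_le hF hv).trans (by rw [Nat.card_zpowers, ho]))
  rw [← heq]
  exact Subgroup.zpowers_le.2 hgK

theorem torus_twelve (B : Frame (HS hF)) {G Kk : (HS hF).SIsom} (hG : ∃ a : F, G.1.1 B.e = a • B.e)
    (hK : Kk.1.1 B.e = B.e) (hK' : (G * Kk * G⁻¹).1.1 B.e = B.e) (hb : eb hF B Kk ≠ 0) (j : ℤ)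
    (hbj : eb hF B (G * Kk * G⁻¹) = (j : F) * eb hF B Kk) : ea hF B G ^ 12 = 1 := by
  obtain ⟨gee, ga0, gw, -⟩ := coords hF B hG
  obtain ⟨kw, -⟩ := unipotent hF B hK
  obtain ⟨k'w, -⟩ := unipotent hF B hK'
  have key : ea hF B G * eb hF B Kk = ed hF B G * ((j : F) * eb hF B Kk) := by
    have e : (G * Kk).1.1 B.w = ((G * Kk * G⁻¹) * G).1.1 B.w := by rw [inv_mul_cancel_right]
    rw [(HS hF).smul_mul_apply, (HS hF).smul_mul_apply (G * Kk * G⁻¹) G, kw, gw, map_add, map_smul, gee,
      gw, map_add, map_smul, map_smul, hK', k'w, hbj] at e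
    have := congrArg (fun x => (HS hF).h x B.f) e
    simp [(HS hF).add_left, (HS hF).smul_left, B.ef, B.wf] at this
    linear_combination this
  have haj : ea hF B G = ed hF B G * (j : F) := by
    refine mul_right_cancel₀ hb ?_
    linear_combination key
  have hj5 : (j : F) ^ 5 = (j : F) := by
    have h := map_intCast (HS hF).σ j
    rwa [σ_apply hF] at h
  obtain ⟨r1, r2, r3, -⟩ := relations hF B hG
  have hj0 : (j : F) ≠ 0 := fun h => ga0 (by rw [haj, h, mul_zero])
  have hj4 : (j : F) ^ 4 = 1 := mul_left_cancel₀ hj0 (by rw [mul_one, ← pow_succ']; exact hj5)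
  have h4 : ea hF B G ^ 4 = ed hF B G ^ 4 := by rw [haj, mul_pow, hj4, mul_one]
  have h49 : ed hF B G ^ 9 = 1 := by
    have hn5 : (ea hF B G * ed hF B G) ^ 5 * en hF B G ^ 5 = 1 := by rw [← mul_pow, r3, one_pow]
    have : ea hF B G ^ 4 * ed hF B G ^ 5 = 1 := by
      linear_combination hn5 - ea hF B G ^ 4 * ed hF B G ^ 5 * r1
    rw [h4] at this
    linear_combination this
  have h3 : ed hF B G ^ 3 = 1 := by linear_combination h49 - ed hF B G ^ 3 * r2
  rw [show 12 = 4 * 3 from rfl, pow_mul, h4, ← pow_mul, show 4 * 3 = 3 * 4 from rfl, pow_mul, h3, one_pow]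

theorem commute_fixed (B : Frame (HS hF)) {g k : (HS hF).SIsom} (hg : g.1.1 B.e = B.e) (hk : k.1.1 B.e = B.e)
    (h : g * k = k * g) (hb : eb hF B g = 1) : (HS hF).σ (eb hF B k) = eb hF B k := by
  have e := congrArg (ec hF B) h
  rw [(eb_mul hF B hg hk).2, (eb_mul hF B hk hg).2, hb] at e
  rw [σ_apply hF]
  linear_combination -e

/-- The stabiliser of the first vector. -/
noncomputable def fixE (B : Frame (HS hF)) : Subgroup (HS hF).SIsom where
  carrier := {g | g.1.1 B.e = B.e}
  mul_mem' := by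
    intro g k hg hk
    show (g * k).1.1 B.e = B.e
    rw [(HS hF).smul_mul_apply, show k.1.1 B.e = B.e from hk, show g.1.1 B.e = B.e from hg]
  one_mem' := rfl
  inv_mem' := by
    intro g hg
    show (g⁻¹).1.1 B.e = B.e
    conv_lhs => rw [← show g.1.1 B.e = B.e from hg]
    exact (HS hF).inv_apply_self g.1 _

/-- The translation part. -/
noncomputable def bHom (B : Frame (HS hF)) (N : Subgroup (HS hF).SIsom) (hN : N ≤ fixE hF B) :
    N →* Multiplicative F :=
  MonoidHom.mk' (fun g => Multiplicative.ofAdd (eb hF B g.1))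
    fun g k => congrArg Multiplicative.ofAdd (eb_mul hF B (hN g.2) (hN k.2)).1

theorem bHom_apply (B : Frame (HS hF)) (N : Subgroup (HS hF).SIsom) (hN : N ≤ fixE hF B) (g : N) :
    Multiplicative.toAdd (bHom hF B N hN g) = eb hF B g.1 := rfl

theorem root_le_or_inj (B : Frame (HS hF)) {K N : Subgroup (HS hF).SIsom} (hN : N ≤ fixE hF B) (hNK : N ≤ K) :
    (HS hF).rootGroup B.ee ≤ K ∨ Function.Injective (bHom hF B N hN) := by
  by_cases h : ∃ g : N, g ≠ 1 ∧ bHom hF B N hN g = 1
  · obtain ⟨g, hg1, hg⟩ := h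
    exact Or.inl (root_le hF B.ee (hNK g.2) (mem_root_of_eb hF B (hN g.2) (congrArg Multiplicative.toAdd hg))
      fun e => hg1 (Subtype.ext e))
  · refine Or.inr ((injective_iff_map_eq_one _).2 fun g hg => ?_)
    by_contra hne
    exact h ⟨g, hne, hg⟩

include hF in
theorem card_mult : Nat.card (Multiplicative F) = 25 := by
  rw [Nat.card_congr Multiplicative.toAdd, Nat.card_eq_fintype_card, hF]; norm_num

theorem five_case (B : Frame (HS hF)) (N : Subgroup (HS hF).SIsom) (hN : N ≤ fixE hF B)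
    (hinj : Function.Injective (bHom hF B N hN)) (h5 : Nat.card N = 5) {G : (HS hF).SIsom}
    (hG : ∃ a : F, G.1.1 B.e = a • B.e) (hnorm : ∀ k ∈ N, G * k * G⁻¹ ∈ N) : ea hF B G ^ 12 = 1 := by
  haveI : Fact (Nat.Prime 5) := ⟨by norm_num⟩
  haveI : Nontrivial N := Finite.one_lt_card_iff_nontrivial.1 (by rw [h5]; norm_num)
  obtain ⟨k, hk⟩ := exists_ne (1 : N)
  have hb0 : eb hF B k.1 ≠ 0 := fun h => hk (hinj (by
    rw [map_one]
    exact congrArg Multiplicative.ofAdd h))
  have ho : orderOf k = 5 := by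
    refine ((Nat.dvd_prime (by norm_num)).1 (h5 ▸ orderOf_dvd_natCard k)).resolve_left fun h => hk ?_
    exact orderOf_eq_one_iff.1 h
  have hz : Subgroup.zpowers k = ⊤ := Subgroup.eq_top_of_card_eq _ (by rw [Nat.card_zpowers, ho, h5])
  obtain ⟨j, hj⟩ : (⟨G * k.1 * G⁻¹, hnorm k.1 k.2⟩ : N) ∈ Subgroup.zpowers k := hz ▸ Subgroup.mem_top _
  have hbj : eb hF B (G * k.1 * G⁻¹) = (j : F) * eb hF B k.1 := by
    have h := congrArg (fun x => Multiplicative.toAdd (bHom hF B N hN x)) hj
    simp only [map_zpow, toAdd_zpow, zsmul_eq_mul, bHom_apply] at h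
    exact h.symm
  exact torus_twelve hF B hG (hN k.2) (hN (hnorm k.1 k.2)) hb0 j hbj

theorem big_case (B : Frame (HS hF)) (N : Subgroup (HS hF).SIsom) (hN : N ≤ fixE hF B)
    (hinj : Function.Injective (bHom hF B N hN)) (h25 : Nat.card N = 25) : False := by
  have htop : (bHom hF B N hN).range = ⊤ := Subgroup.eq_top_of_card_eq _ (by
    rw [← Nat.card_congr (MonoidHom.ofInjective hinj).toEquiv, h25, card_mult hF])
  obtain ⟨l, hl⟩ := (HS hF).conj.ne_id
  obtain ⟨g, hg⟩ : Multiplicative.ofAdd (1 : F) ∈ (bHom hF B N hN).range := htop ▸ Subgroup.mem_top _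
  obtain ⟨k, hk⟩ : Multiplicative.ofAdd l ∈ (bHom hF B N hN).range := htop ▸ Subgroup.mem_top _
  have e : g * k = k * g := hinj (by rw [map_mul, map_mul, mul_comm])
  have h := commute_fixed hF B (hN g.2) (hN k.2) (congrArg Subtype.val e) (congrArg Multiplicative.toAdd hg)
  rw [show eb hF B k.1 = l from congrArg Multiplicative.toAdd hk] at h
  exact hl h

theorem root_of_big {K : Subgroup (HS hF).SIsom} (hK : 7560 < Nat.card K) (p : (HS hF).IsoPt) :
    (HS hF).rootGroup p.2 ≤ K := by
  classical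
  obtain ⟨B, hB⟩ := exists_frame hd p.1.rep_nonzero p.2
  rw [← (HS hF).rootGroup_congr B.ee p.2 hB]
  set L : Subgroup (HS hF).SIsom := K ⊓ MulAction.stabilizer (HS hF).SIsom p
  have hL : 60 < Nat.card L := by
    have h1 : Nat.card L * L.relIndex K = Nat.card K := by
      rw [← Subgroup.relIndex_bot_left L, Subgroup.relIndex_mul_relIndex _ _ _ bot_le inf_le_left,
        Subgroup.relIndex_bot_left]
    have h2 : L.relIndex K ≤ Nat.card (HS hF).IsoPt := by
      rw [show L.relIndex K = (MulAction.stabilizer (HS hF).SIsom p).relIndex K from Subgroup.inf_relIndex_left _ _,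
        Subgroup.relIndex, show (MulAction.stabilizer (HS hF).SIsom p).subgroupOf K = MulAction.stabilizer K p from
          Subgroup.ext fun x => Iff.rfl, MulAction.index_stabilizer, ← Set.ncard_univ]
      exact Set.ncard_le_ncard (Set.subset_univ _) (Set.toFinite _)
    have h3 := card_isoPt hF
    nlinarith
  have hstab : ∀ g : L, ∃ a : F, g.1.1.1 B.e = a • B.e := by
    intro g
    have h : g.1 • p = p := g.2.2
    obtain ⟨x, hx, hxx, rfl⟩ : ∃ x hx hxx, p = (HS hF).isoMk x hx hxx :=
      ⟨_, p.1.rep_nonzero, p.2, Subtype.ext (Projectivization.mk_rep p.1).symm⟩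
    rw [HermSpace.smul_isoMk, HermSpace.isoMk_eq_iff] at h
    obtain ⟨a, ha⟩ := h
    obtain ⟨t, ht⟩ := Projectivization.exists_smul_eq_mk_rep F x hx
    refine ⟨a, ?_⟩
    rw [hB, show ((HS hF).isoMk x hx hxx).1.rep = (t : F) • x from ht.symm, map_smul, ← ha]
    module
  let A : L →* F :=
    { toFun := fun g => ea hF B g.1
      map_one' := B.ef
      map_mul' := fun g k => by
        obtain ⟨he, -⟩ := coords hF B (hstab g)
        obtain ⟨he', -⟩ := coords hF B (hstab k)
        show ea hF B (g.1 * k.1) = _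
        rw [ea, (HS hF).smul_mul_apply, he', map_smul, he, (HS hF).smul_left, (HS hF).smul_left, B.ef]
        ring }
  let α : L →* Fˣ := MonoidHom.toHomUnits A
  set N : Subgroup (HS hF).SIsom := L ⊓ fixE hF B
  have hker : α.ker = N.subgroupOf L := by
    ext g
    rw [MonoidHom.mem_ker, Subgroup.mem_subgroupOf]
    obtain ⟨he, -⟩ := coords hF B (hstab g)
    constructor
    · intro h
      refine ⟨g.2, ?_⟩
      show g.1.1.1 B.e = B.e
      rw [he, show ea hF B g.1 = 1 from congrArg Units.val h, one_smul]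
    · intro h
      refine Units.ext ?_
      show ea hF B g.1 = 1
      rw [ea, show g.1.1.1 B.e = B.e from h.2, B.ef]
  have hu : Nat.card Fˣ = 24 := by rw [Nat.card_units, Nat.card_eq_fintype_card, hF]; norm_num
  have hsplit : Nat.card N * Nat.card α.range = Nat.card L := by
    rw [← Subgroup.index_ker, hker, ← Nat.card_congr (Subgroup.subgroupOfEquivOfLe (inf_le_left : N ≤ L)).toEquiv]
    exact Subgroup.card_mul_index _
  rcases root_le_or_inj hF B (N := N) inf_le_right (inf_le_left.trans inf_le_left) with h | hinj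
  · exact h
  exfalso
  have hrange : Nat.card α.range ≤ 24 := hu ▸ Subgroup.card_le_card_group _
  have hdiv : Nat.card N ∣ 5 ^ 2 := by
    rw [Nat.card_congr (MonoidHom.ofInjective hinj).toEquiv]
    exact (Subgroup.card_subgroup_dvd_card _).trans (by rw [card_mult hF]; norm_num)
  obtain ⟨i, hi, hNi⟩ := (Nat.dvd_prime_pow (by norm_num : Nat.Prime 5)).1 hdiv
  interval_cases i
  · rw [hNi] at hsplit; omega
  · obtain ⟨t, ht⟩ : Nat.card α.range ∣ 24 := hu ▸ Subgroup.card_subgroup_dvd_card α.range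
    have h13 : 12 < Nat.card α.range := by rw [hNi] at hsplit; omega
    have hr : Nat.card α.range = 24 := by
      rcases t with _ | _ | t <;> [omega; omega; nlinarith]
    have hsurj : α.range = ⊤ := Subgroup.eq_top_of_card_eq _ (hr.trans hu.symm)
    obtain ⟨u, hu'⟩ := IsCyclic.exists_generator (α := Fˣ)
    obtain ⟨g, hg⟩ : u ∈ α.range := hsurj ▸ Subgroup.mem_top u
    have hnorm : ∀ k ∈ N, g.1 * k * g.1⁻¹ ∈ N := by
      intro k hk
      have h := (inferInstance : α.ker.Normal).conj_mem ⟨k, hk.1⟩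
        (hker ▸ Subgroup.mem_subgroupOf.2 hk) g
      rw [hker, Subgroup.mem_subgroupOf] at h
      exact h
    have h12 := five_case hF B N inf_le_right hinj (hNi.trans (pow_one 5)) (hstab g) hnorm
    have hu12 : u ^ 12 = 1 := Units.ext (by
      rw [Units.val_pow_eq_pow_val, ← hg]
      exact h12)
    have := orderOf_dvd_of_pow_eq_one hu12
    rw [orderOf_eq_card_of_forall_mem_zpowers hu', hu] at this
    norm_num at this
  · exact big_case hF B N inf_le_right hinj (hNi.trans (by norm_num))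

theorem top_of_big {K : Subgroup (HS hF).SIsom} (hK : 7560 < Nat.card K) : K = ⊤ := by
  have hq : 3 ≤ (HS hF).q := by rw [stdHerm_q]; norm_num
  rw [eq_top_iff, ← ((HS hF).unitaryIwasawa (Or.inr ⟨hd, hq⟩)).is_generator]
  exact iSup_le fun p => root_of_big hF hK p

end Cfsg.Lib.Known.UThreeFive
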