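import Mathlib
import Cfsg.Prelude.Def_LocalEven
import Cfsg.Prelude.Def_Classical

/-!
`Qd p` is not a section of a three-dimensional unitary group in odd defining characteristic `p`.
-/

set_option autoImplicit false
set_option linter.unusedSectionVars false
set_option linter.style.haveILetI false

namespace Cfsg.Lib.Known.PSUThreeQd

open Matrix

/-- The 2×2 block of an element of `qd p`. -/
theorem qd_row {p : ℕ} [Fact p.Prime] (u : ↥(Cfsg.qd p)) :
    (u.1 : Matrix (Fin 3) (Fin 3) (ZMod p)) 2 0 = 0 ∧ (u.1 : Matrix (Fin 3) (Fin 3) (ZMod p)) 2 1 = 0 ∧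
      (u.1 : Matrix (Fin 3) (Fin 3) (ZMod p)) 2 2 = 1 := by
  suffices h : ∀ v ∈ Cfsg.qd p, (v : Matrix (Fin 3) (Fin 3) (ZMod p)) 2 0 = 0 ∧
      (v : Matrix (Fin 3) (Fin 3) (ZMod p)) 2 1 = 0 ∧ (v : Matrix (Fin 3) (Fin 3) (ZMod p)) 2 2 = 1 from h u.1 u.2
  intro v hv
  induction hv using Subgroup.closure_induction with
  | mem x hx => exact hx
  | one => simp
  | mul x y _ _ hx hy =>
    simp [Matrix.mul_apply, Fin.sum_univ_three, hx.1, hx.2.1, hx.2.2, hy.1, hy.2.1, hy.2.2]
  | inv x _ hx =>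
    have e : ∀ j, ((x : Matrix (Fin 3) (Fin 3) (ZMod p)) * (x⁻¹ : Matrix.SpecialLinearGroup (Fin 3) (ZMod p))) 2 j =
        (1 : Matrix (Fin 3) (Fin 3) (ZMod p)) 2 j := fun j => by
      rw [← Matrix.SpecialLinearGroup.coe_mul, mul_inv_cancel, Matrix.SpecialLinearGroup.coe_one]
    simp only [Matrix.mul_apply, Fin.sum_univ_three, hx.1, hx.2.1, hx.2.2, zero_mul, zero_add, one_mul] at e
    exact ⟨(e 0).trans (by simp), (e 1).trans (by simp), (e 2).trans (by simp)⟩

/-- Powers of a unipotent matrix in characteristic `p ≥ 3`. -/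
theorem pow_eq_one_of_cube {ι R : Type*} [Fintype ι] [DecidableEq ι] [CommRing R] {p : ℕ} [Fact p.Prime] [CharP R p]
    (hp : 3 ≤ p) [Nonempty ι] {M : Matrix ι ι R} (h : (M - 1) ^ 3 = 0) : M ^ p = 1 := by
  have h1 : (M - 1) ^ p = M ^ p - 1 := by
    rw [sub_pow_char_of_commute (p := p) (Commute.one_right M), one_pow]
  rw [pow_eq_zero_of_le hp h] at h1
  exact sub_eq_zero.1 h1.symm

section Flag

variable {K : Type*} [Field K] {G : Type*} [Group G] {p : ℕ} [Fact p.Prime] [CharP K p]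

theorem eq_one_of_pow_prime_pow {a : K} {k : ℕ} (h : a ^ p ^ k = 1) : a = 1 := by
  have : ExpChar K p := ExpChar.prime Fact.out
  refine iterateFrobenius_inj K p k ?_
  rw [iterateFrobenius_def, iterateFrobenius_def, h, one_pow]

/-- A group stabilising a full flag has a subgroup of exponent `p` holding all its `p`-elements. -/
theorem exists_exponent_p (hp : 3 ≤ p) (ρ : G →* Matrix (Fin 3) (Fin 3) K) (hρ : Function.Injective ρ)
    (r w : Fin 3 → K) (f : (Fin 3 → K) →ₗ[K] K) (hr : r ≠ 0)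
    (hspan : ∀ x, f x = 0 → ∃ c d : K, x = c • r + d • w)
    (hfw : f w = 0) (hfr : f r = 0) (hw : ∀ c : K, c • r ≠ w)
    (hgr : ∀ g, ∃ a : K, ρ g *ᵥ r = a • r) (hgf : ∀ g x, f x = 0 → f (ρ g *ᵥ x) = 0) :
    ∃ U : Subgroup G, (∀ x : G, ∀ k : ℕ, x ^ p ^ k = 1 → x ∈ U) ∧ ∀ x ∈ U, x ^ p = 1 := by
  classical
  choose a ha using hgr
  have hb : ∀ g, ∃ cd : K × K, ρ g *ᵥ w = cd.1 • r + cd.2 • w := fun g => by
    obtain ⟨c, d, e⟩ := hspan _ (hgf g w hfw)
    exact ⟨(c, d), e⟩
  choose b hb using hb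
  have uniq : ∀ {c d c' d' : K}, c • r + d • w = c' • r + d' • w → c = c' ∧ d = d' := by
    intro c d c' d' e
    have hd : d = d' := by
      by_contra h
      refine hw ((d - d')⁻¹ * (c' - c)) ?_
      have h0 : d - d' ≠ 0 := sub_ne_zero.2 h
      have e' : (d - d') • w = (c' - c) • r := by linear_combination (norm := module) e
      rw [← smul_smul, ← e', smul_smul, inv_mul_cancel₀ h0, one_smul]
    subst hd
    exact ⟨smul_left_injective K hr (add_right_cancel e), rfl⟩
  have acoe : ∀ g h, a (g * h) = a g * a h := fun g h => smul_left_injective K hr (by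
    show a (g * h) • r = (a g * a h) • r
    rw [← ha, map_mul, ← Matrix.mulVec_mulVec, ha h, Matrix.mulVec_smul, ha g, smul_smul, mul_comm])
  have a1 : a 1 = 1 := smul_left_injective K hr (by
    show a 1 • r = (1 : K) • r
    rw [← ha, map_one, Matrix.one_mulVec, one_smul])
  have bcoe : ∀ g h, (b (g * h)).2 = (b g).2 * (b h).2 := fun g h => by
    have e := hb (g * h)
    rw [map_mul, ← Matrix.mulVec_mulVec, hb h, Matrix.mulVec_add, Matrix.mulVec_smul, Matrix.mulVec_smul, ha g,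
      hb g, smul_add, smul_smul, smul_smul, smul_smul, ← add_assoc, ← add_smul, mul_comm (b h).2 (b g).2] at e
    exact (uniq e).2.symm
  have b1 : (b 1).2 = 1 := by
    have e := hb 1
    rw [map_one, Matrix.one_mulVec] at e
    exact ((uniq (e.symm.trans (show w = (0 : K) • r + (1 : K) • w by rw [zero_smul, one_smul, zero_add]))).2)
  obtain ⟨z, hz⟩ : ∃ z, f z ≠ 0 := by
    by_contra h
    push Not at h
    have hle : (⊤ : Submodule K (Fin 3 → K)) ≤ Submodule.span K ({r, w} : Set (Fin 3 → K)) := fun x _ => by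
      obtain ⟨c, d, e⟩ := hspan x (h x)
      exact Submodule.mem_span_pair.2 ⟨c, d, e.symm⟩
    have h2 := Submodule.finrank_mono hle
    have h3 := finrank_span_finset_le_card (R := K) ({r, w} : Finset (Fin 3 → K))
    rw [Set.finrank, Finset.coe_pair] at h3
    rw [finrank_top, Module.finrank_fin_fun] at h2
    have := Finset.card_le_two (a := r) (b := w)
    omega
  let cq : G → K := fun g => f (ρ g *ᵥ z) / f z
  have hfgen : ∀ g x, f (ρ g *ᵥ x) = cq g * f x := by
    intro g x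
    have h0 : f (x - (f x / f z) • z) = 0 := by
      rw [map_sub, map_smul, smul_eq_mul, div_mul_cancel₀ _ hz, sub_self]
    have h1 := hgf g _ h0
    rw [Matrix.mulVec_sub, Matrix.mulVec_smul, map_sub, map_smul, smul_eq_mul, sub_eq_zero] at h1
    rw [h1]
    show f x / f z * f (ρ g *ᵥ z) = f (ρ g *ᵥ z) / f z * f x
    ring
  have qcoe : ∀ g h, cq (g * h) = cq g * cq h := fun g h => by
    refine mul_right_cancel₀ hz ?_
    rw [← hfgen, map_mul, ← Matrix.mulVec_mulVec, hfgen, hfgen, mul_assoc]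
  have q1 : cq 1 = 1 := by
    refine mul_right_cancel₀ hz ?_
    rw [← hfgen, map_one, Matrix.one_mulVec, one_mul]
  let χ : G →* K × K × K :=
    { toFun := fun g => (a g, (b g).2, cq g)
      map_one' := by rw [a1, b1, q1]; rfl
      map_mul' := fun g h => by rw [acoe, bcoe, qcoe]; rfl }
  refine ⟨χ.ker, fun x k hk => ?_, fun x hx => hρ ?_⟩
  · have h1 := congrArg χ hk
    rw [map_pow, map_one, Prod.ext_iff, Prod.ext_iff] at h1
    rw [MonoidHom.mem_ker]
    exact Prod.ext (eq_one_of_pow_prime_pow h1.1) (Prod.ext (eq_one_of_pow_prime_pow h1.2.1)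
      (eq_one_of_pow_prime_pow h1.2.2))
  · rw [MonoidHom.mem_ker] at hx
    have ha1 : a x = 1 := congrArg Prod.fst hx
    have hb1 : (b x).2 = 1 := congrArg (fun t => t.2.1) hx
    have hq1 : cq x = 1 := congrArg (fun t => t.2.2) hx
    rw [map_pow, map_one]
    refine pow_eq_one_of_cube hp (Matrix.toLin'.injective (LinearMap.ext fun v => ?_))
    rw [map_zero, LinearMap.zero_apply, Matrix.toLin'_apply, pow_three, ← Matrix.mulVec_mulVec,
      ← Matrix.mulVec_mulVec]
    have s1 : f ((ρ x - 1) *ᵥ v) = 0 := by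
      rw [Matrix.sub_mulVec, Matrix.one_mulVec, map_sub, hfgen, hq1, one_mul, sub_self]
    obtain ⟨c, d, e⟩ := hspan _ s1
    have n1 : (ρ x - 1) *ᵥ r = 0 := by
      rw [Matrix.sub_mulVec, Matrix.one_mulVec, ha x, ha1, one_smul, sub_self]
    have n2 : (ρ x - 1) *ᵥ w = (b x).1 • r := by
      rw [Matrix.sub_mulVec, Matrix.one_mulVec, hb x, hb1, one_smul, add_sub_cancel_right]
    rw [e, Matrix.mulVec_add, Matrix.mulVec_smul, Matrix.mulVec_smul, n1, n2, smul_zero, zero_add,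
      smul_smul, Matrix.mulVec_smul, n1, smul_zero]

end Flag

section Main

variable {K : Type*} [Field K] [Finite K] {G : Type*} [Group G] [Finite G] {p : ℕ} [Fact p.Prime] [CharP K p]

/-- The functional attached to a vector. -/
def hf (q : ℕ) (r : Fin 3 → K) : (Fin 3 → K) →ₗ[K] K where
  toFun x := Cfsg.hermForm 3 K q x r
  map_add' x y := by simp [Cfsg.hermForm, add_mul, Finset.sum_add_distrib]
  map_smul' c x := by simp [Cfsg.hermForm, Finset.mul_sum, mul_assoc]

theorem hermForm_sub_right (n : ℕ) {q : ℕ} (hq : q = p ^ n) (x r s : Fin 3 → K) :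
    Cfsg.hermForm 3 K q x (r - s) = Cfsg.hermForm 3 K q x r - Cfsg.hermForm 3 K q x s := by
  subst hq
  simp [Cfsg.hermForm, sub_pow_char_pow, mul_sub, Finset.sum_sub_distrib]

theorem hermForm_smul_right (q : ℕ) (c : K) (x r : Fin 3 → K) :
    Cfsg.hermForm 3 K q x (c • r) = c ^ q * Cfsg.hermForm 3 K q x r := by
  simp [Cfsg.hermForm, mul_pow, Finset.mul_sum, mul_left_comm]

theorem hf_ne {n q : ℕ} (hq : q = p ^ n) {r : Fin 3 → K} (hr : r ≠ 0) : ∃ z, hf q r z ≠ 0 := by
  obtain ⟨i, hi⟩ := Function.ne_iff.1 hr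
  refine ⟨Pi.single i 1, ?_⟩
  show ∑ j, (Pi.single i (1 : K) : Fin 3 → K) j * r j ^ q ≠ 0
  rw [Finset.sum_eq_single i (fun j _ hj => by rw [Pi.single_eq_of_ne hj, zero_mul]) (by simp), Pi.single_eq_same, one_mul]
  exact pow_ne_zero _ hi

/-- A nontrivial `p`-subgroup stabilised by a group preserving the form gives an invariant flag. -/
theorem exists_flag {n q : ℕ} (hq : q = p ^ n) (ρ : G →* Matrix (Fin 3) (Fin 3) K) (hρ : Function.Injective ρ)
    (hpres : ∀ g u v, Cfsg.hermForm 3 K q (ρ g *ᵥ u) (ρ g *ᵥ v) = Cfsg.hermForm 3 K q u v)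
    (P : Subgroup G) [P.Normal] (hP : IsPGroup p P) (hP1 : P ≠ ⊥) :
    ∃ (r w : Fin 3 → K) (f : (Fin 3 → K) →ₗ[K] K), r ≠ 0 ∧ (∀ x, f x = 0 → ∃ c d : K, x = c • r + d • w) ∧
      f w = 0 ∧ f r = 0 ∧ (∀ c : K, c • r ≠ w) ∧ (∀ g, ∃ a : K, ρ g *ᵥ r = a • r) ∧
      ∀ g x, f x = 0 → f (ρ g *ᵥ x) = 0 := by
  classical
  let C : Submodule K (Fin 3 → K) :=
    { carrier := {v | ∀ g ∈ P, ρ g *ᵥ v = v}
      zero_mem' := fun g _ => Matrix.mulVec_zero _
      add_mem' := fun {u v} hu hv g hg => by rw [Matrix.mulVec_add, hu g hg, hv g hg]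
      smul_mem' := fun c v hv g hg => by rw [Matrix.mulVec_smul, hv g hg] }
  let O : Submodule K (Fin 3 → K) :=
    { carrier := {v | ∀ c ∈ C, Cfsg.hermForm 3 K q v c = 0}
      zero_mem' := fun c _ => map_zero (hf q c)
      add_mem' := fun {u v} hu hv c hc => by
        show hf q c (u + v) = 0
        rw [map_add]; exact (congrArg₂ (· + ·) (hu c hc) (hv c hc)).trans (add_zero _)
      smul_mem' := fun a v hv c hc => by
        show hf q c (a • v) = 0
        rw [map_smul]; exact (congrArg (a • ·) (hv c hc)).trans (smul_zero a) }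
  have hCg : ∀ g v, v ∈ C → ρ g *ᵥ v ∈ C := fun g v hv h hh => by
    have hm := hv _ ((inferInstance : P.Normal).conj_mem h hh g⁻¹)
    rw [inv_inv] at hm
    calc ρ h *ᵥ (ρ g *ᵥ v) = ρ g *ᵥ (ρ (g⁻¹ * h * g) *ᵥ v) := by
          rw [Matrix.mulVec_mulVec, Matrix.mulVec_mulVec, ← map_mul, ← map_mul]; congr 2; group
      _ = _ := by rw [hm]
  have hOg : ∀ g v, v ∈ O → ρ g *ᵥ v ∈ O := fun g v hv c hc => by
    have e : ρ g *ᵥ (ρ g⁻¹ *ᵥ c) = c := by
      rw [Matrix.mulVec_mulVec, ← map_mul, mul_inv_cancel, map_one, Matrix.one_mulVec]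
    rw [← e, hpres]
    exact hv _ (hCg _ c hc)
  -- a fixed vector in `O`
  obtain ⟨g0, hg0, hg01⟩ : ∃ g ∈ P, g ≠ 1 := by
    by_contra h; push Not at h; exact hP1 ((Subgroup.eq_bot_iff_forall _).2 h)
  obtain ⟨u0, hu0⟩ : ∃ u, ρ g0 *ᵥ u - u ≠ 0 := by
    by_contra h
    push Not at h
    refine hg01 (hρ (Matrix.toLin'.injective (LinearMap.ext fun u => ?_)))
    rw [Matrix.toLin'_apply, Matrix.toLin'_apply, map_one, Matrix.one_mulVec]
    exact sub_eq_zero.1 (h u)
  have hu0O : ρ g0 *ᵥ u0 - u0 ∈ O := fun c hc => by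
    show hf q c (ρ g0 *ᵥ u0 - u0) = 0
    rw [map_sub, sub_eq_zero]
    show Cfsg.hermForm 3 K q (ρ g0 *ᵥ u0) c = Cfsg.hermForm 3 K q u0 c
    conv_lhs => rw [← hc g0 hg0]
    exact hpres g0 u0 c
  let act : MulAction P O :=
    { smul := fun g v => ⟨ρ g.1 *ᵥ v.1, hOg _ _ v.2⟩
      one_smul := fun v => Subtype.ext (by show ρ 1 *ᵥ v.1 = v.1; rw [map_one, Matrix.one_mulVec])
      mul_smul := fun g h v => Subtype.ext (by
        show ρ (g.1 * h.1) *ᵥ v.1 = ρ g.1 *ᵥ (ρ h.1 *ᵥ v.1)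
        rw [map_mul, Matrix.mulVec_mulVec]) }
  have hdvd : p ∣ Nat.card O := by
    have hpos : Module.finrank K O ≠ 0 := fun h0 => by
      rw [Submodule.finrank_eq_zero] at h0
      rw [h0] at hu0O
      exact hu0 ((Submodule.mem_bot K).1 hu0O)
    have hK : p ∣ Nat.card K := by
      have := Fintype.ofFinite K
      obtain ⟨m, -, hm⟩ := FiniteField.card K p
      rw [Nat.card_eq_fintype_card, hm]
      exact dvd_pow_self p m.ne_zero
    rw [Module.natCard_eq_pow_finrank (K := K)]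
    exact hK.trans (dvd_pow_self _ hpos)
  obtain ⟨r, hr, hr0⟩ := hP.exists_fixed_point_of_prime_dvd_card_of_fixed_point O hdvd
    (a := (0 : O)) (fun g => Subtype.ext (show ρ g.1 *ᵥ (0 : Fin 3 → K) = 0 from Matrix.mulVec_zero _))
  have hr1 : r.1 ≠ 0 := fun h => hr0 (Subtype.ext h.symm)
  have hrC : r.1 ∈ C := fun g hg => congrArg Subtype.val (hr ⟨g, hg⟩)
  have hfr : ∀ s ∈ C, hf q s r.1 = 0 := fun s hs => r.2 s hs
  obtain ⟨z, hz⟩ := hf_ne hq hr1
  set f := hf q r.1 with hf'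
  have hkd : Module.finrank K (LinearMap.ker f) = 2 := by
    have h := LinearMap.finrank_range_add_finrank_ker f
    rw [LinearMap.range_eq_top.2 (fun c => ⟨(c / f z) • z, by rw [map_smul, smul_eq_mul, div_mul_cancel₀ _ hz]⟩),
      finrank_top, Module.finrank_self, Module.finrank_fin_fun] at h
    omega
  have hrk : r.1 ∈ LinearMap.ker f := hfr _ hrC
  have hlt : Submodule.span K ({r.1} : Set (Fin 3 → K)) < LinearMap.ker f := by
    refine lt_of_le_of_ne ((Submodule.span_singleton_le_iff_mem _ _).2 hrk) fun h => ?_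
    rw [← h, finrank_span_singleton hr1] at hkd
    omega
  obtain ⟨w, hwk, hwr⟩ := SetLike.exists_of_lt hlt
  have hker : LinearMap.ker f = Submodule.span K ({r.1, w} : Set (Fin 3 → K)) := by
    refine (Submodule.eq_of_le_of_finrank_le (Submodule.span_le.2 ?_) ?_).symm
    · rintro x (rfl | rfl)
      exacts [hrk, hwk]
    · have h3 : Submodule.span K ({r.1} : Set (Fin 3 → K)) < Submodule.span K ({r.1, w} : Set (Fin 3 → K)) :=
        lt_of_le_of_ne (Submodule.span_mono (by simp)) fun h => hwr (h ▸ Submodule.subset_span (by simp))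
      have h4 := Submodule.finrank_lt_finrank_of_lt h3
      rw [finrank_span_singleton hr1] at h4
      omega
  -- every vector of `C ∩ O` is a multiple of `r`
  have hline : ∀ s ∈ C, s ∈ O → ∃ a : K, s = a • r.1 := by
    intro s hsC hsO
    by_contra hno
    push Not at hno
    obtain ⟨c, d, e⟩ := Submodule.mem_span_pair.1 (hker ▸ (show s ∈ LinearMap.ker f from hsO r.1 hrC))
    have hd : d ≠ 0 := fun h => hno c (by rw [← e, h, zero_smul, add_zero])
    have hs0 : s ≠ 0 := fun h => hno 0 (by rw [h, zero_smul])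
    -- both functionals kill the same plane, so they are proportional
    obtain ⟨z', hz'⟩ := hf_ne hq hs0
    have hk' : LinearMap.ker f ≤ LinearMap.ker (hf q s) := by
      rw [hker, Submodule.span_le]
      rintro x (rfl | rfl)
      · exact hfr _ hsC
      · have h1 : hf q s s = 0 := hsO s hsC
        conv_lhs at h1 => arg 2; rw [← e]
        rw [map_add, map_smul, map_smul, hfr _ hsC, smul_zero, zero_add] at h1
        exact (smul_eq_zero.1 h1).resolve_left hd
    have hprop : ∀ x, hf q s x = hf q s z / f z * f x := by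
      intro x
      have h0 : x - (f x / f z) • z ∈ LinearMap.ker f := by
        rw [LinearMap.mem_ker, map_sub, map_smul, smul_eq_mul, div_mul_cancel₀ _ hz, sub_self]
      have := hk' h0
      rw [LinearMap.mem_ker, map_sub, map_smul, smul_eq_mul, sub_eq_zero] at this
      rw [this]; ring
    have : ExpChar K p := ExpChar.prime Fact.out
    obtain ⟨t, ht⟩ := (Finite.injective_iff_surjective.1 (iterateFrobenius_inj K p n)) (hf q s z / f z)
    rw [iterateFrobenius_def, ← hq] at ht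
    refine hno t ?_
    by_contra hne
    obtain ⟨z'', hz''⟩ := hf_ne hq (sub_ne_zero.2 hne)
    refine hz'' ?_
    show Cfsg.hermForm 3 K q z'' (s - t • r.1) = 0
    rw [hermForm_sub_right n hq, hermForm_smul_right, ht]
    exact sub_eq_zero.2 (hprop z'')
  have hgr : ∀ g, ∃ a : K, ρ g *ᵥ r.1 = a • r.1 := fun g =>
    hline _ (hCg g _ hrC) (hOg g _ r.2)
  refine ⟨r.1, w, f, hr1, fun x hx => ?_, hwk, hrk, fun c h => hwr (Submodule.mem_span_singleton.2 ⟨c, h⟩), hgr,
    fun g x hx => ?_⟩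
  · obtain ⟨c, d, e⟩ := Submodule.mem_span_pair.1 (hker ▸ (show x ∈ LinearMap.ker f from hx))
    exact ⟨c, d, e.symm⟩
  · obtain ⟨a, ha⟩ := hgr g
    have ha0 : a ^ q ≠ 0 := pow_ne_zero _ fun h => hr1 (by
      rw [h, zero_smul] at ha
      have := congrArg (ρ g⁻¹ *ᵥ ·) ha
      simpa [Matrix.mulVec_mulVec, ← map_mul] using this)
    have h := hpres g x r.1
    rw [ha, hermForm_smul_right] at h
    exact (mul_eq_zero.1 (h.trans hx)).resolve_left ha0

set_option maxHeartbeats 1600000 in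
/-- `Qd p` is not an image of a group with a faithful unitary representation in dimension three. -/
theorem no_surj {n q : ℕ} (hp : 3 ≤ p) (hq : q = p ^ n) (ρ : G →* Matrix (Fin 3) (Fin 3) K)
    (hρ : Function.Injective ρ)
    (hpres : ∀ g u v, Cfsg.hermForm 3 K q (ρ g *ᵥ u) (ρ g *ᵥ v) = Cfsg.hermForm 3 K q u v)
    (φ : G →* ↥(Cfsg.qd p)) (hφ : Function.Surjective φ) : False := by
  classical
  obtain ⟨H, hH, hmin⟩ := WellFounded.has_min (wellFounded_lt (α := Subgroup G)) {H | H.map φ = ⊤}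
    ⟨⊤, Subgroup.map_top_of_surjective φ hφ⟩
  let blk : ↥(Cfsg.qd p) →* Matrix (Fin 2) (Fin 2) (ZMod p) :=
    { toFun := fun u => Matrix.of fun i j => (u.1 : Matrix (Fin 3) (Fin 3) (ZMod p)) i.castSucc j.castSucc
      map_one' := by ext i j; fin_cases i <;> fin_cases j <;> simp
      map_mul' := fun u v => by
        obtain ⟨h0, h1, -⟩ := qd_row v
        ext i j
        fin_cases i <;> fin_cases j <;>
          simp [Matrix.mul_apply, Fin.sum_univ_three, Fin.sum_univ_two, h0, h1] }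
  have hT : IsPGroup p blk.ker := fun t => by
    refine ⟨1, Subtype.ext (Subtype.ext (Subtype.ext ?_))⟩
    rw [pow_one, Subgroup.coe_pow, Subgroup.coe_pow, Matrix.SpecialLinearGroup.coe_pow, Subgroup.coe_one,
      Subgroup.coe_one, Matrix.SpecialLinearGroup.coe_one]
    refine pow_eq_one_of_cube hp ?_
    obtain ⟨h0, h1, h2⟩ := qd_row t.1
    have eker : blk t.1 = 1 := t.2
    have e : ∀ i j, blk t.1 i j = (1 : Matrix (Fin 2) (Fin 2) (ZMod p)) i j := fun i j => by rw [eker]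
    have e00 : (t.1.1 : Matrix (Fin 3) (Fin 3) (ZMod p)) 0 0 = 1 := e 0 0
    have e01 : (t.1.1 : Matrix (Fin 3) (Fin 3) (ZMod p)) 0 1 = 0 := e 0 1
    have e10 : (t.1.1 : Matrix (Fin 3) (Fin 3) (ZMod p)) 1 0 = 0 := e 1 0
    have e11 : (t.1.1 : Matrix (Fin 3) (Fin 3) (ZMod p)) 1 1 = 1 := e 1 1
    rw [pow_three]
    ext i j
    fin_cases i <;> fin_cases j <;>
      simp [Matrix.mul_apply, Fin.sum_univ_three, h0, h1, h2, e00, e01, e10, e11]
  have hcl : ∀ M : Matrix.SpecialLinearGroup (Fin 3) (ZMod p), (M : Matrix (Fin 3) (Fin 3) (ZMod p)) 2 0 = 0 →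
      (M : Matrix (Fin 3) (Fin 3) (ZMod p)) 2 1 = 0 → (M : Matrix (Fin 3) (Fin 3) (ZMod p)) 2 2 = 1 →
      M ∈ Cfsg.qd p := fun M a b c => Subgroup.subset_closure ⟨a, b, c⟩
  let E : Fin 3 → Fin 3 → Matrix (Fin 3) (Fin 3) (ZMod p) := fun i j => Matrix.transvection i j 1
  have hdet : ∀ i j : Fin 3, i ≠ j → (E i j).det = 1 := fun i j h => Matrix.det_transvection_of_ne i j h 1
  let x02 : ↥(Cfsg.qd p) := ⟨⟨E 0 2, hdet 0 2 (by decide)⟩,
    hcl _ (by simp [E, Matrix.transvection]) (by simp [E, Matrix.transvection]) (by simp [E, Matrix.transvection])⟩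
  let x01 : ↥(Cfsg.qd p) := ⟨⟨E 0 1, hdet 0 1 (by decide)⟩,
    hcl _ (by simp [E, Matrix.transvection]) (by simp [E, Matrix.transvection]) (by simp [E, Matrix.transvection])⟩
  let x10 : ↥(Cfsg.qd p) := ⟨⟨E 1 0, hdet 1 0 (by decide)⟩,
    hcl _ (by simp [E, Matrix.transvection]) (by simp [E, Matrix.transvection]) (by simp [E, Matrix.transvection])⟩
  let φ' : ↥H →* ↥(Cfsg.qd p) := φ.comp H.subtype
  have hφ' : Function.Surjective φ' := fun u => by
    obtain ⟨g, hg, rfl⟩ := (hH : H.map φ = ⊤) ▸ Subgroup.mem_top u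
    exact ⟨⟨g, hg⟩, rfl⟩
  let N : Subgroup ↥H := blk.ker.comap φ'
  obtain ⟨P⟩ : Nonempty (Sylow p ↥N) := inferInstance
  let P' : Subgroup ↥H := (P : Subgroup ↥N).map N.subtype
  -- the image of `P` is the whole translation group
  have hPT : ∀ u, u ∈ blk.ker → ∃ g ∈ P', φ' g = u := by
    let ψ : ↥N →* ↥blk.ker := (φ'.comp N.subtype).codRestrict blk.ker fun g => g.2
    have hψ : Function.Surjective ψ := fun t => by
      obtain ⟨g, hg⟩ := hφ' t.1
      exact ⟨⟨g, show φ' g ∈ blk.ker from hg.symm ▸ t.2⟩, Subtype.ext hg⟩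
    intro u hu
    have htop : ((P.mapSurjective hψ : Sylow p ↥blk.ker) : Subgroup ↥blk.ker) = ⊤ :=
      ((P.mapSurjective hψ).is_maximal' (hT.to_subgroup ⊤) le_top).symm
    rw [Sylow.coe_mapSurjective] at htop
    obtain ⟨g, hg, e⟩ := (htop ▸ Subgroup.mem_top (⟨u, hu⟩ : ↥blk.ker) :
      (⟨u, hu⟩ : ↥blk.ker) ∈ (P : Subgroup ↥N).map ψ)
    exact ⟨g.1, ⟨g, hg, rfl⟩, congrArg Subtype.val e⟩
  have hnorm : P'.Normal := by
    have hsup := Sylow.normalizer_sup_eq_top P
    have himg : ((Subgroup.normalizer (P' : Set ↥H)).map H.subtype).map φ = ⊤ := by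
      rw [Subgroup.map_map, eq_top_iff]
      rintro u -
      obtain ⟨g, rfl⟩ := hφ' u
      obtain ⟨a, ha, b, hb, rfl⟩ :=
        Subgroup.mem_sup_of_normal_right.1 (hsup ▸ Subgroup.mem_top g : g ∈ _ ⊔ N)
      obtain ⟨c, hc, ec⟩ := hPT _ hb
      refine ⟨a * c, mul_mem ha (Subgroup.le_normalizer hc), ?_⟩
      show φ' (a * c) = φ' (a * b)
      rw [map_mul, map_mul, ec]
    rw [← Subgroup.normalizer_eq_top_iff]
    by_contra hne
    refine hmin _ himg (lt_of_le_of_ne (Subgroup.map_subtype_le _) fun e => hne ?_)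
    refine Subgroup.map_injective H.subtype_injective ?_
    rw [e, ← MonoidHom.range_eq_map, Subgroup.range_subtype]
  have hx02 : x02 ∈ blk.ker := by
    rw [MonoidHom.mem_ker]
    ext i j
    fin_cases i <;> fin_cases j <;> simp [blk, x02, E, Matrix.transvection]
  have hP'1 : P' ≠ ⊥ := fun h => by
    obtain ⟨g, hg, e⟩ := hPT _ hx02
    rw [h, Subgroup.mem_bot] at hg
    rw [hg, map_one] at e
    have := congrArg (fun u : ↥(Cfsg.qd p) => (u.1 : Matrix (Fin 3) (Fin 3) (ZMod p)) 0 2) e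
    simp [x02, E, Matrix.transvection] at this
  have hP'p : IsPGroup p P' := P.2.map _
  obtain ⟨r, w, f, hr, hspan, hfw, hfr, hw, hgr, hgf⟩ := exists_flag hq (ρ.comp H.subtype)
    (hρ.comp H.subtype_injective) (fun g => hpres g.1) P' hP'p hP'1
  obtain ⟨U, hU, hUp⟩ := exists_exponent_p hp (ρ.comp H.subtype) (hρ.comp H.subtype_injective) r w f hr hspan hfw
    hfr hw hgr hgf
  have hord : ∀ x : ↥(Cfsg.qd p), x ^ p = 1 → ∃ g ∈ U, φ' g = x := by
    intro x hx
    obtain ⟨g, hg⟩ := hφ' x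
    have hne : orderOf g ≠ 0 := (orderOf_pos g).ne'
    obtain ⟨k, m', hm', hgk⟩ := Nat.exists_eq_pow_mul_and_not_dvd hne p (Fact.out : p.Prime).ne_one
    obtain ⟨t, ht⟩ := Nat.exists_mul_mod_eq_one_of_coprime
      ((Fact.out : p.Prime).coprime_iff_not_dvd.2 hm').symm (Fact.out : p.Prime).one_lt
    refine ⟨g ^ (m' * t), hU _ k ?_, ?_⟩
    · rw [← pow_mul, show m' * t * p ^ k = (p ^ k * m') * t by ring, ← hgk, pow_mul, pow_orderOf_eq_one, one_pow]
    · rw [map_pow, hg, pow_eq_pow_mod _ hx, ht.2, pow_one]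
  have hcube : ∀ x : ↥(Cfsg.qd p),
      ((x.1 : Matrix (Fin 3) (Fin 3) (ZMod p)) - 1) ^ 3 = 0 → x ^ p = 1 := fun x hx =>
    Subtype.ext (Subtype.ext (by
      rw [Subgroup.coe_pow, Matrix.SpecialLinearGroup.coe_pow, Subgroup.coe_one, Matrix.SpecialLinearGroup.coe_one]
      exact pow_eq_one_of_cube hp hx))
  obtain ⟨g1, hg1, e1⟩ := hord x01 (hcube _ (by
    rw [pow_three]; ext i j; fin_cases i <;> fin_cases j <;>
      simp [x01, E, Matrix.transvection, Matrix.mul_apply, Fin.sum_univ_three]))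
  obtain ⟨g2, hg2, e2⟩ := hord x10 (hcube _ (by
    rw [pow_three]; ext i j; fin_cases i <;> fin_cases j <;>
      simp [x10, E, Matrix.transvection, Matrix.mul_apply, Fin.sum_univ_three]))
  have h3 : (x01 * x10) ^ p = 1 := by
    rw [← e1, ← e2, ← map_mul, ← map_pow, hUp _ (mul_mem hg1 hg2), map_one]
  set M : Matrix (Fin 3) (Fin 3) (ZMod p) := ((x01 * x10).1 : Matrix (Fin 3) (Fin 3) (ZMod p)) with hM
  have hMp : (M - 1) ^ p = 0 := by
    rw [sub_pow_char_of_commute (p := p) (Commute.one_right M), one_pow, sub_eq_zero, hM,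
      ← Matrix.SpecialLinearGroup.coe_pow, ← Subgroup.coe_pow, h3, Subgroup.coe_one, Matrix.SpecialLinearGroup.coe_one]
  let N' : Matrix (Fin 3) (Fin 3) (ZMod p) := !![0, 1, 0; 1, -1, 0; 0, 0, 0]
  let D : Matrix (Fin 3) (Fin 3) (ZMod p) := !![1, 0, 0; 0, 1, 0; 0, 0, 0]
  have hMv : M = E 0 1 * E 1 0 := by
    rw [hM, Subgroup.coe_mul, Matrix.SpecialLinearGroup.coe_mul]
  have hD : (M - 1) * N' = D ∧ N' * (M - 1) = D := by
    rw [hMv]
    constructor <;> ext i j <;> fin_cases i <;> fin_cases j <;>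
      simp [E, N', D, Matrix.transvection, Matrix.mul_apply, Fin.sum_univ_three]
  have hDp : ∀ j : ℕ, 1 ≤ j → D ^ j = D := by
    intro j hj
    induction j, hj using Nat.le_induction with
    | base => exact pow_one D
    | succ j _ ih =>
      rw [pow_succ, ih]
      ext a b; fin_cases a <;> fin_cases b <;> simp [D, Matrix.mul_apply, Fin.sum_univ_three]
  have := congrFun (congrFun (hDp p (by omega)) 0) 0
  rw [← hD.1, (show Commute (M - 1) N' from hD.1.trans hD.2.symm).mul_pow, hMp, zero_mul, hD.1] at this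
  simp [D] at this

end Main

end Cfsg.Lib.Known.PSUThreeQd
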