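import Cfsg.Agent.Known.SemisimpleSimilar
import Mathlib

/-! Classes of elements of prime order `r` in projective linear and unitary groups containing the `r`-th roots of unity. -/

set_option autoImplicit false
set_option linter.style.haveILetI false
set_option linter.unusedSectionVars false

open Polynomial

namespace Cfsg.Lib.ProjClasses

universe u

variable {K : Type u} [Field K] [Fintype K] {n r : ℕ} [Fact r.Prime]

theorem factors_dvd {M : Matrix (Fin n) (Fin n) K} {a : K} (h : M ^ r = a • 1) :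
    ∀ f, f.Monic → Irreducible f → f ∣ M.charpoly → f ∣ X ^ r - C a := by
  intro f _ hfi hfd
  rw [← Matrix.charpoly_toLin'] at hfd
  obtain ⟨w, hw0, hw⟩ := SemisimpleSimilar.exists_ker _ hfi hfd
  by_contra hnd
  obtain ⟨c, d, hcd⟩ := hfi.coprime_iff_not_dvd.2 hnd
  refine hw0 ?_
  have h1 : aeval (Matrix.toLin' M) (X ^ r - C a : K[X]) = 0 := by
    rw [map_sub, map_pow, aeval_X, aeval_C, ← Matrix.toLin'_pow, h, map_smul, Matrix.toLin'_one,
      Algebra.algebraMap_eq_smul_one]
    exact sub_self _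
  have e := congrArg (fun P => aeval (Matrix.toLin' M) P w) hcd
  simp only [map_add, map_mul, h1, mul_zero, add_zero, map_one, Module.End.mul_apply, hw, map_zero,
    Module.End.one_apply] at e
  exact e.symm

open scoped _root_.Classical in
theorem prod_factors (M : Matrix (Fin n) (Fin n) K) :
    (UniqueFactorizationMonoid.normalizedFactors M.charpoly).prod = M.charpoly ∧
      ∀ f ∈ UniqueFactorizationMonoid.normalizedFactors M.charpoly, f.Monic ∧ Irreducible f ∧ f ∣ M.charpoly := by
  classical
  refine ⟨by rw [UniqueFactorizationMonoid.prod_normalizedFactors_eq M.charpoly_monic.ne_zero,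
    M.charpoly_monic.normalize_eq_self], fun f hf => ?_⟩
  have hfi := UniqueFactorizationMonoid.irreducible_of_normalized_factor f hf
  exact ⟨by rw [← UniqueFactorizationMonoid.normalize_normalized_factor f hf]; exact Polynomial.monic_normalize hfi.ne_zero,
    hfi, UniqueFactorizationMonoid.dvd_of_mem_normalizedFactors hf⟩

theorem charpoly_nonpower {M : Matrix (Fin n) (Fin n) K} {a : K} (h : M ^ r = a • 1) (ha : ∀ b : K, b ^ r ≠ a) :
    r ∣ n ∧ M.charpoly = (X ^ r - C a) ^ (n / r) := by
  classical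
  have hr : r.Prime := Fact.out
  obtain ⟨hprod, hmem⟩ := prod_factors M
  set L := UniqueFactorizationMonoid.normalizedFactors M.charpoly
  have hL : L = Multiset.replicate L.card (X ^ r - C a) := Multiset.eq_replicate_card.2 fun f hf => by
    obtain ⟨hm, hi, hd⟩ := hmem f hf
    exact eq_of_monic_of_associated hm (monic_X_pow_sub_C a hr.ne_zero)
      (hi.associated_of_dvd (X_pow_sub_C_irreducible_of_prime hr ha) (factors_dvd h f hm hi hd))
  rw [hL, Multiset.prod_replicate] at hprod
  have hd := congrArg natDegree hprod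
  rw [natDegree_pow, natDegree_X_pow_sub_C, Matrix.charpoly_natDegree_eq_dim, Fintype.card_fin] at hd
  refine ⟨⟨L.card, by rw [← hd, mul_comm]⟩, ?_⟩
  have : n / r = L.card := by rw [← hd, Nat.mul_div_cancel _ hr.pos]
  rw [this, hprod]

/-- A matrix whose `r`-th power is a given scalar. -/
theorem exists_root_matrix (hn : r ∣ n) (a : K) :
    ∃ M : Matrix (Fin n) (Fin n) K, M ^ r = a • 1 := by
  classical
  obtain ⟨k, hk⟩ := hn
  have hm : (X ^ r - C a).Monic := monic_X_pow_sub_C a (Fact.out : r.Prime).ne_zero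
  let pb := AdjoinRoot.powerBasis hm.ne_zero
  let L := Algebra.leftMulMatrix pb.basis pb.gen
  have hL : L ^ r = a • 1 := by
    rw [← map_pow]
    have e : pb.gen ^ r = algebraMap K _ a := by
      have h0 : aeval (AdjoinRoot.root (X ^ r - C a)) (X ^ r - C a) = 0 := by
        rw [AdjoinRoot.aeval_eq, AdjoinRoot.mk_self]
      rw [map_sub, map_pow, aeval_X, aeval_C, sub_eq_zero] at h0
      exact h0
    rw [e, AlgHom.commutes, Algebra.algebraMap_eq_smul_one]
  have hdim : pb.dim = r := by
    show (X ^ r - C a).natDegree = r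
    exact natDegree_X_pow_sub_C
  let e : Fin pb.dim × Fin k ≃ Fin n := finProdFinEquiv.trans (finCongr (by rw [hdim, hk]))
  refine ⟨Matrix.reindexAlgEquiv K K e (Matrix.blockDiagonal fun _ => L), ?_⟩
  rw [← map_pow, ← Matrix.blockDiagonal_pow]
  have : ((fun _ : Fin k => L) ^ r) = a • (1 : Fin k → Matrix (Fin pb.dim) (Fin pb.dim) K) := funext fun _ => hL
  rw [this, Matrix.blockDiagonal_smul, Matrix.blockDiagonal_one, map_smul, map_one]

/-- Elements with the same scalar `r`-th power and characteristic polynomial are similar. -/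
theorem similar {a : K} (ha : a ≠ 0) (hr : (r : K) ≠ 0) {M N : Matrix (Fin n) (Fin n) K} (hM : M ^ r = a • 1)
    (hN : N ^ r = a • 1) (hc : M.charpoly = N.charpoly) : ∃ T : Matrix (Fin n) (Fin n) K, T.det ≠ 0 ∧ T * M = N * T := by
  classical
  have hss : ∀ A : Matrix (Fin n) (Fin n) K, A ^ r = a • 1 → Module.End.IsSemisimple (Matrix.toLin' A) := fun A hA =>
    Cfsg.Lib.Classical.PrimeOrd.semisimple hr ha (by rw [← Matrix.toLin'_pow, hA, map_smul, Matrix.toLin'_one]; rfl)
  obtain ⟨e, he⟩ := SemisimpleSimilar.similar (F := K) n (Fin n → K) (Fin n → K) (Matrix.toLin' M) (Matrix.toLin' N)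
    (hss M hM) (hss N hN) (by rw [Matrix.charpoly_toLin', Matrix.charpoly_toLin']; exact hc) (Module.finrank_fin_fun K)
  refine ⟨LinearMap.toMatrix' (e : (Fin n → K) →ₗ[K] (Fin n → K)), ?_, Matrix.toLin'.injective ?_⟩
  · rw [LinearMap.det_toMatrix']; exact (LinearEquiv.isUnit_det' e).ne_zero
  · rw [Matrix.toLin'_mul, Matrix.toLin'_mul, Matrix.toLin'_toMatrix']
    exact LinearMap.ext he

theorem card_shift_orbits (hn : 2 ≤ n) :
    ∃ O : ℕ, O * r = Nat.choose (n + r - 1) (r - 1) + (r - 1) * (if r ∣ n then 1 else 0) ∧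
      Nat.card (Quot fun s t : Sym (ZMod r) n => ∃ k : ZMod r, t = s.map (k + ·)) = O := by
  classical
  have hr : r.Prime := Fact.out
  haveI : NeZero r := ⟨hr.ne_zero⟩
  letI : AddAction (ZMod r) (Sym (ZMod r) n) :=
    { vadd := fun k s => s.map (k + ·)
      zero_vadd := fun s => by show s.map (fun x => 0 + x) = s; simp
      add_vadd := fun a b s => by
        show s.map (fun x => a + b + x) = (s.map (b + ·)).map (a + ·)
        rw [Sym.map_map]
        exact Sym.map_congr fun x _ => add_assoc a b x }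
  let O := Nat.card (Quotient (AddAction.orbitRel (ZMod r) (Sym (ZMod r) n)))
  refine ⟨O, ?_, ?_⟩
  · have hB := AddAction.sum_card_fixedBy_eq_card_orbits_mul_card_addGroup (ZMod r) (Sym (ZMod r) n)
    have hzero : Fintype.card (AddAction.fixedBy (Sym (ZMod r) n) (0 : ZMod r)) = Nat.choose (n + r - 1) (r - 1) := by
      refine (Fintype.card_congr (β := Sym (ZMod r) n) (Equiv.subtypeUnivEquiv fun s => zero_vadd (ZMod r) s)).trans ?_
      rw [Sym.card_sym_eq_choose, ZMod.card,
        add_comm r n]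
      conv_lhs => rw [← Nat.choose_symm (show n ≤ n + r - 1 by have := hr.two_le; omega)]
      congr 1; have := hr.two_le; omega
    have hfix : ∀ k : ZMod r, k ≠ 0 →
        Fintype.card (AddAction.fixedBy (Sym (ZMod r) n) k) = if r ∣ n then 1 else 0 := by
      intro k hk
      have hconst : ∀ s : Sym (ZMod r) n, k +ᵥ s = s → ∀ x,
          Multiset.count x (s : Multiset (ZMod r)) = Multiset.count 0 (s : Multiset (ZMod r)) := by
        intro s hs x
        have h1 : ∀ y, Multiset.count (k + y) (s : Multiset (ZMod r)) = Multiset.count y (s : Multiset (ZMod r)) := fun y => by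
          have e : ((s : Multiset (ZMod r)).map (k + ·)) = (s : Multiset (ZMod r)) := congrArg Subtype.val hs
          conv_lhs => rw [← e]
          exact Multiset.count_map_eq_count' _ _ (add_right_injective k) y
        have h2 : ∀ j : ℕ, Multiset.count ((j : ZMod r) * k) (s : Multiset (ZMod r)) =
            Multiset.count 0 (s : Multiset (ZMod r)) := fun j => by
          induction j with
          | zero => simp
          | succ j ih => rw [Nat.cast_succ, add_mul, one_mul, add_comm, h1, ih]
        have := h2 (x * k⁻¹).val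
        rwa [ZMod.natCast_val, ZMod.cast_id, inv_mul_cancel_right₀ hk] at this
      have huniv : ∀ s : Sym (ZMod r) n, k +ᵥ s = s →
          (s : Multiset (ZMod r)) = Multiset.count 0 (s : Multiset (ZMod r)) • (Finset.univ : Finset (ZMod r)).val := by
        intro s hs
        refine Multiset.ext.2 fun x => ?_
        rw [Multiset.count_nsmul, Multiset.count_univ, mul_one]
        exact hconst s hs x
      have hcount : ∀ s : Sym (ZMod r) n, k +ᵥ s = s → Multiset.count 0 (s : Multiset (ZMod r)) * r = n := by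
        intro s hs
        have := congrArg Multiset.card (huniv s hs)
        rw [Sym.card_coe, Multiset.card_nsmul, Finset.card_val, Finset.card_univ, ZMod.card] at this
        exact this.symm
      split_ifs with hdiv
      · obtain ⟨c, hc⟩ := hdiv
        refine Fintype.card_eq_one_iff.2 ⟨⟨⟨c • (Finset.univ : Finset (ZMod r)).val, by
          rw [Multiset.card_nsmul, Finset.card_val, Finset.card_univ, ZMod.card, hc, mul_comm]⟩, ?_⟩, fun s => ?_⟩
        · refine Sym.coe_injective ?_
          show Multiset.map (k + ·) (c • (Finset.univ : Finset (ZMod r)).val) = c • (Finset.univ : Finset (ZMod r)).val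
          rw [Multiset.map_nsmul]
          congr 1
          exact Multiset.map_univ_val_equiv (Equiv.addLeft k)
        · refine Subtype.ext (Sym.coe_injective ?_)
          show (s.1 : Multiset (ZMod r)) = c • (Finset.univ : Finset (ZMod r)).val
          rw [huniv s.1 s.2]
          congr 1
          exact Nat.eq_of_mul_eq_mul_right hr.pos (by rw [hcount s.1 s.2, hc, mul_comm])
      · exact Fintype.card_eq_zero_iff.2 ⟨fun s => hdiv ⟨_, by rw [mul_comm]; exact (hcount s.1 s.2).symm⟩⟩
    rw [← Finset.add_sum_erase _ _ (Finset.mem_univ (0 : ZMod r)), hzero,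
      Finset.sum_congr rfl (fun k hk => hfix k (Finset.ne_of_mem_erase hk)), Finset.sum_const,
      Finset.card_erase_of_mem (Finset.mem_univ _), Finset.card_univ, ZMod.card, smul_eq_mul] at hB
    rw [hB]
    simp only [O, Nat.card_eq_fintype_card]
  · refine Nat.card_congr ⟨Quot.lift (Quotient.mk _) ?_, Quotient.lift (Quot.mk _) ?_, ?_, ?_⟩
    · rintro s t ⟨k, rfl⟩
      exact (Quotient.sound (⟨k, rfl⟩ : (s.map (k + ·)) ∈ AddAction.orbit (ZMod r) s)).symm
    · rintro s t ⟨k, rfl⟩
      exact (Quot.sound ⟨k, rfl⟩).symm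
    · intro q; induction q using Quot.ind; rfl
    · intro q; induction q using Quotient.ind; rfl

variable {G : Type*} [Group G] (ι : G →* GL (Fin n) K) (S : Subgroup Kˣ) (sc : S →* G)

/-- The class count. -/
theorem card_classes (hι : Function.Injective ι) (hn : 2 ≤ n)
    (hsc : ∀ c : S, (ι (sc c) : Matrix (Fin n) (Fin n) K) = ((c : Kˣ) : K) • 1)
    (hcen : Subgroup.center G = sc.range) (ω : S) (hω : IsPrimitiveRoot ((ω : Kˣ) : K) r)
    (hpow : ∀ (a : S) (b : Kˣ), b ^ r = (a : Kˣ) → ∃ b' : S, b' ^ r = a)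
    (hconj : ∀ (a : S) (g h : G), g ^ r = sc a → h ^ r = sc a →
      (ι g : Matrix (Fin n) (Fin n) K).charpoly = (ι h : Matrix (Fin n) (Fin n) K).charpoly → IsConj g h)
    (hdiag : ∀ v : Fin n → S, ∃ g : G, (ι g : Matrix (Fin n) (Fin n) K) = Matrix.diagonal fun i => ((v i : Kˣ) : K))
    (hnon : ∀ a : S, (∀ b : S, b ^ r ≠ a) → r ∣ n → ∃ g : G, g ^ r = sc a) :
    Nat.card {C : ConjClasses (G ⧸ Subgroup.center G) // ∃ g, ConjClasses.mk g = C ∧ orderOf g = r} =
      (Nat.choose (n + r - 1) (r - 1) - r - (if r ∣ n then 1 else 0)) / r + r * (if r ∣ n then 1 else 0) := by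
  classical
  have hr : r.Prime := Fact.out
  haveI : NeZero r := ⟨hr.ne_zero⟩
  haveI : NeZero n := ⟨by omega⟩
  haveI : Finite G := Finite.of_injective ι hι
  haveI := Fintype.ofFinite S
  set Z := Subgroup.center G with hZ
  have hscmem : ∀ c : S, sc c ∈ Z := fun c => hcen ▸ ⟨c, rfl⟩
  have hcomm : ∀ (c : S) (g : G), g * sc c = sc c * g := fun c g => Subgroup.mem_center_iff.1 (hscmem c) g
  have hscinj : Function.Injective sc := fun c d h => by
    have := congrArg (fun x => (ι x : Matrix (Fin n) (Fin n) K) 0 0) h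
    simp only [hsc, Matrix.smul_apply, Matrix.one_apply_eq, smul_eq_mul, mul_one] at this
    exact Subtype.ext (Units.ext this)
  have hωr : ω ^ r = 1 := Subtype.ext (Units.ext (by simpa using hω.pow_eq_one))
  let ε : ZMod r → S := fun k => ω ^ k.val
  have hεadd : ∀ a b, ε (a + b) = ε a * ε b := fun a b => by
    show ω ^ (a + b).val = ω ^ a.val * ω ^ b.val
    rw [← pow_add, ZMod.val_add]
    exact (pow_eq_pow_mod _ hωr).symm
  let E : ZMod r → K := fun k => ((ε k : Kˣ) : K)
  have hEpow : ∀ k, E k = ((ω : Kˣ) : K) ^ k.val := fun k => by simp [E, ε]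
  have hEinj : Function.Injective E := fun a b h => by
    rw [hEpow, hEpow] at h
    exact ZMod.val_injective r (hω.pow_inj (ZMod.val_lt a) (ZMod.val_lt b) h)
  have hEsurj : ∀ c : S, c ^ r = 1 → ∃ k, ε k = c := fun c hc => by
    obtain ⟨i, hi, hic⟩ := hω.eq_pow_of_pow_eq_one (ξ := ((c : Kˣ) : K)) (by
      simpa using congrArg (fun x : S => ((x : Kˣ) : K)) hc)
    exact ⟨(i : ZMod r), Subtype.ext (Units.ext (by
      show E (i : ZMod r) = _
      rw [hEpow, ZMod.val_natCast_of_lt hi, hic]))⟩
  have hε0 : ∀ k, ε k ^ r = 1 := fun k => by rw [← pow_mul, mul_comm, pow_mul, hωr, one_pow]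
  let χ : Sym (ZMod r) n → K[X] := fun s => ((s : Multiset (ZMod r)).map fun k => X - C (E k)).prod
  have hχinj : Function.Injective χ := fun s t h => by
    have h' := congrArg Polynomial.roots h
    simp only [χ] at h'
    rw [show ((s : Multiset (ZMod r)).map fun k => X - C (E k)) = ((s : Multiset (ZMod r)).map E).map (fun a => X - C a) by
        rw [Multiset.map_map]; rfl,
      show ((t : Multiset (ZMod r)).map fun k => X - C (E k)) = ((t : Multiset (ZMod r)).map E).map (fun a => X - C a) by
        rw [Multiset.map_map]; rfl,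
      roots_multiset_prod_X_sub_C, roots_multiset_prod_X_sub_C] at h'
    exact Sym.coe_injective (Multiset.map_injective hEinj h')
  -- models
  have hrepr : ∀ s : Sym (ZMod r) n, ∃ v : Fin n → ZMod r, Finset.univ.val.map v = (s : Multiset (ZMod r)) := fun s => by
    obtain ⟨l, hl⟩ := Quot.exists_rep (s : Multiset (ZMod r))
    have hlen : l.length = n := by
      have := congrArg Multiset.card hl
      simpa using this
    subst hlen
    exact ⟨fun i => l.get i, by rw [← hl, Fin.univ_val_map, List.ofFn_get]; rfl⟩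
  have hmodel : ∀ s : Sym (ZMod r) n, ∃ g : G, g ^ r = 1 ∧ (ι g : Matrix (Fin n) (Fin n) K).charpoly = χ s := fun s => by
    obtain ⟨v, hv⟩ := hrepr s
    obtain ⟨g, hg⟩ := hdiag fun i => ε (v i)
    refine ⟨g, hι ?_, ?_⟩
    · rw [map_pow, map_one]
      refine Units.ext ?_
      rw [Units.val_pow_eq_pow_val, hg, Matrix.diagonal_pow, Units.val_one]
      refine (congrArg Matrix.diagonal (funext fun i => ?_)).trans Matrix.diagonal_one
      simpa using congrArg (fun x : S => ((x : Kˣ) : K)) (hε0 (v i))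
    · rw [hg, Matrix.charpoly_diagonal]
      show ∏ i, (X - C (E (v i))) = _
      rw [Finset.prod_eq_multiset_prod]
      simp only [χ]
      rw [← hv, Multiset.map_map]
      rfl
  choose mdl hmdl hmdlχ using hmodel
  have hscal : ∀ (c : S) (s : Sym (ZMod r) n) (g : G), (ι g : Matrix (Fin n) (Fin n) K).charpoly = χ s →
      g ^ r = 1 → ∀ k, ε k = c → (ι (g * sc c) : Matrix (Fin n) (Fin n) K).charpoly = χ (s.map (k + ·)) := by
    intro c s g hg hgr k hk
    obtain ⟨v, hv⟩ := hrepr s
    obtain ⟨d, hd⟩ := hdiag fun i => ε (v i)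
    have hdr : d ^ r = 1 := hι (by
      rw [map_pow, map_one]
      refine Units.ext ?_
      rw [Units.val_pow_eq_pow_val, hd, Matrix.diagonal_pow, Units.val_one]
      refine (congrArg Matrix.diagonal (funext fun i => ?_)).trans Matrix.diagonal_one
      simpa using congrArg (fun x : S => ((x : Kˣ) : K)) (hε0 (v i)))
    have hdc : (ι d : Matrix (Fin n) (Fin n) K).charpoly = χ s := by
      rw [hd, Matrix.charpoly_diagonal]
      show ∏ i, (X - C (E (v i))) = _
      rw [Finset.prod_eq_multiset_prod]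
      simp only [χ]
      rw [← hv, Multiset.map_map]
      rfl
    obtain ⟨u, hu⟩ := isConj_iff.1 (hconj 1 d g (by rw [map_one, hdr]) (by rw [map_one, hgr]) (hdc.trans hg.symm))
    have e : g * sc c = u * (d * sc c) * u⁻¹ := by rw [← hu, mul_assoc, mul_assoc, mul_assoc, hcomm c]; group
    rw [e, map_mul, map_mul _ u, map_inv, Units.val_mul, Units.val_mul, Matrix.coe_units_inv, Matrix.charpoly_units_conj,
      map_mul, Units.val_mul, hd, hsc, Matrix.mul_smul, mul_one, ← Matrix.diagonal_smul, Matrix.charpoly_diagonal,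
      Finset.prod_eq_multiset_prod]
    simp only [χ, Sym.coe_map]
    rw [← hv, Multiset.map_map, Multiset.map_map]
    refine congrArg Multiset.prod (Multiset.map_congr rfl fun i _ => ?_)
    simp only [Function.comp_apply, Pi.smul_apply, smul_eq_mul, E, hεadd, hk, Subgroup.coe_mul, Units.val_mul]
  let P : Subgroup S := (powMonoidHom r).range
  have hP : ∀ a : S, a ∈ P ↔ ∃ b : S, b ^ r = a := fun a => Iff.rfl
  have hnonK : ∀ a : S, a ∉ P → ∀ b : K, b ^ r ≠ ((a : Kˣ) : K) := fun a ha b hb => by
    have hb0 : b ≠ 0 := fun h => by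
      rw [h, zero_pow hr.ne_zero] at hb; exact (a : Kˣ).ne_zero hb.symm
    exact ha ((hP a).2 (hpow a (Units.mk0 b hb0) (Units.ext (by simpa using hb))))
  have hscalar : ∀ (g : G) (a : S), g ^ r = sc a →
      (ι g : Matrix (Fin n) (Fin n) K) ^ r = ((a : Kˣ) : K) • 1 := fun g a h => by
    rw [← Units.val_pow_eq_pow_val, ← map_pow, h, hsc]
  -- the parameters
  let B := {x : S ⧸ P // x ≠ 1 ∧ r ∣ n}
  have hout : ∀ x : B, Quotient.out x.1 ∉ P := fun x h => x.2.1 (by
    rw [← QuotientGroup.out_eq' x.1, QuotientGroup.eq_one_iff]; exact h)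
  have hmodelB : ∀ x : B, ∃ g : G, g ^ r = sc (Quotient.out x.1) :=
    fun x => hnon _ (fun b hb => hout x ((hP _).2 ⟨b, hb⟩)) x.2.2
  choose mdlB hmdlB using hmodelB
  let R := fun s t : Sym (ZMod r) n => ∃ k : ZMod r, t = s.map (k + ·)
  have hq : ∀ g h : G, (QuotientGroup.mk g : G ⧸ Z) = QuotientGroup.mk h ↔ ∃ c : S, h = g * sc c := fun g h => by
    rw [QuotientGroup.eq, hcen]
    constructor
    · rintro ⟨c, hc⟩; exact ⟨c, by rw [hc, mul_inv_cancel_left]⟩
    · rintro ⟨c, rfl⟩; exact ⟨c, by rw [inv_mul_cancel_left]⟩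
  have hq' : ∀ g h : G, IsConj g h → IsConj (QuotientGroup.mk g : G ⧸ Z) (QuotientGroup.mk h) :=
    fun g h e => (QuotientGroup.mk' Z).map_isConj e
  have hqc : ∀ g h : G, IsConj (QuotientGroup.mk g : G ⧸ Z) (QuotientGroup.mk h) → ∃ c : S, IsConj (g * sc c) h := by
    intro g h e
    obtain ⟨u, hu⟩ := isConj_iff.1 e
    induction u using QuotientGroup.induction_on with
    | _ u =>
      rw [← QuotientGroup.mk_inv, ← QuotientGroup.mk_mul, ← QuotientGroup.mk_mul] at hu
      obtain ⟨c, hc⟩ := (hq _ _).1 hu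
      exact ⟨c, isConj_iff.2 ⟨u, by
        rw [hc, ← mul_assoc u g (sc c), mul_assoc (u * g) (sc c) u⁻¹, ← hcomm c u⁻¹, ← mul_assoc]⟩⟩
  let T := {C : ConjClasses (G ⧸ Z) // ∃ g, ConjClasses.mk g = C ∧ g ^ r = 1}
  have hmkr : ∀ g : G, ∀ a : S, g ^ r = sc a → (QuotientGroup.mk g : G ⧸ Z) ^ r = 1 := fun g a h => by
    rw [← QuotientGroup.mk_pow, h, QuotientGroup.eq_one_iff]; exact hscmem a
  have hwd : ∀ s t, R s t → (⟨ConjClasses.mk (QuotientGroup.mk (mdl s)), _, rfl, hmkr _ 1 (by rw [map_one, hmdl])⟩ : T) =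
      ⟨ConjClasses.mk (QuotientGroup.mk (mdl t)), _, rfl, hmkr _ 1 (by rw [map_one, hmdl])⟩ := by
    rintro s t ⟨k, rfl⟩
    refine Subtype.ext (ConjClasses.mk_eq_mk_iff_isConj.2 ?_)
    have e : (QuotientGroup.mk (mdl s) : G ⧸ Z) = QuotientGroup.mk (mdl s * sc (ε k)) := (hq _ _).2 ⟨ε k, rfl⟩
    rw [e]
    refine hq' _ _ (hconj 1 _ _ ?_ (by rw [map_one, hmdl]) ((hscal _ s _ (hmdlχ s) (hmdl s) k rfl).trans (hmdlχ _).symm))
    rw [Commute.mul_pow (hcomm (ε k) _), hmdl, one_mul, ← map_pow, hε0]
  let Φ : Quot R ⊕ B → T := Sum.elim (Quot.lift _ hwd)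
    (fun x => ⟨ConjClasses.mk (QuotientGroup.mk (mdlB x)), _, rfl, hmkr _ _ (hmdlB x)⟩)
  have hpowc : ∀ (g h : G) (c a b : S), IsConj (g * sc c) h → g ^ r = sc a → h ^ r = sc b → b = a * c ^ r := by
    intro g h c a b e hg hh
    obtain ⟨u, hu⟩ := isConj_iff.1 e
    refine hscinj ?_
    rw [← hh, ← hu, conj_pow, Commute.mul_pow (hcomm c g), hg, ← map_pow, ← map_mul, hcomm _ u, mul_inv_cancel_right]
  have hΦ : Function.Bijective Φ := by
    constructor
    · intro x y e
      have e' := congrArg Subtype.val e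
      rcases x with x | x <;> rcases y with y | y
      · induction x using Quot.ind with
        | _ s =>
          induction y using Quot.ind with
          | _ t =>
            obtain ⟨c, hc⟩ := hqc _ _ (ConjClasses.mk_eq_mk_iff_isConj.1 e')
            have h1 := hpowc _ _ c 1 1 hc (by rw [map_one, hmdl]) (by rw [map_one, hmdl])
            rw [one_mul] at h1
            obtain ⟨k, hk⟩ := hEsurj c h1.symm
            obtain ⟨u, hu⟩ := isConj_iff.1 hc
            have h2 : χ t = χ (s.map (k + ·)) := by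
              rw [← hmdlχ t, ← hu, map_mul, map_mul _ u, map_inv, Units.val_mul, Units.val_mul, Matrix.coe_units_inv,
                Matrix.charpoly_units_conj, hscal c s _ (hmdlχ s) (hmdl s) k hk]
            exact congrArg Sum.inl (Quot.sound ⟨k, hχinj h2⟩)
      · induction x using Quot.ind with
        | _ s =>
          obtain ⟨c, hc⟩ := hqc _ _ (ConjClasses.mk_eq_mk_iff_isConj.1 e')
          have h1 := hpowc _ _ c 1 _ hc (by rw [map_one, hmdl]) (hmdlB y)
          exact absurd ((hP _).2 ⟨c, (one_mul _).symm.trans h1.symm⟩) (hout y)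
      · induction y using Quot.ind with
        | _ t =>
          obtain ⟨c, hc⟩ := hqc _ _ (ConjClasses.mk_eq_mk_iff_isConj.1 e')
          have h1 := hpowc _ _ c _ 1 hc (hmdlB x) (by rw [map_one, hmdl])
          exact absurd ((hP _).2 ⟨c⁻¹, by rw [inv_pow, inv_eq_iff_eq_inv, eq_inv_iff_mul_eq_one, mul_comm]; exact h1.symm⟩)
            (hout x)
      · obtain ⟨c, hc⟩ := hqc _ _ (ConjClasses.mk_eq_mk_iff_isConj.1 e')
        have h1 := hpowc _ _ c _ _ hc (hmdlB x) (hmdlB y)
        refine congrArg Sum.inr (Subtype.ext ?_)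
        rw [← QuotientGroup.out_eq' x.1, ← QuotientGroup.out_eq' y.1, QuotientGroup.eq, h1, inv_mul_cancel_left]
        exact ⟨c, rfl⟩
    · rintro ⟨C, x, rfl, hx⟩
      induction x using QuotientGroup.induction_on with
      | _ g =>
        rw [← QuotientGroup.mk_pow, QuotientGroup.eq_one_iff, hcen] at hx
        obtain ⟨a, ha⟩ := hx
        by_cases haP : a ∈ P
        · obtain ⟨b, hb⟩ := (hP a).1 haP
          have hh : (g * sc b⁻¹) ^ r = 1 := by
            rw [Commute.mul_pow (hcomm b⁻¹ g), ← map_pow, ← ha, ← map_mul, inv_pow, hb, mul_inv_cancel, map_one]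
          obtain ⟨hprod, hfac⟩ := prod_factors (ι (g * sc b⁻¹) : Matrix (Fin n) (Fin n) K)
          set L := UniqueFactorizationMonoid.normalizedFactors (ι (g * sc b⁻¹) : Matrix (Fin n) (Fin n) K).charpoly
          have hlin : ∀ f ∈ L, ∃ k, f = X - C (E k) := fun f hf => by
            obtain ⟨hm, hi, hd⟩ := hfac f hf
            have h1 := factors_dvd (r := r) (a := 1) (by rw [hscalar _ 1 (by rw [hh, map_one])]; simp) f hm hi hd
            rw [map_one, X_pow_sub_one_eq_prod hr.pos hω, hi.prime.dvd_finsetProd_iff] at h1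
            obtain ⟨ζ, hζ, hfζ⟩ := h1
            rw [mem_nthRootsFinset hr.pos] at hζ
            obtain ⟨i, hi', hiζ⟩ := hω.eq_pow_of_pow_eq_one hζ
            refine ⟨(i : ZMod r), ?_⟩
            rw [hEpow, ZMod.val_natCast_of_lt hi', hiζ]
            exact eq_of_monic_of_associated hm (monic_X_sub_C ζ) (hi.associated_of_dvd (irreducible_X_sub_C ζ) hfζ)
          let κ : K[X] → ZMod r := fun f => if h : ∃ k, f = X - C (E k) then h.choose else 0
          have hκ : L.map (fun f => X - C (E (κ f))) = L := by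
            conv_rhs => rw [← Multiset.map_id L]
            refine Multiset.map_congr rfl fun f hf => ?_
            simp only [κ, dif_pos (hlin f hf), id]
            exact (hlin f hf).choose_spec.symm
          have hcard : (L.map κ).card = n := by
            have hd := congrArg natDegree hprod
            rw [← hκ, natDegree_multiset_prod_of_monic _ (fun f hf => by
              obtain ⟨f', -, rfl⟩ := Multiset.mem_map.1 hf; exact monic_X_sub_C _), Multiset.map_map,
              Matrix.charpoly_natDegree_eq_dim, Fintype.card_fin] at hd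
            rw [Multiset.card_map, ← hd]
            simp
          let s : Sym (ZMod r) n := ⟨L.map κ, hcard⟩
          have hs : (ι (g * sc b⁻¹) : Matrix (Fin n) (Fin n) K).charpoly = χ s := by
            rw [← hprod]
            conv_lhs => rw [← hκ]
            simp only [χ, s, Sym.coe_mk, Multiset.map_map]
            rfl
          refine ⟨Sum.inl (Quot.mk _ s), Subtype.ext (ConjClasses.mk_eq_mk_iff_isConj.2 ?_)⟩
          have e : (QuotientGroup.mk g : G ⧸ Z) = QuotientGroup.mk (g * sc b⁻¹) := (hq _ _).2 ⟨_, rfl⟩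
          rw [e]
          exact hq' _ _ (hconj 1 _ _ (by rw [map_one, hmdl]) (by rw [map_one, hh]) ((hmdlχ s).trans hs.symm))
        · obtain ⟨hdiv, -⟩ := charpoly_nonpower (hscalar g a ha.symm) (hnonK a haP)
          let x : B := ⟨(a : S ⧸ P), fun h => haP ((QuotientGroup.eq_one_iff _).1 h), hdiv⟩
          obtain ⟨c, hc⟩ : (Quotient.out x.1)⁻¹ * a ∈ P := QuotientGroup.eq.1 (QuotientGroup.out_eq' x.1)
          refine ⟨Sum.inr x, Subtype.ext (ConjClasses.mk_eq_mk_iff_isConj.2 ?_)⟩
          have e : (QuotientGroup.mk g : G ⧸ Z) = QuotientGroup.mk (g * sc c⁻¹) := (hq _ _).2 ⟨_, rfl⟩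
          rw [e]
          have hh : (g * sc c⁻¹) ^ r = sc (Quotient.out x.1) := by
            rw [powMonoidHom_apply] at hc
            rw [Commute.mul_pow (hcomm c⁻¹ g), ← map_pow, ← ha, ← map_mul, inv_pow, hc, mul_inv_rev, inv_inv,
              mul_inv_cancel_left]
          exact hq' _ _ (hconj _ _ _ (hmdlB x) hh
            ((charpoly_nonpower (hscalar _ _ (hmdlB x)) (hnonK _ (hout x))).2.trans
              (charpoly_nonpower (hscalar _ _ hh) (hnonK _ (hout x))).2.symm))
  -- counting
  obtain ⟨O, hO, hOc⟩ := card_shift_orbits (r := r) hn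
  have hcardP : Nat.card (S ⧸ P) = r := by
    haveI : IsCyclic S := Subgroup.isCyclic S
    have h1 : r ∣ Nat.card S := by
      rw [← orderOf_eq_prime hωr (fun h => hω.ne_one hr.one_lt (by rw [h]; rfl))]
      exact orderOf_dvd_natCard ω
    rw [← Subgroup.index_eq_card, IsCyclic.index_powMonoidHom_range, Nat.gcd_eq_right h1]
  have hB : Nat.card B = (r - 1) * (if r ∣ n then 1 else 0) := by
    split_ifs with hdiv
    · rw [Nat.card_congr (Equiv.subtypeEquivRight (q := fun x : S ⧸ P => x ≠ 1) fun x => and_iff_left hdiv), mul_one]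
      haveI : Finite (S ⧸ P) := Quotient.finite _
      haveI := Fintype.ofFinite (S ⧸ P)
      rw [Nat.card_eq_fintype_card, Fintype.card_subtype_compl, Fintype.card_subtype_eq, ← Nat.card_eq_fintype_card,
        hcardP]
    · haveI : IsEmpty B := ⟨fun x => hdiv x.2.2⟩
      simp
  have hone : (ConjClasses.mk (1 : G ⧸ Z)) ∈ {C : ConjClasses (G ⧸ Z) | ∃ g, ConjClasses.mk g = C ∧ g ^ r = 1} :=
    ⟨1, rfl, one_pow r⟩
  have hset : {C : ConjClasses (G ⧸ Z) | ∃ g, ConjClasses.mk g = C ∧ orderOf g = r} =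
      {C : ConjClasses (G ⧸ Z) | ∃ g, ConjClasses.mk g = C ∧ g ^ r = 1} \ {ConjClasses.mk 1} := by
    ext C
    constructor
    · rintro ⟨g, rfl, hg⟩
      refine ⟨⟨g, rfl, hg ▸ pow_orderOf_eq_one g⟩, fun e => ?_⟩
      rw [Set.mem_singleton_iff, ConjClasses.mk_eq_mk_iff_isConj, isConj_one_left] at e
      rw [e, orderOf_one] at hg
      exact hr.ne_one hg.symm
    · rintro ⟨⟨g, rfl, hg⟩, hne⟩
      exact ⟨g, rfl, orderOf_eq_prime hg fun e => hne (by rw [e]; rfl)⟩
  show Nat.card ({C : ConjClasses (G ⧸ Z) | ∃ g, ConjClasses.mk g = C ∧ orderOf g = r} : Set (ConjClasses (G ⧸ Z))) = _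
  rw [Nat.card_coe_set_eq, hset, Set.ncard_diff_singleton_of_mem hone, ← Nat.card_coe_set_eq]
  change Nat.card T - 1 = _
  haveI : Finite (Quot R) := Finite.of_surjective (Quot.mk R) Quot.exists_rep
  haveI : Finite B := by haveI : Finite (S ⧸ P) := Quotient.finite _; exact Subtype.finite
  rw [← Nat.card_eq_of_bijective Φ hΦ, Nat.card_sum, hOc, hB]
  have hC : r + 1 ≤ Nat.choose (n + r - 1) (r - 1) := by
    have h2 := hr.two_le
    refine le_trans ?_ (Nat.choose_le_choose (r - 1) (show r + 1 ≤ n + r - 1 by omega))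
    rw [← Nat.choose_symm (show r - 1 ≤ r + 1 by omega), show r + 1 - (r - 1) = 2 by omega, Nat.choose_two_right,
      Nat.add_sub_cancel, Nat.le_div_iff_mul_le two_pos]
    exact Nat.mul_le_mul_left _ h2
  set e := (if r ∣ n then 1 else 0) with he
  have he1 : e ≤ 1 := by rw [he]; split_ifs <;> simp
  set Cn := Nat.choose (n + r - 1) (r - 1)
  have h2 := hr.two_le
  obtain he0 | he0 : e = 0 ∨ e = 1 := by omega
  · rw [he0] at hO ⊢
    simp only [mul_zero, add_zero, Nat.sub_zero] at hO ⊢
    rw [← hO]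
    conv_rhs => rw [show O * r - r = (O - 1) * r by rw [Nat.sub_mul, one_mul], Nat.mul_div_cancel _ hr.pos]
  · rw [he0] at hO ⊢
    simp only [mul_one] at hO ⊢
    have hd : Cn - r - 1 = (O - 2) * r := by rw [Nat.sub_mul]; omega
    have hO2 : 2 ≤ O := by
      by_contra hlt
      have : O * r ≤ 1 * r := Nat.mul_le_mul_right r (by omega)
      omega
    rw [hd, Nat.mul_div_cancel _ hr.pos]
    omega

end Cfsg.Lib.ProjClasses
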