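import Cfsg.Agent.Known.ProjClasses
import Cfsg.Agent.Known.UnitarySemisimple
import Cfsg.Agent.Known.UnitaryGU
import Mathlib

/-! The class counts in `PGL` and `PGU`. -/

set_option autoImplicit false
set_option linter.style.haveILetI false
set_option linter.unusedSectionVars false

open Polynomial

namespace Cfsg.Lib.ProjClasses

universe u

theorem card_classes_GL {K : Type u} [Field K] [Fintype K] {n r : ℕ} [Fact r.Prime] (hn : 2 ≤ n)
    (hr : r ∣ Fintype.card K - 1) :
    Nat.card {C : ConjClasses (GL (Fin n) K ⧸ Subgroup.center (GL (Fin n) K)) //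
        ∃ g : GL (Fin n) K ⧸ Subgroup.center (GL (Fin n) K), ConjClasses.mk g = C ∧ orderOf g = r} =
      (Nat.choose (n + r - 1) (r - 1) - r - (if r ∣ n then 1 else 0)) / r + r * (if r ∣ n then 1 else 0) := by
  classical
  obtain ⟨ω, hω⟩ := exists_prime_orderOf_dvd_card' (G := Kˣ) r (by
    rwa [Nat.card_eq_fintype_card, Fintype.card_units])
  have hrK : (r : K) ≠ 0 := fun h => by
    obtain ⟨c, hc⟩ := hr
    have h1 : (Fintype.card K : K) = 1 := by
      rw [show Fintype.card K = r * c + 1 by have := Fintype.card_pos (α := K); omega]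
      push_cast
      rw [h, zero_mul, zero_add]
    rw [Nat.cast_card_eq_zero] at h1
    exact zero_ne_one h1
  let sc : (⊤ : Subgroup Kˣ) →* GL (Fin n) K := (Matrix.GeneralLinearGroup.scalar (Fin n)).comp (⊤ : Subgroup Kˣ).subtype
  have hsc : ∀ c, ((sc c : GL (Fin n) K) : Matrix (Fin n) (Fin n) K) = ((c : Kˣ) : K) • 1 := fun c => by
    simp [sc, Matrix.smul_one_eq_diagonal, Matrix.scalar_apply]
  refine card_classes (MonoidHom.id _) ⊤ sc Function.injective_id hn hsc ?_ ⟨ω, trivial⟩ ?_
    (fun a b hb => ⟨⟨b, trivial⟩, Subtype.ext hb⟩) ?_ ?_ ?_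
  · rw [Matrix.GeneralLinearGroup.center_eq_range_scalar]
    ext g
    constructor
    · rintro ⟨c, rfl⟩; exact ⟨⟨c, trivial⟩, rfl⟩
    · rintro ⟨c, rfl⟩; exact ⟨c.1, rfl⟩
  · exact (IsPrimitiveRoot.coe_units_iff.2 (hω ▸ IsPrimitiveRoot.orderOf ω))
  · intro a g h hg hh hc
    obtain ⟨T, hT, hTe⟩ := similar (a := ((a : Kˣ) : K)) (Units.ne_zero _) hrK
      (by rw [← Units.val_pow_eq_pow_val, MonoidHom.id_apply, hg, hsc]) (by rw [← Units.val_pow_eq_pow_val, MonoidHom.id_apply, hh, hsc]) hc
    exact isConj_iff.2 ⟨Matrix.GeneralLinearGroup.mkOfDetNeZero T hT, mul_inv_eq_iff_eq_mul.2 (Units.ext hTe)⟩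
  · intro v
    exact ⟨Matrix.GeneralLinearGroup.mkOfDetNeZero (Matrix.diagonal fun i => ((v i : Kˣ) : K)) (by
      rw [Matrix.det_diagonal]; exact Finset.prod_ne_zero_iff.2 fun i _ => Units.ne_zero _), rfl⟩
  · intro a _ hdiv
    obtain ⟨M, hM⟩ := exists_root_matrix hdiv ((a : Kˣ) : K)
    have hdet : M.det ≠ 0 := fun h => by
      have := congrArg Matrix.det hM
      rw [Matrix.det_pow, h, zero_pow (Fact.out : r.Prime).ne_zero, Matrix.det_smul, Matrix.det_one, mul_one] at this
      exact pow_ne_zero _ (Units.ne_zero _) this.symm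
    exact ⟨Matrix.GeneralLinearGroup.mkOfDetNeZero M hdet, Units.ext (by
      rw [Units.val_pow_eq_pow_val, hsc]; exact hM)⟩

open Cfsg.Lib.UnitaryConj Cfsg.Lib.Classical

theorem card_classes_GU {K : Type u} [Field K] [Fintype K] {n q r : ℕ} [Fact r.Prime] (hK : Fintype.card K = q ^ 2)
    (hn : 2 ≤ n) (hr2 : r ≠ 2) (hr : r ∣ q + 1) :
    Nat.card {C : ConjClasses (↥(Cfsg.GU n K q) ⧸ Subgroup.center ↥(Cfsg.GU n K q)) //
        ∃ g : ↥(Cfsg.GU n K q) ⧸ Subgroup.center ↥(Cfsg.GU n K q), ConjClasses.mk g = C ∧ orderOf g = r} =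
      (Nat.choose (n + r - 1) (r - 1) - r - (if r ∣ n then 1 else 0)) / r + r * (if r ∣ n then 1 else 0) := by
  classical
  haveI : Fact (ringChar K).Prime := ⟨CharP.char_is_prime K _⟩
  set p := ringChar K
  have hrp : r.Prime := Fact.out
  have hinv := invol hK
  have hne := exists_moved hK
  have hq1 : 1 ≤ q := Nat.pos_of_ne_zero (fun h => by
    have := Fintype.card_pos (α := K); rw [hK, h] at this; simp at this)
  have hdvd : q + 1 ∣ Fintype.card Kˣ := ⟨q - 1, by rw [Fintype.card_units, hK, ← Nat.sq_sub_sq, one_pow]⟩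
  obtain ⟨ω, hω⟩ := exists_prime_orderOf_dvd_card' (G := Kˣ) r (by
    rw [Nat.card_eq_fintype_card]; exact hr.trans hdvd)
  let S : Subgroup Kˣ := (powMonoidHom (q + 1) : Kˣ →* Kˣ).ker
  have hS : ∀ c : Kˣ, c ∈ S ↔ powConj hK (c : K) * c = 1 := fun c => by
    rw [MonoidHom.mem_ker, powMonoidHom_apply, powConj_apply, ← pow_succ, Units.ext_iff]; simp
  have hωS : ω ∈ S := by
    rw [MonoidHom.mem_ker, powMonoidHom_apply, ← orderOf_dvd_iff_pow_eq_one, hω]; exact hr
  have hrK : (r : K) ≠ 0 := fun h => by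
    have h1 : (Fintype.card K : K) = 1 := by
      obtain ⟨c, hc⟩ := hr
      obtain ⟨d, hd⟩ := hdvd
      rw [Fintype.card_units] at hd
      rw [show Fintype.card K = r * (c * d) + 1 by
        rw [← mul_assoc, ← hc]; have := Fintype.card_pos (α := K); omega]
      push_cast
      rw [h, zero_mul, zero_add]
    rw [Nat.cast_card_eq_zero] at h1
    exact zero_ne_one h1
  have hsc0 : ∀ c : S, cst (powConj hK) (((c : Kˣ) : K) • (1 : Matrix (Fin n) (Fin n) K)) *
      (((c : Kˣ) : K) • (1 : Matrix (Fin n) (Fin n) K)) = 1 := fun c => by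
    have h := (hS c.1).1 c.2
    rw [Matrix.smul_one_eq_diagonal]
    simp only [cst, Matrix.diagonal_map (map_zero _), Matrix.diagonal_transpose, Matrix.diagonal_mul_diagonal, Function.comp_def, h]
    exact Matrix.diagonal_one
  choose sc₀ hsc₀ using fun c : S => exists_GU_of (n := n) hK _ (hsc0 c)
  let sc : S →* ↥(Cfsg.GU n K q) :=
    { toFun := sc₀
      map_one' := Subtype.ext (Units.ext (by rw [hsc₀]; simp))
      map_mul' := fun a b => Subtype.ext (Units.ext (by
        simp [hsc₀, smul_smul, mul_comm])) }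
  have hsc : ∀ c, (((sc c : ↥(Cfsg.GU n K q)) : GL (Fin n) K) : Matrix (Fin n) (Fin n) K) = ((c : Kˣ) : K) • 1 := hsc₀
  have hmat : ∀ g : ↥(Cfsg.GU n K q), cst (powConj hK) ((g : GL (Fin n) K) : Matrix (Fin n) (Fin n) K) *
      ((g : GL (Fin n) K) : Matrix (Fin n) (Fin n) K) = 1 := fun g => (mem_GU hK _).1 g.2
  refine card_classes (Cfsg.GU n K q).subtype S sc Subtype.val_injective hn hsc ?_ ⟨ω, hωS⟩ ?_ ?_ ?_ ?_ ?_
  · ext g
    constructor
    · intro hg
      rw [Subgroup.mem_center_iff] at hg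
      set A := ((g : GL (Fin n) K) : Matrix (Fin n) (Fin n) K) with hA
      have hcomm : ∀ M : Matrix (Fin n) (Fin n) K, cst (powConj hK) M * M = 1 → M * A = A * M := fun M hM => by
        obtain ⟨h, hh⟩ := exists_GU_of hK M hM
        have := congrArg (fun x : ↥(Cfsg.GU n K q) => ((x : GL (Fin n) K) : Matrix (Fin n) (Fin n) K)) (hg h)
        simpa [hh, hA] using this
      have hω1 : (ω : K) ≠ 1 := fun h => by
        rw [Units.val_eq_one] at h; rw [h, orderOf_one] at hω; exact hrp.ne_one hω.symm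
      have hoff : ∀ i j, i ≠ j → A i j = 0 := fun i j hij => by
        have h := congrFun (congrFun (hcomm (Matrix.diagonal fun k => if k = i then (ω : K) else 1) (by
          simp only [cst, Matrix.diagonal_map (map_zero _), Matrix.diagonal_transpose, Matrix.diagonal_mul_diagonal]
          refine (congrArg Matrix.diagonal (funext fun k => ?_)).trans Matrix.diagonal_one
          split_ifs
          · exact (hS ω).1 hωS
          · simp)) i) j
        rw [Matrix.diagonal_mul, Matrix.mul_diagonal, if_pos rfl, if_neg (Ne.symm hij), mul_one] at h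
        by_contra h0
        exact hω1 (mul_right_cancel₀ h0 (h.trans (one_mul _).symm))
      have hdiag : ∀ i j, A i i = A j j := fun i j => by
        have h := congrFun (congrFun (hcomm ((Equiv.swap i j).toPEquiv.toMatrix : Matrix (Fin n) (Fin n) K) (by
          ext a b
          simp only [cst, Matrix.mul_apply, Matrix.transpose_apply, Matrix.map_apply, PEquiv.toMatrix_apply,
            Equiv.toPEquiv_apply, Option.mem_def, Option.some.injEq, Matrix.one_apply]
          rw [Finset.sum_eq_single (Equiv.swap i j a)]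
          · simp
          · intro c _ hc
            rw [if_neg (fun e => hc (by rw [← e, Equiv.swap_apply_self])), map_zero, zero_mul]
          · simp)) i) j
        rw [PEquiv.toMatrix_toPEquiv_mul, PEquiv.mul_toMatrix_toPEquiv] at h
        simpa using h.symm
      have i₀ : Fin n := ⟨0, by omega⟩
      have hAs : A = A i₀ i₀ • 1 := by
        ext a b
        by_cases hab : a = b
        · subst hab; simp [hdiag a i₀]
        · simp [hoff a b hab, Matrix.one_apply_ne hab]
      have hc0 : A i₀ i₀ ≠ 0 := fun h0 => by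
        have := hmat g
        rw [← hA, hAs, h0, zero_smul, mul_zero] at this
        haveI hne₀ : Nonempty (Fin n) := ⟨i₀⟩
        exact zero_ne_one this
      refine ⟨⟨Units.mk0 _ hc0, (hS _).2 ?_⟩, Subtype.ext (Units.ext ((hsc _).trans hAs.symm))⟩
      have := congrFun (congrFun (hmat g) i₀) i₀
      rw [← hA, hAs] at this
      simpa [cst, Matrix.mul_apply, Matrix.one_apply, apply_ite (powConj hK), Finset.sum_ite_eq'] using this
    · rintro ⟨c, rfl⟩
      refine Subgroup.mem_center_iff.2 fun h => Subtype.ext (Units.ext ?_)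
      simp [hsc]
  · exact IsPrimitiveRoot.coe_units_iff.2 (hω ▸ IsPrimitiveRoot.orderOf ω)
  · intro a b hb
    refine ⟨⟨b, ?_⟩, Subtype.ext hb⟩
    rw [MonoidHom.mem_ker, powMonoidHom_apply, ← orderOf_dvd_iff_pow_eq_one]
    have h1 : orderOf b ∣ (q + 1) * r := orderOf_dvd_of_pow_eq_one (by
      rw [mul_comm, pow_mul, hb]; exact MonoidHom.mem_ker.1 a.2)
    have h2 : orderOf b ∣ (q + 1) * (q - 1) := by
      have h := orderOf_dvd_card (x := b)
      rwa [Fintype.card_units, hK, show q ^ 2 - 1 = (q + 1) * (q - 1) by rw [← Nat.sq_sub_sq, one_pow]] at h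
    have h3 := Nat.dvd_gcd h1 h2
    rw [Nat.gcd_mul_left, Nat.Coprime.gcd_eq_one ?_, mul_one] at h3
    · exact h3
    · rw [hrp.coprime_iff_not_dvd]
      intro hd
      have h4 := Nat.dvd_sub hr hd
      rw [show q + 1 - (q - 1) = 2 by omega] at h4
      exact hr2 ((Nat.prime_dvd_prime_iff_eq hrp Nat.prime_two).1 h4)
  · intro a g h hg hh hc
    have hp : ∀ x : ↥(Cfsg.GU n K q), x ^ r = sc a →
        ((x : GL (Fin n) K) : Matrix (Fin n) (Fin n) K) ^ r = ((a : Kˣ) : K) • 1 := fun x hx => by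
      rw [← Units.val_pow_eq_pow_val, ← Subgroup.coe_pow, hx, hsc]
    obtain ⟨T, hT, hTe⟩ := similar (Units.ne_zero _) hrK (hp g hg) (hp h hh) hc
    exact conj_GU hK g h (Matrix.GeneralLinearGroup.mkOfDetNeZero T hT) hTe
  · intro v
    refine exists_GU_of hK (Matrix.diagonal fun i => ((v i : Kˣ) : K)) ?_
    simp only [cst, Matrix.diagonal_map (map_zero _), Matrix.diagonal_transpose, Matrix.diagonal_mul_diagonal]
    refine (congrArg Matrix.diagonal (funext fun i => ?_)).trans Matrix.diagonal_one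
    exact (hS _).1 (v i).2
  · intro a ha hdiv
    obtain ⟨M, hM⟩ := exists_root_matrix hdiv ((a : Kˣ) : K)
    have ha0 : ∀ b : K, b ^ r ≠ ((a : Kˣ) : K) := fun b hb => by
      have hb0 : b ≠ 0 := fun h => by
        rw [h, zero_pow hrp.ne_zero] at hb; exact (a : Kˣ).ne_zero hb.symm
      have hbu : (Units.mk0 b hb0) ^ r = (a : Kˣ) := Units.ext (by simpa using hb)
      refine ha ⟨Units.mk0 b hb0, ?_⟩ (Subtype.ext hbu)
      rw [MonoidHom.mem_ker, powMonoidHom_apply, ← orderOf_dvd_iff_pow_eq_one]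
      have h1 : orderOf (Units.mk0 b hb0) ∣ (q + 1) * r := orderOf_dvd_of_pow_eq_one (by
        rw [mul_comm, pow_mul, hbu]; exact MonoidHom.mem_ker.1 a.2)
      have h2 : orderOf (Units.mk0 b hb0) ∣ (q + 1) * (q - 1) := by
        have h := orderOf_dvd_card (x := Units.mk0 b hb0)
        rwa [Fintype.card_units, hK, show q ^ 2 - 1 = (q + 1) * (q - 1) by rw [← Nat.sq_sub_sq, one_pow]] at h
      have h3 := Nat.dvd_gcd h1 h2
      rw [Nat.gcd_mul_left, Nat.Coprime.gcd_eq_one ?_, mul_one] at h3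
      · exact h3
      · rw [hrp.coprime_iff_not_dvd]
        intro hd
        have h4 := Nat.dvd_sub hr hd
        rw [show q + 1 - (q - 1) = 2 by omega] at h4
        exact hr2 ((Nat.prime_dvd_prime_iff_eq hrp Nat.prime_two).1 h4)
    have hcardp : (Fintype.card K - 1).Coprime p := by
      obtain ⟨e, -, he⟩ := FiniteField.card K p
      rw [Nat.coprime_comm, (Fact.out : p.Prime).coprime_iff_not_dvd]
      intro hd
      have h1 : p ∣ Fintype.card K := he ▸ dvd_pow_self p e.pos.ne'
      have h2 := Nat.dvd_sub h1 hd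
      rw [Nat.sub_sub_self Fintype.card_pos] at h2
      exact (Fact.out : p.Prime).not_dvd_one h2
    have hrc : r.Coprime p := (Nat.coprime_primes hrp (Fact.out : p.Prime)).2 fun h => hrK (by rw [h]; exact ringChar.Nat.cast_ringChar)
    have hSS : UnitarySemisimple.SS p M := ⟨r * (Fintype.card K - 1), Nat.Coprime.mul_left hrc hcardp, by
      rw [pow_mul, hM, _root_.smul_pow, one_pow, FiniteField.pow_card_sub_one_eq_one _ (Units.ne_zero _), one_smul]⟩
    have hdual : M.charpoly = ((cst (powConj hK) M)⁻¹).charpoly := by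
      have hpow : (cst (powConj hK) M)⁻¹ ^ r = ((a : Kˣ) : K) • 1 := by
        have hk : ∀ k, cst (powConj hK) M ^ k = cst (powConj hK) (M ^ k) := fun k => by
          induction k with
          | zero => simp [cst]
          | succ k ih => rw [pow_succ, ih, pow_succ', cst_mul]
        rw [Matrix.inv_pow', hk, hM]
        exact Matrix.inv_eq_right_inv (hsc0 a)
      rw [(charpoly_nonpower hM ha0).2, (charpoly_nonpower hpow ha0).2]
    obtain ⟨x, hx, hxM⟩ := UnitarySemisimple.exists_unitary hinv hne (by omega) hSS hdual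
    obtain ⟨g, hg⟩ := exists_GU_of hK _ hxM
    refine ⟨g, Subtype.ext (Units.ext ?_)⟩
    have hxu : IsUnit x.det := isUnit_iff_ne_zero.2 hx
    rw [Subgroup.coe_pow, Units.val_pow_eq_pow_val, hg, hsc]
    have hpw : ∀ j : ℕ, (x * M * x⁻¹) ^ j = x * M ^ j * x⁻¹ := fun j => by
      induction j with
      | zero => rw [pow_zero, pow_zero, mul_one, Matrix.mul_nonsing_inv _ hxu]
      | succ j ih =>
        rw [pow_succ, ih, pow_succ]
        simp only [← mul_assoc]
        rw [mul_assoc (x * M ^ j) x⁻¹ x, Matrix.nonsing_inv_mul _ hxu, mul_one]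
    rw [hpw, hM, Matrix.mul_smul, mul_one, Matrix.smul_mul, Matrix.mul_nonsing_inv _ hxu]

end Cfsg.Lib.ProjClasses
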