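import Mathlib

/-!
Invariant subspaces of a regular nilpotent endomorphism are the kernels of its powers.
-/

namespace Cfsg.Lib.Known

open Module

variable {K V : Type*} [Field K] [AddCommGroup V] [Module K V] [FiniteDimensional K V]

theorem finrank_ker_pow_le (f : End K V) (h : finrank K (LinearMap.ker f) ≤ 1) (k : ℕ) :
    finrank K (LinearMap.ker (f ^ k)) ≤ k := by
  induction k with
  | zero => rw [pow_zero, End.one_eq_id, LinearMap.ker_id, finrank_bot]
  | succ k ih =>
    let g : LinearMap.ker (f ^ (k + 1)) →ₗ[K] LinearMap.ker f :=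
      ((f ^ k).comp (LinearMap.ker (f ^ (k + 1))).subtype).codRestrict (LinearMap.ker f) fun x => by
        have hx : (f ^ (k + 1)) x.1 = 0 := x.2
        change f ((f ^ k) x.1) = 0
        rw [← Module.End.mul_apply, ← pow_succ']
        exact hx
    have h1 := LinearMap.finrank_range_add_finrank_ker g
    have h2 : finrank K (LinearMap.range g) ≤ 1 := (Submodule.finrank_le _).trans h
    have h3 : finrank K (LinearMap.ker g) ≤ finrank K (LinearMap.ker (f ^ k)) := by
      let ψ : LinearMap.ker g →ₗ[K] LinearMap.ker (f ^ k) :=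
        ((LinearMap.ker (f ^ (k + 1))).subtype.comp (LinearMap.ker g).subtype).codRestrict
          (LinearMap.ker (f ^ k)) fun x => congrArg Subtype.val (x.2 : g x.1 = 0)
      refine LinearMap.finrank_le_finrank_of_injective (f := ψ) fun a b hab => ?_
      exact Subtype.ext (Subtype.ext (congrArg Subtype.val hab :))
    omega

/-- A subspace invariant under a nilpotent `f` with kernel of dimension at most 1 is the kernel of a power. -/
theorem eq_ker_pow_of_invariant (f : End K V) (hnil : IsNilpotent f)
    (h : finrank K (LinearMap.ker f) ≤ 1) (W : Submodule K V) (hW : ∀ v ∈ W, f v ∈ W) :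
    W = LinearMap.ker (f ^ finrank K W) := by
  refine Submodule.eq_of_le_of_finrank_le (fun v hv => ?_) (finrank_ker_pow_le f h _)
  obtain ⟨m, hm⟩ := hnil
  have h1 := Module.End.ker_pow_le_ker_pow_finrank (f.restrict hW) m
  have h0 : ((f.restrict hW) ^ m) ⟨v, hv⟩ = 0 := by
    refine Subtype.ext ?_
    rw [Module.End.pow_restrict m, LinearMap.restrict_coe_apply, hm]
    rfl
  have h2 : ((f.restrict hW) ^ finrank K W) ⟨v, hv⟩ = 0 := h1 h0
  have h3 := congrArg Subtype.val h2
  rw [Module.End.pow_restrict (finrank K W), LinearMap.restrict_coe_apply] at h3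
  exact h3

/-- For `f` nilpotent of index `finrank` and one dimensional kernel, the range of a power is the kernel of the
complementary one. -/
theorem ker_pow_eq_range_pow (f : End K V) {n : ℕ} (hn : finrank K V = n) (hf : f ^ n = 0)
    (h : finrank K (LinearMap.ker f) ≤ 1) {d : ℕ} (hd : d ≤ n) :
    LinearMap.ker (f ^ d) = LinearMap.range (f ^ (n - d)) := by
  refine (Submodule.eq_of_le_of_finrank_le ?_ ?_).symm
  · rintro _ ⟨a, rfl⟩
    change (f ^ d) ((f ^ (n - d)) a) = 0
    rw [← Module.End.mul_apply, ← pow_add, Nat.add_sub_cancel' hd, hf]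
    rfl
  · have h1 := LinearMap.finrank_range_add_finrank_ker (f ^ (n - d))
    have h2 := finrank_ker_pow_le f h (n - d)
    have h3 := finrank_ker_pow_le f h d
    omega

theorem finrank_ker_mulVecLin_le_one {ι : Type*} [Fintype ι] [DecidableEq ι] (M : Matrix ι ι K)
    (h : M.rank = Fintype.card ι - 1) : finrank K (LinearMap.ker M.mulVecLin) ≤ 1 := by
  have h1 := LinearMap.finrank_range_add_finrank_ker M.mulVecLin
  rw [Module.finrank_fintype_fun_eq_card] at h1
  rw [Matrix.rank] at h
  omega

end Cfsg.Lib.Known
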