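import Mathlib

/-!
Unipotent matrices: order bound, conjugacy and centraliser of regular unipotents.
-/

namespace Cfsg.Lib.Known.Unip

open Matrix Module

variable {F : Type*} [Field F] {n : ℕ}

theorem pow_card_eq_zero {N : Matrix (Fin n) (Fin n) F} (h : IsNilpotent N) : N ^ n = 0 := by
  obtain ⟨m, hm⟩ := h
  have hN : IsNilpotent (Matrix.toLin' N) := ⟨m, by rw [← Matrix.toLin'_pow, hm, map_zero]⟩
  have h1 := hN.charpoly_eq_X_pow_finrank
  have h2 := LinearMap.aeval_self_charpoly (Matrix.toLin' N)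
  rw [h1, map_pow, Polynomial.aeval_X, finrank_fin_fun] at h2
  apply Matrix.toLin'.injective
  rw [Matrix.toLin'_pow, h2, map_zero]

theorem pow_sub_one (p : ℕ) [Fact p.Prime] [CharP F p] (u : Matrix (Fin n) (Fin n) F) (k : ℕ) :
    (u - 1) ^ p ^ k = u ^ p ^ k - 1 := by
  rcases Nat.eq_zero_or_pos n with h | h
  · subst h; exact Subsingleton.elim _ _
  · haveI : Nonempty (Fin n) := ⟨⟨0, h⟩⟩
    rw [sub_pow_char_pow_of_commute _ _ (Commute.one_right _), one_pow]

theorem isNilpotent_sub_one (p : ℕ) [Fact p.Prime] [CharP F p] (g : GL (Fin n) F) {j : ℕ}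
    (hj : g ^ p ^ j = 1) : IsNilpotent ((g : Matrix (Fin n) (Fin n) F) - 1) :=
  ⟨p ^ j, by rw [pow_sub_one, ← Units.val_pow_eq_pow_val, hj, Units.val_one, sub_self]⟩

theorem orderOf_dvd (p : ℕ) [Fact p.Prime] [CharP F p] (g : GL (Fin n) F)
    (h : IsNilpotent ((g : Matrix (Fin n) (Fin n) F) - 1)) : orderOf g ∣ p ^ Nat.clog p n := by
  refine orderOf_dvd_of_pow_eq_one (Units.ext ?_)
  have h0 := pow_eq_zero_of_le (Nat.le_pow_clog (Fact.out (p := p.Prime)).one_lt n) (pow_card_eq_zero h)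
  rw [pow_sub_one, sub_eq_zero] at h0
  rw [Units.val_pow_eq_pow_val, h0, Units.val_one]

/-- Columns `N ^ i v`. -/
def orbitMat (N : Matrix (Fin n) (Fin n) F) (v : Fin n → F) : Matrix (Fin n) (Fin n) F :=
  Matrix.of fun i j => ((N ^ (j : ℕ)) *ᵥ v) i

/-- Lower shift. -/
def shift (n : ℕ) (F : Type*) [Field F] : Matrix (Fin n) (Fin n) F :=
  Matrix.of fun i j => if i.val = j.val + 1 then 1 else 0

theorem orbitMat_single (N : Matrix (Fin n) (Fin n) F) (v : Fin n → F) (j : Fin n) :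
    orbitMat N v *ᵥ Pi.single j 1 = (N ^ (j : ℕ)) *ᵥ v := by
  rw [mulVec_single_one]; rfl

theorem mul_orbitMat {N : Matrix (Fin n) (Fin n) F} (hN : N ^ n = 0) (v : Fin n → F) :
    N * orbitMat N v = orbitMat N v * shift n F := by
  refine ext_of_mulVec_single fun j => ?_
  rw [← mulVec_mulVec, ← mulVec_mulVec, orbitMat_single, mulVec_mulVec, ← pow_succ']
  by_cases hj : j.val + 1 < n
  · have : shift n F *ᵥ Pi.single j 1 = Pi.single ⟨j.val + 1, hj⟩ 1 := by
      rw [mulVec_single_one]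
      funext i
      simp [shift, Pi.single_apply, Fin.ext_iff]
    rw [this, orbitMat_single]
  · have : shift n F *ᵥ Pi.single j 1 = 0 := by
      rw [mulVec_single_one]
      funext i
      simp [shift]
      omega
    rw [this, mulVec_zero, pow_eq_zero_of_le (by omega) hN, zero_mulVec]

theorem orbitMat_injective {N : Matrix (Fin n) (Fin n) F} (hN : N ^ n = 0) (v : Fin n → F)
    (hv : (N ^ (n - 1)) *ᵥ v ≠ 0) : IsUnit (orbitMat N v) := by
  rw [← mulVec_injective_iff_isUnit]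
  intro a b hab
  by_contra hne
  obtain ⟨c, hc0, hc⟩ : ∃ c : Fin n → F, c ≠ 0 ∧ orbitMat N v *ᵥ c = 0 :=
    ⟨a - b, sub_ne_zero.2 hne, by rw [mulVec_sub, hab, sub_self]⟩
  obtain ⟨i, hi⟩ := Function.ne_iff.1 hc0
  classical
  let S := Finset.univ.filter fun i : Fin n => c i ≠ 0
  have hS : S.Nonempty := ⟨i, by simpa [S] using hi⟩
  let m := S.min' hS
  have hm : c m ≠ 0 := (Finset.mem_filter.1 (S.min'_mem hS)).2
  have hexp : orbitMat N v *ᵥ c = ∑ j : Fin n, c j • ((N ^ (j : ℕ)) *ᵥ v) := by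
    funext i
    simp [orbitMat, mulVec, dotProduct, mul_comm]
  rw [hexp] at hc
  have h2 := congrArg (fun w => (N ^ (n - 1 - m.val)) *ᵥ w) hc
  simp only [mulVec_zero, mulVec_sum, mulVec_smul, mulVec_mulVec, ← pow_add] at h2
  rw [Finset.sum_eq_single m] at h2
  · rw [show n - 1 - m.val + m.val = n - 1 by omega] at h2
    exact hv ((smul_eq_zero.1 h2).resolve_left hm)
  · intro j _ hj
    by_cases hcj : c j = 0
    · simp [hcj]
    · have : m.val < j.val := by
        have := S.min'_le j (by simpa [S] using hcj)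
        rcases lt_or_eq_of_le this with h | h
        · exact h
        · exact absurd h.symm hj
      rw [pow_eq_zero_of_le (by omega) hN, zero_mulVec, smul_zero]
  · simp

/-- Regular unipotents are conjugate in `GL`. -/
theorem isConj_of_regular (g h : GL (Fin n) F)
    (hg : IsNilpotent ((g : Matrix (Fin n) (Fin n) F) - 1))
    (hh : IsNilpotent ((h : Matrix (Fin n) (Fin n) F) - 1))
    (hg' : ((g : Matrix (Fin n) (Fin n) F) - 1) ^ (n - 1) ≠ 0)
    (hh' : ((h : Matrix (Fin n) (Fin n) F) - 1) ^ (n - 1) ≠ 0) : IsConj g h := by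
  have ex : ∀ M : Matrix (Fin n) (Fin n) F, M ≠ 0 → ∃ v, M *ᵥ v ≠ 0 := by
    intro M hM
    by_contra hno
    push Not at hno
    exact hM (ext_of_mulVec_single fun j => by rw [hno, zero_mulVec])
  obtain ⟨v, hv⟩ := ex _ hg'
  obtain ⟨w, hw⟩ := ex _ hh'
  have h1 := mul_orbitMat (pow_card_eq_zero hg) v
  have h2 := mul_orbitMat (pow_card_eq_zero hh) w
  let P := (orbitMat_injective (pow_card_eq_zero hg) v hv).unit
  let Q := (orbitMat_injective (pow_card_eq_zero hh) w hw).unit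
  have hPv : (P : Matrix (Fin n) (Fin n) F) = orbitMat _ v := rfl
  have hQv : (Q : Matrix (Fin n) (Fin n) F) = orbitMat _ w := rfl
  rw [← hPv, sub_mul, one_mul] at h1
  rw [← hQv, sub_mul, one_mul] at h2
  rw [isConj_iff]
  refine ⟨Q * P⁻¹, ?_⟩
  have e1 : (g : Matrix (Fin n) (Fin n) F) * P = P * (1 + shift n F) := by
    rw [mul_add, mul_one, ← h1]; abel
  have e2 : (h : Matrix (Fin n) (Fin n) F) * Q = Q * (1 + shift n F) := by
    rw [mul_add, mul_one, ← h2]; abel
  obtain ⟨S, hS⟩ : ∃ S : GL (Fin n) F, (S : Matrix (Fin n) (Fin n) F) = 1 + shift n F :=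
    ⟨P⁻¹ * g * P, by simp only [Units.val_mul]; rw [mul_assoc, e1, ← mul_assoc, Units.inv_mul, one_mul]⟩
  rw [← hS, ← Units.val_mul, ← Units.val_mul] at e1 e2
  have f1 : g * P = P * S := Units.ext e1
  have f2 : h * Q = Q * S := Units.ext e2
  calc Q * P⁻¹ * g * (Q * P⁻¹)⁻¹ = Q * P⁻¹ * (g * P) * Q⁻¹ := by group
    _ = Q * S * Q⁻¹ := by rw [f1]; group
    _ = h := by rw [← f2]; group

/-- The centraliser of a regular unipotent. -/
theorem card_centralizer_regular [Fintype F] (hn : 1 ≤ n) (u : GL (Fin n) F)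
    (hu : IsNilpotent ((u : Matrix (Fin n) (Fin n) F) - 1))
    (hu' : ((u : Matrix (Fin n) (Fin n) F) - 1) ^ (n - 1) ≠ 0) :
    Nat.card ↥(Subgroup.centralizer ({u} : Set (GL (Fin n) F))) = (Fintype.card F - 1) * Fintype.card F ^ (n - 1) := by
  classical
  set N := (u : Matrix (Fin n) (Fin n) F) - 1 with hN
  have hN0 := pow_card_eq_zero hu
  obtain ⟨v, hv⟩ : ∃ v, (N ^ (n - 1)) *ᵥ v ≠ 0 := by
    by_contra hno
    push Not at hno
    exact hu' (ext_of_mulVec_single fun j => by rw [hno, zero_mulVec])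
  have hP := orbitMat_injective hN0 v hv
  have hc : ∀ X : GL (Fin n) F, X ∈ Subgroup.centralizer ({u} : Set (GL (Fin n) F)) ↔
      (X : Matrix (Fin n) (Fin n) F) * N = N * (X : Matrix (Fin n) (Fin n) F) := by
    intro X
    rw [Subgroup.mem_centralizer_singleton_iff, hN, mul_sub, sub_mul, mul_one, one_mul, sub_left_inj,
      ← Units.val_inj, Units.val_mul, Units.val_mul]
    try exact eq_comm
  have hX : ∀ X : Matrix (Fin n) (Fin n) F, X * N = N * X → X * orbitMat N v = orbitMat N (X *ᵥ v) := by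
    intro X hX
    refine ext_of_mulVec_single fun j => ?_
    rw [← mulVec_mulVec, orbitMat_single, orbitMat_single, mulVec_mulVec, mulVec_mulVec]
    congr 1
    exact (Commute.pow_right hX j.val).eq
  let φ : ↥(Subgroup.centralizer ({u} : Set (GL (Fin n) F))) → {w : Fin n → F // (N ^ (n - 1)) *ᵥ w ≠ 0} :=
    fun X => ⟨(X.1 : Matrix (Fin n) (Fin n) F) *ᵥ v, by
      rw [mulVec_mulVec, ← (Commute.pow_right ((hc X.1).1 X.2) (n - 1)).eq, ← mulVec_mulVec]
      intro h
      apply hv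
      have := congrArg (fun x => ((X.1⁻¹ : GL (Fin n) F) : Matrix (Fin n) (Fin n) F) *ᵥ x) h
      simpa [mulVec_mulVec] using this⟩
  have hφ : Function.Bijective φ := by
    constructor
    · intro X Y h
      have h' : (X.1 : Matrix (Fin n) (Fin n) F) *ᵥ v = (Y.1 : Matrix (Fin n) (Fin n) F) *ᵥ v := congrArg Subtype.val h
      have e : (X.1 : Matrix (Fin n) (Fin n) F) * orbitMat N v = (Y.1 : Matrix (Fin n) (Fin n) F) * orbitMat N v := by
        rw [hX _ ((hc X.1).1 X.2), hX _ ((hc Y.1).1 Y.2), h']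
      exact Subtype.ext (Units.ext (hP.mul_left_inj.1 e))
    · rintro ⟨w, hw⟩
      let P := hP.unit
      let Q := (orbitMat_injective hN0 w hw).unit
      have h1 : N * (P : Matrix (Fin n) (Fin n) F) = (P : Matrix (Fin n) (Fin n) F) * shift n F := mul_orbitMat hN0 v
      have h2 : N * (Q : Matrix (Fin n) (Fin n) F) = (Q : Matrix (Fin n) (Fin n) F) * shift n F := mul_orbitMat hN0 w
      have hmem : Q * P⁻¹ ∈ Subgroup.centralizer ({u} : Set (GL (Fin n) F)) := by
        rw [hc, Units.val_mul]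
        apply (hP.mul_left_inj).1
        change _ * (P : Matrix (Fin n) (Fin n) F) = _ * (P : Matrix (Fin n) (Fin n) F)
        simp only [mul_assoc]
        rw [h1, Units.inv_mul, mul_one, ← mul_assoc ((P⁻¹ : GL (Fin n) F) : Matrix (Fin n) (Fin n) F),
          Units.inv_mul, one_mul, h2]
      refine ⟨⟨Q * P⁻¹, hmem⟩, Subtype.ext ?_⟩
      change ((Q * P⁻¹ : GL (Fin n) F) : Matrix (Fin n) (Fin n) F) *ᵥ v = w
      have hPv : (P : Matrix (Fin n) (Fin n) F) *ᵥ Pi.single ⟨0, by omega⟩ 1 = v := by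
        rw [IsUnit.unit_spec, orbitMat_single]; simp
      conv_lhs => rw [← hPv]
      rw [mulVec_mulVec, ← Units.val_mul, inv_mul_cancel_right]
      rw [IsUnit.unit_spec, orbitMat_single]; simp
  rw [Nat.card_eq_of_bijective φ hφ]
  -- count
  obtain ⟨k, rfl⟩ : ∃ k, n = k + 1 := ⟨n - 1, by omega⟩
  let P := hP.unit
  have key : ∀ c : Fin (k + 1) → F,
      (N ^ (k + 1 - 1)) *ᵥ ((P : Matrix (Fin (k + 1)) (Fin (k + 1)) F) *ᵥ c) = c 0 • ((N ^ (k + 1 - 1)) *ᵥ v) := by
    intro c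
    rw [show (P : Matrix (Fin (k + 1)) (Fin (k + 1)) F) *ᵥ c = ∑ j : Fin (k + 1), c j • ((N ^ (j : ℕ)) *ᵥ v) by
      funext i; simp [P, orbitMat, mulVec, dotProduct, mul_comm]]
    rw [mulVec_sum, Finset.sum_eq_single 0]
    · simp [mulVec_smul]
    · intro j _ hj
      have : 0 < j.val := Fin.pos_iff_ne_zero.2 hj
      rw [mulVec_smul, mulVec_mulVec, ← pow_add, pow_eq_zero_of_le (by omega) hN0, zero_mulVec, smul_zero]
    · simp
  let e : (Fin (k + 1) → F) ≃ (Fin (k + 1) → F) := Equiv.ofBijective _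
    ⟨mulVec_injective_of_isUnit P.isUnit, mulVec_surjective_iff_isUnit.2 P.isUnit⟩
  rw [← Nat.card_congr (e.subtypeEquiv (p := fun c => c 0 ≠ 0) (q := fun w => (N ^ (k + 1 - 1)) *ᵥ w ≠ 0)
    (fun c => by change c 0 ≠ 0 ↔ (N ^ (k + 1 - 1)) *ᵥ ((P : Matrix (Fin (k + 1)) (Fin (k + 1)) F) *ᵥ c) ≠ 0; rw [key]; simp only [ne_eq, smul_eq_zero, hv, or_false]))]
  let e2 : {c : Fin (k + 1) → F // c 0 ≠ 0} ≃ {a : F // a ≠ 0} × (Fin k → F) :=
    { toFun := fun c => (⟨c.1 0, c.2⟩, Fin.tail c.1)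
      invFun := fun x => ⟨Fin.cons x.1.1 x.2, by simpa using x.1.2⟩
      left_inv := fun c => Subtype.ext (Fin.cons_self_tail c.1)
      right_inv := fun x => by simp }
  rw [Nat.card_congr e2, Nat.card_prod, Nat.card_fun, Nat.card_fin, Nat.card_eq_fintype_card,
    Nat.card_eq_fintype_card, Fintype.card_subtype_compl, Fintype.card_subtype_eq, Nat.add_sub_cancel]

end Cfsg.Lib.Known.Unip
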