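import Cfsg.Agent.Known.SLBorelPair
import Cfsg.Agent.Known.SLConstrained
import Cfsg.Agent.Steinberg.DefectZeroUnique

/-!
# The blocks of `SL n F` in the defining characteristic

The Borel–Tits property for the split pair of `SL n F`, and the block data derived from it.
-/

set_option autoImplicit false
set_option linter.unusedSectionVars false
set_option linter.style.haveILetI false

open Matrix
open scoped MatrixGroups

namespace Cfsg.Lib.SLBN

open Cfsg.Lib.Known.BorelTitsSL Cfsg.Lib.Steinberg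

variable {n : ℕ} {F : Type*} [Field F]

local notation "SLn" => Matrix.SpecialLinearGroup (Fin n) F
local notation "Mn" => Matrix (Fin n) (Fin n) F

/-- The stabiliser of the flag of `R`. -/
def flagStab (R : Subgroup SLn) : Subgroup SLn where
  carrier := {g | ∀ i, ∀ v ∈ W R i, (g : Mn) *ᵥ v ∈ W R i ∧ ((g⁻¹ : SLn) : Mn) *ᵥ v ∈ W R i}
  one_mem' := fun i v hv => by simp [hv]
  mul_mem' := by
    intro a b ha hb i v hv
    constructor
    · rw [Matrix.SpecialLinearGroup.coe_mul, ← Matrix.mulVec_mulVec]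
      exact (ha i _ (hb i v hv).1).1
    · rw [_root_.mul_inv_rev, Matrix.SpecialLinearGroup.coe_mul, ← Matrix.mulVec_mulVec]
      exact (hb i _ (ha i v hv).2).2
  inv_mem' := by
    intro a ha i v hv
    rw [inv_inv]
    exact ⟨(ha i v hv).2, (ha i v hv).1⟩

theorem mem_flagStab {R : Subgroup SLn} {g : SLn} : g ∈ flagStab R ↔
    ∀ i, ∀ v ∈ W R i, (g : Mn) *ᵥ v ∈ W R i ∧ ((g⁻¹ : SLn) : Mn) *ᵥ v ∈ W R i := Iff.rfl

/-- The kernel of the action on the successive quotients. -/
def flagUnip (R : Subgroup SLn) : Subgroup SLn where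
  carrier := {g | g ∈ flagStab R ∧ ∀ i, ∀ v ∈ W R (i + 1), (g : Mn) *ᵥ v - v ∈ W R i}
  one_mem' := ⟨one_mem _, fun i v _ => by simp⟩
  mul_mem' := by
    rintro a b ⟨ha, ha'⟩ ⟨hb, hb'⟩
    refine ⟨mul_mem ha hb, fun i v hv => ?_⟩
    rw [Matrix.SpecialLinearGroup.coe_mul, ← Matrix.mulVec_mulVec,
      show (a : Mn) *ᵥ ((b : Mn) *ᵥ v) - v = (a : Mn) *ᵥ ((b : Mn) *ᵥ v - v) + ((a : Mn) *ᵥ v - v) by
        rw [Matrix.mulVec_sub]; abel]
    exact add_mem (ha i _ (hb' i v hv)).1 (ha' i v hv)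
  inv_mem' := by
    rintro a ⟨ha, ha'⟩
    refine ⟨inv_mem ha, fun i v hv => ?_⟩
    have e : ((a⁻¹ : SLn) : Mn) *ᵥ v - v = -(((a⁻¹ : SLn) : Mn) *ᵥ ((a : Mn) *ᵥ v - v)) := by
      rw [Matrix.mulVec_sub, Matrix.mulVec_mulVec, ← Matrix.SpecialLinearGroup.coe_mul, inv_mul_cancel,
        Matrix.SpecialLinearGroup.coe_one, Matrix.one_mulVec]
      abel
    rw [e]
    exact neg_mem (ha i _ (ha' i v hv)).2

theorem flagUnip_conj {R : Subgroup SLn} {g u : SLn} (hg : g ∈ flagStab R) (hu : u ∈ flagUnip R) :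
    g * u * g⁻¹ ∈ flagUnip R := by
  refine ⟨mul_mem (mul_mem hg hu.1) (inv_mem hg), fun i v hv => ?_⟩
  have h1 : v = (g : Mn) *ᵥ (((g⁻¹ : SLn) : Mn) *ᵥ v) := by
    rw [Matrix.mulVec_mulVec, ← Matrix.SpecialLinearGroup.coe_mul, mul_inv_cancel,
      Matrix.SpecialLinearGroup.coe_one, Matrix.one_mulVec]
  nth_rw 2 [h1]
  rw [Matrix.SpecialLinearGroup.coe_mul, Matrix.SpecialLinearGroup.coe_mul, ← Matrix.mulVec_mulVec,
    ← Matrix.mulVec_mulVec, ← Matrix.mulVec_sub]
  exact (hg i _ (hu.2 i _ (hg (i + 1) v hv).2)).1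

theorem normalizer_le_flagStab (R : Subgroup SLn) :
    Subgroup.normalizer (R : Set SLn) ≤ flagStab R := fun _ hg i v hv =>
  ⟨W_normal R hg i v hv, W_normal R (inv_mem hg) i v hv⟩

theorem le_flagUnip (R : Subgroup SLn) : R ≤ flagUnip R := fun r hr =>
  ⟨normalizer_le_flagStab R (Subgroup.le_normalizer hr), fun _ _ hv => mem_W_succ.1 hv r hr⟩

variable [Fintype F] (p : ℕ) [Fact p.Prime] [CharP F p]

theorem exists_W_eq_top {R : Subgroup SLn} (hR : IsPGroup p R) : ∃ m, W R m = ⊤ := by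
  by_contra hno
  push Not at hno
  have : ∀ i, i ≤ Module.finrank F (W R i) := by
    intro i
    induction i with
    | zero => exact Nat.zero_le _
    | succ i ih =>
      exact Nat.succ_le_of_lt (ih.trans_lt (Submodule.finrank_lt_finrank_of_lt (lt_succ p hR (hno i))))
  have h := (this (n + 1)).trans (Submodule.finrank_le _)
  simp at h

theorem isPGroup_flagUnip (hn : 1 ≤ n) {R : Subgroup SLn} (hR : IsPGroup p R) :
    IsPGroup p (flagUnip R) := by
  haveI : Nonempty (Fin n) := ⟨⟨0, hn⟩⟩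
  obtain ⟨m, hm⟩ := exists_W_eq_top p hR
  intro g
  refine ⟨m, Subtype.ext (Subtype.ext ?_)⟩
  show (((g.1 ^ p ^ m : SLn)) : Mn) = 1
  have hnil : ∀ j, ∀ i, ∀ v ∈ W R (i + j), ((g.1 : Mn) - 1) ^ j *ᵥ v ∈ W R i := by
    intro j
    induction j with
    | zero => intro i v hv; simpa using hv
    | succ j ih =>
      intro i v hv
      rw [pow_succ', ← Matrix.mulVec_mulVec, Matrix.sub_mulVec, Matrix.one_mulVec]
      exact g.2.2 i _ (ih (i + 1) v (by rwa [Nat.add_right_comm]))
  have h0 : ((g.1 : Mn) - 1) ^ m = 0 := Matrix.toLin'.injective (LinearMap.ext fun v => by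
    have h1 := hnil m 0 v (by rw [zero_add, hm]; trivial)
    rw [W, Submodule.mem_bot] at h1
    rw [Matrix.toLin'_apply, map_zero, LinearMap.zero_apply]
    exact h1)
  have h1 : ((g.1 : Mn) - 1) ^ p ^ m = 0 :=
    pow_eq_zero_of_le (Nat.lt_pow_self (Fact.out : p.Prime).one_lt).le h0
  rw [sub_pow_char_pow_of_commute _ _ (Commute.one_right _), one_pow, sub_eq_zero] at h1
  rw [Matrix.SpecialLinearGroup.coe_pow]
  exact h1

omit [Fintype F] [Fact p.Prime] [CharP F p] in
/-- A sequence of vectors adapted to a chain of subspaces. -/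
theorem exists_adapted (Wc : ℕ → Submodule F (Fin n → F)) (h0 : Wc 0 = ⊥)
    (hle : ∀ i, Wc i ≤ Wc (i + 1)) (i : ℕ) :
    ∃ b : ℕ → (Fin n → F), ∀ j ≤ i,
      Wc j = Submodule.span F (b '' Set.Iio (Module.finrank F (Wc j))) := by
  classical
  induction i with
  | zero =>
    refine ⟨fun _ => 0, fun j hj => ?_⟩
    rw [Nat.le_zero.1 hj, h0, finrank_bot]
    simp
  | succ i ih =>
    obtain ⟨b, hb⟩ := ih
    obtain ⟨C₀, hC₀⟩ := Submodule.exists_isCompl (Wc i)
    set C := C₀ ⊓ Wc (i + 1) with hC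
    have hsup : Wc i ⊔ C = Wc (i + 1) := by
      rw [hC, ← sup_inf_assoc_of_le C₀ (hle i), hC₀.sup_eq_top, top_inf_eq]
    have hinf : Wc i ⊓ C = ⊥ := by
      rw [hC, ← inf_assoc, hC₀.inf_eq_bot, bot_inf_eq]
    have hdim := Submodule.finrank_sup_add_finrank_inf_eq (Wc i) C
    rw [hsup, hinf, finrank_bot, add_zero] at hdim
    set d := Module.finrank F (Wc i)
    set r := Module.finrank F C
    let c := Module.finBasis F C
    let b' : ℕ → (Fin n → F) := fun k =>
      if k < d then b k else if h : k - d < r then (c ⟨k - d, h⟩ : Fin n → F) else 0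
    have hmono : ∀ j ≤ i, Module.finrank F (Wc j) ≤ d := fun j hj =>
      Submodule.finrank_mono ((monotone_nat_of_le_succ hle) hj)
    refine ⟨b', fun j hj => ?_⟩
    rcases hj.lt_or_eq with hlt | rfl
    · conv_lhs => rw [hb j (Nat.le_of_lt_succ hlt)]
      congr 1
      refine Set.image_congr fun k hk => ?_
      rw [Set.mem_Iio] at hk
      exact (if_pos (hk.trans_le (hmono j (Nat.le_of_lt_succ hlt)))).symm
    · have himg : b' '' Set.Iio (Module.finrank F (Wc (i + 1))) =
          b '' Set.Iio d ∪ Set.range (fun k : Fin r => (c k : Fin n → F)) := by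
        rw [hdim]
        ext v
        simp only [Set.mem_image, Set.mem_Iio, Set.mem_union, Set.mem_range, b']
        constructor
        · rintro ⟨k, hk, rfl⟩
          by_cases hkd : k < d
          · exact Or.inl ⟨k, hkd, (if_pos hkd).symm⟩
          · exact Or.inr ⟨⟨k - d, by omega⟩, by rw [if_neg hkd, dif_pos (by omega)]⟩
        · rintro (⟨k, hk, rfl⟩ | ⟨k, rfl⟩)
          · exact ⟨k, by omega, if_pos hk⟩
          · refine ⟨d + k, by omega, ?_⟩
            rw [if_neg (by omega), dif_pos (by simp)]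
            simp
      have hspanC : Submodule.span F (Set.range (fun k : Fin r => (c k : Fin n → F))) = C := by
        rw [show Set.range (fun k : Fin r => (c k : Fin n → F)) = C.subtype '' Set.range c by
          rw [← Set.range_comp]; rfl, Submodule.span_image, c.span_eq, Submodule.map_top,
          Submodule.range_subtype]
      rw [himg, Submodule.span_union, ← hb i le_rfl, hspanC, hsup]

theorem exists_conj_B_le (hn : 1 ≤ n) {R : Subgroup SLn} (hR : IsPGroup p R) :
    ∃ q : SLn, ∀ x ∈ B n F, q * x * q⁻¹ ∈ flagStab R := by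
  classical
  obtain ⟨m, hm⟩ := exists_W_eq_top p hR
  have hWmono : ∀ {i j}, i ≤ j → W R i ≤ W R j := fun h => monotone_nat_of_le_succ (W_le_succ R) h
  obtain ⟨b, hb⟩ := exists_adapted (W R) rfl (W_le_succ R) m
  have htop : Submodule.span F (b '' Set.Iio n) = ⊤ := by
    have h := hb m le_rfl
    rw [hm, finrank_top, Module.finrank_fin_fun] at h
    exact h.symm
  let A : Mn := Matrix.of fun x y => b y x
  have hA : ∀ v, A *ᵥ v = ∑ y : Fin n, v y • b y := fun v => by
    ext x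
    simp [A, Matrix.mulVec, dotProduct, Finset.sum_apply, mul_comm]
  have hAsingle : ∀ y : Fin n, A *ᵥ Pi.single y 1 = b y := fun y => by
    ext x; simp [A]
  have hAdet : IsUnit A.det := by
    rw [← Matrix.isUnit_iff_isUnit_det, ← Matrix.mulVec_surjective_iff_isUnit]
    intro v
    have hv : v ∈ Submodule.span F (b '' Set.Iio n) := htop ▸ Submodule.mem_top
    have hle : Submodule.span F (b '' Set.Iio n) ≤ LinearMap.range A.mulVecLin :=
      Submodule.span_le.2 fun w hw => by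
        obtain ⟨k, hk, rfl⟩ := hw
        exact ⟨Pi.single ⟨k, hk⟩ 1, hAsingle ⟨k, hk⟩⟩
    exact hle hv
  let s : Fin n → F := fun y => if y = ⟨0, hn⟩ then A.det⁻¹ else 1
  have hs : ∀ y, s y ≠ 0 := fun y => by
    simp only [s]; split_ifs
    · exact inv_ne_zero hAdet.ne_zero
    · exact one_ne_zero
  have hdet : (A * Matrix.diagonal s).det = 1 := by
    rw [Matrix.det_mul, Matrix.det_diagonal, Finset.prod_eq_single (⟨0, hn⟩ : Fin n)]
    · simp [s, mul_inv_cancel₀ hAdet.ne_zero]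
    · intro y _ hy; simp [s, hy]
    · simp
  let q : SLn := ⟨A * Matrix.diagonal s, hdet⟩
  have hq : ∀ v, (q : Mn) *ᵥ v = ∑ y : Fin n, (s y * v y) • b y := fun v => by
    show (A * Matrix.diagonal s) *ᵥ v = _
    rw [← Matrix.mulVec_mulVec, hA]
    exact Finset.sum_congr rfl fun y _ => by rw [Matrix.mulVec_diagonal]
  let std : ℕ → Submodule F (Fin n → F) := fun d =>
    { carrier := {v | ∀ y : Fin n, d ≤ (y : ℕ) → v y = 0}
      add_mem' := fun {u v} hu hv y hy => by simp [hu y hy, hv y hy]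
      zero_mem' := fun y _ => rfl
      smul_mem' := fun c v hv y hy => by simp [hv y hy] }
  have hW : ∀ i ≤ m, W R i = (std (Module.finrank F (W R i))).map (q : Mn).mulVecLin := by
    intro i hi
    set d := Module.finrank F (W R i) with hd
    have hdn : d ≤ n := (Submodule.finrank_le _).trans_eq (Module.finrank_fin_fun F)
    apply le_antisymm
    · rw [hb i hi, ← hd, Submodule.span_le]
      rintro _ ⟨k, hk, rfl⟩
      rw [Set.mem_Iio] at hk
      let y₀ : Fin n := ⟨k, hk.trans_le hdn⟩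
      refine ⟨Pi.single y₀ (s y₀)⁻¹, fun y hy => ?_, ?_⟩
      · rw [Pi.single_eq_of_ne]; intro e; rw [e] at hy; exact absurd hy (not_le.2 hk)
      · rw [Matrix.mulVecLin_apply, hq, Finset.sum_eq_single y₀]
        · rw [Pi.single_eq_same, mul_inv_cancel₀ (hs _), one_smul]
        · intro y _ hy; rw [Pi.single_eq_of_ne hy, mul_zero, zero_smul]
        · simp
    · rintro _ ⟨v, hv, rfl⟩
      rw [Matrix.mulVecLin_apply, hq]
      refine sum_mem fun y _ => ?_
      by_cases hy : d ≤ (y : ℕ)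
      · rw [hv y hy, mul_zero, zero_smul]; exact zero_mem _
      · refine Submodule.smul_mem _ _ ?_
        rw [hb i hi]
        exact Submodule.subset_span ⟨y, not_le.1 hy, rfl⟩
  have hBstd : ∀ x ∈ B n F, ∀ d, ∀ v ∈ std d, (x : Mn) *ᵥ v ∈ std d := by
    intro x hx d v hv y hy
    show ∑ k, (x : Mn) y k * v k = 0
    refine Finset.sum_eq_zero fun k _ => ?_
    rcases lt_or_ge k y with h | h
    · rw [mem_B.1 hx y k h, zero_mul]
    · rw [hv k (hy.trans (Fin.le_def.1 h)), mul_zero]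
  refine ⟨q, fun x hx => ?_⟩
  have key : ∀ x ∈ B n F, ∀ i, ∀ v ∈ W R i, ((q * x * q⁻¹ : SLn) : Mn) *ᵥ v ∈ W R i := by
    intro x hx i v hv
    rcases le_or_gt i m with hi | hi
    · rw [hW i hi] at hv ⊢
      obtain ⟨w, hw, rfl⟩ := hv
      refine ⟨(x : Mn) *ᵥ w, hBstd x hx _ w hw, ?_⟩
      rw [Matrix.mulVecLin_apply, Matrix.mulVecLin_apply, Matrix.mulVec_mulVec, Matrix.mulVec_mulVec,
        ← Matrix.SpecialLinearGroup.coe_mul, ← Matrix.SpecialLinearGroup.coe_mul, inv_mul_cancel_right]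
    · exact hWmono hi.le (hm ▸ Submodule.mem_top)
  rw [mem_flagStab]
  intro i v hv
  refine ⟨key x hx i v hv, ?_⟩
  have := key x⁻¹ (inv_mem hx) i v hv
  rwa [show (q * x * q⁻¹)⁻¹ = q * x⁻¹ * q⁻¹ by group]

/-- **Borel–Tits for `SL n F`.** -/
theorem borelTits (hn : 1 ≤ n) : BorelTits (pair n F) (U n F) p := by
  classical
  intro R hR
  have S := split (n := n) (F := F) p
  obtain ⟨q, hq⟩ := exists_conj_B_le p hn hR
  set Mq : Subgroup SLn := (flagStab R).comap (MulAut.conj q).toMonoidHom with hMq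
  set Vq : Subgroup SLn := (flagUnip R).comap (MulAut.conj q).toMonoidHom with hVq
  have hmemM : ∀ g, g ∈ Mq ↔ q * g * q⁻¹ ∈ flagStab R := fun g => Iff.rfl
  have hmemV : ∀ g, g ∈ Vq ↔ q * g * q⁻¹ ∈ flagUnip R := fun g => Iff.rfl
  have hBM : (pair n F).B ≤ Mq := fun x hx => (hmemM x).2 (hq x hx)
  have hVn : ∀ g ∈ Mq, ∀ u ∈ Vq, g * u * g⁻¹ ∈ Vq := fun g hg u hu => by
    rw [hmemV] at hu ⊢
    rw [show q * (g * u * g⁻¹) * q⁻¹ = (q * g * q⁻¹) * (q * u * q⁻¹) * (q * g * q⁻¹)⁻¹ by group]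
    exact flagUnip_conj hg hu
  have hVp : IsPGroup p Vq :=
    (isPGroup_flagUnip p hn hR).comap_of_injective _ (MulAut.conj q).injective
  have hVU : Vq ≤ U n F := by
    have hnorm : U n F ≤ Subgroup.normalizer (Vq : Set SLn) := fun g hg => by
      have hgM : g ∈ Mq := hBM (S.le hg)
      rw [Subgroup.mem_normalizer_iff]
      intro x
      refine ⟨hVn g hgM x, fun hx => ?_⟩
      have := hVn g⁻¹ (inv_mem hgM) _ hx
      rwa [show g⁻¹ * (g * x * g⁻¹) * g⁻¹⁻¹ = x by group] at this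
    have hsup : IsPGroup p ↥(U n F ⊔ Vq) := IsPGroup.to_sup_of_normal_right' S.isPGroup hVp hnorm
    obtain ⟨e, he⟩ := IsPGroup.iff_card.1 hsup
    have hcard : Nat.card ↥(U n F ⊔ Vq) ≤ Nat.card (U n F) := by
      rw [← factorization_eq S, he]
      refine Nat.pow_le_pow_right (Fact.out : p.Prime).pos
        (((Fact.out : p.Prime).pow_dvd_iff_le_factorization Nat.card_pos.ne').1 ?_)
      rw [← he]; exact Subgroup.card_subgroup_dvd_card _
    have := Subgroup.eq_of_le_of_card_ge le_sup_left hcard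
    exact le_sup_right.trans this.ge
  let K : Finset SLn := (Set.toFinite {s | s ∈ (pair n F).S ∧ s ∈ Mq}).toFinset
  have hKc : (K : Set SLn) = {s | s ∈ (pair n F).S ∧ s ∈ Mq} := Set.Finite.coe_toFinset _
  have hKS : (K : Set SLn) ⊆ (pair n F).S := fun s hs => (hKc ▸ hs : s ∈ {s | s ∈ (pair n F).S ∧ s ∈ Mq}).1
  obtain ⟨w, hw, htop⟩ := exists_top (P := pair n F) hKS
  have hMpar : Mq = (pair n F).parabolic (K : Set SLn) := by
    rw [hKc]; exact Cfsg.Lib.BN.eq_parabolic hBM
  refine ⟨K, w, q, hKS, hw, htop, fun g hg => ?_, fun r hr => ?_⟩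
  · rw [← hMpar, hmemM, show q * (q⁻¹ * g * q) * q⁻¹ = g by group]
    exact normalizer_le_flagStab R hg
  · have hrV : q⁻¹ * r * q ∈ Vq := by
      rw [hmemV, show q * (q⁻¹ * r * q) * q⁻¹ = r by group]
      exact le_flagUnip R hr
    have hwM : w ∈ Mq := by rw [hMpar]; exact Subgroup.mem_sup_right hw
    refine mem_rad.2 ⟨hVU hrV, S.le (hVU ?_)⟩
    have := hVn w⁻¹ (inv_mem hwM) _ hrV
    rwa [inv_inv] at this

/-- `SL n F` is generated by its `p`-elements. -/
theorem closure_p_elements :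
    Subgroup.closure {u : SLn | ∃ e, orderOf u = p ^ e} = ⊤ := by
  refine Cfsg.Lib.Classical.eq_top_of_transvection_mem _ fun i j hij c => Subgroup.subset_closure ?_
  have hpow : ∀ k : ℕ, (tv hij c : SLn) ^ k = tv hij ((k : F) * c) := by
    intro k
    induction k with
    | zero =>
      refine Subtype.ext ?_
      rw [pow_zero, Matrix.SpecialLinearGroup.coe_one, coe_tv, Nat.cast_zero, zero_mul, transvection_zero]
    | succ k ih =>
      refine Subtype.ext ?_
      rw [pow_succ, ih, Matrix.SpecialLinearGroup.coe_mul, coe_tv, coe_tv, coe_tv,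
        transvection_mul_transvection_same _ _ hij, Nat.cast_succ, add_mul, one_mul]
  have h1 : (tv hij c : SLn) ^ p = 1 := by
    rw [hpow, CharP.cast_eq_zero, zero_mul]
    exact Subtype.ext (by rw [coe_tv, transvection_zero, Matrix.SpecialLinearGroup.coe_one])
  obtain ⟨e, -, he⟩ := (Nat.dvd_prime_pow (Fact.out : p.Prime)).1
    (show orderOf (tv hij c : SLn) ∣ p ^ 1 by rw [pow_one]; exact orderOf_dvd_of_pow_eq_one h1)
  exact ⟨e, he⟩

theorem not_dvd_card_center (hn : 1 ≤ n) : ¬ p ∣ Nat.card (Subgroup.center SLn) := by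
  haveI : Nonempty (Fin n) := ⟨⟨0, hn⟩⟩
  rw [Cfsg.Lib.Classical.card_center_SL]
  intro h
  have h1 : p ∣ Nat.card F - 1 := h.trans (Nat.gcd_dvd_right _ _)
  obtain ⟨k, -, hk⟩ := FiniteField.card F p
  rw [Nat.card_eq_fintype_card] at h1
  have h3 : p ∣ Fintype.card F := hk ▸ dvd_pow_self p k.pos.ne'
  have h4 := Nat.dvd_sub h3 h1
  rw [Nat.sub_sub_self Fintype.card_pos] at h4
  exact (Fact.out : p.Prime).not_dvd_one h4

theorem factorization_ne_zero (hn : 2 ≤ n) : (Nat.card SLn).factorization p ≠ 0 := by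
  intro h
  have h1 := factorization_eq (split (n := n) (F := F) p)
  rw [h, pow_zero, card_U] at h1
  have h2 : 1 < Nat.card F := Finite.one_lt_card
  have h3 : Nat.card {p : Fin n × Fin n // p.1 < p.2} ≠ 0 := by
    haveI : Nonempty {p : Fin n × Fin n // p.1 < p.2} :=
      ⟨⟨(⟨0, by omega⟩, ⟨1, by omega⟩), Fin.lt_def.2 Nat.zero_lt_one⟩⟩
    exact Nat.card_pos.ne'
  exact absurd h1.symm (Nat.one_lt_pow h3 h2).ne'

/-- The Steinberg character as an element of `IrrCharacter`. -/
noncomputable def steinberg (p : ℕ) [Fact p.Prime] [CharP F p] : Cfsg.IrrCharacter SLn :=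
  ⟨st (pair n F), isIrr_st (split p) opp⟩

theorem deg_steinberg :
    Cfsg.Lib.Chars.deg ((steinberg (n := n) (F := F) p : Cfsg.IrrCharacter SLn) : SLn → ℂ) =
      p ^ (Nat.card SLn).factorization p := by
  rw [factorization_eq (split (n := n) (F := F) p)]
  exact deg_st (split p) opp

theorem eq_steinberg (hn : 1 ≤ n) (χ : Cfsg.IrrCharacter SLn)
    (h : p ^ (Nat.card SLn).factorization p ∣ Cfsg.Lib.Chars.deg (χ : SLn → ℂ)) :
    χ = steinberg p :=
  Subtype.ext (eq_st_of_defect_zero (split p) opp (fun K hK => radNormal K hK)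
    (closure_p_elements p) χ.2 (by rwa [← factorization_eq (split (n := n) (F := F) p)]))

end Cfsg.Lib.SLBN
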