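import Cfsg.Agent.Known.SLBorelPair
import Cfsg.Agent.BN.Basic
import Cfsg.Agent.Chars.Perm
import Cfsg.Prelude.Def_LinearParabolics
import Mathlib

/-! Double cosets of two parabolic subgroups of `GL n F` correspond to those of two Young subgroups. -/

set_option autoImplicit false

open Matrix

namespace Cfsg.Lib.FlagCells

variable {G : Type*} [Group G]

/-- `h` is in the double coset of `g`. -/
def Rel (P Q : Subgroup G) (g h : G) : Prop := ∃ p ∈ P, ∃ q ∈ Q, h = p * g * q

/-- The orbit of a pair of cosets. -/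
def pairOrbit (P Q : Subgroup G) (g : G) : MulAction.orbitRel.Quotient G ((G ⧸ P) × (G ⧸ Q)) :=
  Quotient.mk'' (((1 : G) : G ⧸ P), (g : G ⧸ Q))

theorem pairOrbit_surjective (P Q : Subgroup G) : Function.Surjective (pairOrbit P Q) := by
  intro o
  induction o using Quotient.inductionOn' with
  | _ x =>
    obtain ⟨x, y⟩ := x
    obtain ⟨a, rfl⟩ := QuotientGroup.mk_surjective x
    obtain ⟨b, rfl⟩ := QuotientGroup.mk_surjective y
    refine ⟨a⁻¹ * b, Quotient.sound' (MulAction.orbitRel_apply.2 ⟨a⁻¹, ?_⟩)⟩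
    show a⁻¹ • ((a : G ⧸ P), (b : G ⧸ Q)) = _
    rw [Prod.smul_mk, MulAction.Quotient.smul_mk, MulAction.Quotient.smul_mk, smul_eq_mul,
      smul_eq_mul, inv_mul_cancel]

theorem pairOrbit_eq_iff (P Q : Subgroup G) (g h : G) :
    pairOrbit P Q g = pairOrbit P Q h ↔ Rel P Q g h := by
  rw [pairOrbit, pairOrbit, Quotient.eq'', MulAction.orbitRel_apply]
  constructor
  · rintro ⟨a, ha⟩
    change a • (((1 : G) : G ⧸ P), (h : G ⧸ Q)) = _ at ha
    rw [Prod.smul_mk, MulAction.Quotient.smul_mk, MulAction.Quotient.smul_mk, smul_eq_mul, smul_eq_mul,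
      mul_one, Prod.mk.injEq, QuotientGroup.eq, QuotientGroup.eq, mul_one] at ha
    refine ⟨a⁻¹, ha.1, ((a * h)⁻¹ * g)⁻¹, inv_mem ha.2, ?_⟩
    group
  · rintro ⟨p, hp, q, hq, rfl⟩
    refine ⟨p⁻¹, ?_⟩
    show p⁻¹ • (((1 : G) : G ⧸ P), ((p * g * q : G) : G ⧸ Q)) = _
    rw [Prod.smul_mk, MulAction.Quotient.smul_mk, MulAction.Quotient.smul_mk, smul_eq_mul, smul_eq_mul,
      mul_one, show p⁻¹ * (p * g * q) = g * q by group, QuotientGroup.mk_mul_of_mem _ hq]
    congr 1
    rw [QuotientGroup.eq]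
    simpa using hp

theorem sum_fixed_mul [Fintype G] (P Q : Subgroup G) :
    (Nat.card G : ℂ)⁻¹ * ∑ g, Cfsg.fixedPointCharacter P g * Cfsg.fixedPointCharacter Q g =
      (Nat.card (MulAction.orbitRel.Quotient G ((G ⧸ P) × (G ⧸ Q))) : ℂ) := by
  rw [← Cfsg.Lib.Chars.classInner_permChar_one, Cfsg.Lib.Chars.classInner_def]
  congr 1
  refine Finset.sum_congr rfl fun g _ => ?_
  rw [map_one, mul_one, Cfsg.Lib.Chars.permChar, Cfsg.fixedPointCharacter, Cfsg.fixedPointCharacter,
    ← Nat.cast_mul, ← Nat.card_prod]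
  congr 1
  exact Nat.card_congr
    { toFun := fun x => ⟨(x.1.1, x.2.1), Prod.ext x.1.2 x.2.2⟩
      invFun := fun x => (⟨x.1.1, congrArg Prod.fst x.2⟩, ⟨x.1.2, congrArg Prod.snd x.2⟩)
      left_inv := fun _ => rfl
      right_inv := fun _ => rfl }

variable {n : ℕ}

theorem compLabel_mono (μ : Fin n → ℕ) : Monotone (Cfsg.compLabel μ) := fun i j hij =>
  Finset.card_le_card fun k hk => by
    simp only [Finset.mem_filter, Finset.mem_univ, true_and] at hk ⊢
    exact hk.trans (Fin.le_def.1 hij)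

theorem mem_young {μ : Fin n → ℕ} {σ : Equiv.Perm (Fin n)} :
    σ ∈ Cfsg.youngSubgroup μ ↔ ∀ i, Cfsg.compLabel μ (σ i) = Cfsg.compLabel μ i := Iff.rfl

variable {F : Type*} [Field F]

theorem mem_parabolic {μ : Fin n → ℕ} {g : GL (Fin n) F} :
    g ∈ Cfsg.parabolicGL n F μ ↔ ∀ i j, Cfsg.compLabel μ j < Cfsg.compLabel μ i →
      (g : Matrix (Fin n) (Fin n) F) i j = 0 :=
  ⟨fun h i j => h (i := i) (j := j), fun h i j => h i j⟩

variable (F) in
/-- The permutation matrices, as a map of monoids. -/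
def permMat : Equiv.Perm (Fin n) →* Matrix (Fin n) (Fin n) F where
  toFun σ := Matrix.of fun i j => if i = σ j then 1 else 0
  map_one' := by ext i j; simp [Matrix.one_apply]; congr
  map_mul' σ τ := by
    ext i j
    simp [Matrix.mul_apply, Equiv.Perm.mul_apply]; congr

variable (F) in
/-- The permutation matrices in `GL`. -/
def permGL : Equiv.Perm (Fin n) →* GL (Fin n) F := (permMat F).toHomUnits

theorem permGL_apply (σ : Equiv.Perm (Fin n)) (i j : Fin n) :
    ((permGL F σ : GL (Fin n) F) : Matrix (Fin n) (Fin n) F) i j = if i = σ j then 1 else 0 := rfl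

theorem permGL_mem {μ : Fin n → ℕ} {σ : Equiv.Perm (Fin n)} (h : σ ∈ Cfsg.youngSubgroup μ) :
    permGL F σ ∈ Cfsg.parabolicGL n F μ := by
  refine mem_parabolic.2 fun i j hij => ?_
  rw [permGL_apply, if_neg]
  rintro rfl
  rw [mem_young.1 h j] at hij
  exact lt_irrefl _ hij

theorem upper_mem (μ : Fin n → ℕ) {g : GL (Fin n) F}
    (h : ∀ i j : Fin n, j < i → (g : Matrix (Fin n) (Fin n) F) i j = 0) :
    g ∈ Cfsg.parabolicGL n F μ :=
  mem_parabolic.2 fun i j hij => h i j (lt_of_not_ge fun h' => (compLabel_mono μ h').not_gt hij)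

/-- Every double coset contains a permutation matrix. -/
theorem exists_perm (ν μ : Fin n → ℕ) (g : GL (Fin n) F) :
    ∃ σ, Rel (Cfsg.parabolicGL n F ν) (Cfsg.parabolicGL n F μ) (permGL F σ) g := by
  rcases Nat.eq_zero_or_pos n with rfl | hn
  · exact ⟨1, 1, one_mem _, 1, one_mem _, Units.ext (Subsingleton.elim _ _)⟩
  set i₀ : Fin n := ⟨0, hn⟩
  set c : F := (g : Matrix (Fin n) (Fin n) F).det with hc
  have hc0 : c ≠ 0 := g.det_ne_zero
  set dv : Fin n → F := Function.update 1 i₀ c with hdv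
  have hdet : (Matrix.diagonal dv).det = c := by
    rw [Matrix.det_diagonal, Finset.prod_eq_single i₀] <;>
      simp +contextual [hdv, Function.update_apply]
  let d : GL (Fin n) F :=
    Matrix.GeneralLinearGroup.mkOfDetNeZero (Matrix.diagonal dv) (by rw [hdet]; exact hc0)
  have hdg : ((d⁻¹ * g : GL (Fin n) F) : Matrix (Fin n) (Fin n) F).det = 1 := by
    rw [Units.val_mul, Matrix.det_mul, ← hc, ← hdet]
    have : ((d⁻¹ : GL (Fin n) F) : Matrix (Fin n) (Fin n) F).det * (Matrix.diagonal dv).det = 1 := by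
      rw [← Matrix.det_mul, show Matrix.diagonal dv = (d : Matrix (Fin n) (Fin n) F) from rfl,
        ← Units.val_mul, inv_mul_cancel, Units.val_one, Matrix.det_one]
    exact this
  obtain ⟨m, ⟨σ, hσ⟩, hm⟩ := Cfsg.Lib.BN.bruhat (Cfsg.Lib.SLBN.pair n F) ⟨_, hdg⟩
  obtain ⟨a, ha, b, hb, e⟩ := Cfsg.Lib.BN.mem_dc.1 hm
  set m' : GL (Fin n) F := Matrix.SpecialLinearGroup.toGL m
  set k := (permGL F σ)⁻¹ * m' with hk
  have hkP : k ∈ Cfsg.parabolicGL n F μ := by
    refine upper_mem μ fun i j hij => ?_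
    rw [hk, Units.val_mul, ← map_inv, Matrix.mul_apply, Finset.sum_eq_single (σ i)]
    · rw [show (m' : Matrix (Fin n) (Fin n) F) (σ i) j = 0 from
        hσ (σ i) j (fun h => hij.ne' (σ.injective h))]
      ring
    · intro x _ hx
      rw [permGL_apply, if_neg, zero_mul]
      intro h
      apply hx
      rw [h]
      simp
    · simp
  refine ⟨σ, d * Matrix.SpecialLinearGroup.toGL a, mul_mem (upper_mem ν fun i j hij => ?_)
    (upper_mem ν fun i j hij => Cfsg.Lib.SLBN.mem_B.1 ha i j hij),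
    k * Matrix.SpecialLinearGroup.toGL b,
    mul_mem hkP (upper_mem μ fun i j hij => Cfsg.Lib.SLBN.mem_B.1 hb i j hij), ?_⟩
  · show Matrix.diagonal dv i j = 0
    exact Matrix.diagonal_apply_ne _ hij.ne'
  · have e' : d⁻¹ * g = Matrix.SpecialLinearGroup.toGL a * m' * Matrix.SpecialLinearGroup.toGL b :=
      Units.ext (congrArg Subtype.val e)
    rw [← mul_inv_cancel_left d g, e', hk]
    group

/-- The number of positions with row label `≥ a` and column label `< b`. -/
def corner (f h : Fin n → ℕ) (σ : Equiv.Perm (Fin n)) (a b : ℕ) : ℕ :=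
  (Finset.univ.filter fun j => a ≤ f (σ j) ∧ h j < b).card

/-- The rank of a corner of a matrix. -/
noncomputable def cornerRank (f h : Fin n → ℕ) (a b : ℕ) (M : Matrix (Fin n) (Fin n) F) : ℕ :=
  (M.submatrix (fun i : {i // a ≤ f i} => i.1) (fun j : {j // h j < b} => j.1)).rank

theorem cornerRank_mul_le (ν μ : Fin n → ℕ) (a b : ℕ) {p q : GL (Fin n) F}
    (hp : p ∈ Cfsg.parabolicGL n F ν) (hq : q ∈ Cfsg.parabolicGL n F μ) (g : GL (Fin n) F) :
    cornerRank (Cfsg.compLabel ν) (Cfsg.compLabel μ) a b ((p * g * q : GL (Fin n) F) : Matrix _ _ F) ≤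
      cornerRank (Cfsg.compLabel ν) (Cfsg.compLabel μ) a b (g : Matrix _ _ F) := by
  classical
  set f := Cfsg.compLabel ν
  set h := Cfsg.compLabel μ
  set R : {i // a ≤ f i} → Fin n := fun i => i.1
  set K : {j // h j < b} → Fin n := fun j => j.1
  have e : ((p * g * q : GL (Fin n) F) : Matrix (Fin n) (Fin n) F).submatrix R K =
      (p : Matrix _ _ F).submatrix R R * (g : Matrix _ _ F).submatrix R K *
        (q : Matrix _ _ F).submatrix K K := by
    ext i j
    simp only [Units.val_mul, Matrix.submatrix_apply, Matrix.mul_apply, R, K, Finset.sum_mul]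
    rw [← Finset.sum_subtype (Finset.univ.filter fun k => h k < b) (by simp)
      (fun k => ∑ x : {i // a ≤ f i}, (p : Matrix _ _ F) i.1 x.1 * (g : Matrix _ _ F) x.1 k *
        (q : Matrix _ _ F) k j.1)]
    rw [Finset.sum_subset (Finset.filter_subset _ _)]
    · refine Finset.sum_congr rfl fun k _ => ?_
      rw [← Finset.sum_subtype (Finset.univ.filter fun x => a ≤ f x) (by simp)
        (fun x => (p : Matrix _ _ F) i.1 x * (g : Matrix _ _ F) x k * (q : Matrix _ _ F) k j.1)]
      rw [Finset.sum_subset (Finset.filter_subset _ _)]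
      intro x _ hx
      simp only [Finset.mem_filter, Finset.mem_univ, true_and, not_le] at hx
      rw [mem_parabolic.1 hp _ _ (lt_of_lt_of_le hx i.2)]
      ring
    · intro k _ hk
      simp only [Finset.mem_filter, Finset.mem_univ, true_and, not_lt] at hk
      refine Finset.sum_eq_zero fun x _ => ?_
      rw [mem_parabolic.1 hq _ _ (lt_of_lt_of_le j.2 hk)]
      ring
  rw [cornerRank, e]
  exact (Matrix.rank_mul_le_left _ _).trans (Matrix.rank_mul_le_right _ _)

theorem cornerRank_perm (f h : Fin n → ℕ) (σ : Equiv.Perm (Fin n)) (a b : ℕ) :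
    cornerRank f h a b ((permGL F σ : GL (Fin n) F) : Matrix _ _ F) = corner f h σ a b := by
  classical
  set M : Matrix {i // a ≤ f i} {j // h j < b} F :=
    ((permGL F σ : GL (Fin n) F) : Matrix _ _ F).submatrix (fun i => i.1) (fun j => j.1) with hM
  set w : {i // a ≤ f i} → F := fun i => if h (σ.symm i.1) < b then 1 else 0 with hw
  have hMapp : ∀ i j, M i j = if i.1 = σ j.1 then 1 else 0 := fun i j => rfl
  have h1 : Matrix.diagonal w * M = M := by
    ext i j
    rw [Matrix.diagonal_mul, hMapp]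
    split_ifs with hij
    · simp [hw, hij, j.2]
    · rw [mul_zero]
  have h2 : M * Mᵀ = Matrix.diagonal w := by
    ext i k
    simp only [Matrix.mul_apply, Matrix.transpose_apply, hMapp, Matrix.diagonal_apply, ite_mul,
      one_mul, zero_mul]
    by_cases hi : h (σ.symm i.1) < b
    · rw [Finset.sum_eq_single ⟨σ.symm i.1, hi⟩]
      · simp [hw, hi, Subtype.ext_iff, eq_comm]
      · intro j _ hj
        rw [if_neg]
        intro e
        exact hj (Subtype.ext (by simp [e]))
      · simp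
    · rw [Finset.sum_eq_zero]
      · simp [hw, hi]
      · intro j _
        rw [if_neg]
        intro e
        exact hi (by simpa [e] using j.2)
  show M.rank = _
  refine le_antisymm ?_ ?_
  · conv_lhs => rw [← h1]
    refine (Matrix.rank_mul_le_left _ _).trans ?_
    rw [Matrix.rank_diagonal, corner, ← Fintype.card_coe]
    refine Fintype.card_le_of_injective (fun i => ⟨σ.symm i.1.1, Finset.mem_filter.2
      ⟨Finset.mem_univ _, by simpa using i.1.2, by by_contra hc; exact i.2 (by simp [hw, hc])⟩⟩) ?_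
    intro x y e
    simp only [Subtype.mk.injEq, EmbeddingLike.apply_eq_iff_eq] at e
    exact Subtype.ext (Subtype.ext e)
  · refine le_trans ?_ (Matrix.rank_mul_le_left M Mᵀ)
    rw [h2, Matrix.rank_diagonal, corner, ← Fintype.card_coe]
    refine Fintype.card_le_of_injective (fun j => ⟨⟨σ j.1, (Finset.mem_filter.1 j.2).2.1⟩,
      by simp [hw, (Finset.mem_filter.1 j.2).2.2]⟩) ?_
    intro x y e
    simp only [Subtype.mk.injEq, EmbeddingLike.apply_eq_iff_eq] at e
    exact Subtype.ext e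

theorem corner_split (f h : Fin n → ℕ) (σ : Equiv.Perm (Fin n)) (a b : ℕ) :
    corner f h σ a (b + 1) + corner f h σ (a + 1) b =
      (Finset.univ.filter fun j => (f (σ j), h j) = (a, b)).card +
        (corner f h σ (a + 1) (b + 1) + corner f h σ a b) := by
  simp only [corner, Finset.card_filter, ← Finset.sum_add_distrib]
  refine Finset.sum_congr rfl fun j _ => ?_
  simp only [Prod.mk.injEq]
  split_ifs <;> omega

theorem rel_of_corner (ν μ : Fin n → ℕ) {σ τ : Equiv.Perm (Fin n)}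
    (hc : ∀ a b, corner (Cfsg.compLabel ν) (Cfsg.compLabel μ) σ a b =
      corner (Cfsg.compLabel ν) (Cfsg.compLabel μ) τ a b) :
    Rel (Cfsg.youngSubgroup ν) (Cfsg.youngSubgroup μ) σ τ := by
  classical
  set f := Cfsg.compLabel ν
  set h := Cfsg.compLabel μ
  have hfib : ∀ c : ℕ × ℕ, Fintype.card {j // (f (σ j), h j) = c} =
      Fintype.card {j // (f (τ j), h j) = c} := by
    rintro ⟨a, b⟩
    rw [Fintype.card_subtype, Fintype.card_subtype]
    have h1 := corner_split f h σ a b
    have h2 := corner_split f h τ a b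
    rw [hc, hc, hc, hc] at h1
    omega
  set e : Equiv.Perm (Fin n) := Equiv.ofFiberEquiv (f := fun j => (f (σ j), h j))
    (g := fun j => (f (τ j), h j)) (fun c => Fintype.equivOfCardEq (hfib c)) with he
  have hmap : ∀ j, (f (τ (e j)), h (e j)) = (f (σ j), h j) := fun j =>
    Equiv.ofFiberEquiv_map (f := fun j => (f (σ j), h j)) (g := fun j => (f (τ j), h j)) _ j
  refine ⟨τ * e * σ⁻¹, mem_young.2 fun i => ?_, e⁻¹, mem_young.2 fun i => ?_, by group⟩
  · have := (Prod.ext_iff.1 (hmap (σ⁻¹ i))).1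
    simp only [Equiv.Perm.mul_apply] at this ⊢
    refine this.trans ?_
    rw [← Equiv.Perm.mul_apply, mul_inv_cancel, Equiv.Perm.one_apply]
  · have := (Prod.ext_iff.1 (hmap (e⁻¹ i))).2
    simp only at this
    rw [← Equiv.Perm.mul_apply, mul_inv_cancel, Equiv.Perm.one_apply] at this
    exact this.symm

theorem rel_permGL_iff (ν μ : Fin n → ℕ) (σ τ : Equiv.Perm (Fin n)) :
    Rel (Cfsg.parabolicGL n F ν) (Cfsg.parabolicGL n F μ) (permGL F σ) (permGL F τ) ↔
      Rel (Cfsg.youngSubgroup ν) (Cfsg.youngSubgroup μ) σ τ := by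
  constructor
  · rintro ⟨p, hp, q, hq, e⟩
    refine rel_of_corner ν μ fun a b => ?_
    rw [← cornerRank_perm (F := F), ← cornerRank_perm (F := F)]
    refine le_antisymm ?_ (by rw [e]; exact cornerRank_mul_le ν μ a b hp hq _)
    have e' : permGL F σ = p⁻¹ * permGL F τ * q⁻¹ := by rw [e]; group
    rw [e']
    exact cornerRank_mul_le ν μ a b (inv_mem hp) (inv_mem hq) _
  · rintro ⟨p, hp, q, hq, rfl⟩
    exact ⟨_, permGL_mem hp, _, permGL_mem hq, by rw [map_mul, map_mul]⟩

theorem card_orbits [Finite F] (ν μ : Fin n → ℕ) :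
    Nat.card (MulAction.orbitRel.Quotient (GL (Fin n) F)
        ((GL (Fin n) F ⧸ Cfsg.parabolicGL n F ν) × (GL (Fin n) F ⧸ Cfsg.parabolicGL n F μ))) =
      Nat.card (MulAction.orbitRel.Quotient (Equiv.Perm (Fin n))
        ((Equiv.Perm (Fin n) ⧸ Cfsg.youngSubgroup ν) × (Equiv.Perm (Fin n) ⧸ Cfsg.youngSubgroup μ))) := by
  let A := fun σ => pairOrbit (Cfsg.parabolicGL n F ν) (Cfsg.parabolicGL n F μ) (permGL F σ)
  let B := pairOrbit (Cfsg.youngSubgroup ν) (Cfsg.youngSubgroup μ)
  have hA : Function.Surjective A := by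
    intro o
    obtain ⟨g, rfl⟩ := pairOrbit_surjective _ _ o
    obtain ⟨σ, hσ⟩ := exists_perm ν μ g
    exact ⟨σ, (pairOrbit_eq_iff _ _ _ _).2 hσ⟩
  have hB : Function.Surjective B := pairOrbit_surjective _ _
  have hAB : ∀ σ τ, A σ = A τ ↔ B σ = B τ := fun σ τ => by
    rw [pairOrbit_eq_iff, pairOrbit_eq_iff, rel_permGL_iff]
  refine Nat.card_eq_of_bijective (fun o => B (Function.surjInv hA o)) ⟨fun o o' h => ?_, fun o => ?_⟩
  · have := (hAB _ _).2 h
    rwa [Function.surjInv_eq hA, Function.surjInv_eq hA] at this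
  · obtain ⟨σ, rfl⟩ := hB o
    exact ⟨A σ, (hAB _ _).1 (Function.surjInv_eq hA (A σ))⟩

end Cfsg.Lib.FlagCells
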