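import Cfsg.Agent.Classical.SL

/-!
`SL 3` over a finite field: upper unitriangular elements and a generation criterion.
-/

namespace Cfsg.Lib.Known.SLThree

open Matrix

variable {F : Type*} [Field F]

/-- Upper unitriangular element. -/
def ut (α γ β : F) : SpecialLinearGroup (Fin 3) F :=
  ⟨!![1, α, γ; 0, 1, β; 0, 0, 1], by simp [det_fin_three]⟩

theorem coe_ut (α γ β : F) :
    (ut α γ β : Matrix (Fin 3) (Fin 3) F) = !![1, α, γ; 0, 1, β; 0, 0, 1] := rfl

theorem ut_mul (α γ β α' γ' β' : F) :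
    ut α γ β * ut α' γ' β' = ut (α + α') (γ + γ' + α * β') (β + β') := by
  apply Subtype.ext
  change (!![1, α, γ; 0, 1, β; 0, 0, 1] : Matrix (Fin 3) (Fin 3) F) * !![1, α', γ'; 0, 1, β'; 0, 0, 1] = _
  rw [coe_ut]
  ext i j
  fin_cases i <;> fin_cases j <;> simp [Matrix.mul_apply, Fin.sum_univ_three] <;> ring

theorem ut_zero : ut (0 : F) 0 0 = 1 := by
  apply Subtype.ext
  rw [coe_ut]
  ext i j
  fin_cases i <;> fin_cases j <;> simp [Matrix.one_apply]

theorem ut_inv (α γ β : F) : (ut α γ β)⁻¹ = ut (-α) (α * β - γ) (-β) := by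
  rw [inv_eq_iff_mul_eq_one, ut_mul, ← ut_zero]
  congr 1 <;> ring

/-- The superdiagonals of the upper unitriangular elements of `H`. -/
def superdiag (H : Subgroup (SpecialLinearGroup (Fin 3) F)) : AddSubgroup (F × F) where
  carrier := {x | ∃ γ, ut x.1 γ x.2 ∈ H}
  zero_mem' := ⟨0, by simp [ut_zero, H.one_mem]⟩
  add_mem' := by
    rintro x y ⟨γ, hx⟩ ⟨δ, hy⟩
    exact ⟨γ + δ + x.1 * y.2, by simpa [ut_mul] using H.mul_mem hx hy⟩
  neg_mem' := by
    rintro x ⟨γ, hx⟩
    exact ⟨x.1 * x.2 - γ, by simpa [ut_inv] using H.inv_mem hx⟩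

/-- An antidiagonal monomial element. -/
theorem eq_top_of_superdiag (H : Subgroup (SpecialLinearGroup (Fin 3) F))
    (hS : ∀ α β : F, (α, β) ∈ superdiag H) (v : SpecialLinearGroup (Fin 3) F) (hv : v ∈ H)
    (h00 : (v : Matrix (Fin 3) (Fin 3) F) 0 0 = 0) (h01 : (v : Matrix (Fin 3) (Fin 3) F) 0 1 = 0)
    (h10 : (v : Matrix (Fin 3) (Fin 3) F) 1 0 = 0) : H = ⊤ := by
  classical
  have hZ : ∀ x, ut 0 x 0 ∈ H := by
    intro x
    obtain ⟨γ, h1⟩ := hS 1 0
    obtain ⟨δ, h2⟩ := hS 0 x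
    simp only at h1 h2
    have h := H.mul_mem (H.mul_mem (H.mul_mem h1 h2) (H.inv_mem h1)) (H.inv_mem h2)
    have e : ut 1 γ 0 * ut 0 δ x * (ut 1 γ 0)⁻¹ * (ut 0 δ x)⁻¹ = ut 0 x 0 := by
      simp only [ut_inv, ut_mul]; congr 1 <;> ring
    rwa [e] at h
  have hU : ∀ α γ β, ut α γ β ∈ H := by
    intro α γ β
    obtain ⟨δ, h⟩ := hS α β
    have e : ut α δ β * ut 0 (γ - δ) 0 = ut α γ β := by rw [ut_mul]; congr 1 <;> ring
    rw [← e]
    exact H.mul_mem h (hZ _)
  set M := (v : Matrix (Fin 3) (Fin 3) F) with hM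
  have hd : M.det = 1 := v.2
  rw [det_fin_three, h00, h01, h10] at hd
  simp only [zero_mul, mul_zero, sub_zero, zero_add, add_zero, zero_sub] at hd
  have ha : M 0 2 ≠ 0 := fun e => by simp [e] at hd
  have hb : M 1 1 ≠ 0 := fun e => by simp [e] at hd
  have hc : M 2 0 ≠ 0 := fun e => by simp [e] at hd
  let y : SpecialLinearGroup (Fin 3) F :=
    ⟨!![0, 0, M 0 2; 0, M 1 1, 0; M 2 0, 0, 0], by simp [det_fin_three]; linear_combination hd⟩
  have hy : y ∈ H := by
    have e : v = y * ut (M 2 1 / M 2 0) (M 2 2 / M 2 0) (M 1 2 / M 1 1) := by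
      apply Subtype.ext
      change M = (!![0, 0, M 0 2; 0, M 1 1, 0; M 2 0, 0, 0] : Matrix (Fin 3) (Fin 3) F) * (ut _ _ _).1
      rw [coe_ut]
      ext i j
      fin_cases i <;> fin_cases j <;>
        simp [Matrix.mul_apply, Fin.sum_univ_three, h00, h01, h10, mul_div_cancel₀, hb, hc]
    rw [e] at hv
    exact (H.mul_mem_cancel_right (hU _ _ _)).1 hv
  have hlow : ∀ (α γ β : F) (T : SpecialLinearGroup (Fin 3) F),
      (T : Matrix (Fin 3) (Fin 3) F) * (y : Matrix (Fin 3) (Fin 3) F) =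
        (y : Matrix (Fin 3) (Fin 3) F) * !![1, α, γ; 0, 1, β; 0, 0, 1] → T ∈ H := by
    intro α γ β T h
    have e : T * y = y * ut α γ β := Subtype.ext h
    rw [← mul_inv_eq_iff_eq_mul.mpr e.symm]
    exact H.mul_mem (H.mul_mem hy (hU _ _ _)) (H.inv_mem hy)
  refine Cfsg.Lib.Classical.eq_top_of_transvection_mem H fun i j hij x => ?_
  have hut : ∀ (α γ β : F) (T : SpecialLinearGroup (Fin 3) F),
      (T : Matrix (Fin 3) (Fin 3) F) = !![1, α, γ; 0, 1, β; 0, 0, 1] → T ∈ H := by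
    intro α γ β T h
    rw [show T = ut α γ β from Subtype.ext h]
    exact hU _ _ _
  fin_cases i <;> fin_cases j <;> first | exact absurd rfl hij | skip
  · refine hut x 0 0 _ ?_
    ext r s; fin_cases r <;> fin_cases s <;> simp [SpecialLinearGroup.transvection_coe, Matrix.transvection, Matrix.single]
  · refine hut 0 x 0 _ ?_
    ext r s; fin_cases r <;> fin_cases s <;> simp [SpecialLinearGroup.transvection_coe, Matrix.transvection, Matrix.single]
  · refine hlow 0 0 (x * M 0 2 / M 1 1) _ ?_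
    ext r s; fin_cases r <;> fin_cases s <;> simp [y, SpecialLinearGroup.transvection_coe, Matrix.transvection, Matrix.single, Matrix.mul_apply, Fin.sum_univ_three, mul_div_cancel₀, hb]
  · refine hut 0 0 x _ ?_
    ext r s; fin_cases r <;> fin_cases s <;> simp [SpecialLinearGroup.transvection_coe, Matrix.transvection, Matrix.single]
  · refine hlow 0 (x * M 0 2 / M 2 0) 0 _ ?_
    ext r s; fin_cases r <;> fin_cases s <;> simp [y, SpecialLinearGroup.transvection_coe, Matrix.transvection, Matrix.single, Matrix.mul_apply, Fin.sum_univ_three, mul_div_cancel₀, hc]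
  · refine hlow (x * M 1 1 / M 2 0) 0 0 _ ?_
    ext r s; fin_cases r <;> fin_cases s <;> simp [y, SpecialLinearGroup.transvection_coe, Matrix.transvection, Matrix.single, Matrix.mul_apply, Fin.sum_univ_three, mul_div_cancel₀, hc]

end Cfsg.Lib.Known.SLThree
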