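import Cfsg.Agent.Known.SLThreeBase

/-!
Two conjugate regular unipotents generate `SL 3 q` for `q ∉ {2, 3, 4, 7, 16}`.
-/

namespace Cfsg.Lib.Known.SLThree

open Matrix

variable {F : Type*} [Field F] [Fintype F]

/-- A bound on the order of a proper subfield. -/
theorem sq_card_le (R : Subfield F) (h : R ≠ ⊤) : Nat.card R ^ 2 ≤ Fintype.card F := by
  classical
  have : Fintype R := Fintype.ofFinite _
  have hpow := Module.card_eq_pow_finrank (K := R) (V := F)
  rw [Nat.card_eq_fintype_card, hpow]
  refine Nat.pow_le_pow_right Fintype.card_pos ?_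
  by_contra hlt
  have h1 : Module.finrank R F = 1 := by
    have := Module.finrank_pos (R := R) (M := F)
    omega
  rw [h1, pow_one] at hpow
  apply h
  refine SetLike.coe_injective ?_
  rw [Subfield.coe_top]
  refine Set.toFinset_inj.1 (?_ : (R : Set F).toFinset = Set.univ.toFinset)
  rw [Set.toFinset_univ]
  refine Finset.eq_univ_of_card _ ?_
  rw [Set.toFinset_card, hpow]
  exact Fintype.card_congr (Equiv.refl _)

/-- The multiplier. -/
def mult (b : F) : F := -1 / b ^ 3

theorem mult_pow_eq_one {b : F} (hb : b ≠ 0) {R : Subfield F} {n : ℕ}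
    (hn : n + 1 = Nat.card R ∨ n = Nat.card R + 1) (h : mult b ^ n = 1) : b ^ (3 * n) = 1 := by
  classical
  have : Fintype R := Fintype.ofFinite _
  have e : (-1 : F) ^ Nat.card R = -1 := by
    have := FiniteField.pow_card (-1 : R)
    rw [← Nat.card_eq_fintype_card] at this
    simpa using congrArg R.subtype this
  have e1 : (-1 : F) ^ n = 1 := by
    rcases hn with hn | hn
    · rw [← hn, pow_succ] at e
      linear_combination -e
    · rw [hn, pow_succ, e]; ring
  rw [mult, div_pow, e1, ← pow_mul, div_eq_one_iff_eq (pow_ne_zero _ hb)] at h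
  exact h.symm

/-- Pairs generate the product when neither degeneration happens. -/
theorem addSubgroup_eq_top {b : F} (hb : orderOf b = Fintype.card F - 1)
    (hq : Fintype.card F ∉ ({2, 3, 4, 7, 16} : Finset ℕ)) (S : AddSubgroup (F × F))
    (h1 : ((1 : F), (1 : F)) ∈ S) (hmul : ∀ x ∈ S, (mult b * x.1, (mult b)⁻¹ * x.2) ∈ S) :
    ∀ α β : F, (α, β) ∈ S := by
  classical
  simp only [Finset.mem_insert, Finset.mem_singleton, not_or] at hq
  obtain ⟨hq2, hq3, hq4, hq7, hq16⟩ := hq
  have hqpos : 2 ≤ Fintype.card F := Fintype.one_lt_card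
  have hb0 : b ≠ 0 := by
    intro h
    rw [h, orderOf_eq_zero] at hb
    · omega
    · intro hf
      obtain ⟨n, hn, h0⟩ := isOfFinOrder_iff_pow_eq_one.1 hf
      rw [zero_pow (by omega)] at h0
      exact zero_ne_one h0
  have key : ∀ n, 0 < n → b ^ (3 * n) = 1 → Fintype.card F ≤ 3 * n + 1 ∧
      (Fintype.card F - 1) ∣ 3 * n := by
    intro n hn h
    have := orderOf_dvd_of_pow_eq_one h
    rw [hb] at this
    exact ⟨by have := Nat.le_of_dvd (by omega) this; omega, this⟩
  set r := mult b with hr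
  have hr0 : r ≠ 0 := div_ne_zero (neg_ne_zero.2 one_ne_zero) (pow_ne_zero _ hb0)
  -- `r` generates the field
  have hgen : ∀ R : Subring F, r ∈ R → R = ⊤ := by
    intro R hR
    have hinv : ∀ x ∈ R, x⁻¹ ∈ R := by
      intro x hx
      rcases eq_or_ne x 0 with rfl | hx0
      · simp
      have e : x⁻¹ = x ^ (Fintype.card F - 2) := by
        refine inv_eq_of_mul_eq_one_right ?_
        rw [← pow_succ', show Fintype.card F - 2 + 1 = Fintype.card F - 1 by omega]
        exact FiniteField.pow_card_sub_one_eq_one x hx0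
      rw [e]
      exact pow_mem hx _
    let K : Subfield F := { R with inv_mem' := hinv }
    have : Fintype K := Fintype.ofFinite _
    by_contra hne
    have hK : K ≠ ⊤ := fun h => hne (Subring.ext fun x => by
      simp only [Subring.mem_top, iff_true]
      exact ((SetLike.ext_iff.1 h x : x ∈ K ↔ x ∈ (⊤ : Subfield F))).2 (Subfield.mem_top x))
    have h2 := sq_card_le K hK
    have hQ : 2 ≤ Nat.card K := by rw [Nat.card_eq_fintype_card]; exact Fintype.one_lt_card
    have hrK : r ^ (Nat.card K - 1) = 1 := by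
      have := FiniteField.pow_card_sub_one_eq_one (⟨r, hR⟩ : K) (fun h => hr0 (congrArg Subtype.val h))
      rw [Nat.card_eq_fintype_card]
      simpa using congrArg K.subtype this
    obtain ⟨hle, hdvd⟩ := key (Nat.card K - 1) (by omega) (mult_pow_eq_one hb0 (R := K) (Or.inl (by omega)) hrK)
    generalize Nat.card K = Q at h2 hQ hle hdvd
    have : Q ≤ 2 := by nlinarith [Nat.sub_add_cancel (show 1 ≤ Q by omega)]
    have : Q = 2 := by omega
    subst this
    omega
  -- the subring of pairs
  let T : Subring (F × F) := Subring.closure {(r, r⁻¹)}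
  let T' : Subring (F × F) :=
    { carrier := {t | ∀ s ∈ S, t * s ∈ S}
      mul_mem' := fun ha hb s hs => by rw [mul_assoc]; exact ha _ (hb s hs)
      one_mem' := fun s hs => by rwa [one_mul]
      add_mem' := fun ha hb s hs => by rw [add_mul]; exact S.add_mem (ha s hs) (hb s hs)
      zero_mem' := fun s hs => by rw [zero_mul]; exact S.zero_mem
      neg_mem' := fun ha s hs => by rw [neg_mul]; exact S.neg_mem (ha s hs) }
  have hTT' : T ≤ T' := Subring.closure_le.2 (by
    intro x hx s hs
    rw [Set.mem_singleton_iff.1 hx]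
    exact hmul s hs)
  have hTS : ∀ t ∈ T, t ∈ S := fun t ht => by
    have := hTT' ht ((1 : F), (1 : F)) h1
    rwa [show ((1 : F), (1 : F)) = 1 from rfl, mul_one] at this
  have hfst : ∀ x : F, ∃ y, (x, y) ∈ T := by
    intro x
    have h : T.map (RingHom.fst F F) = ⊤ := hgen _ ⟨(r, r⁻¹), Subring.subset_closure rfl, rfl⟩
    obtain ⟨⟨a, y⟩, hy, e⟩ := Subring.mem_map.1 (h.symm ▸ Subring.mem_top x : x ∈ T.map (RingHom.fst F F))
    obtain rfl : a = x := e
    exact ⟨y, hy⟩
  have hsnd : ∀ x : F, ∃ y, (y, x) ∈ T := by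
    intro x
    have h : T.map (RingHom.snd F F) = ⊤ := by
      refine hgen _ ?_
      have hm : r⁻¹ ∈ T.map (RingHom.snd F F) := ⟨(r, r⁻¹), Subring.subset_closure rfl, rfl⟩
      have := pow_mem hm (Fintype.card F - 2)
      convert this using 1
      refine (inv_inv r).symm.trans (inv_eq_of_mul_eq_one_right ?_)
      rw [← pow_succ', show Fintype.card F - 2 + 1 = Fintype.card F - 1 by omega]
      exact FiniteField.pow_card_sub_one_eq_one _ (inv_ne_zero hr0)
    obtain ⟨⟨y, a⟩, hy, e⟩ := Subring.mem_map.1 (h.symm ▸ Subring.mem_top x : x ∈ T.map (RingHom.snd F F))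
    obtain rfl : a = x := e
    exact ⟨y, hy⟩
  by_cases hker : ∃ s, s ≠ 0 ∧ ((0 : F), s) ∈ T
  · obtain ⟨s, hs, hmem⟩ := hker
    intro α β
    obtain ⟨y, hy⟩ := hfst α
    obtain ⟨z, hz⟩ := hsnd ((β - y) / s)
    refine hTS _ ?_
    have := T.add_mem hy (T.mul_mem hmem hz)
    simpa [mul_div_cancel₀ _ hs] using this
  exfalso
  push_neg at hker
  have huniq : ∀ x y y', (x, y) ∈ T → (x, y') ∈ T → y = y' := by
    intro x y y' h h'
    by_contra hne
    exact hker (y - y') (sub_ne_zero.2 hne) (by simpa using T.sub_mem h h')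
  choose σ hσ using hfst
  let φ : F →+* F :=
    { toFun := σ
      map_one' := huniq _ _ _ (hσ 1) T.one_mem
      map_mul' := fun x y => huniq _ _ _ (hσ _) (T.mul_mem (hσ x) (hσ y))
      map_zero' := huniq _ _ _ (hσ 0) T.zero_mem
      map_add' := fun x y => huniq _ _ _ (hσ _) (T.add_mem (hσ x) (hσ y)) }
  have hφr : φ r = r⁻¹ := huniq _ _ _ (hσ r) (Subring.subset_closure rfl)
  let K : Subfield F := RingHom.eqLocusField φ (RingHom.id F)
  have : Fintype K := Fintype.ofFinite _
  have hs : r + r⁻¹ ∈ K := by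
    show φ (r + r⁻¹) = RingHom.id F (r + r⁻¹)
    rw [map_add, map_inv₀, hφr, inv_inv, RingHom.id_apply, add_comm]
  have hrK : r ∉ K := by
    intro h
    have h' : r⁻¹ = r := hφr ▸ h
    have h2 : mult b ^ 2 = 1 := by
      rw [← hr, sq]
      nth_rewrite 1 [← h']
      exact inv_mul_cancel₀ hr0
    have h6 : b ^ (3 * 2) = 1 := by
      rw [mult, div_pow, neg_one_sq, ← pow_mul, div_eq_one_iff_eq (pow_ne_zero _ hb0)] at h2
      exact h2.symm
    obtain ⟨hle, hdvd⟩ := key 2 (by omega) h6
    have : Fintype.card F = 5 ∨ Fintype.card F = 6 := by omega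
    rcases this with e | e <;> rw [e] at hdvd <;> norm_num at hdvd
  -- the field is quadratic over the fixed field
  have hquad : Fintype.card F ≤ Nat.card K ^ 2 := by
    let L : Subring F :=
      { carrier := {x | ∃ a c : K, x = a + c * r}
        mul_mem' := by
          rintro x y ⟨a, c, rfl⟩ ⟨a', c', rfl⟩
          refine ⟨a * a' - c * c', a * c' + c * a' + c * c' * ⟨_, hs⟩, ?_⟩
          push_cast
          field_simp
          ring
        one_mem' := ⟨1, 0, by simp⟩
        add_mem' := by
          rintro x y ⟨a, c, rfl⟩ ⟨a', c', rfl⟩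
          exact ⟨a + a', c + c', by push_cast; ring⟩
        zero_mem' := ⟨0, 0, by simp⟩
        neg_mem' := by
          rintro x ⟨a, c, rfl⟩
          exact ⟨-a, -c, by push_cast; ring⟩ }
    have hL := hgen L ⟨0, 1, by simp⟩
    have hsurj : Function.Surjective fun p : K × K => (p.1 : F) + p.2 * r := by
      intro x
      obtain ⟨a, c, e⟩ := (hL.symm ▸ Subring.mem_top x : x ∈ L)
      exact ⟨(a, c), e.symm⟩
    calc Fintype.card F ≤ Fintype.card (K × K) := Fintype.card_le_of_surjective _ hsurj
      _ = Nat.card K ^ 2 := by rw [Fintype.card_prod, Nat.card_eq_fintype_card, sq]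
  obtain ⟨p, hp⟩ := CharP.exists F
  have hpK : CharP K p := (algebraMap K F).charP Subtype.val_injective p
  obtain ⟨m, hprime, hm⟩ := FiniteField.card K p
  have := Fact.mk hprime
  have hQ : 2 ≤ Nat.card K := by rw [Nat.card_eq_fintype_card]; exact Fintype.one_lt_card
  have hKpow : ∀ x ∈ K, x ^ Nat.card K = x := fun x hx => by
    rw [Nat.card_eq_fintype_card]
    simpa using congrArg K.subtype (FiniteField.pow_card (⟨x, hx⟩ : K))
  have hroot : (r ^ Nat.card K - r) * (r ^ Nat.card K - r⁻¹) = 0 := by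
    have e : iterateFrobenius F p m (r ^ 2 - (r + r⁻¹) * r + 1) = 0 := by
      rw [show r ^ 2 - (r + r⁻¹) * r + 1 = 0 by field_simp; ring, map_zero]
    rw [map_add, map_sub, map_mul, map_pow, map_one, iterateFrobenius_def, iterateFrobenius_def,
      ← hm, ← Nat.card_eq_fintype_card, hKpow _ hs] at e
    rw [← e]
    field_simp
    ring
  rcases mul_eq_zero.1 hroot with h | h
  · -- then `r` is in the field with `Q` elements
    apply hrK
    have hroots : ∀ x : F, x ^ Nat.card K = x → x ∈ K := by
      intro x hx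
      have hne : (Polynomial.X ^ Nat.card K - Polynomial.X : Polynomial F) ≠ 0 :=
        FiniteField.X_pow_card_sub_X_ne_zero F hQ
      have hsub : (K : Set F).toFinset ⊆ (Polynomial.X ^ Nat.card K - Polynomial.X : Polynomial F).roots.toFinset := by
        intro y hy
        simp only [Set.mem_toFinset, SetLike.mem_coe] at hy
        rw [Nat.card_eq_fintype_card] at hne ⊢
        simpa [hne, sub_eq_zero] using hKpow y hy
      have hcard : (Polynomial.X ^ Nat.card K - Polynomial.X : Polynomial F).roots.toFinset.card ≤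
          (K : Set F).toFinset.card := by
        refine (Multiset.toFinset_card_le _).trans ((Polynomial.card_roots' _).trans ?_)
        rw [FiniteField.X_pow_card_sub_X_natDegree_eq F hQ, Set.toFinset_card, Nat.card_eq_fintype_card]
        exact le_of_eq (Fintype.card_congr (Equiv.refl _))
      have := Finset.eq_of_subset_of_card_le hsub hcard
      have hx' : x ∈ (Polynomial.X ^ Nat.card K - Polynomial.X : Polynomial F).roots.toFinset := by
        rw [Multiset.mem_toFinset, Polynomial.mem_roots hne]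
        rw [Nat.card_eq_fintype_card] at hx
        simp [sub_eq_zero, hx]
      rw [← this] at hx'
      simpa using hx'
    exact hroots r (sub_eq_zero.1 h)
  · have h1' : mult b ^ (Nat.card K + 1) = 1 := by
      rw [pow_succ, ← hr, sub_eq_zero.1 h, inv_mul_cancel₀ hr0]
    obtain ⟨hle, hdvd⟩ := key (Nat.card K + 1) (by omega) (mult_pow_eq_one hb0 (R := K) (Or.inr rfl) h1')
    have hK : K ≠ ⊤ := fun e => hrK (e ▸ Subfield.mem_top r)
    have h2 := sq_card_le K hK
    generalize Nat.card K = Q at h2 hQ hle hdvd hquad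
    have hQ4 : Q ≤ 4 := by nlinarith
    interval_cases Q <;> simp only [show Fintype.card F = _ from le_antisymm hquad h2] at * <;>
      norm_num at *

set_option maxHeartbeats 1000000 in
/-- The generic case. -/
theorem exists_two_generic (hq : Fintype.card F ∉ ({2, 3, 4, 7, 16} : Finset ℕ)) :
    ∃ u g : SpecialLinearGroup (Fin 3) F, IsNilpotent ((u : Matrix (Fin 3) (Fin 3) F) - 1) ∧
      ((u : Matrix (Fin 3) (Fin 3) F) - 1) ^ (3 - 1) ≠ 0 ∧
      Subgroup.closure ({u, g * u * g⁻¹} : Set (SpecialLinearGroup (Fin 3) F)) = ⊤ := by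
  classical
  obtain ⟨ω, hω⟩ := IsCyclic.exists_generator (α := Fˣ)
  set b : F := ω.1
  have hord : orderOf b = Fintype.card F - 1 := by
    rw [orderOf_units, orderOf_eq_card_of_forall_mem_zpowers hω, Nat.card_eq_fintype_card, Fintype.card_units]
  have hb0 : b ≠ 0 := ω.ne_zero
  have hb1 : b - 1 ≠ 0 := by
    intro h
    rw [sub_eq_zero.1 h, orderOf_one] at hord
    have : Fintype.card F = 2 := by omega
    simp [this] at hq
  set c : F := -(b - 1) ^ 3 / b ^ 2
  set a : F := b / (b - 1) ^ 3
  have hc : c ≠ 0 := div_ne_zero (neg_ne_zero.2 (pow_ne_zero _ hb1)) (pow_ne_zero _ hb0)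
  set e : F := 1 - (3 - b) / c
  set l : F := -b / (b - 1) ^ 2
  let v : SpecialLinearGroup (Fin 3) F := ⟨!![0, 0, a; 0, b, -b; c, -c, 3 - b], by
    simp [det_fin_three, a, c]; field_simp⟩
  let g : SpecialLinearGroup (Fin 3) F :=
    ⟨!![l * (1 - 1 / b), -l - e * (l * (1 - 1 / b)), l;
        -l * b * c, e * (l * b * c), 0;
        l * c * (1 - b), l * c - e * (l * c * (1 - b)), 0], by
    simp [det_fin_three, l, c]; field_simp; ring⟩
  set u : SpecialLinearGroup (Fin 3) F := ut 1 e 1 with hu
  have hconj : g * u * g⁻¹ = v := by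
    rw [mul_inv_eq_iff_eq_mul]
    apply Subtype.ext
    change g.1 * u.1 = v.1 * g.1
    rw [hu, coe_ut]
    ext i j
    fin_cases i <;> fin_cases j <;> simp [g, v, Matrix.mul_apply, Fin.sum_univ_three] <;>
      simp [a, c, e, l] <;> field_simp <;> ring
  refine ⟨u, g, ?_, ?_, ?_⟩
  · refine ⟨3, ?_⟩
    rw [hu, coe_ut]
    ext i j
    fin_cases i <;> fin_cases j <;> simp [pow_succ, Matrix.mul_apply, Fin.sum_univ_three]
  · rw [hu, coe_ut]
    intro h
    have := congrFun (congrFun h 0) 2
    simp [pow_succ, Matrix.mul_apply, Fin.sum_univ_three] at this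
  rw [hconj]
  set H := Subgroup.closure ({u, v} : Set (SpecialLinearGroup (Fin 3) F))
  have huH : u ∈ H := Subgroup.subset_closure (Or.inl rfl)
  have hvH : v ∈ H := Subgroup.subset_closure (Or.inr rfl)
  refine eq_top_of_superdiag H ?_ v hvH rfl rfl rfl
  refine addSubgroup_eq_top hord hq _ ⟨e, huH⟩ ?_
  rintro ⟨x, y⟩ ⟨γ, hx⟩
  simp only at hx
  have hwH : (v * u) * (v * u) ∈ H := H.mul_mem (H.mul_mem hvH huH) (H.mul_mem hvH huH)
  have hw : (((v * u) * (v * u) : SpecialLinearGroup (Fin 3) F) : Matrix (Fin 3) (Fin 3) F) =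
      !![a * c, 0, 0; 0, b ^ 2, 0; 0, 0, a * c] := by
    have e1 : (v : Matrix (Fin 3) (Fin 3) F) * (u : Matrix (Fin 3) (Fin 3) F) = !![0, 0, a; 0, b, 0; c, 0, 0] := by
      rw [hu, coe_ut]
      ext i j
      fin_cases i <;> fin_cases j <;> simp [v, Matrix.mul_apply, Fin.sum_univ_three] <;> simp [e] <;> field_simp <;> ring
    change v.1 * u.1 * (v.1 * u.1) = _
    rw [e1]
    ext i j
    fin_cases i <;> fin_cases j <;> simp [Matrix.mul_apply, Fin.sum_univ_three] <;> ring
  refine ⟨γ, ?_⟩
  have key : ut (mult b * x) γ ((mult b)⁻¹ * y) = (v * u) * (v * u) * ut x γ y * ((v * u) * (v * u))⁻¹ := by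
    rw [eq_mul_inv_iff_mul_eq]
    apply Subtype.ext
    change (ut (mult b * x) γ ((mult b)⁻¹ * y)).1 * ((v * u) * (v * u) : SpecialLinearGroup (Fin 3) F).1 =
      ((v * u) * (v * u) : SpecialLinearGroup (Fin 3) F).1 * (ut x γ y).1
    rw [hw, coe_ut, coe_ut]
    ext i j
    have hac : a * c = -1 / b := by simp only [a, c]; field_simp
    rw [hac]
    fin_cases i <;> fin_cases j <;> simp [Matrix.mul_apply, Fin.sum_univ_three, mult] <;>
      field_simp
  show ut (mult b * x) γ ((mult b)⁻¹ * y) ∈ H
  rw [key]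
  exact H.mul_mem (H.mul_mem hwH hx) (H.inv_mem hwH)

end Cfsg.Lib.Known.SLThree
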