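import Cfsg.Agent.Known.SLThreeGeneric

/-!
Two conjugate regular unipotents generate `SL 3 q` for `q ∈ {2, 3, 4, 7, 16}`: certificates.
-/

namespace Cfsg.Lib.Known.SLThree

open Matrix

/-- Nine entries. -/
structure M3 (K : Type*) where
  (a b c d e f g h i : K)
deriving DecidableEq

/-- A model of the field with four elements. -/
structure G4 where
  (a b : ZMod 2)
deriving DecidableEq

instance : Zero G4 := ⟨⟨0, 0⟩⟩
instance : One G4 := ⟨⟨1, 0⟩⟩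
instance : Add G4 := ⟨fun x y => ⟨x.a + y.a, x.b + y.b⟩⟩
instance : Mul G4 := ⟨fun x y => ⟨x.a * y.a + x.b * y.b, x.a * y.b + x.b * y.a + x.b * y.b⟩⟩

/-- A model of the field with sixteen elements. -/
structure G16 where
  (a b c d : ZMod 2)
deriving DecidableEq

instance : Zero G16 := ⟨⟨0, 0, 0, 0⟩⟩
instance : One G16 := ⟨⟨1, 0, 0, 0⟩⟩
instance : Add G16 := ⟨fun x y => ⟨x.a + y.a, x.b + y.b, x.c + y.c, x.d + y.d⟩⟩
instance : Mul G16 := ⟨fun x y =>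
  ⟨x.a * y.a + (x.b * y.d + x.c * y.c + x.d * y.b),
   x.a * y.b + x.b * y.a + (x.b * y.d + x.c * y.c + x.d * y.b) + (x.c * y.d + x.d * y.c),
   x.a * y.c + x.b * y.b + x.c * y.a + (x.c * y.d + x.d * y.c) + x.d * y.d,
   x.a * y.d + x.b * y.c + x.c * y.b + x.d * y.a + x.d * y.d⟩⟩

variable {K : Type*} [DecidableEq K] [Zero K] [One K] [Add K] [Mul K]

/-- The product. -/
def mm (x y : M3 K) : M3 K :=
  ⟨x.a * y.a + x.b * y.d + x.c * y.g, x.a * y.b + x.b * y.e + x.c * y.h, x.a * y.c + x.b * y.f + x.c * y.i,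
   x.d * y.a + x.e * y.d + x.f * y.g, x.d * y.b + x.e * y.e + x.f * y.h, x.d * y.c + x.e * y.f + x.f * y.i,
   x.g * y.a + x.h * y.d + x.i * y.g, x.g * y.b + x.h * y.e + x.i * y.h, x.g * y.c + x.h * y.f + x.i * y.i⟩

/-- The identity. -/
def m1 : M3 K := ⟨1, 0, 0, 0, 1, 0, 0, 0, 1⟩

/-- The regular unipotent. -/
def mu : M3 K := ⟨1, 1, 0, 0, 1, 1, 0, 0, 1⟩

/-- The certificate. -/
structure Cert (K : Type*) where
  (v ui vi g : M3 K)
  (words : List (K × List (Fin 4) × List (Fin 4)))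

/-- The generators and their inverses. -/
def Cert.gen (C : Cert K) : Fin 4 → M3 K := ![mu, C.v, C.ui, C.vi]

/-- The value of a word. -/
def Cert.eval (C : Cert K) (w : List (Fin 4)) : M3 K := w.foldr (fun k m => mm (C.gen k) m) m1

/-- Upper unitriangular with the given superdiagonal. -/
def isUT (x : M3 K) (α β : K) : Prop :=
  x.a = 1 ∧ x.b = α ∧ x.d = 0 ∧ x.e = 1 ∧ x.f = β ∧ x.g = 0 ∧ x.h = 0 ∧ x.i = 1

instance (x : M3 K) (α β : K) : Decidable (isUT x α β) := by unfold isUT; infer_instance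

/-- The checks. -/
def Cert.Valid (C : Cert K) : Prop :=
  mm mu C.ui = m1 ∧ mm C.v C.vi = m1 ∧ mm C.v C.g = mm C.g mu ∧
  (C.g.a * C.g.e * C.g.i + C.g.b * C.g.f * C.g.g + C.g.c * C.g.d * C.g.h =
    1 + (C.g.c * C.g.e * C.g.g + C.g.b * C.g.d * C.g.i + C.g.a * C.g.f * C.g.h)) ∧
  (C.v.a = 0 ∧ C.v.b = 0 ∧ C.v.d = 0) ∧
  ∀ x ∈ C.words, isUT (C.eval x.2.1) x.1 0 ∧ isUT (C.eval x.2.2) 0 x.1

instance (C : Cert K) : Decidable C.Valid := by unfold Cert.Valid; infer_instance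

/-- The conclusion. -/
def TwoGen (F : Type*) [Field F] : Prop :=
  ∃ u g : SpecialLinearGroup (Fin 3) F, IsNilpotent ((u : Matrix (Fin 3) (Fin 3) F) - 1) ∧
    ((u : Matrix (Fin 3) (Fin 3) F) - 1) ^ (3 - 1) ≠ 0 ∧
    Subgroup.closure ({u, g * u * g⁻¹} : Set (SpecialLinearGroup (Fin 3) F)) = ⊤

variable {F : Type*} [Field F]

/-- The matrix over `F`. -/
def toMat (ι : K → F) (x : M3 K) : Matrix (Fin 3) (Fin 3) F :=
  !![ι x.a, ι x.b, ι x.c; ι x.d, ι x.e, ι x.f; ι x.g, ι x.h, ι x.i]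

theorem twoGen_of_cert (ι : K → F) (h0 : ι 0 = 0) (h1 : ι 1 = 1) (hadd : ∀ a b, ι (a + b) = ι a + ι b)
    (hmul : ∀ a b, ι (a * b) = ι a * ι b) (C : Cert K) (hC : C.Valid)
    (hspan : AddSubgroup.closure {x | ∃ w ∈ C.words, ι w.1 = x} = ⊤) : TwoGen F := by
  obtain ⟨hui, hvi, hvg, hdet, ⟨hva, hvb, hvd⟩, hwords⟩ := hC
  have hmm : ∀ x y : M3 K, toMat ι (mm x y) = toMat ι x * toMat ι y := by
    intro x y
    ext i j
    fin_cases i <;> fin_cases j <;> simp [toMat, mm, Matrix.mul_apply, Fin.sum_univ_three, hadd, hmul]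
  have hone : toMat ι (m1 : M3 K) = 1 := by
    ext i j
    fin_cases i <;> fin_cases j <;> simp [toMat, m1, h0, h1]
  have hmu : toMat ι (mu : M3 K) = (ut (1 : F) 0 1 : Matrix (Fin 3) (Fin 3) F) := by
    rw [coe_ut]
    ext i j
    fin_cases i <;> fin_cases j <;> simp [toMat, mu, h0, h1]
  set u : SpecialLinearGroup (Fin 3) F := ut 1 0 1 with hu
  let g : SpecialLinearGroup (Fin 3) F := ⟨toMat ι C.g, by
    have := congrArg ι hdet
    simp only [hadd, hmul, h1] at this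
    simp [toMat, det_fin_three]
    linear_combination this⟩
  set v := g * u * g⁻¹ with hv
  have hvM : (v : Matrix (Fin 3) (Fin 3) F) = toMat ι C.v := by
    have e : (v : Matrix (Fin 3) (Fin 3) F) * g.1 = toMat ι C.v * g.1 := by
      change (v * g).1 = _
      rw [hv, inv_mul_cancel_right]
      change g.1 * u.1 = toMat ι C.v * toMat ι C.g
      rw [← hmm, hvg, hmm, hmu]
    have hg : IsUnit g.1 := (Matrix.isUnit_iff_isUnit_det _).2 (by rw [g.2]; exact isUnit_one)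
    exact hg.mul_left_injective e
  refine ⟨u, g, ⟨3, ?_⟩, ?_, ?_⟩
  · rw [hu, coe_ut]
    ext i j
    fin_cases i <;> fin_cases j <;> simp [pow_succ, Matrix.mul_apply, Fin.sum_univ_three]
  · rw [hu, coe_ut]
    intro h
    have := congrFun (congrFun h 0) 2
    simp [pow_succ, Matrix.mul_apply, Fin.sum_univ_three] at this
  rw [← hv]
  set H := Subgroup.closure ({u, v} : Set (SpecialLinearGroup (Fin 3) F))
  have huH : u ∈ H := Subgroup.subset_closure (Or.inl rfl)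
  have hvH : v ∈ H := Subgroup.subset_closure (Or.inr rfl)
  have hev : ∀ w, ∃ M ∈ H, M.1 = toMat ι (C.eval w) := by
    intro w
    induction w with
    | nil => exact ⟨1, H.one_mem, hone.symm⟩
    | cons k w ih =>
      obtain ⟨M, hM, hMe⟩ := ih
      have hk : ∃ G ∈ H, G.1 = toMat ι (C.gen k) := by
        have inv : ∀ (A : SpecialLinearGroup (Fin 3) F) (a b : M3 K), A.1 = toMat ι a → mm a b = m1 →
            (A⁻¹ : SpecialLinearGroup (Fin 3) F).1 = toMat ι b := by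
          intro A a b hA hab
          have hA' : IsUnit A.1 := (Matrix.isUnit_iff_isUnit_det _).2 (by rw [A.2]; exact isUnit_one)
          refine hA'.mul_right_injective ?_
          change (A * A⁻¹).1 = A.1 * toMat ι b
          rw [mul_inv_cancel, hA, ← hmm, hab, hone]
          rfl
        fin_cases k
        · exact ⟨u, huH, hmu.symm⟩
        · exact ⟨v, hvH, hvM⟩
        · exact ⟨u⁻¹, H.inv_mem huH, inv u _ _ hmu.symm hui⟩
        · exact ⟨v⁻¹, H.inv_mem hvH, inv v _ _ hvM hvi⟩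
      obtain ⟨G, hG, hGe⟩ := hk
      exact ⟨G * M, H.mul_mem hG hM, by
        change G.1 * M.1 = toMat ι (mm (C.gen k) (C.eval w))
        rw [hmm, hGe, hMe]⟩
  have hsd : ∀ w α β, isUT (C.eval w) α β → (ι α, ι β) ∈ superdiag H := by
    intro w α β ⟨ha, hb, hd, he, hf, hg, hh, hi⟩
    obtain ⟨M, hM, hMe⟩ := hev w
    refine ⟨ι (C.eval w).c, ?_⟩
    have e : M = ut (ι α) (ι (C.eval w).c) (ι β) := by
      apply Subtype.ext
      rw [hMe, coe_ut]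
      simp [toMat, ha, hb, hd, he, hf, hg, hh, hi, h0, h1]
    show ut (ι α) (ι (C.eval w).c) (ι β) ∈ H
    rwa [← e]
  refine eq_top_of_superdiag H ?_ v hvH ?_ ?_ ?_
  · intro α β
    have h2 : ∀ x : F, (x, (0 : F)) ∈ superdiag H ∧ ((0 : F), x) ∈ superdiag H := by
      intro x
      have hx : x ∈ AddSubgroup.closure {x | ∃ w ∈ C.words, ι w.1 = x} := hspan ▸ AddSubgroup.mem_top x
      induction hx using AddSubgroup.closure_induction with
      | mem y hy =>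
        obtain ⟨w, hw, rfl⟩ := hy
        obtain ⟨a1, a2⟩ := hwords w hw
        exact ⟨by simpa [h0] using hsd _ _ _ a1, by simpa [h0] using hsd _ _ _ a2⟩
      | zero => exact ⟨(superdiag H).zero_mem, (superdiag H).zero_mem⟩
      | add a b _ _ ha hb =>
        exact ⟨by simpa using (superdiag H).add_mem ha.1 hb.1, by simpa using (superdiag H).add_mem ha.2 hb.2⟩
      | neg a _ ha =>
        exact ⟨by simpa using (superdiag H).neg_mem ha.1, by simpa using (superdiag H).neg_mem ha.2⟩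
    simpa using (superdiag H).add_mem (h2 α).1 (h2 β).2
  all_goals (rw [hvM]; simp [toMat, hva, hvb, hvd, h0])

/-- The certificate for 2 elements. -/
def cert2 : Cert (ZMod 2) where
  v := ⟨0, 0, 1, 0, 1, 1, 1, 0, 0⟩
  ui := ⟨1, 1, 1, 0, 1, 1, 0, 0, 1⟩
  vi := ⟨0, 0, 1, 1, 1, 0, 1, 0, 0⟩
  g := ⟨0, 1, 0, 1, 1, 0, 0, 1, 1⟩
  words :=
    [ (1, [0, 1, 1, 0, 0, 3, 3], [1, 1, 0, 0, 3, 3]) ]

theorem cert2_valid : cert2.Valid := by decide +kernel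

/-- The certificate for 3 elements. -/
def cert3 : Cert (ZMod 3) where
  v := ⟨0, 0, 1, 0, 1, 1, 2, 0, 2⟩
  ui := ⟨1, 2, 1, 0, 1, 2, 0, 0, 1⟩
  vi := ⟨2, 0, 2, 2, 1, 0, 1, 0, 0⟩
  g := ⟨0, 2, 0, 2, 2, 0, 0, 2, 2⟩
  words :=
    [ (1, [0, 1, 0, 1, 2, 1, 0, 3], [1, 0, 1, 2, 1, 0, 3, 1, 0, 1, 2, 1, 0, 3]) ]

theorem cert3_valid : cert3.Valid := by decide +kernel

/-- The certificate for 7 elements. -/
def cert7 : Cert (ZMod 7) where
  v := ⟨0, 0, 1, 0, 1, 1, 6, 0, 2⟩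
  ui := ⟨1, 6, 1, 0, 1, 6, 0, 0, 1⟩
  vi := ⟨2, 0, 6, 6, 1, 0, 1, 0, 0⟩
  g := ⟨0, 3, 0, 3, 3, 0, 0, 3, 3⟩
  words :=
    [ (1, [0, 0, 0, 0, 0, 0, 1, 1, 0, 1, 0, 1, 1, 2, 1, 2, 1, 1, 1, 0, 1, 0, 1, 1, 2, 1, 2, 1, 1, 1, 0, 1, 0, 1, 1, 2, 1, 2, 1, 1, 1, 0, 1, 0, 1, 1, 2, 1, 2, 1], [0, 0, 1, 1, 0, 1, 0, 1, 1, 2, 1, 2, 1, 1, 1, 0, 1, 0, 1, 1, 2, 1, 2, 1, 1, 1, 0, 1, 0, 1, 1, 2, 1, 2, 1]) ]

theorem cert7_valid : cert7.Valid := by decide +kernel

/-- The certificate for 4 elements. -/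
def cert4 : Cert G4 where
  v := ⟨⟨0, 0⟩, ⟨0, 0⟩, ⟨1, 0⟩, ⟨0, 0⟩, ⟨0, 1⟩, ⟨1, 1⟩, ⟨1, 1⟩, ⟨1, 0⟩, ⟨1, 1⟩⟩
  ui := ⟨⟨1, 0⟩, ⟨1, 0⟩, ⟨1, 0⟩, ⟨0, 0⟩, ⟨1, 0⟩, ⟨1, 0⟩, ⟨0, 0⟩, ⟨0, 0⟩, ⟨1, 0⟩⟩
  vi := ⟨⟨0, 1⟩, ⟨1, 0⟩, ⟨0, 1⟩, ⟨0, 1⟩, ⟨1, 1⟩, ⟨0, 0⟩, ⟨1, 0⟩, ⟨0, 0⟩, ⟨0, 0⟩⟩
  g := ⟨⟨1, 1⟩, ⟨1, 0⟩, ⟨0, 0⟩, ⟨1, 1⟩, ⟨1, 1⟩, ⟨0, 0⟩, ⟨1, 1⟩, ⟨0, 1⟩, ⟨1, 0⟩⟩
  words :=
    [ (⟨1, 0⟩, [3, 0, 1, 1, 2, 1, 1, 0, 0, 1, 0, 3, 0, 3, 3, 2, 2, 1], [0, 3, 0, 1, 1, 2, 1, 1, 0, 0, 1, 0, 3, 0, 3, 3, 2, 2, 1]),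
      (⟨0, 1⟩, [3, 0, 1, 1, 2, 1], [1, 2, 1, 1, 0, 3]) ]

theorem cert4_valid : cert4.Valid := by decide +kernel

/-- The certificate for 16 elements. -/
def cert16 : Cert G16 where
  v := ⟨⟨0, 0, 0, 0⟩, ⟨0, 0, 0, 0⟩, ⟨1, 0, 0, 0⟩, ⟨0, 0, 0, 0⟩, ⟨1, 0, 0, 0⟩, ⟨0, 0, 0, 1⟩, ⟨1, 0, 0, 0⟩, ⟨0, 0, 0, 0⟩, ⟨0, 0, 0, 0⟩⟩
  ui := ⟨⟨1, 0, 0, 0⟩, ⟨1, 0, 0, 0⟩, ⟨1, 0, 0, 0⟩, ⟨0, 0, 0, 0⟩, ⟨1, 0, 0, 0⟩, ⟨1, 0, 0, 0⟩, ⟨0, 0, 0, 0⟩, ⟨0, 0, 0, 0⟩, ⟨1, 0, 0, 0⟩⟩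
  vi := ⟨⟨0, 0, 0, 0⟩, ⟨0, 0, 0, 0⟩, ⟨1, 0, 0, 0⟩, ⟨0, 0, 0, 1⟩, ⟨1, 0, 0, 0⟩, ⟨0, 0, 0, 0⟩, ⟨1, 0, 0, 0⟩, ⟨0, 0, 0, 0⟩, ⟨0, 0, 0, 0⟩⟩
  g := ⟨⟨0, 0, 0, 0⟩, ⟨1, 1, 0, 0⟩, ⟨0, 0, 0, 0⟩, ⟨1, 1, 0, 1⟩, ⟨1, 1, 0, 1⟩, ⟨0, 0, 0, 0⟩, ⟨0, 0, 0, 0⟩, ⟨1, 1, 0, 0⟩, ⟨1, 1, 0, 0⟩⟩
  words :=
    [ (⟨1, 0, 0, 0⟩, [1, 2, 1, 0, 0, 3, 2, 1, 2, 3, 2, 1], [0, 1, 2, 1, 0, 0, 3, 2, 1, 2, 3, 2, 1]),
      (⟨0, 1, 0, 0⟩, [1, 1, 0, 0, 3, 3, 1, 1, 0, 1, 1, 0, 0, 3, 3, 2, 3, 3, 1, 2, 1, 0, 0, 3, 2, 1, 2, 3, 2, 1, 1, 1, 0, 1, 1, 0, 1, 0, 1, 2, 3, 0, 1, 2, 3, 3, 2, 3, 0, 3], [1, 1, 0, 1, 1, 0, 1, 1, 0, 0, 3, 3, 2, 3, 3, 2, 3, 3]),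
      (⟨0, 0, 1, 0⟩, [3, 2, 1, 0, 1, 1, 2, 3, 0, 1], [1, 1, 0, 0, 3, 3, 1, 1, 0, 1, 1, 0, 0, 3, 3, 2, 3, 3]),
      (⟨0, 0, 0, 1⟩, [3, 2, 1, 0, 1, 1, 2, 3, 0, 1, 3, 2, 1, 2, 1, 1, 0, 3, 0, 1], [1, 1, 0, 0, 3, 3]) ]

theorem cert16_valid : cert16.Valid := by decide +kernel

theorem twoGen_prime {p : ℕ} [Fact p.Prime] [Fintype F] (hcard : Fintype.card F = p) (C : Cert (ZMod p))
    (hC : C.Valid) (hone : ∃ w ∈ C.words, w.1 = 1) : TwoGen F := by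
  have := charP_of_card_eq_prime hcard
  let ι : ZMod p →+* F := ZMod.castHom dvd_rfl F
  have hbij : Function.Bijective ι := (Fintype.bijective_iff_injective_and_card _).2
    ⟨ι.injective, by rw [ZMod.card, hcard]⟩
  refine twoGen_of_cert ι (map_zero _) (map_one _) (map_add _) (map_mul _) C hC (eq_top_iff.2 fun x _ => ?_)
  obtain ⟨k, rfl⟩ := hbij.2 x
  obtain ⟨w, hw, hw1⟩ := hone
  have h1 : (1 : F) ∈ AddSubgroup.closure {x | ∃ w ∈ C.words, ι w.1 = x} :=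
    AddSubgroup.subset_closure ⟨w, hw, by rw [hw1, map_one]⟩
  have := AddSubgroup.nsmul_mem _ h1 k.val
  rw [nsmul_one] at this
  rwa [show ι k = (k.val : F) from by rw [← map_natCast ι, ZMod.natCast_zmod_val]]

theorem twoGen_four [Fintype F] (hcard : Fintype.card F = 4) : TwoGen F := by
  classical
  have : CharP F 2 := charP_of_card_eq_prime_pow (show Fintype.card F = 2 ^ 2 by rw [hcard]; norm_num)
  obtain ⟨w, -, hw⟩ := Finset.exists_mem_notMem_of_card_lt_card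
    (show ({0, 1} : Finset F).card < (Finset.univ : Finset F).card by
      rw [Finset.card_univ, hcard, Finset.card_pair zero_ne_one]; norm_num)
  simp only [Finset.mem_insert, Finset.mem_singleton, not_or] at hw
  have h3 : w ^ 3 = 1 := by
    have := FiniteField.pow_card_sub_one_eq_one w hw.1
    rwa [hcard] at this
  have hrel : w ^ 2 + w + 1 = 0 := by
    have : (w - 1) * (w ^ 2 + w + 1) = 0 := by linear_combination h3
    exact (mul_eq_zero.1 this).resolve_left (sub_ne_zero.2 hw.2)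
  have h2 : (2 : F) = 0 := CharP.cast_eq_zero F 2
  let φ : ZMod 2 →+* F := ZMod.castHom dvd_rfl F
  let ι : G4 → F := fun x => φ x.a + φ x.b * w
  have hadd : ∀ a b, ι (a + b) = ι a + ι b := fun a b => by
    show φ (a.a + b.a) + φ (a.b + b.b) * w = _
    simp only [map_add, ι]; ring
  have hmul : ∀ a b, ι (a * b) = ι a * ι b := fun a b => by
    show φ (a.a * b.a + a.b * b.b) + φ (a.a * b.b + a.b * b.a + a.b * b.b) * w = _
    simp only [map_add, map_mul, ι]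
    linear_combination (-(φ a.b * φ b.b)) * hrel + (φ a.b * φ b.b * w + φ a.b * φ b.b) * h2
  have h1 : ι 1 = 1 := by show φ 1 + φ 0 * w = 1; simp
  refine twoGen_of_cert ι (by show φ 0 + φ 0 * w = 0; simp) h1 hadd hmul cert4 cert4_valid
    (eq_top_iff.2 fun x _ => ?_)
  set S := AddSubgroup.closure {x | ∃ a ∈ cert4.words, ι a.1 = x}
  have m1 : (1 : F) ∈ S := AddSubgroup.subset_closure ⟨_, List.mem_cons_self, h1⟩
  have mw : w ∈ S := AddSubgroup.subset_closure ⟨_, List.mem_cons_of_mem _ List.mem_cons_self,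
    by show φ 0 + φ 1 * w = w; simp⟩
  have hall : ({0, 1, w, w ^ 2} : Finset F) = Finset.univ := Finset.eq_univ_of_card _ (by
    rw [hcard]
    have e1 : w ^ 2 ≠ w := fun e => hw.2 (mul_left_cancel₀ hw.1 (by linear_combination e))
    have e2 : w ^ 2 ≠ 1 := fun e => hw.2 (by linear_combination h3 - w * e)
    simp [Ne.symm hw.1, Ne.symm hw.2, e1.symm, e2.symm, (pow_ne_zero 2 hw.1).symm])
  have hx := Finset.mem_univ x
  rw [← hall] at hx
  simp only [Finset.mem_insert, Finset.mem_singleton] at hx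
  rcases hx with rfl | rfl | rfl | rfl
  · exact S.zero_mem
  · exact m1
  · exact mw
  · rw [show w ^ 2 = -(w + 1) by linear_combination hrel]
    exact S.neg_mem (S.add_mem mw m1)

theorem twoGen_sixteen [Fintype F] (hcard : Fintype.card F = 16) : TwoGen F := by
  classical
  have : CharP F 2 := charP_of_card_eq_prime_pow (show Fintype.card F = 2 ^ 4 by rw [hcard]; norm_num)
  have h2 : (2 : F) = 0 := CharP.cast_eq_zero F 2
  obtain ⟨w, hrel⟩ : ∃ w : F, w ^ 4 = w + 1 := by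
    by_contra hne
    push_neg at hne
    let P : Polynomial F := .X ^ 12 + .X ^ 9 + .X ^ 8 + .X ^ 6 + .X ^ 4 + .X ^ 3 + .X ^ 2 + .X
    have hdeg : P.natDegree = 12 := by simp only [P]; compute_degree!
    have hP0 : P ≠ 0 := fun h => by rw [h] at hdeg; simp at hdeg
    have hall : ∀ x : F, x ∈ P.roots.toFinset := by
      intro x
      have hx16 := FiniteField.pow_card x
      rw [hcard] at hx16
      have e : (x ^ 4 + x + 1) * (x ^ 12 + x ^ 9 + x ^ 8 + x ^ 6 + x ^ 4 + x ^ 3 + x ^ 2 + x) = 0 := by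
        linear_combination hx16 + (x ^ 13 + x ^ 12 + x ^ 10 + x ^ 9 + x ^ 8 + x ^ 7 + x ^ 6 + x ^ 5 + x ^ 4 + x ^ 3 + x ^ 2 + x) * h2
      have hx : P.eval x = 0 := by
        simp only [P, Polynomial.eval_add, Polynomial.eval_pow, Polynomial.eval_X]
        exact (mul_eq_zero.1 e).resolve_left (fun h => hne x (by linear_combination h - (x + 1) * h2))
      simp [hP0, hx]
    have := (Finset.card_le_card (fun x _ => hall x : (Finset.univ : Finset F) ⊆ P.roots.toFinset)).trans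
      ((Multiset.toFinset_card_le _).trans (Polynomial.card_roots' P))
    rw [Finset.card_univ, hcard, hdeg] at this
    omega
  have hw0 : w ≠ 0 := fun h => by rw [h] at hrel; simp at hrel
  have h15 : w ^ 15 = 1 := by
    have := FiniteField.pow_card_sub_one_eq_one w hw0
    rwa [hcard] at this
  have n3 : w ^ 3 ≠ 1 := fun h => one_ne_zero (α := F) (by linear_combination -hrel + w * h)
  have n5 : w ^ 5 ≠ 1 := fun h => by
    have a : w ^ 2 + w = 1 := by linear_combination h - w * hrel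
    have b : w + 1 + w ^ 2 = 1 := by linear_combination (w ^ 2 + w + 1) * a - hrel - w ^ 3 * h2
    exact one_ne_zero (α := F) (by linear_combination -a + b)
  have hord : orderOf w = 15 := by
    have hd := orderOf_dvd_of_pow_eq_one h15
    have hmem : orderOf w ∈ Nat.divisors 15 := Nat.mem_divisors.2 ⟨hd, by norm_num⟩
    rw [show Nat.divisors 15 = {1, 3, 5, 15} by decide] at hmem
    simp only [Finset.mem_insert, Finset.mem_singleton] at hmem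
    rcases hmem with e | e | e | e
    · exact absurd (orderOf_eq_one_iff.1 e) (fun h => n3 (by rw [h, one_pow]))
    · exact absurd (e ▸ pow_orderOf_eq_one w) n3
    · exact absurd (e ▸ pow_orderOf_eq_one w) n5
    · exact e
  let φ : ZMod 2 →+* F := ZMod.castHom dvd_rfl F
  let ι : G16 → F := fun x => φ x.a + φ x.b * w + φ x.c * w ^ 2 + φ x.d * w ^ 3
  have hadd : ∀ a b, ι (a + b) = ι a + ι b := fun a b => by
    show φ (a.a + b.a) + φ (a.b + b.b) * w + φ (a.c + b.c) * w ^ 2 + φ (a.d + b.d) * w ^ 3 = _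
    simp only [map_add, ι]; ring
  have hmul : ∀ a b, ι (a * b) = ι a * ι b := fun x y => by
    show φ (x.a * y.a + (x.b * y.d + x.c * y.c + x.d * y.b)) +
      φ (x.a * y.b + x.b * y.a + (x.b * y.d + x.c * y.c + x.d * y.b) + (x.c * y.d + x.d * y.c)) * w +
      φ (x.a * y.c + x.b * y.b + x.c * y.a + (x.c * y.d + x.d * y.c) + x.d * y.d) * w ^ 2 +
      φ (x.a * y.d + x.b * y.c + x.c * y.b + x.d * y.a + x.d * y.d) * w ^ 3 = _
    simp only [map_add, map_mul, ι]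
    linear_combination (-((φ x.b * φ y.d + φ x.c * φ y.c + φ x.d * φ y.b) +
      (φ x.c * φ y.d + φ x.d * φ y.c) * w + φ x.d * φ y.d * w ^ 2)) * hrel
  have h1 : ι 1 = 1 := by show φ 1 + φ 0 * w + φ 0 * w ^ 2 + φ 0 * w ^ 3 = 1; simp
  refine twoGen_of_cert ι (by show φ 0 + φ 0 * w + φ 0 * w ^ 2 + φ 0 * w ^ 3 = 0; simp) h1 hadd hmul
    cert16 cert16_valid (eq_top_iff.2 fun x _ => ?_)
  set S := AddSubgroup.closure {x | ∃ a ∈ cert16.words, ι a.1 = x}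
  have hpow : ∀ k, w ^ k ∈ S := by
    intro k
    induction k using Nat.strong_induction_on with
    | _ k ih =>
      match k with
      | 0 => exact AddSubgroup.subset_closure ⟨_, List.mem_cons_self, by rw [pow_zero]; exact h1⟩
      | 1 => exact AddSubgroup.subset_closure ⟨_, List.mem_cons_of_mem _ List.mem_cons_self,
          by show φ 0 + φ 1 * w + φ 0 * w ^ 2 + φ 0 * w ^ 3 = w ^ 1; simp⟩
      | 2 => exact AddSubgroup.subset_closure ⟨_, List.mem_cons_of_mem _ (List.mem_cons_of_mem _ List.mem_cons_self),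
          by show φ 0 + φ 0 * w + φ 1 * w ^ 2 + φ 0 * w ^ 3 = w ^ 2; simp⟩
      | 3 => exact AddSubgroup.subset_closure ⟨_, List.mem_cons_of_mem _ (List.mem_cons_of_mem _
          (List.mem_cons_of_mem _ List.mem_cons_self)),
          by show φ 0 + φ 0 * w + φ 0 * w ^ 2 + φ 1 * w ^ 3 = w ^ 3; simp⟩
      | k + 4 =>
        rw [show w ^ (k + 4) = w ^ (k + 1) + w ^ k by linear_combination w ^ k * hrel]
        exact S.add_mem (ih _ (by omega)) (ih _ (by omega))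
  rcases eq_or_ne x 0 with rfl | hx
  · exact S.zero_mem
  have hord' : orderOf (Units.mk0 w hw0) = Nat.card Fˣ := by
    rw [← orderOf_units, Units.val_mk0, hord, Nat.card_eq_fintype_card, Fintype.card_units, hcard]
  have hz : Units.mk0 x hx ∈ Subgroup.zpowers (Units.mk0 w hw0) := by
    rw [Subgroup.eq_top_of_card_eq (Subgroup.zpowers (Units.mk0 w hw0)) (by rw [Nat.card_zpowers, hord'])]
    exact Subgroup.mem_top _
  obtain ⟨k, hk⟩ := mem_powers_iff_mem_zpowers.2 hz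
  have := congrArg Units.val hk
  simp only [Units.val_pow_eq_pow_val, Units.val_mk0] at this
  exact this ▸ hpow k

/-- All finite fields. -/
theorem twoGen (F : Type*) [Field F] [Fintype F] : TwoGen F := by
  by_cases h : Fintype.card F ∈ ({2, 3, 4, 7, 16} : Finset ℕ)
  · simp only [Finset.mem_insert, Finset.mem_singleton] at h
    rcases h with h | h | h | h | h
    · have := Fact.mk Nat.prime_two
      exact twoGen_prime h cert2 cert2_valid ⟨_, List.mem_cons_self, rfl⟩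
    · have := Fact.mk Nat.prime_three
      exact twoGen_prime h cert3 cert3_valid ⟨_, List.mem_cons_self, rfl⟩
    · exact twoGen_four h
    · have := Fact.mk (show Nat.Prime 7 by norm_num)
      exact twoGen_prime h cert7 cert7_valid ⟨_, List.mem_cons_self, rfl⟩
    · exact twoGen_sixteen h
  · exact exists_two_generic h

end Cfsg.Lib.Known.SLThree
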