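import Cfsg.Agent.Known.UnitOrders.Three
import Cfsg.Agent.Known.PSLOrders
import Cfsg.Agent.Classical.Misc.SingerOrder
import Mathlib

/-!
The element orders of `PSL (3, q)`.
-/

set_option autoImplicit false
set_option linter.style.haveILetI false

open Matrix Polynomial

namespace Cfsg.Lib.SLThreeSpectrum

universe u

variable {F : Type u} [Field F] [Fintype F]

local notation "Kc" => AlgebraicClosure F
local notation "q" => Fintype.card F

/-- The roots of the characteristic polynomial are permuted by the Frobenius. -/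
theorem roots_three (p : ℕ) [Fact p.Prime] [CharP F p] (M : Matrix (Fin 3) (Fin 3) F) (hd : M.det = 1) :
    ∃ a b c : Kc, (M.map (algebraMap F Kc)).charpoly = (X - C a) * ((X - C b) * (X - C c)) ∧ a * (b * c) = 1 ∧
      ∀ x ∈ ({a, b, c} : Set Kc), x ^ q ∈ ({a, b, c} : Set Kc) := by
  classical
  haveI : CharP Kc p := charP_of_injective_algebraMap (algebraMap F Kc).injective p
  obtain ⟨j, hp', hj⟩ := FiniteField.card F p
  set ι := algebraMap F Kc with hι
  set A := M.map ι with hA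
  set P := A.charpoly with hP
  have hsp : P.Splits := IsAlgClosed.splits P
  have hmon : P.Monic := Matrix.charpoly_monic A
  have hdeg : P.natDegree = 3 := by rw [hP, Matrix.charpoly_natDegree_eq_dim, Fintype.card_fin]
  obtain ⟨a, b, c, hR⟩ := Multiset.card_eq_three.1 ((splits_iff_card_roots.1 hsp).trans hdeg)
  have hfac : P = (X - C a) * ((X - C b) * (X - C c)) := by
    conv_lhs => rw [hsp.eq_prod_roots_of_monic hmon, hR]
    simp
  have hdet : a * (b * c) = 1 := by
    have h := Matrix.det_eq_sign_charpoly_coeff A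
    rw [← hP, hfac, Fintype.card_fin, hA, ← RingHom.mapMatrix_apply, ← RingHom.map_det, hd, map_one] at h
    rw [coeff_zero_eq_eval_zero] at h
    simp only [eval_mul, eval_sub, eval_X, eval_C, zero_sub] at h
    linear_combination -h
  refine ⟨a, b, c, hfac, hdet, fun x hx => ?_⟩
  have hmem : ∀ y : Kc, P.IsRoot y ↔ y ∈ ({a, b, c} : Set Kc) := fun y => by
    rw [← mem_roots hmon.ne_zero, hR]
    simp
  have hxr := (hmem x).2 hx
  refine (hmem _).1 ?_
  rw [hP, hA, Matrix.charpoly_map, IsRoot, eval_map] at hxr ⊢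
  let τ : Kc →+* Kc := iterateFrobenius Kc p j
  have hτ : ∀ y, τ y = y ^ q := fun y => by rw [hj]; exact iterateFrobenius_def p j y
  have h := congrArg τ hxr
  rw [map_zero, hom_eval₂, hτ] at h
  have hc : τ.comp ι = ι := RingHom.ext fun y => by rw [RingHom.comp_apply, hτ, ← map_pow, FiniteField.pow_card]
  rwa [hc] at h

theorem arith : Nat.gcd 3 (q - 1) ∣ q - 1 ∧ Nat.gcd 3 (q - 1) ∣ q ^ 2 - 1 ∧ Nat.gcd 3 (q - 1) ∣ q ^ 2 + q + 1 := by
  obtain ⟨r, hr⟩ : ∃ r, q = r + 1 := ⟨q - 1, by have := Fintype.card_pos (α := F); omega⟩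
  rw [hr, Nat.add_sub_cancel]
  have h1 : (r + 1) ^ 2 - 1 = r * (r + 2) := by rw [show (r + 1) ^ 2 = r * (r + 2) + 1 by ring, Nat.add_sub_cancel]
  refine ⟨Nat.gcd_dvd_right _ _, h1 ▸ dvd_mul_of_dvd_left (Nat.gcd_dvd_right _ _) _, ?_⟩
  rw [show (r + 1) ^ 2 + (r + 1) + 1 = r * (r + 3) + 3 by ring]
  exact dvd_add (dvd_mul_of_dvd_left (Nat.gcd_dvd_right _ _) _) (Nat.gcd_dvd_left _ _)

/-- The possible scalar powers. -/
theorem power_scalar (p : ℕ) [Fact p.Prime] [CharP F p] (M : Matrix (Fin 3) (Fin 3) F) (hd : M.det = 1) :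
    ∃ k, (k = (q ^ 2 + q + 1) / Nat.gcd 3 (q - 1) ∨ k = (q ^ 2 - 1) / Nat.gcd 3 (q - 1) ∨ k = q - 1 ∨
      k = p * (q - 1) / Nat.gcd 3 (q - 1) ∨ (p = 2 ∧ k = 4)) ∧ ∃ z : F, M ^ k = z • 1 := by
  classical
  haveI : CharP Kc p := charP_of_injective_algebraMap (algebraMap F Kc).injective p
  obtain ⟨j, hp', hj⟩ := FiniteField.card F p
  have hinjq : ∀ x y : Kc, x ^ q = y ^ q → x = y := fun x y h => by
    rw [hj] at h
    exact (iterateFrobenius Kc p j).injective (by rw [iterateFrobenius_def, iterateFrobenius_def, h])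
  have hd0 : 0 < Nat.gcd 3 (q - 1) := Nat.gcd_pos_of_pos_left _ (by norm_num)
  obtain ⟨hq1, hq2, hq3⟩ := arith (F := F)
  obtain ⟨d, hdd⟩ : ∃ d, Nat.gcd 3 (q - 1) = d := ⟨_, rfl⟩
  rw [hdd] at hd0 hq1 hq2 hq3 ⊢
  obtain ⟨t, ht⟩ : d ∣ 3 := hdd ▸ Nat.gcd_dvd_left _ _
  obtain ⟨r, hr⟩ : ∃ r, q = r + 1 := ⟨q - 1, by have := Fintype.card_pos (α := F); omega⟩
  obtain ⟨e, he⟩ := hq1
  obtain ⟨e₂, he₂⟩ := hq2
  obtain ⟨e₃, he₃⟩ := hq3
  have hre : r = d * e := by omega
  obtain ⟨a, b, c, hP, habc, hperm⟩ := roots_three p M hd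
  have hfix : ∀ x : Kc, x ≠ 0 → x ^ q = x → x ^ (q - 1) = 1 := fun x hx h => by
    apply mul_right_cancel₀ hx
    rw [← pow_succ, Nat.sub_add_cancel Fintype.card_pos, h, one_mul]
  have hpk : p * (q - 1) / d = e * p := by
    rw [he, mul_comm p, mul_assoc, Nat.mul_div_cancel_left _ hd0]
  have hdouble : ∀ u v : Kc, (M.map (algebraMap F Kc)).charpoly = (X - C u) * ((X - C u) * (X - C v)) →
      u * u * v = 1 → (∀ x ∈ ({u, v} : Set Kc), x ^ q ∈ ({u, v} : Set Kc)) →
      ∃ k, (k = p * (q - 1) / d ∨ (p = 2 ∧ k = 4)) ∧ ∃ z : F, M ^ k = z • 1 := by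
    intro u v hP' huv hper
    have hu0 : u ≠ 0 := fun h => by simp [h] at huv
    have hv : v = (u ^ 2)⁻¹ := eq_inv_of_mul_eq_one_left (by linear_combination huv)
    rcases eq_or_ne v u with hvu | hvu
    · have hu3 : u ^ 3 = 1 := by rw [← huv, hvu]; ring
      have hl : ∀ k, 3 ≤ k → (X - C u) * ((X - C u) * (X - C u)) ∣ (X - C u) ^ k := fun k hk => by
        rw [show (X - C u) * ((X - C u) * (X - C u)) = (X - C u) ^ 3 by ring]
        exact pow_dvd_pow _ hk
      rw [hvu] at hP'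
      rcases eq_or_ne p 2 with hp2 | hp2
      · refine ⟨4, Or.inr ⟨hp2, rfl⟩, UnitOrders.scalar_of_dvd M (u ^ 4) ?_⟩
        rw [hP', show (X : Kc[X]) ^ 4 - C (u ^ 4) = (X - C u) ^ 4 by
          rw [show (4 : ℕ) = p ^ 2 by rw [hp2]; rfl, sub_pow_char_pow, map_pow]]
        exact hl 4 (by norm_num)
      · refine ⟨_, Or.inl rfl, ?_⟩
        have hp3 : 3 ≤ p := by have := (Fact.out : p.Prime).two_le; omega
        obtain ⟨z, hz⟩ := UnitOrders.scalar_of_dvd M (k := p) (u ^ p) (by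
          rw [hP', show (X : Kc[X]) ^ p - C (u ^ p) = (X - C u) ^ p by rw [sub_pow_char, map_pow]]
          exact hl p hp3)
        exact ⟨z ^ e, by rw [hpk, mul_comm, pow_mul, hz, _root_.smul_pow, one_pow]⟩
    · refine ⟨_, Or.inl rfl, ?_⟩
      have huq : u ^ q = u := by
        rcases hper u (by simp) with h | h
        · exact h
        exfalso
        simp only [Set.mem_singleton_iff] at h
        rcases hper v (by simp) with h' | h'
        · have h1 : u ^ q * u ^ 2 = 1 := by rw [h, hv, inv_mul_cancel₀ (pow_ne_zero _ hu0)]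
          have h2 : (u ^ q) ^ 2 * u = 1 := by
            have h3 : v ^ q * (u ^ q) ^ 2 = 1 := by
              rw [hv, inv_pow, ← pow_mul, mul_comm 2, pow_mul, inv_mul_cancel₀ (pow_ne_zero _ (pow_ne_zero _ hu0))]
            rw [h'] at h3
            rw [mul_comm]; exact h3
          apply hvu
          rw [hv]
          refine inv_eq_of_mul_eq_one_right ?_
          have h3 : (u ^ q * u ^ 2) ^ 2 = (u ^ q) ^ 2 * u * u ^ 3 := by ring
          rw [h1, h2, one_mul, one_pow] at h3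
          linear_combination -h3
        · simp only [Set.mem_singleton_iff] at h'
          exact hvu (hinjq _ _ (h'.trans h.symm))
      have hu := hfix u hu0 huq
      have hl : ∀ x : Kc, x ^ e = u ^ e → X - C x ∣ X ^ e - C (u ^ e) := fun x hx => by
        rw [dvd_iff_isRoot, IsRoot, eval_sub, eval_pow, eval_X, eval_C, hx, sub_self]
      have hve : v ^ e = u ^ e := by
        rw [hv, inv_pow, ← pow_mul]
        apply inv_eq_of_mul_eq_one_left
        rw [← pow_add, show e + 2 * e = t * r by rw [hre, ← mul_assoc, mul_comm t d, ← ht]; ring,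
          show r = q - 1 by omega, mul_comm, pow_mul, hu, one_pow]
      have hcop : IsCoprime (X - C v) ((X - C u) ^ 2) :=
        (isCoprime_X_sub_C_of_isUnit_sub (sub_ne_zero.2 hvu).isUnit).pow_right
      rw [hpk]
      refine UnitOrders.scalar_of_dvd M ((u ^ e) ^ p) ?_
      rw [hP', show (X : Kc[X]) ^ (e * p) - C ((u ^ e) ^ p) = (X ^ e - C (u ^ e)) ^ p by
        rw [sub_pow_char]; simp only [← pow_mul, map_pow], show (X - C u) * ((X - C u) * (X - C v)) = (X - C v) * (X - C u) ^ 2 by ring]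
      exact hcop.mul_dvd ((hl v hve).trans (dvd_pow_self _ (Fact.out : p.Prime).ne_zero))
        ((pow_dvd_pow_of_dvd (hl u rfl) 2).trans (pow_dvd_pow _ (Fact.out : p.Prime).two_le))
  by_cases h3 : a ≠ b ∧ a ≠ c ∧ b ≠ c
  swap
  · have key : ∃ k, (k = p * (q - 1) / d ∨ (p = 2 ∧ k = 4)) ∧ ∃ z : F, M ^ k = z • 1 := by
      rcases eq_or_ne a b with hab | hab
      · refine hdouble a c (by rw [hP, hab]) (by rw [← hab] at habc; rw [← habc]; ring) ?_
        have : ({a, b, c} : Set Kc) = {a, c} := by rw [hab]; simp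
        rwa [this] at hperm
      rcases eq_or_ne a c with hac | hac
      · refine hdouble a b (by rw [hP, hac]; ring) (by rw [← hac] at habc; rw [← habc]; ring) ?_
        have : ({a, b, c} : Set Kc) = {a, b} := by rw [← hac]; ext x; simp; tauto
        rwa [this] at hperm
      have hbc : b = c := not_not.1 fun h => h3 ⟨hab, hac, h⟩
      refine hdouble b a (by rw [hP, hbc]; ring) (by rw [← hbc] at habc; rw [← habc]; ring) ?_
      have : ({a, b, c} : Set Kc) = {b, a} := by rw [hbc]; ext x; simp; tauto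
      rwa [this] at hperm
    obtain ⟨k, hk, hz⟩ := key
    exact ⟨k, hk.elim (fun h => Or.inr (Or.inr (Or.inr (Or.inl h)))) (fun h => Or.inr (Or.inr (Or.inr (Or.inr h)))), hz⟩
  obtain ⟨hab, hac, hbc⟩ := h3
  have hpair : ∀ u v w : Kc, (M.map (algebraMap F Kc)).charpoly = (X - C u) * ((X - C v) * (X - C w)) →
      u ≠ v → u ≠ w → v ≠ w → u * (v * w) = 1 → u ^ q = v → v ^ q = u →
      ∃ z : F, M ^ ((q ^ 2 - 1) / d) = z • 1 := by
    intro u v w hP' h1 h2 h3 huvw huv hvu
    have hu0 : u ≠ 0 := fun h => by simp [h] at huvw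
    have hu : u ^ (q ^ 2 - 1) = 1 := by
      apply mul_right_cancel₀ hu0
      rw [← pow_succ, Nat.sub_add_cancel (Nat.one_le_pow _ _ Fintype.card_pos), pow_two, pow_mul, huv, hvu, one_mul]
    rw [he₂, Nat.mul_div_cancel_left _ hd0]
    refine UnitOrders.scalar_of_dvd M (u ^ e₂) (UnitOrders.dvd_of_roots hP' h1 h2 h3 rfl ?_ ?_)
    · rw [← huv, ← pow_mul, show q * e₂ = e * (q ^ 2 - 1) + e₂ by rw [he₂, hr, hre]; ring, pow_add, mul_comm e,
        pow_mul, hu, one_pow, one_mul]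
    · have hw : w * (u * u ^ q) = 1 := by rw [huv]; linear_combination huvw
      apply mul_right_cancel₀ (pow_ne_zero e₂ (mul_ne_zero hu0 (pow_ne_zero q hu0)))
      rw [← mul_pow, hw, one_pow, ← mul_pow, ← pow_succ', ← pow_succ', ← pow_mul,
        show (q + 1 + 1) * e₂ = (e + t) * (q ^ 2 - 1) by
          rw [he₂, hr, hre, show d * e + 1 + 1 + 1 = d * e + d * t by rw [← ht]]; ring,
        mul_comm, pow_mul, hu, one_pow]
  have hcyc : ∀ u v w : Kc, (M.map (algebraMap F Kc)).charpoly = (X - C u) * ((X - C v) * (X - C w)) →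
      u ≠ v → u ≠ w → v ≠ w → u * (v * w) = 1 → u ^ q = v → v ^ q = w →
      ∃ z : F, M ^ ((q ^ 2 + q + 1) / d) = z • 1 := by
    intro u v w hP' h1 h2 h3 huvw huv hvw
    have hu : u ^ (q ^ 2 + q + 1) = 1 := by
      rw [← huvw, ← hvw, ← huv]; ring
    rw [he₃, Nat.mul_div_cancel_left _ hd0]
    refine UnitOrders.scalar_of_dvd M (u ^ e₃) (UnitOrders.dvd_of_roots hP' h1 h2 h3 rfl ?_ ?_)
    · rw [← huv, ← pow_mul, show q * e₃ = e * (q ^ 2 + q + 1) + e₃ by rw [he₃, hr, hre]; ring, pow_add, mul_comm e,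
        pow_mul, hu, one_pow, one_mul]
    · rw [← hvw, ← huv, ← pow_mul, ← pow_mul, show q * (q * e₃) = (e * (q + 1)) * (q ^ 2 + q + 1) + e₃ by
          rw [he₃, hr, hre]; ring, pow_add, mul_comm (e * (q + 1)), pow_mul, hu, one_pow, one_mul]
  have hA := hperm a (by simp)
  have hB := hperm b (by simp)
  have hC := hperm c (by simp)
  simp only [Set.mem_insert_iff, Set.mem_singleton_iff] at hA hB hC
  have ha0 : a ≠ 0 := fun h => by simp [h] at habc
  have hb0 : b ≠ 0 := fun h => by simp [h] at habc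
  have hc0 : c ≠ 0 := fun h => by simp [h] at habc
  rcases hA with ha | ha | ha
  · rcases hB with hb | hb | hb
    · exact absurd (hinjq _ _ (ha.trans hb.symm)) hab
    · rcases hC with hc | hc | hc
      · exact absurd (hinjq _ _ (ha.trans hc.symm)) hac
      · exact absurd (hinjq _ _ (hb.trans hc.symm)) hbc
      · exact ⟨_, Or.inr (Or.inr (Or.inl rfl)), UnitOrders.scalar_of_dvd M 1
          (UnitOrders.dvd_of_roots hP hab hac hbc (hfix a ha0 ha) (hfix b hb0 hb) (hfix c hc0 hc))⟩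
    · refine ⟨_, Or.inr (Or.inl rfl), hpair b c a (by rw [hP]; ring) hbc hab.symm hac.symm (by rw [← habc]; ring) hb ?_⟩
      rcases hC with hc | hc | hc
      · exact absurd (hinjq _ _ (ha.trans hc.symm)) hac
      · exact hc
      · exact absurd (hinjq _ _ (hb.trans hc.symm)) hbc
  · rcases hB with hb | hb | hb
    · exact ⟨_, Or.inr (Or.inl rfl), hpair a b c hP hab hac hbc habc ha hb⟩
    · exact absurd (hinjq _ _ (ha.trans hb.symm)) hab
    · exact ⟨_, Or.inl rfl, hcyc a b c hP hab hac hbc habc ha hb⟩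
  · rcases hC with hc | hc | hc
    · exact ⟨_, Or.inr (Or.inl rfl), hpair a c b (by rw [hP]; ring) hac hab hbc.symm (by rw [← habc]; ring) ha hc⟩
    · exact ⟨_, Or.inl rfl, hcyc a c b (by rw [hP]; ring) hac hab hbc.symm (by rw [← habc]; ring) ha hc⟩
    · exact absurd (hinjq _ _ (ha.trans hc.symm)) hac

omit [Fintype F] in
/-- The block split of a scalar matrix. -/
theorem smul_one_eq_bd (z : F) :
    z • (1 : Matrix (Fin (2 + 1)) (Fin (2 + 1)) F) =
      UnitarySemisimple.bd (z • (1 : Matrix (Fin 2) (Fin 2) F)) (z • (1 : Matrix (Fin 1) (Fin 1) F)) := by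
  rw [← UnitarySemisimple.bd_one (a := 2) (b := 1)]
  simp only [UnitarySemisimple.bd, ← map_smul, fromBlocks_smul, smul_zero]

/-- The four (five in characteristic two) kinds of elements. -/
theorem exists_elts (p : ℕ) [Fact p.Prime] [CharP F p] (k : ℕ)
    (hk : k = (q ^ 2 + q + 1) / Nat.gcd 3 (q - 1) ∨ k = (q ^ 2 - 1) / Nat.gcd 3 (q - 1) ∨ k = q - 1 ∨
      k = p * (q - 1) / Nat.gcd 3 (q - 1) ∨ (p = 2 ∧ k = 4)) :
    ∃ x : Matrix.ProjectiveSpecialLinearGroup (Fin 3) F, k ∣ orderOf x := by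
  classical
  have hd0 : 0 < Nat.gcd 3 (q - 1) := Nat.gcd_pos_of_pos_left _ (by norm_num)
  obtain ⟨hq1, hq2, hq3⟩ := arith (F := F)
  obtain ⟨r, hr⟩ : ∃ r, q = r + 1 := ⟨q - 1, by have := Fintype.card_pos (α := F); omega⟩
  have hrq : q - 1 = r := by omega
  have pull : ∀ X : SpecialLinearGroup (Fin 3) F, ∃ z : F,
      (X : Matrix (Fin 3) (Fin 3) F) ^ orderOf (X : Matrix.ProjectiveSpecialLinearGroup (Fin 3) F) = z • 1 := fun X => by
    obtain ⟨z, hz⟩ := (Known.psl_mk_pow_eq_one_iff (by norm_num) X _).1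
      (pow_orderOf_eq_one (X : Matrix.ProjectiveSpecialLinearGroup (Fin 3) F))
    exact ⟨z, by rw [← hz, smul_one_eq_diagonal]; rfl⟩
  obtain ⟨ζ, hζ⟩ := IsCyclic.exists_ofOrder_eq_natCard (α := Fˣ)
  rw [Nat.card_units, Nat.card_eq_fintype_card] at hζ
  have third : ∀ o : ℕ, q - 1 ∣ 3 * o → (q - 1) / Nat.gcd 3 (q - 1) ∣ o := fun o h => by
    obtain ⟨t, ht⟩ := Nat.gcd_dvd_left 3 (q - 1)
    obtain ⟨e, he⟩ := hq1
    have hcop : Nat.Coprime e t := by
      have h := (Nat.coprime_div_gcd_div_gcd (m := 3) (n := q - 1) hd0).symm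
      rwa [show (q - 1) / Nat.gcd 3 (q - 1) = e by nth_rw 1 [he]; exact Nat.mul_div_cancel_left _ hd0,
        show 3 / Nat.gcd 3 (q - 1) = t by nth_rw 1 [ht]; exact Nat.mul_div_cancel_left _ hd0] at h
    rw [show (q - 1) / Nat.gcd 3 (q - 1) = e by nth_rw 1 [he]; exact Nat.mul_div_cancel_left _ hd0]
    refine hcop.dvd_of_dvd_mul_left (Nat.dvd_of_mul_dvd_mul_left hd0 ?_)
    rw [← he, ← mul_assoc, ← ht]
    exact h
  rcases hk with rfl | rfl | rfl | rfl | ⟨rfl, rfl⟩
  · obtain ⟨g, hg⟩ := SingerOrder.exists_singer (F := F) (p := p) (n := 3) (T := q ^ 2 + q + 1)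
      (d := Nat.gcd 3 (q - 1)) (by norm_num) (by
        rw [hrq, hr]
        have : (r + 1) ^ 3 = ((r + 1) ^ 2 + (r + 1) + 1) * r + 1 := by ring
        omega) hq3 (by
        rw [hrq, hr, show (r + 1) ^ 2 + (r + 1) + 1 = 3 + (r + 3) * r by ring, Nat.gcd_add_mul_right_left])
    exact ⟨g, hg.symm.dvd⟩
  · obtain ⟨g, hg⟩ := Known.exists_gl_orderOf_singer (F := F) 2 2 (by norm_num) le_rfl
    rw [Nat.card_eq_fintype_card] at hg
    set D := (g : Matrix (Fin 2) (Fin 2) F).det with hD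
    have hD0 : D ≠ 0 := (Matrix.isUnit_iff_isUnit_det _).1 g.isUnit |>.ne_zero
    let X : SpecialLinearGroup (Fin 3) F := ⟨UnitarySemisimple.bd (g : Matrix (Fin 2) (Fin 2) F)
      (D⁻¹ • (1 : Matrix (Fin 1) (Fin 1) F)), by
      rw [UnitarySemisimple.det_bd, det_smul, det_one, Fintype.card_fin, pow_one, mul_one, ← hD, mul_inv_cancel₀ hD0]⟩
    refine ⟨X, ?_⟩
    obtain ⟨z, hz⟩ := pull X
    set o := orderOf (X : Matrix.ProjectiveSpecialLinearGroup (Fin 3) F)
    change (UnitarySemisimple.bd _ _ : Matrix (Fin (2 + 1)) (Fin (2 + 1)) F) ^ o = z • (1 : Matrix (Fin (2 + 1)) (Fin (2 + 1)) F) at hz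
    rw [UnitarySemisimple.bd_pow, _root_.smul_pow, one_pow, smul_one_eq_bd] at hz
    simp only [UnitarySemisimple.bd] at hz
    obtain ⟨h1, -, -, h2⟩ := fromBlocks_inj.1 ((Matrix.reindexAlgEquiv F F finSumFinEquiv).injective hz)
    have hz2 : D⁻¹ ^ o = z := by simpa using congrFun (congrFun h2 0) 0
    have hz0 : z ≠ 0 := hz2 ▸ pow_ne_zero _ (inv_ne_zero hD0)
    have hz3 : z ^ 3 = 1 := by
      have h := congrArg Matrix.det h1
      rw [det_pow, ← hD, det_smul, det_one, mul_one, Fintype.card_fin] at h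
      rw [inv_pow, h] at hz2
      calc z ^ 3 = z * z ^ 2 := by ring
        _ = (z ^ 2)⁻¹ * z ^ 2 := by rw [hz2]
        _ = 1 := inv_mul_cancel₀ (pow_ne_zero _ hz0)
    have e1 : q ^ 2 - 1 ∣ o * 3 := hg ▸ orderOf_dvd_of_pow_eq_one (Units.ext (by
      rw [Units.val_pow_eq_pow_val, pow_mul, h1, _root_.smul_pow, one_pow, hz3, one_smul, Units.val_one]))
    have e2 : q ^ 2 - 1 ∣ o * (q - 1) := hg ▸ orderOf_dvd_of_pow_eq_one (Units.ext (by
      rw [Units.val_pow_eq_pow_val, pow_mul, h1, _root_.smul_pow, one_pow, FiniteField.pow_card_sub_one_eq_one z hz0,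
        one_smul, Units.val_one]))
    have e3 := Nat.dvd_gcd e1 e2
    rw [Nat.gcd_mul_left, mul_comm] at e3
    exact (Nat.div_dvd_iff_dvd_mul hq2 hd0).2 e3
  · let D : Fin 3 → F := ![(ζ : F), 1, ((ζ⁻¹ : Fˣ) : F)]
    let X : SpecialLinearGroup (Fin 3) F := ⟨diagonal D, by rw [det_diagonal, Fin.prod_univ_three]; simp [D]⟩
    refine ⟨X, ?_⟩
    obtain ⟨z, hz⟩ := pull X
    change diagonal D ^ _ = _ at hz
    rw [diagonal_pow, smul_one_eq_diagonal] at hz
    have h := diagonal_injective hz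
    have e0 := congrFun h 0
    have e1 := congrFun h 1
    simp [D] at e0 e1
    rw [← hζ]
    exact orderOf_dvd_of_pow_eq_one (Units.ext (by rw [Units.val_pow_eq_pow_val, e0, ← e1, Units.val_one]))
  · let N : Matrix (Fin 2) (Fin 2) F := !![1, 1; 0, 1]
    let X : SpecialLinearGroup (Fin 3) F := ⟨UnitarySemisimple.bd ((ζ : F) • N)
      ((((ζ⁻¹ : Fˣ) : F) ^ 2) • (1 : Matrix (Fin 1) (Fin 1) F)), by
      rw [UnitarySemisimple.det_bd, det_smul, det_smul, det_one, Fintype.card_fin, Fintype.card_fin, mul_one, pow_one,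
        show N.det = 1 by simp [N, det_fin_two_of], mul_one, ← mul_pow, Units.mul_inv, one_pow]⟩
    refine ⟨X, ?_⟩
    obtain ⟨z, hz⟩ := pull X
    set o := orderOf (X : Matrix.ProjectiveSpecialLinearGroup (Fin 3) F)
    change (UnitarySemisimple.bd _ _ : Matrix (Fin (2 + 1)) (Fin (2 + 1)) F) ^ o = z • (1 : Matrix (Fin (2 + 1)) (Fin (2 + 1)) F) at hz
    rw [UnitarySemisimple.bd_pow, _root_.smul_pow, _root_.smul_pow, one_pow, smul_one_eq_bd] at hz
    simp only [UnitarySemisimple.bd] at hz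
    obtain ⟨h1, -, -, h2⟩ := fromBlocks_inj.1 ((Matrix.reindexAlgEquiv F F finSumFinEquiv).injective hz)
    have hz2 : (((ζ⁻¹ : Fˣ) : F) ^ 2) ^ o = z := by simpa using congrFun (congrFun h2 0) 0
    have hN : ∀ m : ℕ, N ^ m = !![1, (m : F); 0, 1] := fun m => by
      induction m with
      | zero => simp [one_fin_two]
      | succ m ih =>
        rw [pow_succ, ih]
        ext i j
        fin_cases i <;> fin_cases j <;> simp [N, add_comm]
    rw [hN] at h1
    have a00 : (ζ : F) ^ o = z := by simpa using congrFun (congrFun h1 0) 0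
    have a01 : (ζ : F) ^ o * (o : F) = 0 := by simpa using congrFun (congrFun h1 0) 1
    have hpo : p ∣ o := (CharP.cast_eq_zero_iff F p o).1 ((mul_eq_zero.1 a01).resolve_left (pow_ne_zero _ ζ.ne_zero))
    have h3o : q - 1 ∣ 3 * o := by
      rw [← hζ]
      refine orderOf_dvd_of_pow_eq_one (Units.ext ?_)
      rw [Units.val_pow_eq_pow_val, Units.val_one, show 3 * o = o + 2 * o by ring, pow_add, a00, ← hz2, ← pow_mul,
        ← mul_pow, Units.inv_mul, one_pow]
    rw [Nat.mul_div_assoc _ hq1]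
    refine ((Fact.out : p.Prime).coprime_iff_not_dvd.2 fun h => ?_).mul_dvd_of_dvd_of_dvd hpo (third o h3o)
    obtain ⟨j, hp', hj⟩ := FiniteField.card F p
    have h5 : p ∣ r := hrq ▸ h.trans (Nat.div_dvd_of_dvd hq1)
    have h6 : p ∣ r + 1 := by rw [← hr, hj]; exact dvd_pow_self p j.pos.ne'
    exact (Fact.out : p.Prime).not_dvd_one ((Nat.dvd_add_right h5).1 h6)
  · let U : Matrix (Fin 3) (Fin 3) F := !![1, 1, 0; 0, 1, 1; 0, 0, 1]
    let X : SpecialLinearGroup (Fin 3) F := ⟨U, by simp [U, det_fin_three]⟩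
    refine ⟨X, ?_⟩
    have h4 : (X : Matrix.ProjectiveSpecialLinearGroup (Fin 3) F) ^ 2 ^ (1 + 1) = 1 := by
      rw [Known.psl_mk_pow_eq_one_iff (by norm_num)]
      refine ⟨1, ?_⟩
      rw [map_one]
      show (1 : Matrix (Fin 3) (Fin 3) F) = U ^ 4
      ext i j
      fin_cases i <;> fin_cases j <;> simp [U, pow_succ, Matrix.mul_apply, Fin.sum_univ_three, CharTwo.add_self_eq_zero]
    have h2' : ¬ (X : Matrix.ProjectiveSpecialLinearGroup (Fin 3) F) ^ 2 ^ 1 = 1 := by
      rw [Known.psl_mk_pow_eq_one_iff (by norm_num)]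
      rintro ⟨c, hc⟩
      have := congrFun (congrFun (hc : scalar (Fin 3) c = U ^ 2 ^ 1) 0) 2
      simp [show (X : Matrix (Fin 3) (Fin 3) F) = U from rfl, U, pow_succ, Matrix.mul_apply, Fin.sum_univ_three] at this
    rw [orderOf_eq_prime_pow h2' h4]
    rfl

end Cfsg.Lib.SLThreeSpectrum
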