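import Mathlib

/-! When `-1` or a 2-element is a power in a finite field. -/

set_option autoImplicit false

namespace Cfsg.Lib.Known.ScalarPow

variable {F : Type*} [Field F] [Fintype F]

theorem decomp (n : ℕ) (hn : n ≠ 0) : ∃ t, Odd t ∧ n = 2 ^ padicValNat 2 n * t := by
  obtain ⟨t, ht⟩ := pow_padicValNat_dvd (p := 2) (n := n)
  refine ⟨t, ?_, ht⟩
  rw [← Nat.not_even_iff_odd, even_iff_two_dvd]
  rintro ⟨s, rfl⟩
  exact pow_succ_padicValNat_not_dvd (p := 2) hn ⟨s, by rw [pow_succ, mul_assoc]; exact ht⟩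

/-- A generator of the multiplicative group. -/
theorem exists_gen : ∃ ζ : F, ζ ≠ 0 ∧ orderOf ζ = Fintype.card F - 1 := by
  classical
  obtain ⟨ζ, hζ⟩ := IsCyclic.exists_generator (α := Fˣ)
  refine ⟨ζ, ζ.ne_zero, ?_⟩
  rw [orderOf_units, orderOf_eq_card_of_forall_mem_zpowers hζ, Nat.card_units, Nat.card_eq_fintype_card]

theorem neg_one_pow_iff (hodd : Odd (Fintype.card F)) {n : ℕ} (hn : 1 ≤ n) :
    (∃ c : F, c ≠ 0 ∧ c ^ n = -1) ↔ padicValNat 2 n < padicValNat 2 (Fintype.card F - 1) := by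
  have hq := Fintype.one_lt_card (α := F)
  have hne : (-1 : F) ≠ 1 := by
    intro h
    have h2 : (2 : F) = 0 := by linear_combination -h
    exact Ring.two_ne_zero (fun e => (Nat.not_even_iff_odd.2 hodd) (Nat.even_iff.2 (FiniteField.even_card_of_char_two e))) h2
  obtain ⟨n', hn', hnd⟩ := decomp n (by omega)
  obtain ⟨N, hN, hNd⟩ := decomp (Fintype.card F - 1) (by omega)
  set a := padicValNat 2 (Fintype.card F - 1)
  set b := padicValNat 2 n
  constructor
  · rintro ⟨c, hc, hcn⟩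
    by_contra hle
    obtain ⟨d, hd⟩ := Nat.exists_eq_add_of_le (not_lt.1 hle)
    apply hne
    calc (-1 : F) = (-1) ^ N := hN.neg_one_pow.symm
      _ = (c ^ (Fintype.card F - 1)) ^ (2 ^ d * n') := by
        rw [← hcn, ← pow_mul, ← pow_mul, hnd, hd, hNd]; ring_nf
      _ = 1 := by rw [FiniteField.pow_card_sub_one_eq_one c hc, one_pow]
  · intro h
    obtain ⟨ζ, hζ0, hζ⟩ := exists_gen (F := F)
    refine ⟨(ζ ^ N) ^ 2 ^ (a - 1 - b), pow_ne_zero _ (pow_ne_zero _ hζ0), ?_⟩
    have hhalf : ζ ^ (2 ^ (a - 1) * N) = -1 := by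
      have hsq : (ζ ^ (2 ^ (a - 1) * N)) * (ζ ^ (2 ^ (a - 1) * N)) = 1 := by
        rw [← pow_add, ← two_mul, ← mul_assoc, ← pow_succ', show a - 1 + 1 = a by omega, ← hNd]
        exact FiniteField.pow_card_sub_one_eq_one ζ hζ0
      refine (mul_self_eq_one_iff.1 hsq).resolve_left fun e => ?_
      have := Nat.le_of_dvd (Nat.mul_pos (pow_pos two_pos _) hN.pos) (orderOf_dvd_of_pow_eq_one e)
      rw [hζ, hNd] at this
      have hlt : 2 ^ (a - 1) < 2 ^ a := Nat.pow_lt_pow_right one_lt_two (by omega)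
      nlinarith [hN.pos]
    rw [← pow_mul, ← pow_mul, ← mul_assoc, show N * 2 ^ (a - 1 - b) * n = 2 ^ (a - 1) * N * n' by
      rw [hnd, show 2 ^ (a - 1) = 2 ^ (a - 1 - b) * 2 ^ b by rw [← pow_add]; congr 1; omega]; ring,
      pow_mul, hhalf, hn'.neg_one_pow]

theorem padicValNat_sub_one_eq_one {q : ℕ} (hq : Odd q) (h1 : 1 < q) : padicValNat 2 (q - 1) = 1 ↔ q % 4 = 3 := by
  obtain ⟨t, ht, he⟩ := decomp (q - 1) (by omega)
  obtain ⟨s, rfl⟩ := ht
  obtain ⟨k, rfl⟩ := hq
  constructor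
  · intro h; rw [h] at he; omega
  · intro h
    rcases hv : padicValNat 2 (2 * k + 1 - 1) with _ | _ | v
    · rw [hv] at he; omega
    · rfl
    · rw [hv, show (2 : ℕ) ^ (v + 1 + 1) = 2 ^ v * 4 by ring] at he
      rw [mul_assoc, mul_left_comm] at he
      omega

theorem block_iff (hodd : Odd (Fintype.card F)) {m : ℕ} (hm : 1 ≤ m) (μ : F)
    (hμ : orderOf μ = 2 ^ padicValNat 2 (Fintype.card F - 1)) :
    (∃ c : F, c ≠ 0 ∧ c ^ (2 * m) * (-μ) ^ m = 1) ↔
      (Fintype.card F % 4 = 3 ∨ padicValNat 2 (Fintype.card F - 1) < padicValNat 2 (2 * m)) := by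
  have hq := Fintype.one_lt_card (α := F)
  have hne : (-1 : F) ≠ 1 := by
    intro h
    have h2 : (2 : F) = 0 := by linear_combination -h
    exact Ring.two_ne_zero (fun e => (Nat.not_even_iff_odd.2 hodd) (Nat.even_iff.2 (FiniteField.even_card_of_char_two e))) h2
  rw [← padicValNat_sub_one_eq_one hodd hq, padicValNat.mul (by norm_num) (by omega), padicValNat_self]
  obtain ⟨m', hm', hmd⟩ := decomp m (by omega)
  obtain ⟨N, hN, hNd⟩ := decomp (Fintype.card F - 1) (by omega)
  set a := padicValNat 2 (Fintype.card F - 1)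
  set b := padicValNat 2 m
  have ha : 1 ≤ a := by
    by_contra h0
    rw [show a = 0 by omega, pow_zero, one_mul] at hNd
    obtain ⟨k, hk⟩ := hodd
    obtain ⟨s, hs⟩ := hN
    omega
  constructor
  · rintro ⟨c, hc, hcm⟩
    by_contra hcon
    push Not at hcon
    obtain ⟨h1, h2⟩ := hcon
    obtain ⟨d, hd⟩ : ∃ d, a = b + 1 + d := Nat.exists_eq_add_of_le (by omega)
    set e := 2 ^ d * N
    have he : c ^ (2 * m * e) = 1 := by
      rw [show 2 * m * e = (Fintype.card F - 1) * m' by rw [hNd, hd, hmd]; simp only [e]; ring, pow_mul,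
        FiniteField.pow_card_sub_one_eq_one c hc, one_pow]
    have hμe : (-μ) ^ (m * e) = 1 := by
      have := congrArg (· ^ e) hcm
      simp only [one_pow, mul_pow, ← pow_mul] at this
      rwa [he, one_mul] at this
    have hpar : Even (m * e) := by
      rcases Nat.eq_zero_or_pos d with hd0 | hd0
      · have hb : 1 ≤ b := by omega
        refine Nat.even_mul.2 (Or.inl ?_)
        rw [hmd, even_iff_two_dvd]
        exact Dvd.dvd.mul_right (dvd_pow_self 2 (by omega)) _
      · refine Nat.even_mul.2 (Or.inr ?_)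
        rw [even_iff_two_dvd]
        exact Dvd.dvd.mul_right (dvd_pow_self 2 (by omega)) _
    rw [hpar.neg_pow] at hμe
    have hdvd := orderOf_dvd_of_pow_eq_one hμe
    rw [hμ, show m * e = 2 ^ (b + d) * (m' * N) by rw [hmd]; simp only [e]; ring, hd,
      show b + 1 + d = b + d + 1 by ring, pow_succ] at hdvd
    have h2dvd := Nat.dvd_of_mul_dvd_mul_left (pow_pos two_pos _) hdvd
    exact (Nat.not_even_iff_odd.2 (hm'.mul hN)) (even_iff_two_dvd.2 h2dvd)
  · intro h
    refine ⟨1, one_ne_zero, ?_⟩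
    rw [one_pow, one_mul]
    rcases eq_or_ne a 1 with ha1 | ha1
    · have hsq : μ * μ = 1 := by
        rw [ha1, pow_one] at hμ
        rw [← sq, ← hμ, pow_orderOf_eq_one]
      rcases mul_self_eq_one_iff.1 hsq with e | e
      · rw [e, orderOf_one, ha1] at hμ; norm_num at hμ
      · rw [e, neg_neg, one_pow]
    · have hb : a < 1 + b := h.resolve_left ha1
      have hev : Even m := by
        rw [hmd, even_iff_two_dvd]
        exact Dvd.dvd.mul_right (dvd_pow_self 2 (by omega)) _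
      rw [hev.neg_pow]
      apply orderOf_dvd_iff_pow_eq_one.1
      rw [hμ, hmd]
      exact Dvd.dvd.mul_right (pow_dvd_pow 2 (by omega)) _

end Cfsg.Lib.Known.ScalarPow
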