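import Mathlib

/-!
Elementary algebra of abstract Shintani descent: `g = a (σ a)⁻¹`, `x = (σ^e a)⁻¹ a`.
-/

namespace Cfsg.Lib.Known

variable {X : Type*} [Group X] (σ : MulAut X)

theorem prod_range_shift (a : X) (d : ℕ) :
    ((List.range d).map (fun i => (σ ^ i) (a * (σ a)⁻¹))).prod = a * ((σ ^ d) a)⁻¹ := by
  induction d with
  | zero => simp
  | succ d ih =>
    rw [List.range_succ, List.map_append, List.prod_append, ih]
    simp [pow_succ, MulAut.mul_apply, mul_assoc]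

variable {σ}

theorem pow_apply_fixed {x : X} (hx : σ x = x) (n : ℕ) : (σ ^ n) x = x := by
  induction n with
  | zero => simp
  | succ n ih => rw [pow_succ, MulAut.mul_apply, hx, ih]

theorem pow_comm_apply (e : ℕ) (a : X) : (σ ^ e) (σ a) = σ ((σ ^ e) a) := by
  rw [← MulAut.mul_apply, ← MulAut.mul_apply, ← pow_succ, ← pow_succ']

/-- `x` is fixed by `σ`. -/
theorem shintani_fixed (e : ℕ) (g a : X) (hg : (σ ^ e) g = g) (ha : g = a * (σ a)⁻¹) :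
    σ (((σ ^ e) a)⁻¹ * a) = ((σ ^ e) a)⁻¹ * a := by
  subst ha
  simp only [map_mul, map_inv, pow_comm_apply] at hg ⊢
  have := congrArg (fun z => ((σ ^ e) a)⁻¹ * z * σ a) hg
  simpa [mul_assoc] using this

/-- `σ^e a = a x⁻¹`. -/
theorem pow_apply_eq (e : ℕ) (a : X) : (σ ^ e) a = a * (((σ ^ e) a)⁻¹ * a)⁻¹ := by simp

/-- `a⁻¹ k c` is `σ`-fixed iff `k⁻¹ g σ(k) = c σ(c)⁻¹`. -/
theorem fixed_iff_twisted (a k c : X) :
    σ (a⁻¹ * k * c) = a⁻¹ * k * c ↔ k⁻¹ * (a * (σ a)⁻¹) * σ k = c * (σ c)⁻¹ := by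
  simp only [map_mul, map_inv]
  rw [eq_mul_inv_iff_mul_eq, ← mul_right_inj (k⁻¹ * a)]
  simp [mul_assoc]

/-- For `h` fixed by `σ`, `a h c⁻¹` is `σ^e`-fixed iff `h⁻¹ x h = (σ^e c)⁻¹ c`. -/
theorem fixed_pow_iff (e : ℕ) (a h c : X) (hh : σ h = h) :
    (σ ^ e) (a * h * c⁻¹) = a * h * c⁻¹ ↔
      h⁻¹ * (((σ ^ e) a)⁻¹ * a) * h = ((σ ^ e) c)⁻¹ * c := by
  simp only [map_mul, map_inv, pow_apply_fixed hh]
  conv_rhs => rw [← mul_right_inj ((σ ^ e) a * h)]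
  simp only [← mul_assoc, mul_inv_cancel_right, mul_inv_cancel, one_mul]
  rw [← mul_left_inj c (b := (σ ^ e) a * h * ((σ ^ e) c)⁻¹)]
  simp only [inv_mul_cancel_right]
  exact eq_comm

theorem shintani_pow (e d : ℕ) (a : X) (hx : σ (((σ ^ e) a)⁻¹ * a) = ((σ ^ e) a)⁻¹ * a) :
    (((σ ^ d) ^ e) a)⁻¹ * a = (((σ ^ e) a)⁻¹ * a) ^ d := by
  have key : ∀ j : ℕ, ((σ ^ e) ^ j) a = a * ((((σ ^ e) a)⁻¹ * a) ^ j)⁻¹ := by
    intro j
    induction j with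
    | zero => simp
    | succ j ih =>
      rw [pow_succ', MulAut.mul_apply, ih, map_mul, map_inv, map_pow, pow_apply_fixed hx, pow_succ]
      conv_lhs => rw [pow_apply_eq (σ := σ) e a]
      rw [mul_inv_rev, mul_assoc]
      congr 2
      · simp
  rw [← pow_mul, mul_comm, pow_mul, key d]
  simp

end Cfsg.Lib.Known
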