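import Cfsg.Agent.Known.SLTwo.Torus
import Cfsg.Agent.Known.SLTwo.Tori
import Cfsg.Agent.Classical.Misc.PSLOver
import Mathlib

/-!
Solubilizers in `SL (2, q)`, `q` even: how many `y` generate a solvable subgroup together with a given `x`.
-/

set_option autoImplicit false
set_option linter.unusedSectionVars false
set_option linter.unusedSimpArgs false

open Matrix
open scoped MatrixGroups

namespace Cfsg.Lib.SolubEven

open Cfsg.Lib.GLTwo

/-- The number of elements generating a solvable subgroup with `x`. -/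
noncomputable def solCard {G : Type*} [Group G] (x : G) : ℕ :=
  Nat.card {y : G // Group.IsSolvable ↥(Subgroup.closure ({x, y} : Set G))}

theorem solvable_map_iff {G H : Type*} [Group G] [Group H] (e : G ≃* H) (s : Set G) :
    Group.IsSolvable ↥(Subgroup.closure (e '' s)) ↔ Group.IsSolvable ↥(Subgroup.closure s) := by
  have h1 : Subgroup.closure (e '' s) = (Subgroup.closure s).map (e : G →* H) :=
    (MonoidHom.map_closure (e : G →* H) s).symm
  rw [h1]
  constructor
  · intro h
    exact solvable_of_surjective (f := (e.subgroupMap (Subgroup.closure s)).symm.toMonoidHom)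
      (e.subgroupMap (Subgroup.closure s)).symm.surjective
  · intro h
    exact solvable_of_surjective (f := (e.subgroupMap (Subgroup.closure s)).toMonoidHom)
      (e.subgroupMap (Subgroup.closure s)).surjective

theorem solCard_congr {G H : Type*} [Group G] [Group H] (e : G ≃* H) (x : G) : solCard (e x) = solCard x := by
  refine (Nat.card_congr (e.toEquiv.subtypeEquiv fun y => ?_)).symm
  rw [← solvable_map_iff e, Set.image_pair]
  rfl

theorem solCard_isConj {G : Type*} [Group G] {x x' : G} (h : IsConj x x') : solCard x' = solCard x := by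
  obtain ⟨c, rfl⟩ := isConj_iff.1 h
  exact solCard_congr (MulAut.conj c) x

/-- A subgroup in which two cosets of an abelian subgroup cover everything is solvable. -/
theorem solvable_two_cosets {G : Type*} [Group G] (C : Subgroup G) (hC : ∀ a ∈ C, ∀ b ∈ C, a * b = b * a) (s : G)
    (hs : ∀ c ∈ C, s * c * s⁻¹ ∈ C) (hs' : ∀ c ∈ C, s⁻¹ * c * s ∈ C) (hs2 : s * s ∈ C) (K : Set G)
    (hK : ∀ k ∈ K, k ∈ C ∨ k * s⁻¹ ∈ C) : Group.IsSolvable ↥(Subgroup.closure K) := by
  let M : Subgroup G :=
    { carrier := {g | g ∈ C ∨ g * s⁻¹ ∈ C}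
      one_mem' := Or.inl (one_mem C)
      mul_mem' := by
        rintro a b (ha | ha) (hb | hb)
        · exact Or.inl (mul_mem ha hb)
        · exact Or.inr (by rw [mul_assoc]; exact mul_mem ha hb)
        · refine Or.inr ?_
          have := mul_mem ha (hs b hb)
          rwa [show a * s⁻¹ * (s * b * s⁻¹) = a * b * s⁻¹ by group] at this
        · refine Or.inl ?_
          have := mul_mem (mul_mem ha (hs _ hb)) hs2
          rwa [show a * s⁻¹ * (s * (b * s⁻¹) * s⁻¹) * (s * s) = a * b by group] at this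
      inv_mem' := by
        rintro a (ha | ha)
        · exact Or.inl (inv_mem ha)
        · refine Or.inr ?_
          have := mul_mem (hs' _ (inv_mem ha)) (inv_mem hs2)
          rwa [show s⁻¹ * (a * s⁻¹)⁻¹ * s * (s * s)⁻¹ = a⁻¹ * s⁻¹ by group] at this }
  have hle : Subgroup.closure K ≤ M := (Subgroup.closure_le M).2 hK
  have hconj : ∀ g ∈ M, ∀ c ∈ C, g * c * g⁻¹ ∈ C := by
    rintro g (hg | hg) c hc
    · exact mul_mem (mul_mem hg hc) (inv_mem hg)
    · have := mul_mem (mul_mem hg (hs c hc)) (inv_mem hg)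
      rwa [show g * s⁻¹ * (s * c * s⁻¹) * (g * s⁻¹)⁻¹ = g * c * g⁻¹ by group] at this
  refine Cfsg.Lib.Classical.PSLOver.metabelian (C.subgroupOf (Subgroup.closure K))
    (fun a ha b hb => Subtype.ext (hC _ ha _ hb)) ?_
  rintro ⟨g, hg⟩ ⟨k, hk⟩
  show g * k * g⁻¹ * k⁻¹ ∈ C
  rcases hle hg with h1 | h1
  · rw [show g * k * g⁻¹ * k⁻¹ = g * (k * g⁻¹ * k⁻¹) by group]
    exact mul_mem h1 (hconj k (hle hk) _ (inv_mem h1))
  rcases hle hk with h2 | h2
  · exact mul_mem (hconj g (hle hg) k h2) (inv_mem h2)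
  rw [show g * k * g⁻¹ * k⁻¹ =
    g * s⁻¹ * (s * (k * s⁻¹) * s⁻¹) * (s * (g * s⁻¹)⁻¹ * s⁻¹) * (k * s⁻¹)⁻¹ by group]
  exact mul_mem (mul_mem (mul_mem h1 (hs _ h2)) (hs _ (inv_mem h1))) (inv_mem h2)

/-- A solvable two-generated subgroup normalises some `n ≠ 1` up to its centraliser. -/
theorem exists_normalized {G : Type*} [Group G] {x y : G}
    (h : Group.IsSolvable ↥(Subgroup.closure ({x, y} : Set G))) (hx : x ≠ 1) :
    ∃ n : G, n ≠ 1 ∧ Commute (x * n * x⁻¹) n ∧ Commute (y * n * y⁻¹) n := by
  classical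
  set H := Subgroup.closure ({x, y} : Set G) with hH
  rw [Group.isSolvable_def] at h
  have hk : Nat.find h ≠ 0 := by
    intro h0
    have h1 := Nat.find_spec h
    rw [h0, derivedSeries_zero] at h1
    have : (⟨x, Subgroup.subset_closure (by simp)⟩ : H) ∈ (⊥ : Subgroup H) := h1 ▸ Subgroup.mem_top _
    exact hx (congrArg Subtype.val (Subgroup.mem_bot.1 this))
  obtain ⟨k, hk⟩ := Nat.exists_eq_succ_of_ne_zero hk
  have hspec := Nat.find_spec h
  rw [hk, derivedSeries_succ] at hspec
  obtain ⟨⟨n, hnH⟩, hn, hn1⟩ :=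
    (Subgroup.bot_or_exists_ne_one (derivedSeries H k)).resolve_left (Nat.find_min h (by omega))
  refine ⟨n, fun e => hn1 (Subtype.ext e), ?_⟩
  have key : ∀ g : G, g ∈ H → Commute (g * n * g⁻¹) n := fun g hg => by
    have hm := (derivedSeries_normal H k).conj_mem _ hn ⟨g, hg⟩
    have := Subgroup.commutator_mem_commutator hm hn
    rw [hspec, Subgroup.mem_bot, commutatorElement_eq_one_iff_mul_comm] at this
    exact congrArg Subtype.val this
  exact ⟨key x (Subgroup.subset_closure (by simp)), key y (Subgroup.subset_closure (by simp))⟩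

variable {F : Type*} [Field F] [CharP F 2]

local notation "G2" => SL(2, F)

theorem det_eq (g : G2) : g.1 0 0 * g.1 1 1 + g.1 0 1 * g.1 1 0 = 1 := by
  have h := g.2
  rwa [Matrix.det_fin_two, CharTwo.sub_eq_add] at h

theorem coe_mul' (g h : G2) : (g * h).1 = g.1 * h.1 := rfl

theorem trace_zero_iff (g : G2) : g.1.trace = 0 ↔ g * g = 1 := by
  have h := det_eq g
  rw [Matrix.trace_fin_two]
  constructor
  · intro ht
    have e : g.1 1 1 = g.1 0 0 := (CharTwo.add_eq_zero.1 ht).symm
    rw [e] at h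
    refine Subtype.ext ?_
    rw [coe_mul']
    ext i j; fin_cases i <;> fin_cases j <;> simp [Matrix.mul_apply, Fin.sum_univ_two, e]
    · linear_combination h
    · rw [mul_comm (g.1 0 0), CharTwo.add_self_eq_zero]
    · rw [mul_comm (g.1 0 0), CharTwo.add_self_eq_zero]
    · linear_combination h
  · intro hg
    have e := congrArg (fun z : G2 => z.1) hg
    have e00 := congrFun (congrFun e 0) 0
    have e11 := congrFun (congrFun e 1) 1
    simp [Matrix.SpecialLinearGroup.coe_mul, Matrix.mul_apply, Fin.sum_univ_two] at e00 e11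
    have : (g.1 0 0 + g.1 1 1) ^ 2 = 0 := by
      linear_combination e00 + e11 + CharTwo.two_eq_zero (R := F) * (1 - g.1 0 1 * g.1 1 0 + g.1 0 0 * g.1 1 1)
    exact pow_eq_zero_iff two_ne_zero |>.1 this

theorem inv_entries (g : G2) :
    (g⁻¹).1 0 0 = g.1 1 1 ∧ (g⁻¹).1 0 1 = g.1 0 1 ∧ (g⁻¹).1 1 0 = g.1 1 0 ∧ (g⁻¹).1 1 1 = g.1 0 0 := by
  refine ⟨?_, ?_, ?_, ?_⟩ <;>
    simp [Matrix.SpecialLinearGroup.coe_inv, Matrix.adjugate_fin_two, CharTwo.neg_eq]

theorem nonScalar_iff (g : G2) : NonScalar g.1 ↔ g ≠ 1 :=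
  ⟨fun h e => not_nonScalar_pm (Or.inl e) h, fun h => nonScalar_of_ne h (by rwa [neg_one_eq_one])⟩

/-- Two commuting elements of equal trace are equal or inverse. -/
theorem eq_or_inv {g m : G2} (hg : g ≠ 1) (ht : g.1.trace ≠ 0) (hm : Commute m g) (htr : m.1.trace = g.1.trace) :
    m = g ∨ m = g⁻¹ := by
  obtain ⟨a, b, hab⟩ := exists_combo ((nonScalar_iff g).2 hg) (congrArg (fun z : G2 => z.1) hm.eq)
  rw [hab, trace_combo] at htr
  have hb : b = 1 := by
    rw [CharTwo.two_eq_zero, zero_mul, zero_add] at htr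
    exact mul_right_cancel₀ ht (htr.trans (one_mul _).symm)
  subst hb
  have hd := m.2
  rw [hab, det_combo, g.2, mul_one, one_mul, mul_one] at hd
  have : a * (a + g.1.trace) = 0 := by linear_combination hd
  rcases mul_eq_zero.1 this with h | h
  · exact Or.inl (Subtype.ext (by rw [hab, h]; simp [combo]))
  · exact Or.inr (Subtype.ext (by rw [hab, coe_inv_combo, CharTwo.add_eq_zero.1 h, CharTwo.neg_eq]))

theorem trace_conj (y n : G2) : (y * n * y⁻¹).1.trace = n.1.trace :=
  (trace_eq_of_isConj (isConj_iff.2 ⟨y, rfl⟩)).symm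

/-- A unipotent upper triangular `n` is normalised up to its centraliser only by upper triangular elements. -/
theorem upper_of_commute {n y : G2} (h00 : n.1 0 0 = 1) (h10 : n.1 1 0 = 0) (h11 : n.1 1 1 = 1) (hn : n ≠ 1)
    (h : Commute (y * n * y⁻¹) n) : y.1 1 0 = 0 := by
  have h01 : n.1 0 1 ≠ 0 := fun h01 => hn (Subtype.ext (by
    ext i j; fin_cases i <;> fin_cases j <;> simp [h00, h10, h11, h01]))
  obtain ⟨i00, i01, i10, i11⟩ := inv_entries y
  have e := congrFun (congrFun (congrArg (fun z : G2 => z.1) h.eq) 0) 0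
  simp [Matrix.SpecialLinearGroup.coe_mul, Matrix.mul_apply, Fin.sum_univ_two, h00, h10, h11, i00, i01, i10, i11,
    -Matrix.SpecialLinearGroup.coe_inv] at e
  have e' := e.resolve_left h01
  have : n.1 0 1 * y.1 1 0 ^ 2 = 0 := by
    linear_combination e' - CharTwo.two_eq_zero (R := F) * (y.1 1 0 * y.1 1 1)
  exact pow_eq_zero_iff two_ne_zero |>.1 ((mul_eq_zero.1 this).resolve_left h01)

theorem exists_swap : ∃ w : G2, ∀ g : G2, (w * g * w⁻¹).1 0 0 = g.1 1 1 ∧ (w * g * w⁻¹).1 0 1 = g.1 1 0 ∧
    (w * g * w⁻¹).1 1 0 = g.1 0 1 ∧ (w * g * w⁻¹).1 1 1 = g.1 0 0 := by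
  let w : G2 := ⟨!![0, 1; 1, 0], by simp [Matrix.det_fin_two, CharTwo.neg_eq]⟩
  refine ⟨w, fun g => ?_⟩
  obtain ⟨i00, i01, i10, i11⟩ := inv_entries w
  refine ⟨?_, ?_, ?_, ?_⟩ <;>
    simp [coe_mul', Matrix.mul_apply, Fin.sum_univ_two, i00, i01, i10, i11, -Matrix.SpecialLinearGroup.coe_inv] <;>
    simp [w]

theorem solvable_upper {x y : G2} (hx : x.1 1 0 = 0) (hy : y.1 1 0 = 0) :
    Group.IsSolvable ↥(Subgroup.closure ({x, y} : Set G2)) := by
  let B : Subgroup G2 :=
    { carrier := {g | g.1 1 0 = 0}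
      one_mem' := by simp
      mul_mem' := fun {a b} (ha : a.1 1 0 = 0) (hb : b.1 1 0 = 0) => by
        show (a * b).1 1 0 = 0
        simp [Matrix.mul_apply, Fin.sum_univ_two, ha, hb]
      inv_mem' := fun {a} (ha : a.1 1 0 = 0) => by
        show (a⁻¹).1 1 0 = 0
        rw [(inv_entries a).2.2.1, ha] }
  have hle : Subgroup.closure ({x, y} : Set G2) ≤ B := (Subgroup.closure_le B).2 (by
    rintro z (rfl | rfl)
    · exact hx
    · exact hy)
  let U : Subgroup G2 :=
    { carrier := {g | g.1 1 0 = 0 ∧ g.1 0 0 = 1}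
      one_mem' := by simp
      mul_mem' := fun {a b} (ha : a.1 1 0 = 0 ∧ a.1 0 0 = 1) (hb : b.1 1 0 = 0 ∧ b.1 0 0 = 1) => by
        refine ⟨?_, ?_⟩
        · simp [Matrix.mul_apply, Fin.sum_univ_two, ha.1, hb.1]
        · simp [Matrix.mul_apply, Fin.sum_univ_two, ha.2, hb.1, hb.2]
      inv_mem' := fun {a} (ha : a.1 1 0 = 0 ∧ a.1 0 0 = 1) => by
        refine ⟨by rw [(inv_entries a).2.2.1, ha.1], ?_⟩
        have := det_eq a
        rw [ha.1, ha.2, mul_zero, add_zero, one_mul] at this
        rw [(inv_entries a).1, this] }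
  refine Cfsg.Lib.Classical.PSLOver.metabelian (U.subgroupOf (Subgroup.closure ({x, y} : Set G2))) ?_ ?_
  · rintro a ⟨ha, ha'⟩ b ⟨hb, hb'⟩
    refine Subtype.ext (Subtype.ext ?_)
    have d1 := det_eq a.1
    have d2 := det_eq b.1
    simp only [Subgroup.coe_subtype] at ha ha' hb hb'
    rw [ha, ha', mul_zero, add_zero, one_mul] at d1
    rw [hb, hb', mul_zero, add_zero, one_mul] at d2
    ext i j; fin_cases i <;> fin_cases j <;>
      simp [Matrix.mul_apply, Fin.sum_univ_two, ha, ha', hb, hb', d1, d2, add_comm]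
  · rintro ⟨g, hg⟩ ⟨k, hk⟩
    have hg0 : g.1 1 0 = 0 := hle hg
    have hk0 : k.1 1 0 = 0 := hle hk
    obtain ⟨a00, a01, a10, a11⟩ := inv_entries g
    obtain ⟨b00, b01, b10, b11⟩ := inv_entries k
    show (g * k * g⁻¹ * k⁻¹).1 1 0 = 0 ∧ (g * k * g⁻¹ * k⁻¹).1 0 0 = 1
    have d1 := det_eq g
    have d2 := det_eq k
    rw [hg0, mul_zero, add_zero] at d1
    rw [hk0, mul_zero, add_zero] at d2
    simp [Matrix.SpecialLinearGroup.coe_mul, Matrix.mul_apply, Fin.sum_univ_two, hg0, hk0, a00, a10, b00, b10,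
      -Matrix.SpecialLinearGroup.coe_inv]
    linear_combination (k.1 0 0 * k.1 1 1) * d1 + d2

theorem solvable_involutions {s t : G2} (hs : s * s = 1) (ht : t * t = 1) :
    Group.IsSolvable ↥(Subgroup.closure ({s, t} : Set G2)) := by
  have hsi : s⁻¹ = s := inv_eq_of_mul_eq_one_right hs
  have hconj : s * (s * t) * s⁻¹ = (s * t)⁻¹ := by
    rw [_root_.mul_inv_rev, hsi, inv_eq_of_mul_eq_one_right ht, ← mul_assoc, hs, one_mul]
  have key : ∀ c ∈ Subgroup.zpowers (s * t), s * c * s⁻¹ ∈ Subgroup.zpowers (s * t) := by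
    rintro _ ⟨i, rfl⟩
    refine ⟨-i, ?_⟩
    simp only [← conj_zpow, hconj, _root_.inv_zpow, _root_.zpow_neg]
  refine solvable_two_cosets (Subgroup.zpowers (s * t)) ?_ s key ?_ (by rw [hs]; exact one_mem _) _ ?_
  · rintro _ ⟨i, rfl⟩ _ ⟨j, rfl⟩
    exact (Commute.zpow_zpow_self _ i j).eq
  · intro c hc
    have := key c hc
    rwa [hsi] at this ⊢
  · rintro z (rfl | rfl)
    · exact Or.inr (by rw [mul_inv_cancel]; exact one_mem _)
    · refine Or.inr ⟨-1, ?_⟩
      simp only [_root_.zpow_neg_one, _root_.mul_inv_rev, inv_eq_of_mul_eq_one_right ht]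

theorem solvable_comm (C : Subgroup G2) (hC : ∀ a ∈ C, ∀ b ∈ C, a * b = b * a) {x y : G2} (hx : x ∈ C) (hy : y ∈ C) :
    Group.IsSolvable ↥(Subgroup.closure ({x, y} : Set G2)) :=
  solvable_two_cosets C hC 1 (fun c hc => by simpa) (fun c hc => by simpa) (by simp) _ (by
    rintro z (rfl | rfl)
    · exact Or.inl hx
    · exact Or.inl hy)

theorem inverts_iff (n y : G2) : y * n * y⁻¹ = n⁻¹ ↔ y * n = n⁻¹ * y := mul_inv_eq_iff_eq_mul

/-- The trace of `x * combo` when `x * n` is traceless. -/
theorem trace_mul_combo {x n y : G2} (hn : n ≠ 1) (hxt : x.1.trace = 0) (hxn : (x * n).1.trace = 0)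
    (hy : Commute y n) : (x * y).1.trace = 0 := by
  obtain ⟨a, b, hab⟩ := exists_combo ((nonScalar_iff n).2 hn) (congrArg (fun z : G2 => z.1) hy.eq)
  rw [coe_mul'] at hxn ⊢
  rw [hab, combo, Matrix.mul_add, Matrix.mul_smul, Matrix.mul_smul, Matrix.mul_one, Matrix.trace_add,
    Matrix.trace_smul, Matrix.trace_smul, hxt, hxn, smul_zero, smul_zero, add_zero]

/-- The solubilizer of an upper unitriangular element. -/
theorem sol_upper_iff {x : G2} (h00 : x.1 0 0 = 1) (h10 : x.1 1 0 = 0) (h11 : x.1 1 1 = 1) (hx : x ≠ 1) (y : G2) :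
    Group.IsSolvable ↥(Subgroup.closure ({x, y} : Set G2)) ↔
      y.1 1 0 = 0 ∨ y.1.trace = 0 ∨ (x * y).1.trace = 0 := by
  have hxt : x.1.trace = 0 := by rw [Matrix.trace_fin_two, h00, h11, CharTwo.add_self_eq_zero]
  have hx2 := (trace_zero_iff x).1 hxt
  constructor
  · intro hsol
    obtain ⟨n, hn, hcx, hcy⟩ := exists_normalized hsol hx
    by_cases hnt : n.1.trace = 0
    · left
      have n11 : n.1 1 1 = n.1 0 0 := by
        rw [Matrix.trace_fin_two] at hnt; exact (CharTwo.add_eq_zero.1 hnt).symm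
      have h01 : x.1 0 1 ≠ 0 := fun h01 => hx (Subtype.ext (by
        ext i j; fin_cases i <;> fin_cases j <;> simp [h00, h10, h11, h01]))
      obtain ⟨i00, i01, i10, i11⟩ := inv_entries x
      have e := congrFun (congrFun (congrArg (fun z : G2 => z.1) hcx.eq) 0) 0
      simp [Matrix.SpecialLinearGroup.coe_mul, Matrix.mul_apply, Fin.sum_univ_two, h00, h10, h11, n11, i00, i01, i10,
        i11, -Matrix.SpecialLinearGroup.coe_inv] at e
      have hn10 : (x.1 0 1 * n.1 1 0) ^ 2 = 0 := by
        linear_combination e - CharTwo.two_eq_zero (R := F) * (x.1 0 1 * n.1 1 0 * n.1 0 0)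
      have hn10' := (mul_eq_zero.1 (pow_eq_zero_iff two_ne_zero |>.1 hn10)).resolve_left h01
      have hn00 : n.1 0 0 = 1 := by
        have := det_eq n
        rw [hn10', n11, mul_zero, add_zero, ← sq] at this
        exact CharTwo.sq_injective (this.trans (one_pow 2).symm)
      exact upper_of_commute hn00 hn10' (n11.trans hn00) hn hcy
    · have hxn : x * n * x⁻¹ = n⁻¹ := by
        refine (eq_or_inv hn hnt hcx (trace_conj x n)).resolve_left fun e => hnt ?_
        have hcn : Commute n x := (mul_inv_eq_iff_eq_mul.1 e).symm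
        obtain ⟨a, b, hab⟩ := exists_combo ((nonScalar_iff x).2 hx) (congrArg (fun z : G2 => z.1) hcn.eq)
        rw [hab, trace_combo, hxt, mul_zero, add_zero, CharTwo.two_eq_zero, zero_mul]
      have hxn0 : (x * n).1.trace = 0 := by
        rw [trace_zero_iff]
        calc x * n * (x * n) = x * n * x⁻¹ * (x * x) * n := by group
          _ = 1 := by rw [hxn, hx2, mul_one, inv_mul_cancel]
      rcases eq_or_inv hn hnt hcy (trace_conj y n) with e | e
      · exact Or.inr (Or.inr (trace_mul_combo hn hxt hxn0 (mul_inv_eq_iff_eq_mul.1 e)))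
      · refine Or.inr (Or.inl ?_)
        have h2 : y = x * (x * y) := by rw [← mul_assoc, hx2, one_mul]
        rw [h2]
        refine trace_mul_combo hn hxt hxn0 (mul_inv_eq_iff_eq_mul.1 ?_)
        calc x * y * n * (x * y)⁻¹ = x * (y * n * y⁻¹) * x⁻¹ := by group
          _ = x * n⁻¹ * x⁻¹ := by rw [e]
          _ = (x * n * x⁻¹)⁻¹ := by group
          _ = n := by rw [hxn, inv_inv]
  · rintro (h | h | h)
    · exact solvable_upper h10 h
    · exact solvable_involutions hx2 ((trace_zero_iff y).1 h)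
    · have heq : Subgroup.closure ({x, y} : Set G2) = Subgroup.closure ({x, x * y} : Set G2) := by
        refine le_antisymm ((Subgroup.closure_le _).2 ?_) ((Subgroup.closure_le _).2 ?_)
        · rintro z (rfl | rfl)
          · exact Subgroup.subset_closure (by simp)
          · have h1 : x⁻¹ * (x * z) ∈ Subgroup.closure ({x, x * z} : Set G2) :=
              mul_mem (inv_mem (Subgroup.subset_closure (by simp))) (Subgroup.subset_closure (by simp))
            rwa [inv_mul_cancel_left] at h1
        · rintro z (rfl | rfl)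
          · exact Subgroup.subset_closure (by simp)
          · exact mul_mem (Subgroup.subset_closure (by simp)) (Subgroup.subset_closure (by simp))
      rw [heq]
      exact solvable_involutions hx2 ((trace_zero_iff _).1 h)

/-- The solubilizer of a diagonal element. -/
theorem sol_diag_iff {x : G2} (h01 : x.1 0 1 = 0) (h10 : x.1 1 0 = 0) (hx : x.1 0 0 ≠ x.1 1 1) (y : G2) :
    Group.IsSolvable ↥(Subgroup.closure ({x, y} : Set G2)) ↔
      y.1 1 0 = 0 ∨ y.1 0 1 = 0 ∨ (y.1 0 0 = 0 ∧ y.1 1 1 = 0) := by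
  have hx1 : x ≠ 1 := fun e => hx (by rw [e]; simp)
  have hsq : x.1 0 0 ^ 2 ≠ x.1 1 1 ^ 2 := fun e => hx (CharTwo.sq_injective e)
  constructor
  · intro hsol
    obtain ⟨n, hn, hcx, hcy⟩ := exists_normalized hsol hx1
    obtain ⟨i00, i01, i10, i11⟩ := inv_entries x
    by_cases hnt : n.1.trace = 0
    · have n11 : n.1 1 1 = n.1 0 0 := by
        rw [Matrix.trace_fin_two] at hnt; exact (CharTwo.add_eq_zero.1 hnt).symm
      have e := congrFun (congrFun (congrArg (fun z : G2 => z.1) hcx.eq) 0) 0
      simp [Matrix.SpecialLinearGroup.coe_mul, Matrix.mul_apply, Fin.sum_univ_two, h01, h10, n11, i00, i01, i10, i11,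
        -Matrix.SpecialLinearGroup.coe_inv] at e
      have hprod : n.1 0 1 * n.1 1 0 = 0 := by
        have : (x.1 0 0 ^ 2 - x.1 1 1 ^ 2) * (n.1 0 1 * n.1 1 0) = 0 := by linear_combination e
        exact (mul_eq_zero.1 this).resolve_left (sub_ne_zero.2 hsq)
      have hn00 : n.1 0 0 = 1 := by
        have := det_eq n
        rw [hprod, n11, add_zero, ← sq] at this
        exact CharTwo.sq_injective (this.trans (one_pow 2).symm)
      rcases mul_eq_zero.1 hprod with h | h
      · right; left
        -- exchange the two coordinates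
        obtain ⟨w, hw⟩ := exists_swap (F := F)
        have := upper_of_commute (n := w * n * w⁻¹) (y := w * y * w⁻¹)
          ((hw n).1.trans (n11.trans hn00)) ((hw n).2.2.1.trans h) ((hw n).2.2.2.trans hn00)
          (fun e => hn (conj_eq_one_iff.1 e))
          (by
            have h2 := hcy.map (MulAut.conj w).toMonoidHom
            simpa [mul_assoc] using h2)
        exact (hw y).2.2.1.symm.trans this
      · exact Or.inl (upper_of_commute hn00 h (n11.trans hn00) hn hcy)
    · have hx2 : Commute (x * x) n := by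
        rcases eq_or_inv hn hnt hcx (trace_conj x n) with e | e
        · exact (Commute.mul_left (mul_inv_eq_iff_eq_mul.1 e) (mul_inv_eq_iff_eq_mul.1 e))
        · refine mul_inv_eq_iff_eq_mul.1 ?_
          calc x * x * n * (x * x)⁻¹ = x * (x * n * x⁻¹) * x⁻¹ := by group
            _ = x * n⁻¹ * x⁻¹ := by rw [e]
            _ = (x * n * x⁻¹)⁻¹ := by group
            _ = n := by rw [e, inv_inv]
      have e01 := congrFun (congrFun (congrArg (fun z : G2 => z.1) hx2.eq) 0) 1
      have e10 := congrFun (congrFun (congrArg (fun z : G2 => z.1) hx2.eq) 1) 0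
      simp [Matrix.SpecialLinearGroup.coe_mul, Matrix.mul_apply, Fin.sum_univ_two, h01, h10] at e01 e10
      have hn01 : n.1 0 1 = 0 := by
        have : (x.1 0 0 ^ 2 - x.1 1 1 ^ 2) * n.1 0 1 = 0 := by linear_combination e01
        exact (mul_eq_zero.1 this).resolve_left (sub_ne_zero.2 hsq)
      have hn10 : n.1 1 0 = 0 := by
        have : (x.1 0 0 ^ 2 - x.1 1 1 ^ 2) * n.1 1 0 = 0 := by linear_combination -e10
        exact (mul_eq_zero.1 this).resolve_left (sub_ne_zero.2 hsq)
      have hne : n.1 0 0 + n.1 1 1 ≠ 0 := by rwa [Matrix.trace_fin_two] at hnt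
      obtain ⟨j00, j01, j10, j11⟩ := inv_entries n
      rcases eq_or_inv hn hnt hcy (trace_conj y n) with e | e
      · left
        have h1 := congrFun (congrFun (congrArg (fun z : G2 => z.1) (mul_inv_eq_iff_eq_mul.1 e)) 1) 0
        simp [Matrix.mul_apply, Fin.sum_univ_two, hn01, hn10] at h1
        have : (n.1 0 0 + n.1 1 1) * y.1 1 0 = 0 := by
          linear_combination h1 + CharTwo.two_eq_zero (R := F) * (n.1 1 1 * y.1 1 0)
        exact (mul_eq_zero.1 this).resolve_left hne
      · refine Or.inr (Or.inr ?_)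
        have h1 := congrArg (fun z : G2 => z.1) (mul_inv_eq_iff_eq_mul.1 e)
        have a := congrFun (congrFun h1 0) 0
        have b := congrFun (congrFun h1 1) 1
        simp [Matrix.SpecialLinearGroup.coe_mul, Matrix.mul_apply, Fin.sum_univ_two, hn01, hn10, j00, j01, j10, j11,
          -Matrix.SpecialLinearGroup.coe_inv] at a b
        constructor
        · have : (n.1 0 0 + n.1 1 1) * y.1 0 0 = 0 := by
            linear_combination a + CharTwo.two_eq_zero (R := F) * (n.1 1 1 * y.1 0 0)
          exact (mul_eq_zero.1 this).resolve_left hne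
        · have : (n.1 0 0 + n.1 1 1) * y.1 1 1 = 0 := by
            linear_combination b + CharTwo.two_eq_zero (R := F) * (n.1 0 0 * y.1 1 1)
          exact (mul_eq_zero.1 this).resolve_left hne
  · rintro (h | h | ⟨h0, h1⟩)
    · exact solvable_upper h10 h
    · obtain ⟨w, hw⟩ := exists_swap (F := F)
      rw [← solvable_map_iff (MulAut.conj w), Set.image_pair]
      exact solvable_upper ((hw x).2.2.1.trans h01) ((hw y).2.2.1.trans h)
    · have hy2 : y * y = 1 := (trace_zero_iff y).1 (by rw [Matrix.trace_fin_two, h0, h1, add_zero])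
      have hxy : (x * y) * (x * y) = 1 := (trace_zero_iff _).1 (by
        rw [coe_mul', Matrix.trace_fin_two]; simp [Matrix.mul_apply, Fin.sum_univ_two, h0, h1, h01, h10])
      have heq : Subgroup.closure ({x, y} : Set G2) = Subgroup.closure ({x * y, y} : Set G2) := by
        refine le_antisymm ((Subgroup.closure_le _).2 ?_) ((Subgroup.closure_le _).2 ?_)
        · rintro z (rfl | rfl)
          · have h2 : z * y * y ∈ Subgroup.closure ({z * y, y} : Set G2) :=
              mul_mem (Subgroup.subset_closure (by simp)) (Subgroup.subset_closure (by simp))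
            rwa [mul_assoc, hy2, mul_one] at h2
          · exact Subgroup.subset_closure (by simp)
        · rintro z (rfl | rfl)
          · exact mul_mem (Subgroup.subset_closure (by simp)) (Subgroup.subset_closure (by simp))
          · exact Subgroup.subset_closure (by simp)
      rw [heq]
      exact solvable_involutions hxy hy2

/-- The solubilizer of an irreducible element is the normaliser of its torus. -/
theorem sol_irred_iff {x : G2} (hx : x ≠ 1) (hi : Irred x.1.trace 1) (y : G2) :
    Group.IsSolvable ↥(Subgroup.closure ({x, y} : Set G2)) ↔ y * x * y⁻¹ = x ∨ y * x * y⁻¹ = x⁻¹ := by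
  have hT : x.1.trace ≠ 0 := fun h => hi 1 (by rw [h]; linear_combination CharTwo.two_eq_zero (R := F))
  have hns := (nonScalar_iff x).2 hx
  constructor
  · intro hsol
    obtain ⟨n, hn, hcx, hcy⟩ := exists_normalized hsol hx
    by_cases hnt : n.1.trace = 0
    · exfalso
      obtain ⟨w, hw, hc⟩ := exists_upper ((nonScalar_iff n).2 hn) ⟨1, mul_one 1⟩
        (by rw [hnt]; exact (CharTwo.add_self_eq_zero 1).symm)
      obtain ⟨c, hc⟩ := isConj_iff.1 hc
      have h := hcx.map (MulAut.conj c).toMonoidHom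
      rw [map_mul, map_mul, map_inv] at h
      simp only [MulEquiv.toMonoidHom_eq_coe, MonoidHom.coe_coe, MulAut.conj_apply, hc] at h
      have h10 : (c * x * c⁻¹).1 1 0 = 0 := upper_of_commute (n := upper ⟨1, mul_one 1⟩ w)
        (by simp) (by simp) (by simp) (fun e => hn (by rw [← hc] at e; simpa using e)) h
      set x' := c * x * c⁻¹ with hx'
      have hd := det_eq x'
      rw [h10, mul_zero, add_zero] at hd
      refine hi (x'.1 0 0) ?_
      rw [← trace_conj c x, ← hx', Matrix.trace_fin_two]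
      linear_combination -hd + CharTwo.two_eq_zero (R := F) * (0 : F)
    · have hx2 : Commute (x * x) n := by
        rcases eq_or_inv hn hnt hcx (trace_conj x n) with e | e
        · exact (Commute.mul_left (mul_inv_eq_iff_eq_mul.1 e) (mul_inv_eq_iff_eq_mul.1 e))
        · refine mul_inv_eq_iff_eq_mul.1 ?_
          calc x * x * n * (x * x)⁻¹ = x * (x * n * x⁻¹) * x⁻¹ := by group
            _ = x * n⁻¹ * x⁻¹ := by rw [e]
            _ = (x * n * x⁻¹)⁻¹ := by group
            _ = n := by rw [e, inv_inv]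
      have hxx : x * x ≠ 1 := fun e => hT ((trace_zero_iff x).2 e)
      have hcen := cen_eq_of_mem hns
        (Subgroup.mem_centralizer_singleton_iff.2 (mul_assoc x x x)) ((nonScalar_iff _).2 hxx)
      have hnx : n ∈ Subgroup.centralizer ({x} : Set G2) :=
        hcen ▸ Subgroup.mem_centralizer_singleton_iff.2 hx2.symm.eq
      have hcn := cen_eq_of_mem hns hnx ((nonScalar_iff n).2 hn)
      have hmem : y * n * y⁻¹ ∈ Subgroup.centralizer ({x} : Set G2) :=
        hcn ▸ Subgroup.mem_centralizer_singleton_iff.2 hcy.eq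
      refine eq_or_inv hx hT ?_ (trace_conj y x)
      have hyn : y * n * y⁻¹ ≠ 1 := fun e => hn (conj_eq_one_iff.1 e)
      have h2 := cen_eq_of_mem hns hmem ((nonScalar_iff _).2 hyn)
      have h3 : y * x * y⁻¹ ∈ Subgroup.centralizer ({y * n * y⁻¹} : Set G2) := by
        rw [Subgroup.mem_centralizer_singleton_iff]
        calc y * x * y⁻¹ * (y * n * y⁻¹) = y * (x * n) * y⁻¹ := by group
          _ = y * (n * x) * y⁻¹ := by rw [(Subgroup.mem_centralizer_singleton_iff.1 hnx).symm]
          _ = y * n * y⁻¹ * (y * x * y⁻¹) := by group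
      rw [h2] at h3
      exact Subgroup.mem_centralizer_singleton_iff.1 h3
  · intro h
    set C := Subgroup.centralizer ({x} : Set G2) with hC
    have key : ∀ g : G2, (g * x * g⁻¹ = x ∨ g * x * g⁻¹ = x⁻¹) → ∀ c ∈ C, g * c * g⁻¹ ∈ C := by
      intro g hg c hc
      rw [hC, Subgroup.mem_centralizer_singleton_iff] at hc ⊢
      have h1 : Commute (g * c * g⁻¹) (g * x * g⁻¹) := by
        show g * c * g⁻¹ * (g * x * g⁻¹) = g * x * g⁻¹ * (g * c * g⁻¹)
        calc g * c * g⁻¹ * (g * x * g⁻¹) = g * (c * x) * g⁻¹ := by group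
          _ = g * (x * c) * g⁻¹ := by rw [hc]
          _ = _ := by group
      rcases hg with e | e <;> rw [e] at h1
      · exact h1.eq
      · exact (inv_inv x ▸ h1.inv_right).eq
    have hinv : y⁻¹ * x * y⁻¹⁻¹ = x ∨ y⁻¹ * x * y⁻¹⁻¹ = x⁻¹ := by
      rcases h with e | e
      · left
        calc y⁻¹ * x * y⁻¹⁻¹ = y⁻¹ * (y * x * y⁻¹) * y := by rw [e, inv_inv]
          _ = x := by group
      · right
        calc y⁻¹ * x * y⁻¹⁻¹ = y⁻¹ * (y * x * y⁻¹)⁻¹ * y := by rw [e, inv_inv, inv_inv]
          _ = x⁻¹ := by group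
    have hs2 : y * y ∈ C := by
      rw [hC, Subgroup.mem_centralizer_singleton_iff, ← mul_inv_eq_iff_eq_mul]
      calc y * y * x * (y * y)⁻¹ = y * (y * x * y⁻¹) * y⁻¹ := by group
        _ = x := by
          rcases h with e | e
          · rw [e, e]
          · rw [e, ← conj_inv, e, inv_inv]
    exact solvable_two_cosets C (cent_comm hns) y (key y h) (fun c hc => by simpa using key y⁻¹ hinv c hc) hs2 _ (by
      rintro z (rfl | rfl)
      · exact Or.inl (self_mem_cen _)
      · exact Or.inr (by rw [mul_inv_cancel]; exact one_mem _))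

section Count

variable [Fintype F]

local notation "q" => Fintype.card F

theorem card_lower_zero : Nat.card {g : G2 // g.1 1 0 = 0} = (q - 1) * q := by
  rw [← card_ne_zero' (F := F), ← Nat.card_eq_fintype_card (α := F), ← Nat.card_prod]
  refine Nat.card_congr
    { toFun := fun g => (⟨g.1.1 0 0, fun e => by
        have := det_eq g.1; rw [e, g.2] at this; simp at this⟩, g.1.1 0 1)
      invFun := fun p => ⟨⟨!![(p.1 : F), p.2; 0, (p.1 : F)⁻¹], by simp [Matrix.det_fin_two, p.1.2]⟩, by simp⟩
      left_inv := fun g => by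
        refine Subtype.ext (Subtype.ext ?_)
        have := det_eq g.1
        rw [g.2, mul_zero, add_zero] at this
        have e := inv_eq_of_mul_eq_one_right this
        ext i j; fin_cases i <;> fin_cases j <;> simp [g.2, e]
      right_inv := fun p => by simp }

theorem card_trace_zero_off : Nat.card {g : G2 // g.1 1 0 ≠ 0 ∧ g.1.trace = 0} = (q - 1) * q := by
  rw [← card_ne_zero' (F := F), ← Nat.card_eq_fintype_card (α := F), ← Nat.card_prod]
  refine Nat.card_congr
    { toFun := fun g => (⟨g.1.1 1 0, g.2.1⟩, g.1.1 0 0)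
      invFun := fun p => ⟨⟨!![p.2, (1 + p.2 * p.2) / (p.1 : F); (p.1 : F), p.2], by
          rw [Matrix.det_fin_two]
          have := p.1.2
          simp [CharTwo.sub_eq_add, div_mul_cancel₀ _ this]
          rw [add_comm, add_assoc, CharTwo.add_self_eq_zero, add_zero]⟩,
        by simpa using p.1.2, by simp [Matrix.trace_fin_two, CharTwo.add_self_eq_zero]⟩
      left_inv := fun g => by
        refine Subtype.ext (Subtype.ext ?_)
        have h := det_eq g.1
        have ht := g.2.2
        rw [Matrix.trace_fin_two] at ht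
        have e : g.1.1 1 1 = g.1.1 0 0 := (CharTwo.add_eq_zero.1 ht).symm
        rw [e] at h
        have e01 : (1 + g.1.1 0 0 * g.1.1 0 0) / g.1.1 1 0 = g.1.1 0 1 := by
          rw [div_eq_iff g.2.1]
          linear_combination -h + CharTwo.two_eq_zero (R := F) * (g.1.1 0 0 * g.1.1 0 0)
        ext i j; fin_cases i <;> fin_cases j <;> simp [e, e01]
      right_inv := fun p => by simp }

theorem solCard_upper {x : G2} (h00 : x.1 0 0 = 1) (h10 : x.1 1 0 = 0) (h11 : x.1 1 1 = 1) (hx : x ≠ 1) :
    solCard x = 3 * q * (q - 1) := by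
  classical
  have h01 : x.1 0 1 ≠ 0 := fun h01 => hx (Subtype.ext (by
    ext i j; fin_cases i <;> fin_cases j <;> simp [h00, h10, h11, h01]))
  have hx2 := (trace_zero_iff x).1 (by rw [Matrix.trace_fin_two, h00, h11, CharTwo.add_self_eq_zero])
  have hmul : ∀ g : G2, (x * g).1 1 0 = g.1 1 0 := fun g => by
    simp [Matrix.mul_apply, Fin.sum_univ_two, h10, h11]
  have hexcl : ∀ g : G2, g.1 1 0 ≠ 0 → g.1.trace = 0 → (x * g).1.trace ≠ 0 := fun g hg ht h2 => by
    rw [coe_mul', Matrix.trace_fin_two] at h2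
    rw [Matrix.trace_fin_two] at ht
    simp [Matrix.mul_apply, Fin.sum_univ_two, h00, h10, h11] at h2
    exact hg ((mul_eq_zero.1 (show x.1 0 1 * g.1 1 0 = 0 by linear_combination h2 - ht)).resolve_left h01)
  set A := Finset.univ.filter (fun g : G2 => g.1 1 0 = 0) with hA
  set B := Finset.univ.filter (fun g : G2 => g.1 1 0 ≠ 0 ∧ g.1.trace = 0) with hB
  have hAc : A.card = (q - 1) * q := by
    rw [← card_lower_zero (F := F), Nat.card_eq_fintype_card, Fintype.card_subtype]
  have hBc : B.card = (q - 1) * q := by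
    rw [← card_trace_zero_off (F := F), Nat.card_eq_fintype_card, Fintype.card_subtype]
  have hBc' : (B.image (x * ·)).card = (q - 1) * q := by
    rw [Finset.card_image_of_injective _ (mul_right_injective x), hBc]
  have hset : (Finset.univ.filter fun y : G2 => Group.IsSolvable ↥(Subgroup.closure ({x, y} : Set G2))) =
      A ∪ (B ∪ B.image (x * ·)) := by
    ext g
    simp only [Finset.mem_filter, Finset.mem_univ, true_and, Finset.mem_union, Finset.mem_image,
      sol_upper_iff h00 h10 h11 hx, hA, hB]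
    by_cases hg : g.1 1 0 = 0
    · simp [hg]
    constructor
    · rintro (h | h | h)
      · exact Or.inl h
      · exact Or.inr (Or.inl ⟨hg, h⟩)
      · exact Or.inr (Or.inr ⟨x * g, ⟨by rwa [hmul], h⟩, by rw [← mul_assoc, hx2, one_mul]⟩)
    · rintro (h | ⟨-, h⟩ | ⟨z, ⟨-, hz⟩, rfl⟩)
      · exact Or.inl h
      · exact Or.inr (Or.inl h)
      · exact Or.inr (Or.inr (by rwa [← mul_assoc, hx2, one_mul]))
  rw [solCard, Nat.card_eq_fintype_card, Fintype.card_subtype, hset, Finset.card_union_of_disjoint,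
    Finset.card_union_of_disjoint, hAc, hBc, hBc']
  · ring
  · rw [Finset.disjoint_left]
    rintro g hg hg'
    obtain ⟨z, hz, rfl⟩ := Finset.mem_image.1 hg'
    simp only [hB, Finset.mem_filter, Finset.mem_univ, true_and] at hg hz
    exact hexcl z hz.1 hz.2 hg.2
  · rw [Finset.disjoint_left]
    rintro g hg hg'
    simp only [hA, Finset.mem_filter, Finset.mem_univ, true_and] at hg
    rcases Finset.mem_union.1 hg' with h | h
    · simp only [hB, Finset.mem_filter, Finset.mem_univ, true_and] at h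
      exact h.1 hg
    · obtain ⟨z, hz, rfl⟩ := Finset.mem_image.1 h
      simp only [hB, Finset.mem_filter, Finset.mem_univ, true_and] at hz
      exact hz.1 (by rwa [hmul] at hg)

theorem solCard_diag {x : G2} (h01 : x.1 0 1 = 0) (h10 : x.1 1 0 = 0) (hx : x.1 0 0 ≠ x.1 1 1) :
    solCard x = 2 * q * (q - 1) := by
  classical
  set A := Finset.univ.filter (fun g : G2 => g.1 1 0 = 0) with hA
  set B := Finset.univ.filter (fun g : G2 => g.1 1 0 ≠ 0 ∧ g.1 0 1 = 0) with hB
  set C := Finset.univ.filter (fun g : G2 => g.1 1 0 ≠ 0 ∧ g.1 0 1 ≠ 0 ∧ g.1 0 0 = 0 ∧ g.1 1 1 = 0) with hC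
  have hAc : A.card = (q - 1) * q := by
    rw [← card_lower_zero (F := F), Nat.card_eq_fintype_card, Fintype.card_subtype]
  have hBc : B.card = (q - 1) * (q - 1) := by
    conv_rhs => rw [← card_ne_zero' (F := F), ← Nat.card_prod]
    rw [← Fintype.card_subtype, ← Nat.card_eq_fintype_card]
    refine Nat.card_congr
      { toFun := fun g => (⟨g.1.1 0 0, fun e => by
          have := det_eq g.1; rw [e, g.2.2] at this; simp at this⟩, ⟨g.1.1 1 0, g.2.1⟩)
        invFun := fun p => ⟨⟨!![(p.1 : F), 0; (p.2 : F), (p.1 : F)⁻¹], by simp [Matrix.det_fin_two, p.1.2]⟩,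
          by simpa using p.2.2, by simp⟩
        left_inv := fun g => by
          refine Subtype.ext (Subtype.ext ?_)
          have := det_eq g.1
          rw [g.2.2, zero_mul, add_zero] at this
          have e := inv_eq_of_mul_eq_one_right this
          ext i j; fin_cases i <;> fin_cases j <;> simp [g.2.2, e]
        right_inv := fun p => by simp }
  have hCc : C.card = q - 1 := by
    conv_rhs => rw [← card_ne_zero' (F := F)]
    rw [← Fintype.card_subtype, ← Nat.card_eq_fintype_card]
    refine Nat.card_congr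
      { toFun := fun g => ⟨g.1.1 1 0, g.2.1⟩
        invFun := fun c => ⟨⟨!![0, (c : F)⁻¹; (c : F), 0], by simp [Matrix.det_fin_two, c.2, CharTwo.neg_eq]⟩,
          by simpa using c.2, by simpa using c.2, by simp, by simp⟩
        left_inv := fun g => by
          refine Subtype.ext (Subtype.ext ?_)
          have := det_eq g.1
          rw [g.2.2.2.1, zero_mul, zero_add] at this
          have e := inv_eq_of_mul_eq_one_left this
          ext i j; fin_cases i <;> fin_cases j <;> simp [g.2.2.2.1, g.2.2.2.2, e]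
        right_inv := fun p => by simp }
  have hset : (Finset.univ.filter fun y : G2 => Group.IsSolvable ↥(Subgroup.closure ({x, y} : Set G2))) =
      A ∪ (B ∪ C) := by
    ext g
    simp only [Finset.mem_filter, Finset.mem_univ, true_and, Finset.mem_union, sol_diag_iff h01 h10 hx, hA, hB, hC]
    by_cases hg : g.1 1 0 = 0
    · simp [hg]
    by_cases hg' : g.1 0 1 = 0
    · simp [hg, hg']
    simp [hg, hg']
  rw [solCard, Nat.card_eq_fintype_card, Fintype.card_subtype, hset, Finset.card_union_of_disjoint,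
    Finset.card_union_of_disjoint, hAc, hBc, hCc]
  · obtain ⟨k, hk⟩ : ∃ k, q = k + 1 := ⟨q - 1, by have := Fintype.card_pos (α := F); omega⟩
    rw [hk, Nat.add_sub_cancel]; ring
  · rw [Finset.disjoint_left]
    intro g hg hg'
    simp only [hB, hC, Finset.mem_filter, Finset.mem_univ, true_and] at hg hg'
    exact hg'.2.1 hg.2
  · rw [Finset.disjoint_left]
    intro g hg hg'
    simp only [hA, hB, hC, Finset.mem_filter, Finset.mem_univ, true_and, Finset.mem_union] at hg hg'
    rcases hg' with h | h <;> exact h.1 hg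

theorem solCard_irred {x : G2} (hx : x ≠ 1) (hi : Irred x.1.trace 1) : solCard x = 2 * (q + 1) := by
  classical
  have hns := (nonScalar_iff x).2 hx
  have hT : x.1.trace ≠ 0 := fun h => hi 1 (by rw [h]; linear_combination CharTwo.two_eq_zero (R := F))
  have hc : x.1 1 0 ≠ 0 := fun h => by
    have hd := det_eq x
    rw [h, mul_zero, add_zero] at hd
    exact hi (x.1 0 0) (by rw [Matrix.trace_fin_two]; linear_combination -hd)
  let w : G2 := ⟨!![1, x.1.trace / x.1 1 0; 0, 1], by simp [Matrix.det_fin_two]⟩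
  have hw : w * x * w⁻¹ = x⁻¹ := by
    have h2 : w * w = 1 := (trace_zero_iff w).1 (by simp [w, Matrix.trace_fin_two, CharTwo.add_self_eq_zero])
    have h3 : w * x * (w * x) = 1 := (trace_zero_iff _).1 (by
      rw [coe_mul', Matrix.trace_fin_two]
      simp [w, Matrix.mul_apply, Fin.sum_univ_two, Matrix.trace_fin_two, div_mul_cancel₀ _ hc]
      linear_combination CharTwo.two_eq_zero (R := F) * (x.1 0 0 + x.1 1 1))
    rw [inv_eq_of_mul_eq_one_right h2]
    exact (inv_eq_of_mul_eq_one_left (by rw [← h3]; group)).symm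
  set C := (Finset.univ.filter fun y : G2 => y * x * y⁻¹ = x) with hC
  have hCc : C.card = q + 1 := by
    rw [← card_one_irred hi, ← card_centSL hns, Nat.card_eq_fintype_card, hC, ← Fintype.card_subtype]
    refine Fintype.card_congr (Equiv.subtypeEquivRight fun y => ?_)
    rw [Subgroup.mem_centralizer_singleton_iff, mul_inv_eq_iff_eq_mul]
  have hset : (Finset.univ.filter fun y : G2 => Group.IsSolvable ↥(Subgroup.closure ({x, y} : Set G2))) =
      C ∪ C.image (w * ·) := by
    ext g
    simp only [Finset.mem_filter, Finset.mem_univ, true_and, Finset.mem_union, Finset.mem_image,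
      sol_irred_iff hx hi, hC]
    refine or_congr Iff.rfl ⟨fun h => ⟨w⁻¹ * g, ?_, mul_inv_cancel_left w g⟩, ?_⟩
    · calc w⁻¹ * g * x * (w⁻¹ * g)⁻¹ = w⁻¹ * (g * x * g⁻¹) * w := by group
        _ = w⁻¹ * (w * x * w⁻¹) * w := by rw [h, hw]
        _ = x := by group
    · rintro ⟨z, hz, rfl⟩
      calc w * z * x * (w * z)⁻¹ = w * (z * x * z⁻¹) * w⁻¹ := by group
        _ = x⁻¹ := by rw [hz, hw]
  rw [solCard, Nat.card_eq_fintype_card, Fintype.card_subtype, hset, Finset.card_union_of_disjoint,
    Finset.card_image_of_injective _ (mul_right_injective w), hCc, two_mul]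
  rw [Finset.disjoint_left]
  rintro g hg hg'
  obtain ⟨z, hz, rfl⟩ := Finset.mem_image.1 hg'
  simp only [hC, Finset.mem_filter, Finset.mem_univ, true_and] at hg hz
  have : x⁻¹ = x := by
    calc x⁻¹ = w * x * w⁻¹ := hw.symm
      _ = w * (z * x * z⁻¹) * w⁻¹ := by rw [hz]
      _ = w * z * x * (w * z)⁻¹ := by group
      _ = x := hg
  exact hT ((trace_zero_iff x).2 (by nth_rw 1 [← this]; exact inv_mul_cancel x))

/-- The three counts. -/
theorem sol_counts (x : G2) :
    (orderOf x = 2 → solCard x = 3 * q * (q - 1)) ∧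
    (x ≠ 1 → orderOf x ∣ q - 1 → solCard x = 2 * q * (q - 1)) ∧
    (x ≠ 1 → orderOf x ∣ q + 1 → solCard x = 2 * (q + 1)) := by
  classical
  have hq1 := Fintype.one_lt_card (α := F)
  have heven : Even q := Nat.even_iff.2 (FiniteField.even_card_iff_char_two.1 (ringChar.eq F 2))
  have hodd : ∀ {k : ℕ}, (k = q - 1 ∨ k = q + 1) → orderOf x ∣ k → x ≠ 1 → x.1.trace ≠ 0 := by
    intro k hk hd hx ht
    have h2 : orderOf x = 2 := orderOf_eq_prime (by rw [sq]; exact (trace_zero_iff x).1 ht) hx
    rw [h2] at hd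
    obtain ⟨c, hc⟩ := heven
    rcases hk with rfl | rfl <;> omega
  have hcop : ∀ {a : ℕ}, a ∣ q - 1 → a ∣ q + 1 → a = 1 := by
    intro a h1 h2
    have h3 : a ∣ 2 := by
      have := Nat.dvd_sub h2 h1
      rwa [show q + 1 - (q - 1) = 2 by omega] at this
    rcases (Nat.dvd_prime Nat.prime_two).1 h3 with h | h
    · exact h
    · subst h; obtain ⟨c, hc⟩ := heven; omega
  refine ⟨fun h2 => ?_, fun hx hd => ?_, fun hx hd => ?_⟩
  · have hx : x ≠ 1 := fun e => by rw [e, orderOf_one] at h2; omega
    have ht : x.1.trace = 0 := (trace_zero_iff x).2 (by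
      have h3 := pow_orderOf_eq_one x
      rwa [h2, sq] at h3)
    obtain ⟨w, hw, hc⟩ := exists_upper ((nonScalar_iff x).2 hx) ⟨1, mul_one 1⟩
      (by rw [ht]; exact (CharTwo.add_self_eq_zero 1).symm)
    rw [← solCard_isConj hc]
    exact solCard_upper (by simp) (by simp) (by simp) fun e => hw (by
      have := congrArg (fun z : G2 => z.1 0 1) e; simpa using this)
  · have hns := (nonScalar_iff x).2 hx
    have ht := hodd (Or.inl rfl) hd hx
    rcases kinds hns with ⟨-, hc⟩ | ⟨⟨r, s, hrs, htr, hrs1⟩, -⟩ | ⟨⟨r, -, htr⟩, -⟩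
    · exfalso
      refine hx (orderOf_eq_one_iff.1 (hcop hd ?_))
      exact hc ▸ orderOf_dvd_of_pow_eq_one (pow_card_cent x)
    · have hr : r ≠ 0 := left_ne_zero_of_mul_eq_one hrs1.symm
      have hs : s = r⁻¹ := (inv_eq_of_mul_eq_one_right hrs1.symm).symm
      subst hs
      let d : G2 := ⟨!![r, 0; 0, r⁻¹], by simp [Matrix.det_fin_two, hr]⟩
      have hc : IsConj x d := isConj_SL hns (fun h => hrs (by simpa [d] using h.2.2))
        (by rw [htr, Matrix.trace_fin_two]; simp [d]) (full_SL x hns (Or.inr inferInstance))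
      rw [← solCard_isConj hc]
      exact solCard_diag (by simp [d]) (by simp [d]) (by simpa [d] using hrs)
    · exact absurd (htr.trans (CharTwo.add_self_eq_zero r)) ht
  · have hns := (nonScalar_iff x).2 hx
    have ht := hodd (Or.inr rfl) hd hx
    rcases kinds hns with ⟨hi, -⟩ | ⟨-, hc⟩ | ⟨⟨r, -, htr⟩, -⟩
    · exact solCard_irred hx hi
    · exfalso
      refine hx (orderOf_eq_one_iff.1 (hcop ?_ hd))
      exact hc ▸ orderOf_dvd_of_pow_eq_one (pow_card_cent x)
    · exact absurd (htr.trans (CharTwo.add_self_eq_zero r)) ht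

end Count

end Cfsg.Lib.SolubEven
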