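import Mathlib
import Cfsg.Agent.Known.SLUnit

namespace Cfsg.Lib.Known

/-- If all element orders divide `E` and `E` is the lcm of `k₀` element orders, then every power `G^k`
with `k ≥ k₀` has as spectrum the divisors of `E`. -/
theorem range_orderOf_pi_eq_divisors {G : Type*} [Group G] [Finite G] (E k : ℕ) (s : Finset G)
    (hE : ∀ g : G, orderOf g ∣ E) (hs : s.card ≤ k) (hlcm : E ∣ s.lcm orderOf) :
    Set.range (orderOf : (Fin k → G) → ℕ) = {d | d ∣ E} := by
  classical
  ext d
  constructor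
  · rintro ⟨f, rfl⟩
    rw [Set.mem_setOf_eq, Pi.orderOf]
    exact Finset.lcm_dvd fun i _ => hE _
  · intro hd
    let f : Fin k → G := fun i => if h : i.1 < s.card then (s.equivFin.symm ⟨i.1, h⟩ : G) else 1
    have hf : orderOf f = E := by
      refine Nat.dvd_antisymm ?_ (hlcm.trans (Finset.lcm_dvd fun g hg => ?_))
      · rw [Pi.orderOf]; exact Finset.lcm_dvd fun i _ => hE _
      · have hj := (s.equivFin ⟨g, hg⟩).2
        have := orderOf_apply_dvd_orderOf (x := f) ⟨(s.equivFin ⟨g, hg⟩).1, hj.trans_le hs⟩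
        simpa [f, hj] using this
    obtain ⟨c, hc⟩ := hd
    have h0 : E ≠ 0 := hf ▸ (orderOf_pos f).ne'
    refine ⟨f ^ c, ?_⟩
    have hc0 : c ≠ 0 := by rintro rfl; simp at hc; exact h0 hc
    rw [orderOf_pow_of_dvd hc0 (hf ▸ Dvd.intro_left d hc.symm), hf, hc, Nat.mul_div_cancel _ (Nat.pos_of_ne_zero hc0)]

end Cfsg.Lib.Known
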