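import Mathlib

/-! Overgroups of a Sylow 2-subgroup in symmetric and alternating groups. -/

set_option autoImplicit false

open Equiv Equiv.Perm MulAction

namespace Cfsg.Lib.Known.SylowTwoMax

theorem papply_inv {β : Type*} (g : Perm β) (x : β) : g (g⁻¹ x) = x := Equiv.apply_symm_apply g x

theorem pinv_apply {β : Type*} (g : Perm β) (x : β) : g⁻¹ (g x) = x := Equiv.symm_apply_apply g x

variable {α : Type*} [DecidableEq α] [Fintype α]

/-- Two-transitivity from transitivity and a transitive point stabilizer. -/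
theorem primitive_of_stab (J : Subgroup (Perm α)) (a : α) (htr : ∀ x : α, ∃ g ∈ J, g x = a)
    (hst : ∀ x y : α, x ≠ a → y ≠ a → ∃ g ∈ J, g a = a ∧ g x = y) : IsPreprimitive J α := by
  refine isPreprimitive_of_is_two_pretransitive (is_two_pretransitive_iff.2 ?_)
  intro x y x' y' hxy hxy'
  obtain ⟨g, hg, hgx⟩ := htr x
  obtain ⟨h, hh, hhx⟩ := htr x'
  obtain ⟨k, hk, hka, hky⟩ := hst (g y) (h y')
    (fun e => hxy (g.injective (hgx.trans e.symm))) (fun e => hxy' (h.injective (hhx.trans e.symm)))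
  refine ⟨⟨h⁻¹ * k * g, mul_mem (mul_mem (inv_mem hh) hk) hg⟩, ?_, ?_⟩
  · show (h⁻¹ * k * g) x = x'
    rw [mul_apply, mul_apply, hgx, hka, ← hhx, inv_eq_iff_eq]
  · show (h⁻¹ * k * g) y = y'
    rw [mul_apply, mul_apply, hky, inv_eq_iff_eq]

/-- Three points give a three-cycle fixing all others. -/
theorem exists_three (s : Finset α) (hs : 3 ≤ s.card) {a : α} (ha : a ∈ s) :
    ∃ t : Perm α, t.IsThreeCycle ∧ (∀ x, x ∉ s → t x = x) ∧ t a ≠ a := by
  obtain ⟨b, hb, c, hc, hbc⟩ := Finset.one_lt_card.1 (show 1 < (s.erase a).card by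
    rw [Finset.card_erase_of_mem ha]; omega)
  obtain ⟨hba, hbs⟩ := Finset.mem_erase.1 hb
  obtain ⟨hca, hcs⟩ := Finset.mem_erase.1 hc
  refine ⟨swap a b * swap a c, isThreeCycle_swap_mul_swap_same (Ne.symm hba) (Ne.symm hca) hbc, fun x hx => ?_, ?_⟩
  · have h1 : x ≠ a := fun e => hx (e ▸ ha)
    have h2 : x ≠ b := fun e => hx (e ▸ hbs)
    have h3 : x ≠ c := fun e => hx (e ▸ hcs)
    rw [mul_apply, swap_apply_of_ne_of_ne h1 h3, swap_apply_of_ne_of_ne h1 h2]
  · rw [mul_apply, swap_apply_left, swap_apply_of_ne_of_ne hca (Ne.symm hbc)]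
    exact hca

/-! ### The stabilizer of a bipartition -/

/-- Permutations preserving the relation "on the same side of `S`". -/
def split (S : Finset α) : Subgroup (Perm α) where
  carrier := {g | ∀ x y, ((x ∈ S ↔ y ∈ S) ↔ (g x ∈ S ↔ g y ∈ S))}
  one_mem' := fun _ _ => Iff.rfl
  mul_mem' := fun {g h} hg hh x y => (hh x y).trans (hg (h x) (h y))
  inv_mem' := fun {g} hg x y => by
    have := hg (g⁻¹ x) (g⁻¹ y)
    rw [papply_inv, papply_inv] at this
    exact this.symm

theorem mem_split_of_preserve {S : Finset α} {g : Perm α} (h : ∀ x, g x ∈ S ↔ x ∈ S) : g ∈ split S :=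
  fun x y => by rw [h x, h y]

theorem mem_split_of_fix {S : Finset α} {g : Perm α} (h : ∀ x, x ∉ S → g x = x) : g ∈ split S := by
  refine mem_split_of_preserve fun x => ⟨fun hx => ?_, fun hx => ?_⟩
  · by_contra hne
    exact hne (h x hne ▸ hx)
  · by_contra hne
    exact hne ((g.injective (h _ hne)).symm ▸ hx)

theorem mem_split_of_fix' {S : Finset α} {g : Perm α} (h : ∀ x, x ∈ S → g x = x) : g ∈ split S := by
  refine mem_split_of_preserve fun x => ⟨fun hx => ?_, fun hx => (h x hx).symm ▸ hx⟩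
  exact g.injective (h _ hx) ▸ hx

/-- The bipartition stabilizer does not contain the alternating group. -/
theorem not_alt_le_split {S : Finset α} (hα : 5 ≤ Fintype.card α) (hne : S.Nonempty) (huniv : S ≠ Finset.univ) :
    ¬ alternatingGroup α ≤ split S := by
  have hcne : Sᶜ.Nonempty := Finset.nonempty_iff_ne_empty.2 (by rwa [Ne, Finset.compl_eq_empty_iff])
  have hcard := Finset.card_add_card_compl S
  -- a class with two points `a`, `b` and a point `c` outside it, plus a spare point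
  obtain ⟨T, hT, hT2, hTc⟩ : ∃ T : Finset α, (T = S ∨ T = Sᶜ) ∧ 2 ≤ T.card ∧ Tᶜ.Nonempty := by
    by_cases h : 2 ≤ S.card
    · exact ⟨S, Or.inl rfl, h, hcne⟩
    · exact ⟨Sᶜ, Or.inr rfl, by omega, by rwa [compl_compl]⟩
  obtain ⟨a, ha, b, hb, hab⟩ := Finset.one_lt_card.1 (show 1 < T.card by omega)
  obtain ⟨c, hc⟩ := hTc
  rw [Finset.mem_compl] at hc
  have hbc : b ≠ c := fun e => hc (e ▸ hb)
  have hac : a ≠ c := fun e => hc (e ▸ ha)
  obtain ⟨d, -, hd⟩ := Finset.exists_mem_notMem_of_card_lt_card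
    (show ({a, b, c} : Finset α).card < (Finset.univ : Finset α).card by
      have := Finset.card_le_three (a := a) (b := b) (c := c); rw [Finset.card_univ]; omega)
  obtain ⟨e, -, he⟩ := Finset.exists_mem_notMem_of_card_lt_card
    (show ({a, b, c, d} : Finset α).card < (Finset.univ : Finset α).card by
      have := Finset.card_le_four (a := a) (b := b) (c := c) (d := d); rw [Finset.card_univ]; omega)
  simp only [Finset.mem_insert, Finset.mem_singleton, not_or] at hd he
  intro hle
  let g : Perm α := swap b c * swap d e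
  have hg : g ∈ alternatingGroup α := by
    rw [mem_alternatingGroup, map_mul, sign_swap hbc, sign_swap (Ne.symm he.2.2.2)]; rfl
  have h1 := hle hg a b
  have ga : g a = a := by
    simp only [g, mul_apply]
    rw [swap_apply_of_ne_of_ne (Ne.symm hd.1) (Ne.symm he.1), swap_apply_of_ne_of_ne hab hac]
  have gb : g b = c := by
    simp only [g, mul_apply]
    rw [swap_apply_of_ne_of_ne (Ne.symm hd.2.1) (Ne.symm he.2.1), swap_apply_left]
  rw [ga, gb] at h1
  rcases hT with rfl | rfl
  · exact hc ((h1.1 (by simp [ha, hb])).1 ha)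
  · rw [Finset.mem_compl] at ha hb hc
    exact ha ((h1.1 (by simp [ha, hb])).2 (not_not.1 hc))

/-! ### Central fixed-point-free involutions -/

/-- The part of a permutation on an invariant set. -/
noncomputable def part (P : Subgroup (Perm α)) (O : Finset α) (hO : ∀ g ∈ P, ∀ x, g x ∈ O ↔ x ∈ O) :
    ↥P →* Perm α :=
  (Equiv.Perm.ofSubtype (p := fun x => x ∈ O)).comp
    { toFun := fun g => (g : Perm α).subtypePerm (hO g g.2)
      map_one' := Equiv.ext fun _ => rfl
      map_mul' := fun _ _ => Equiv.ext fun _ => rfl }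

theorem part_apply (P : Subgroup (Perm α)) (O : Finset α) (hO : ∀ g ∈ P, ∀ x, g x ∈ O ↔ x ∈ O) (g : ↥P) (x : α) :
    part P O hO g x = if x ∈ O then (g : Perm α) x else x := by
  unfold part
  split_ifs with h
  · simp [Equiv.Perm.ofSubtype_apply_of_mem, h]
  · simp [Equiv.Perm.ofSubtype_apply_of_not_mem, h]

theorem part_range_le (P : Sylow 2 (Perm α)) (O : Finset α)
    (hO : ∀ g ∈ (P : Subgroup (Perm α)), ∀ x, g x ∈ O ↔ x ∈ O) :
    (part (P : Subgroup (Perm α)) O hO).range ≤ (P : Subgroup (Perm α)) := by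
  set K := (part (P : Subgroup (Perm α)) O hO).range
  have hn : (P : Subgroup (Perm α)) ≤ Subgroup.normalizer (K : Set (Perm α)) := by
    have key : ∀ g ∈ (P : Subgroup (Perm α)), ∀ k ∈ K, g * k * g⁻¹ ∈ K := by
      rintro g hg k ⟨h, rfl⟩
      refine ⟨⟨g, hg⟩ * h * ⟨g, hg⟩⁻¹, Equiv.ext fun x => ?_⟩
      rw [part_apply, mul_apply, mul_apply, part_apply]
      by_cases hx : x ∈ O
      · rw [if_pos hx, if_pos (((hO g⁻¹ (inv_mem hg)) x).2 hx)]
        rfl
      · rw [if_neg hx, if_neg (fun h' => hx (((hO g⁻¹ (inv_mem hg)) x).1 h')), papply_inv]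
    intro g hg
    rw [Subgroup.mem_normalizer_iff]
    refine fun k => ⟨key g hg k, fun hk => ?_⟩
    have := key g⁻¹ (inv_mem hg) _ hk
    simpa [mul_assoc] using this
  have hK : IsPGroup 2 ↥K := P.isPGroup'.of_surjective _ (MonoidHom.rangeRestrict_surjective _)
  have h := P.isPGroup'.to_sup_of_normal_right' hK hn
  exact le_sup_right.trans_eq (P.is_maximal' h le_sup_left)

/-- The orbit of a point as a finite set. -/
noncomputable def orb (P : Subgroup (Perm α)) (a : α) : Finset α := by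
  classical exact Finset.univ.filter fun x => ∃ g ∈ P, g a = x

theorem mem_orb {P : Subgroup (Perm α)} {a x : α} : x ∈ orb P a ↔ ∃ g ∈ P, g a = x := by
  simp [orb]

theorem orb_invariant (P : Subgroup (Perm α)) (a : α) : ∀ g ∈ P, ∀ x, g x ∈ orb P a ↔ x ∈ orb P a := by
  intro g hg x
  constructor
  · intro h
    obtain ⟨k, hk, e⟩ := mem_orb.1 h
    exact mem_orb.2 ⟨g⁻¹ * k, mul_mem (inv_mem hg) hk, by rw [mul_apply, e, pinv_apply]⟩
  · intro h
    obtain ⟨k, hk, e⟩ := mem_orb.1 h
    exact mem_orb.2 ⟨g * k, mul_mem hg hk, by rw [mul_apply, e]⟩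

theorem self_mem_orb (P : Subgroup (Perm α)) (a : α) : a ∈ orb P a := mem_orb.2 ⟨1, one_mem _, rfl⟩

theorem card_orb (P : Subgroup (Perm α)) (hP : IsPGroup 2 ↥P) (a : α) : ∃ k, (orb P a).card = 2 ^ k := by
  haveI : Fact (Nat.Prime 2) := ⟨Nat.prime_two⟩
  obtain ⟨k, hk⟩ := hP.card_orbit a
  refine ⟨k, ?_⟩
  rw [← hk, ← Nat.card_eq_finsetCard]
  refine Nat.card_congr (Equiv.subtypeEquivRight fun x => ?_)
  rw [mem_orb, MulAction.mem_orbit_iff]
  constructor
  · rintro ⟨g, hg, e⟩; exact ⟨⟨g, hg⟩, e⟩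
  · rintro ⟨⟨g, hg⟩, e⟩; exact ⟨g, hg, e⟩

/-- A central involution without fixed points. -/
theorem exists_central (P : Sylow 2 (Perm α)) (hfix : ∀ a, ∃ g ∈ (P : Subgroup (Perm α)), g a ≠ a) :
    ∃ τ : Perm α, (∀ x, τ x ≠ x) ∧ (∀ x, τ (τ x) = x) ∧ ∀ g ∈ (P : Subgroup (Perm α)), Commute g τ := by
  classical
  let C : Finset (Perm α) := Finset.univ.filter fun z =>
    z ∈ (P : Subgroup (Perm α)) ∧ z * z = 1 ∧ ∀ g ∈ (P : Subgroup (Perm α)), Commute g z
  obtain ⟨τ, hτ, hmax⟩ := C.exists_max_image (fun z => (Finset.univ.filter fun x => z x ≠ x).card)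
    ⟨1, by simp [C, one_mem]⟩
  simp only [C, Finset.mem_filter, Finset.mem_univ, true_and] at hτ hmax
  obtain ⟨hτP, hτ2, hτc⟩ := hτ
  refine ⟨τ, fun a ha => ?_, fun x => by rw [← mul_apply, hτ2, one_apply], hτc⟩
  set O := orb (P : Subgroup (Perm α)) a
  have hO := orb_invariant (P : Subgroup (Perm α)) a
  have hτO : ∀ x ∈ O, τ x = x := by
    intro x hx
    obtain ⟨g, hg, rfl⟩ := mem_orb.1 hx
    calc τ (g a) = (τ * g) a := rfl
      _ = (g * τ) a := by rw [(hτc g hg).eq]
      _ = g a := by rw [mul_apply, ha]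
  set f := part (P : Subgroup (Perm α)) O hO
  have hK : IsPGroup 2 ↥f.range := P.isPGroup'.of_surjective _ (MonoidHom.rangeRestrict_surjective _)
  haveI : Nontrivial ↥f.range := by
    obtain ⟨g, hg, hga⟩ := hfix a
    refine ⟨⟨⟨f ⟨g, hg⟩, ⟨_, rfl⟩⟩, 1, fun e => hga ?_⟩⟩
    have := congrArg (fun p : ↥f.range => (p : Perm α) a) e
    simpa [f, part_apply, self_mem_orb, O] using this
  haveI : Fact (Nat.Prime 2) := ⟨Nat.prime_two⟩
  haveI := hK.center_nontrivial
  obtain ⟨y, hy⟩ := exists_prime_orderOf_dvd_card' (G := ↥(Subgroup.center ↥f.range)) 2 (by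
    obtain ⟨k, hk, e⟩ := (hK.to_subgroup _).exists_card_eq.imp fun k e =>
      (⟨(Nat.pos_of_ne_zero fun h => absurd (e.trans (by rw [h, pow_zero])) Finite.one_lt_card.ne'), e⟩ :
        0 < k ∧ Nat.card ↥(Subgroup.center ↥f.range) = 2 ^ k)
    rw [e]; exact dvd_pow_self 2 hk.ne')
  set z : Perm α := ((y : ↥f.range) : Perm α) with hz
  have hzP : z ∈ (P : Subgroup (Perm α)) := part_range_le P O hO (y : ↥f.range).2
  have hz2 : z * z = 1 := by
    have h1 : y ^ 2 = 1 := orderOf_dvd_iff_pow_eq_one.1 (dvd_of_eq hy)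
    rw [pow_two] at h1
    exact congrArg (fun w : ↥(Subgroup.center ↥f.range) => ((w : ↥f.range) : Perm α)) h1
  have hzne : z ≠ 1 := by
    intro e
    have h1 : y = 1 := Subtype.ext (Subtype.ext e)
    rw [h1, orderOf_one] at hy
    exact absurd hy (by norm_num)
  have hzsupp : ∀ x, x ∉ O → z x = x := by
    intro x hx
    obtain ⟨g, hg⟩ := (y : ↥f.range).2
    rw [hz, ← hg]
    simp [f, part_apply, hx]
  have hzc : ∀ g ∈ (P : Subgroup (Perm α)), Commute g z := by
    intro g hg
    have h1 := Subgroup.mem_center_iff.1 y.2 ⟨f ⟨g, hg⟩, ⟨_, rfl⟩⟩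
    have h2 : f ⟨g, hg⟩ * z = z * f ⟨g, hg⟩ := congrArg Subtype.val h1
    refine Equiv.ext fun x => ?_
    rw [mul_apply, mul_apply]
    by_cases hx : x ∈ O
    · have h3 := congrArg (fun p : Perm α => p x) h2
      have hzx : z x ∈ O := by
        by_contra hne
        exact hne ((z.injective (hzsupp _ hne)).symm ▸ hx)
      simpa [mul_apply, f, part_apply, hx, hzx] using h3
    · rw [hzsupp x hx, hzsupp (g x) (fun h => hx ((hO g hg x).1 h))]
  have hprod : τ * z * (τ * z) = 1 := by
    have := hzc τ hτP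
    rw [show τ * z * (τ * z) = τ * (z * τ) * z by group, ← this.eq,
      show τ * (τ * z) * z = τ * τ * (z * z) by group, hτ2, hz2, one_mul]
  have hle := hmax (τ * z) ⟨mul_mem hτP hzP, hprod, fun g hg => (hτc g hg).mul_right (hzc g hg)⟩
  obtain ⟨x, hx⟩ : ∃ x, z x ≠ x := by
    by_contra h
    push_neg at h
    exact hzne (Equiv.ext h)
  have hxO : x ∈ O := by
    by_contra h
    exact hx (hzsupp x h)
  have hlt : (Finset.univ.filter fun w => τ w ≠ w).card < (Finset.univ.filter fun w => (τ * z) w ≠ w).card := by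
    refine Finset.card_lt_card ((Finset.ssubset_iff_of_subset ?_).2 ⟨x, ?_, ?_⟩)
    · intro w hw
      simp only [Finset.mem_filter, Finset.mem_univ, true_and] at hw ⊢
      by_cases hwO : w ∈ O
      · exact absurd (hτO w hwO) hw
      · rwa [mul_apply, hzsupp w hwO]
    · simp only [Finset.mem_filter, Finset.mem_univ, true_and, mul_apply]
      have hzx : z x ∈ O := by
        by_contra hne
        exact hne ((z.injective (hzsupp _ hne)).symm ▸ hxO)
      rwa [hτO _ hzx]
    · simp [hτO x hxO]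
  omega

/-! ### The centralizer of a fixed-point-free involution -/

/-- A group containing the even part of such a centralizer and a suitable three-cycle contains `A_n`. -/
theorem alt_le_of_cent {τ : Perm α} (hα : 6 ≤ Fintype.card α) (hτ : ∀ x, τ x ≠ x) (hτ2 : ∀ x, τ (τ x) = x)
    (J : Subgroup (Perm α)) (hC : ∀ g ∈ alternatingGroup α, Commute g τ → g ∈ J)
    {t : Perm α} (ht : t.IsThreeCycle) (htJ : t ∈ J) : alternatingGroup α ≤ J := by
  have pairMove : ∀ a b : α, b ≠ a → b ≠ τ a → swap a b * swap (τ a) (τ b) ∈ J := by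
    intro a b h1 h2
    refine hC _ (by rw [mem_alternatingGroup, map_mul, sign_swap h1.symm,
      sign_swap (fun e => h1 (τ.injective e).symm)]; rfl) ?_
    have hd : Commute (swap a b) (swap (τ a) (τ b)) := by
      refine Equiv.Perm.Disjoint.commute fun x => ?_
      by_cases hx : x = a ∨ x = b
      · right
        rcases hx with rfl | rfl
        · exact swap_apply_of_ne_of_ne (Ne.symm (hτ x)) (fun e => h2 (by rw [e, hτ2]))
        · exact swap_apply_of_ne_of_ne h2 (Ne.symm (hτ x))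
      · push_neg at hx
        exact Or.inl (swap_apply_of_ne_of_ne hx.1 hx.2)
    have e1 : τ * swap a b * τ⁻¹ = swap (τ a) (τ b) := (swap_apply_apply τ a b).symm
    have e2 : τ * swap (τ a) (τ b) * τ⁻¹ = swap a b := by
      rw [← swap_apply_apply, hτ2, hτ2]
    have e3 : τ * (swap a b * swap (τ a) (τ b)) * τ⁻¹ = swap a b * swap (τ a) (τ b) := by
      rw [← conj_mul, e1, e2, hd.eq]
    exact (mul_inv_eq_iff_eq_mul.1 e3).symm
  have pairFlip : ∀ a c : α, c ≠ a → c ≠ τ a → swap a (τ a) * swap c (τ c) ∈ J := by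
    intro a c h1 h2
    refine hC _ (by rw [mem_alternatingGroup, map_mul, sign_swap (Ne.symm (hτ a)),
      sign_swap (Ne.symm (hτ c))]; rfl) ?_
    have e : ∀ x, τ * swap x (τ x) * τ⁻¹ = swap x (τ x) := fun x => by
      rw [← swap_apply_apply, hτ2, swap_comm]
    have e3 : τ * (swap a (τ a) * swap c (τ c)) * τ⁻¹ = swap a (τ a) * swap c (τ c) := by
      rw [← conj_mul, e, e]
    exact (mul_inv_eq_iff_eq_mul.1 e3).symm
  have spare : ∀ s : Finset α, s.card < Fintype.card α → ∃ c, c ∉ s := fun s hs => by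
    obtain ⟨c, -, hc⟩ := Finset.exists_mem_notMem_of_card_lt_card
      (show s.card < (Finset.univ : Finset α).card by rw [Finset.card_univ]; exact hs)
    exact ⟨c, hc⟩
  have transC : ∀ a x : α, ∃ g ∈ J, g x = a ∧ g (τ x) = τ a := by
    intro a x
    by_cases h1 : a = x
    · exact ⟨1, one_mem _, by rw [h1]; rfl, by rw [h1]; rfl⟩
    · by_cases h2 : a = τ x
      · obtain ⟨c, hc⟩ := spare {x, τ x} (by have := Finset.card_le_two (a := x) (b := τ x); omega)
        simp only [Finset.mem_insert, Finset.mem_singleton, not_or] at hc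
        refine ⟨_, pairFlip x c hc.1 hc.2, ?_, ?_⟩
        · rw [mul_apply, swap_apply_of_ne_of_ne (Ne.symm hc.1) (fun e => hc.2 (by rw [e, hτ2])), swap_apply_left, h2]
        · rw [mul_apply, swap_apply_of_ne_of_ne (Ne.symm hc.2) (fun e => hc.1 (τ.injective e).symm),
            swap_apply_right, h2, hτ2]
      · refine ⟨_, pairMove x a h1 h2, ?_, ?_⟩
        · rw [mul_apply, swap_apply_of_ne_of_ne (Ne.symm (hτ x)) (fun e => h2 (by rw [e, hτ2])), swap_apply_left]
        · rw [mul_apply, swap_apply_left, swap_apply_of_ne_of_ne (fun e => h2 (by rw [← e, hτ2])) (hτ a)]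
  have trans : ∀ a x : α, ∃ g ∈ J, g x = a := fun a x => by
    obtain ⟨g, hg, e, -⟩ := transC a x; exact ⟨g, hg, e⟩
  have stab : ∀ a x y : α, x ≠ a → x ≠ τ a → y ≠ a → y ≠ τ a →
      ∃ g ∈ J, g a = a ∧ g (τ a) = τ a ∧ g x = y := by
    intro a x y hxa hxa' hya hya'
    have hτxa : τ x ≠ a := fun e => hxa' (by rw [← e, hτ2])
    have hτxa' : τ x ≠ τ a := fun e => hxa (τ.injective e)
    by_cases h1 : y = x
    · exact ⟨1, one_mem _, rfl, rfl, h1.symm⟩
    · by_cases h2 : y = τ x
      · obtain ⟨c, hc⟩ := spare {a, τ a, x, τ x} (by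
          have := Finset.card_le_four (a := a) (b := τ a) (c := x) (d := τ x); omega)
        simp only [Finset.mem_insert, Finset.mem_singleton, not_or] at hc
        have hτc : τ c ≠ a ∧ τ c ≠ τ a := ⟨fun e => hc.2.1 (by rw [← e, hτ2]), fun e => hc.1 (τ.injective e)⟩
        refine ⟨_, pairFlip x c hc.2.2.1 hc.2.2.2, ?_, ?_, ?_⟩
        · rw [mul_apply, swap_apply_of_ne_of_ne (Ne.symm hc.1) (Ne.symm hτc.1),
            swap_apply_of_ne_of_ne (Ne.symm hxa) (Ne.symm hτxa)]
        · rw [mul_apply, swap_apply_of_ne_of_ne (Ne.symm hc.2.1) (Ne.symm hτc.2),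
            swap_apply_of_ne_of_ne (Ne.symm hxa') (Ne.symm hτxa')]
        · rw [mul_apply, swap_apply_of_ne_of_ne (Ne.symm hc.2.2.1) (fun e => hc.2.2.2 (by rw [e, hτ2])),
            swap_apply_left, h2]
      · have hτy : τ y ≠ a ∧ τ y ≠ τ a := ⟨fun e => hya' (by rw [← e, hτ2]), fun e => hya (τ.injective e)⟩
        refine ⟨_, pairMove x y h1 h2, ?_, ?_, ?_⟩
        · rw [mul_apply, swap_apply_of_ne_of_ne (Ne.symm hτxa) (Ne.symm hτy.1),
            swap_apply_of_ne_of_ne (Ne.symm hxa) (Ne.symm hya)]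
        · rw [mul_apply, swap_apply_of_ne_of_ne (Ne.symm hτxa') (Ne.symm hτy.2),
            swap_apply_of_ne_of_ne (Ne.symm hxa') (Ne.symm hya')]
        · rw [mul_apply, swap_apply_of_ne_of_ne (Ne.symm (hτ x)) (fun e => h2 (by rw [e, hτ2])), swap_apply_left]
  -- some element fixing a point moves its partner
  obtain ⟨a, j, hjJ, hja, hjτ⟩ : ∃ a : α, ∃ j ∈ J, j a = a ∧ j (τ a) ≠ τ a := by
    by_contra hno
    push_neg at hno
    have hcomm : ∀ a, τ (t a) = t (τ a) := by
      intro a
      -- an element of the centralizer bringing `t a` back to `a`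
      obtain ⟨g, hg, hga, hgτ⟩ := transC a (t a)
      have h1 := hno a (g * t) (mul_mem hg htJ) (by rw [mul_apply, hga])
      rw [mul_apply] at h1
      exact (g.injective (h1.trans hgτ.symm)).symm
    obtain ⟨c, hc⟩ : ∃ c, t c ≠ c := by
      by_contra h; push_neg at h; exact ht.ne_one (Equiv.ext h)
    -- a three-cycle commuting with `τ` would have even support
    have hs : ∀ x, x ∈ t.support → τ x ∈ t.support := by
      intro x hx
      rw [mem_support] at hx ⊢
      rw [← hcomm x]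
      exact fun e => hx (τ.injective e)
    have h3 : t.support.card = 3 := ht.card_support
    have heven : Even t.support.card := by
      have := Finset.sum_involution (s := t.support) (f := fun _ => (1 : ZMod 2)) (fun x _ => τ x)
        (fun _ _ => by decide) (fun x _ _ => hτ x) (fun x hx => hs x hx) (fun x _ => hτ2 x)
      rw [Finset.sum_const, nsmul_eq_mul, mul_one, ZMod.natCast_eq_zero_iff_even] at this
      exact this
    rw [h3] at heven
    exact absurd heven (by decide)
  have hstab : ∀ x y : α, x ≠ a → y ≠ a → ∃ g ∈ J, g a = a ∧ g x = y := by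
    have toGen : ∀ x, x ≠ a → ∃ g ∈ J, g a = a ∧ g x = j (τ a) := by
      intro x hx
      have h1 : j (τ a) ≠ a := fun e => hτ a (j.injective (e.trans hja.symm))
      by_cases hx' : x = τ a
      · exact ⟨j, hjJ, hja, by rw [hx']⟩
      · obtain ⟨g, hg, hga, -, hgx⟩ := stab a x (j (τ a)) hx hx' h1 hjτ
        exact ⟨g, hg, hga, hgx⟩
    intro x y hx hy
    obtain ⟨g, hg, hga, hgx⟩ := toGen x hx
    obtain ⟨h, hh, hha, hhy⟩ := toGen y hy
    refine ⟨h⁻¹ * g, mul_mem (inv_mem hh) hg, ?_, ?_⟩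
    · rw [mul_apply, hga, inv_eq_iff_eq, hha]
    · rw [mul_apply, hgx, inv_eq_iff_eq, hhy]
  exact alternatingGroup_le_of_isPreprimitive_of_isThreeCycle_mem
    (primitive_of_stab J a (trans a) hstab) ht htJ

/-- A group containing the even stabilizer of a point and moving it contains `A_n`. -/
theorem alt_le_of_stab {o : α} (hα : 5 ≤ Fintype.card α) (J : Subgroup (Perm α))
    (hC : ∀ g ∈ alternatingGroup α, g o = o → g ∈ J) (hmove : ∃ g ∈ J, g o ≠ o) :
    alternatingGroup α ≤ J := by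
  have spare : ∀ s : Finset α, s.card < Fintype.card α → ∃ c, c ∉ s := fun s hs => by
    obtain ⟨c, -, hc⟩ := Finset.exists_mem_notMem_of_card_lt_card
      (show s.card < (Finset.univ : Finset α).card by rw [Finset.card_univ]; exact hs)
    exact ⟨c, hc⟩
  have stab : ∀ x y : α, x ≠ o → y ≠ o → ∃ g ∈ J, g o = o ∧ g x = y := by
    intro x y hx hy
    by_cases h : x = y
    · exact ⟨1, one_mem _, rfl, h⟩
    · obtain ⟨c, hc⟩ := spare {o, x, y} (by have := Finset.card_le_three (a := o) (b := x) (c := y); omega)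
      simp only [Finset.mem_insert, Finset.mem_singleton, not_or] at hc
      have h3 := isThreeCycle_swap_mul_swap_same h (Ne.symm hc.2.1) (Ne.symm hc.2.2)
      have ho : (swap x y * swap x c) o = o := by
        rw [mul_apply, swap_apply_of_ne_of_ne (Ne.symm hx) (Ne.symm hc.1),
          swap_apply_of_ne_of_ne (Ne.symm hx) (Ne.symm hy)]
      have hinv : (swap x y * swap x c)⁻¹ x = y ∨ (swap x y * swap x c) x = y := by
        left
        rw [inv_eq_iff_eq, mul_apply, swap_apply_of_ne_of_ne (Ne.symm h) (fun e => hc.2.2 e.symm), swap_apply_right]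
      rcases hinv with e | e
      · refine ⟨_, inv_mem (hC _ h3.mem_alternatingGroup ho), ?_, e⟩
        rw [inv_eq_iff_eq, ho]
      · exact ⟨_, hC _ h3.mem_alternatingGroup ho, ho, e⟩
  have trans : ∀ x, ∃ g ∈ J, g x = o := by
    intro x
    obtain ⟨g, hg, hgo⟩ := hmove
    by_cases hx : x = o
    · exact ⟨1, one_mem _, hx⟩
    · obtain ⟨h, hh, -, e⟩ := stab (g o) x hgo hx
      refine ⟨(h * g)⁻¹, inv_mem (mul_mem hh hg), ?_⟩
      rw [inv_eq_iff_eq, mul_apply, e]
  obtain ⟨a, -, ha⟩ := Finset.exists_mem_notMem_of_card_lt_card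
    (show ({o} : Finset α).card < (Finset.univ : Finset α).card by rw [Finset.card_univ, Finset.card_singleton]; omega)
  obtain ⟨t, ht, htfix, -⟩ := exists_three (Finset.univ.erase o)
    (by rw [Finset.card_erase_of_mem (Finset.mem_univ _), Finset.card_univ]; omega)
    (Finset.mem_erase.2 ⟨fun e => ha (Finset.mem_singleton.2 e), Finset.mem_univ a⟩)
  exact alternatingGroup_le_of_isPreprimitive_of_isThreeCycle_mem (primitive_of_stab J o trans stab) ht
    (hC t ht.mem_alternatingGroup (htfix o (by simp)))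

end Cfsg.Lib.Known.SylowTwoMax
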