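import Cfsg.Agent.Known.SylowTwoMain

/-! When is the maximal overgroup of a Sylow 2-subgroup unique? -/

set_option autoImplicit false

open Equiv Equiv.Perm MulAction

namespace Cfsg.Lib.Known.SylowTwoMax

variable {α : Type*} [DecidableEq α] [Fintype α]

theorem exists_notUnique (P : Sylow 2 (Perm α)) (hα : 5 ≤ Fintype.card α) (h6 : Fintype.card α ≠ 6)
    (hk : ∀ k, Fintype.card α ≠ 2 ^ k + 1) : NotUnique (P : Subgroup (Perm α)) := by
  rcases Nat.even_or_odd (Fintype.card α) with he | ho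
  · exact notUnique_even P (by obtain ⟨j, hj⟩ := he; omega) h6 he
  · exact notUnique_odd P hα ho hk

theorem card_form {n : ℕ} (hn : 5 ≤ n) (h : ¬ ∃ k : ℕ, 2 ≤ k ∧ n = 2 ^ k + 1) (k : ℕ) : n ≠ 2 ^ k + 1 := by
  intro e
  refine h ⟨k, ?_, e⟩
  by_contra hk
  have : 2 ^ k ≤ 2 ^ 1 := Nat.pow_le_pow_right (by norm_num) (by omega)
  omega

theorem exists_odd_mem (P : Sylow 2 (Perm α)) (hα : 2 ≤ Fintype.card α) :
    ∃ p ∈ (P : Subgroup (Perm α)), p ∉ alternatingGroup α := by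
  by_contra h
  push_neg at h
  haveI : Fact (Nat.Prime 2) := ⟨Nat.prime_two⟩
  haveI : Nontrivial α := Fintype.one_lt_card_iff_nontrivial.1 (by omega)
  have h1 := Subgroup.index_dvd_of_le (show (P : Subgroup (Perm α)) ≤ alternatingGroup α from h)
  rw [alternatingGroup.index_eq_two] at h1
  exact P.not_dvd_index h1

theorem sym_iff {n : ℕ} (hn : 5 ≤ n) (h6 : n ≠ 6) (R : Sylow 2 (Perm (Fin n))) :
    (∃! M : Subgroup (Perm (Fin n)), IsCoatom M ∧ (R : Subgroup (Perm (Fin n))) ≤ M) ↔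
      ∃ k : ℕ, 2 ≤ k ∧ n = 2 ^ k + 1 := by
  classical
  obtain ⟨p, hpR, hp⟩ := exists_odd_mem R (by rw [Fintype.card_fin]; omega)
  have topOf : ∀ M : Subgroup (Perm (Fin n)), alternatingGroup (Fin n) ≤ M →
      (R : Subgroup (Perm (Fin n))) ≤ M → M = ⊤ := by
    intro M hA hR
    refine eq_top_iff.2 fun g _ => ?_
    by_cases hg : g ∈ alternatingGroup (Fin n)
    · exact hA hg
    · have h1 : p⁻¹ * g ∈ alternatingGroup (Fin n) := by
        rw [mem_alternatingGroup, map_mul, map_inv]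
        rcases Int.units_eq_one_or (sign p) with h | h
        · exact absurd (mem_alternatingGroup.2 h) hp
        · rcases Int.units_eq_one_or (sign g) with h' | h'
          · exact absurd (mem_alternatingGroup.2 h') hg
          · rw [h, h']; rfl
      have := mul_mem (hR hpR) (hA h1)
      rwa [mul_inv_cancel_left] at this
  constructor
  · intro huniq
    by_contra hk
    obtain ⟨H₁, H₂, h1, h2, a1, a2, hsup⟩ := exists_notUnique R (by rw [Fintype.card_fin]; exact hn)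
      (by rw [Fintype.card_fin]; exact h6) (by rw [Fintype.card_fin]; exact card_form hn hk)
    obtain ⟨M, ⟨hM, -⟩, hMu⟩ := huniq
    have key : ∀ H : Subgroup (Perm (Fin n)), (R : Subgroup (Perm (Fin n))) ≤ H →
        ¬ alternatingGroup (Fin n) ≤ H → H ≤ M ∧ (R : Subgroup (Perm (Fin n))) ≤ M := by
      intro H hH hA
      obtain ⟨N, hN, hHN⟩ := (eq_top_or_exists_le_coatom H).resolve_left (fun e => hA (e ▸ le_top))
      exact hMu N ⟨hN, hH.trans hHN⟩ ▸ ⟨hHN, hH.trans hHN⟩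
    obtain ⟨k1, kR⟩ := key H₁ h1 a1
    exact hM.1 (topOf M (hsup.trans (sup_le (inf_le_left.trans k1) (inf_le_left.trans (key H₂ h2 a2).1))) kR)
  · rintro ⟨k, hk, hnk⟩
    obtain ⟨o, hfo, hmax⟩ := maximal_unique R k hk (by rw [Fintype.card_fin]; exact hnk)
    obtain ⟨g, -, hgo⟩ := not_alt_le_stab o (by rw [Fintype.card_fin]; omega)
    have hStop : MulAction.stabilizer (Perm (Fin n)) o ≠ ⊤ := fun e =>
      hgo (e ▸ Subgroup.mem_top g : g ∈ MulAction.stabilizer (Perm (Fin n)) o)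
    have hle : ∀ M : Subgroup (Perm (Fin n)), M ≠ ⊤ → (R : Subgroup (Perm (Fin n))) ≤ M →
        M ≤ MulAction.stabilizer (Perm (Fin n)) o := by
      intro M hM hR x hx
      by_contra hne
      exact hM (topOf M (hmax M (inf_le_left.trans hR) ⟨x, hx, hne⟩) hR)
    have hRS : (R : Subgroup (Perm (Fin n))) ≤ MulAction.stabilizer (Perm (Fin n)) o := hfo
    have hSco : IsCoatom (MulAction.stabilizer (Perm (Fin n)) o) :=
      ⟨hStop, fun b hb => by
        by_contra hbt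
        exact (lt_irrefl _) (lt_of_lt_of_le hb (hle b hbt (hRS.trans hb.le)))⟩
    exact ⟨_, ⟨hSco, hRS⟩, fun M ⟨hM, hR⟩ =>
      (eq_or_lt_of_le (hle M hM.1 hR)).resolve_right fun hlt => hSco.1 (hM.2 _ hlt)⟩

theorem alt_iff {n : ℕ} (hn : 5 ≤ n) (h6 : n ≠ 6) (R : Sylow 2 ↥(alternatingGroup (Fin n))) :
    (∃! M : Subgroup ↥(alternatingGroup (Fin n)), IsCoatom M ∧ (R : Subgroup ↥(alternatingGroup (Fin n))) ≤ M) ↔
      ∃ k : ℕ, 2 ≤ k ∧ n = 2 ^ k + 1 := by
  classical
  haveI : Fact (Nat.Prime 2) := ⟨Nat.prime_two⟩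
  obtain ⟨P, hP⟩ := (R.isPGroup'.map (alternatingGroup (Fin n)).subtype).exists_le_sylow
  have hcomap : (P : Subgroup (Perm (Fin n))).subgroupOf (alternatingGroup (Fin n)) = (R : Subgroup ↥(alternatingGroup (Fin n))) := by
    refine R.is_maximal' ?_ fun x hx => hP ⟨x, hx, rfl⟩
    exact P.isPGroup'.comap_of_injective (alternatingGroup (Fin n)).subtype (alternatingGroup (Fin n)).subtype_injective
  have toR : ∀ H : Subgroup (Perm (Fin n)), (P : Subgroup (Perm (Fin n))) ≤ H →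
      (R : Subgroup ↥(alternatingGroup (Fin n))) ≤ H.subgroupOf (alternatingGroup (Fin n)) := fun H hH => hcomap ▸ Subgroup.comap_mono hH
  constructor
  · intro huniq
    by_contra hk
    obtain ⟨H₁, H₂, h1, h2, a1, a2, hsup⟩ := exists_notUnique P (by rw [Fintype.card_fin]; exact hn)
      (by rw [Fintype.card_fin]; exact h6) (by rw [Fintype.card_fin]; exact card_form hn hk)
    obtain ⟨M, ⟨hM, -⟩, hMu⟩ := huniq
    have key : ∀ H : Subgroup (Perm (Fin n)), (P : Subgroup (Perm (Fin n))) ≤ H →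
        ¬ (alternatingGroup (Fin n)) ≤ H → H ⊓ (alternatingGroup (Fin n)) ≤ M.map (alternatingGroup (Fin n)).subtype := by
      intro H hH hA
      obtain ⟨N, hN, hHN⟩ := (eq_top_or_exists_le_coatom (H.subgroupOf (alternatingGroup (Fin n)))).resolve_left
        (fun e => hA (Subgroup.subgroupOf_eq_top.1 e))
      obtain rfl := hMu N ⟨hN, (toR H hH).trans hHN⟩
      intro x hx
      exact ⟨⟨x, hx.2⟩, hHN hx.1, rfl⟩
    refine hM.1 (eq_top_iff.2 fun x _ => ?_)
    obtain ⟨y, hy, e⟩ := (hsup.trans (sup_le (key H₁ h1 a1) (key H₂ h2 a2))) x.2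
    exact Subtype.ext e ▸ hy
  · rintro ⟨k, hk, hnk⟩
    obtain ⟨o, hfo, hmax⟩ := maximal_unique P k hk (by rw [Fintype.card_fin]; exact hnk)
    obtain ⟨g, hgA, hgo⟩ := not_alt_le_stab o (by rw [Fintype.card_fin]; omega)
    set S := (MulAction.stabilizer (Perm (Fin n)) o).subgroupOf (alternatingGroup (Fin n))
    have hStop : S ≠ ⊤ := fun e => hgo (Subgroup.subgroupOf_eq_top.1 e hgA)
    have hle : ∀ M : Subgroup ↥(alternatingGroup (Fin n)), M ≠ ⊤ → (R : Subgroup ↥(alternatingGroup (Fin n))) ≤ M → M ≤ S := by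
      intro M hM hR x hx
      by_contra hne
      have h1 := hmax (M.map (alternatingGroup (Fin n)).subtype) (fun y hy => ⟨⟨y, hy.2⟩, hR (hcomap ▸ hy.1), rfl⟩)
        ⟨x, ⟨x, hx, rfl⟩, hne⟩
      refine hM (eq_top_iff.2 fun y _ => ?_)
      obtain ⟨z, hz, e⟩ := h1 y.2
      exact Subtype.ext e ▸ hz
    have hRS : (R : Subgroup ↥(alternatingGroup (Fin n))) ≤ S := toR _ hfo
    have hSco : IsCoatom S :=
      ⟨hStop, fun b hb => by
        by_contra hbt
        exact (lt_irrefl _) (lt_of_lt_of_le hb (hle b hbt (hRS.trans hb.le)))⟩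
    exact ⟨_, ⟨hSco, hRS⟩, fun M ⟨hM, hR⟩ =>
      (eq_or_lt_of_le (hle M hM.1 hR)).resolve_right fun hlt => hSco.1 (hM.2 _ hlt)⟩

end Cfsg.Lib.Known.SylowTwoMax
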