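import Mathlib
import Cfsg.Agent.Classical.Symp.SymEmbedding
import Cfsg.Agent.Known.ArfSum
import Cfsg.Prelude.Def_Classical

/-! `S_{4k+4}` inside the orthogonal group on the heart of its permutation module. -/

set_option autoImplicit false
set_option linter.unusedSimpArgs false
set_option linter.style.haveILetI false

namespace Cfsg.Lib.SymOrth

open Equiv Matrix Cfsg.Lib.Classical.SymEmbedding

local notation "B" => ZMod 2

/-- The weight. -/
def wt {n : ℕ} (y : Fin n → B) : ℕ := (Finset.univ.filter fun x => y x ≠ 0).card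

/-- Half the weight, modulo two. -/
def half {n : ℕ} (y : Fin n → B) : B := ((wt y / 2 : ℕ) : B)

theorem wt_eq_sum {n : ℕ} (y : Fin n → B) : wt y = ∑ x, (y x).val := by
  rw [wt, Finset.card_filter]
  refine Finset.sum_congr rfl fun x _ => ?_
  have : ∀ a : B, (if a ≠ 0 then 1 else 0) = a.val := by decide
  exact this _

theorem wt_mod {n : ℕ} (y : Fin n → B) : ((wt y : ℕ) : B) = ∑ x, y x := by
  rw [wt_eq_sum, Nat.cast_sum]
  exact Finset.sum_congr rfl fun x _ => ZMod.natCast_zmod_val _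

theorem wt_even {n : ℕ} {y : Fin n → B} (h : (1 : Fin n → B) ⬝ᵥ y = 0) : Even (wt y) := by
  rw [← ZMod.natCast_eq_zero_iff_even, wt_mod]
  simpa [dotProduct] using h

theorem wt_add {n : ℕ} (x y : Fin n → B) : wt (x + y) + 2 * ∑ i, (x i * y i).val = wt x + wt y := by
  simp only [wt_eq_sum, Finset.mul_sum, ← Finset.sum_add_distrib]
  refine Finset.sum_congr rfl fun i _ => ?_
  have : ∀ a b : B, (a + b).val + 2 * (a * b).val = a.val + b.val := by decide
  exact this _ _

theorem half_add {n : ℕ} {x y : Fin n → B} (hx : (1 : Fin n → B) ⬝ᵥ x = 0) (hy : (1 : Fin n → B) ⬝ᵥ y = 0) :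
    half (x + y) = half x + half y + x ⬝ᵥ y := by
  obtain ⟨a, ha⟩ := wt_even hx
  obtain ⟨b, hb⟩ := wt_even hy
  obtain ⟨c, hc⟩ := wt_even (y := x + y) (by rw [dotProduct_add, hx, hy, add_zero])
  have h := wt_add x y
  have hd : x ⬝ᵥ y = ((∑ i, (x i * y i).val : ℕ) : B) := by
    rw [Nat.cast_sum]
    exact Finset.sum_congr rfl fun i _ => (ZMod.natCast_zmod_val _).symm
  rw [hd]
  generalize (∑ i, (x i * y i).val) = d at h ⊢
  rw [half, half, half, show wt (x + y) / 2 = c by omega, show wt x / 2 = a by omega, show wt y / 2 = b by omega,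
    ← Nat.cast_add, ← Nat.cast_add, ZMod.natCast_eq_natCast_iff']
  omega

theorem wt_one_add {n : ℕ} (y : Fin n → B) : wt (y + 1) + wt y = n := by
  have h := wt_add y 1
  have h1 : wt (1 : Fin n → B) = n := by simp [wt]
  have h2 : (∑ i, (y i * (1 : Fin n → B) i).val) = wt y := by simp [wt_eq_sum]
  rw [h1, h2] at h
  omega

theorem half_perm {k : ℕ} (σ : Perm (Fin (2 * k + 2))) (y : Fin (2 * k + 2) → B) : half (perm σ y) = half y := by
  rw [half, half, wt, wt]
  congr 2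
  refine Finset.card_equiv σ.symm fun x => ?_
  exact ⟨fun h => Finset.mem_filter.mpr ⟨Finset.mem_univ _, (Finset.mem_filter.mp h).2⟩,
    fun h => Finset.mem_filter.mpr ⟨Finset.mem_univ _, (Finset.mem_filter.mp h).2⟩⟩

theorem half_const {k : ℕ} (hk : Odd k) {y : Fin (2 * k + 2) → B} (hy : (1 : Fin (2 * k + 2) → B) ⬝ᵥ y = 0) (c : B) :
    half (y + c • (1 : Fin (2 * k + 2) → B)) = half y := by
  rcases Cfsg.Lib.ArfSum.zmod_cases c with rfl | rfl
  · rw [zero_smul, add_zero]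
  · rw [one_smul, half, half, ZMod.natCast_eq_natCast_iff']
    have h := wt_one_add y
    obtain ⟨a, ha⟩ := wt_even hy
    obtain ⟨j, rfl⟩ := hk
    omega

/-- The form. -/
def q (k : ℕ) (u : Fin k ⊕ Fin k → B) : B := half (inc k u)

theorem q_rho {k : ℕ} (hk : Odd k) (σ : Perm (Fin (2 * k + 2))) (u : Fin k ⊕ Fin k → B) : q k (rho σ u) = q k u := by
  obtain ⟨c, hc⟩ := exists_const _ (perm_even σ u)
  show half (inc k (prj k (perm σ (inc k u)))) = _
  rw [hc, half_const hk (perm_even σ u), half_perm]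
  rfl

theorem q_add (k : ℕ) (u v : Fin k ⊕ Fin k → B) :
    q k (u + v) = q k u + q k v + Cfsg.Lib.ArfSum.b k u v := by
  rw [q, map_add, half_add (inc_even u) (inc_even v), ← form_inc, Cfsg.Lib.Classical.sympBilin_eq_sum]
  congr 1
  simp only [Cfsg.Lib.ArfSum.b, Cfsg.quadFormPlus, ← Finset.sum_sub_distrib]
  refine Finset.sum_congr rfl fun i _ => ?_
  simp only [Pi.add_apply]
  rw [CharTwo.sub_eq_add (u (Sum.inr i) * v (Sum.inl i))]
  ring

/-- Powers of the imaginary unit. -/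
def psi (a : B) : GaussianInt := if a = 0 then 1 else ⟨0, 1⟩

theorem psi_wt {n : ℕ} (y : Fin n → B) : ∏ x, psi (y x) = (⟨0, 1⟩ : GaussianInt) ^ wt y := by
  rw [wt_eq_sum, ← Finset.prod_pow_eq_pow_sum]
  refine Finset.prod_congr rfl fun x _ => ?_
  have : ∀ a : B, psi a = (⟨0, 1⟩ : GaussianInt) ^ a.val := by decide
  exact this _

theorem pow_re (w : ℕ) :
    ((⟨0, 1⟩ : GaussianInt) ^ w).re = if Even w then Cfsg.Lib.ArfSum.χ ((w / 2 : ℕ) : B) else 0 := by
  have h2 : (⟨0, 1⟩ : GaussianInt) ^ 2 = -1 := by rw [sq]; rfl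
  rcases Nat.even_or_odd' w with ⟨a, rfl | rfl⟩
  · rw [if_pos ⟨a, by omega⟩, pow_mul, h2, show 2 * a / 2 = a by omega]
    rcases Nat.even_or_odd a with ha | ha
    · rw [ha.neg_one_pow, (ZMod.natCast_eq_zero_iff_even).2 ha]; rfl
    · rw [ha.neg_one_pow, (ZMod.natCast_eq_one_iff_odd).2 ha]; rfl
  · rw [if_neg (by simp), pow_succ, pow_mul, h2]
    rcases neg_one_pow_eq_or GaussianInt a with h | h <;> rw [h] <;> rfl

theorem sum_q {j : ℕ} : Cfsg.Lib.ArfSum.S (q (2 * j + 1)) * 2 = (-4) ^ (j + 1) := by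
  classical
  have hodd : Odd (2 * j + 1) := odd_two_mul_add_one j
  have htot : (∑ y : Fin (2 * (2 * j + 1) + 2) → B, ∏ x, psi (y x)) = ((-4) ^ (j + 1) : GaussianInt) := by
    rw [← Fintype.prod_sum (fun _ (a : B) => psi a), Finset.prod_const, Finset.card_univ, Fintype.card_fin,
      show 2 * (2 * j + 1) + 2 = 4 * (j + 1) by ring, pow_mul]
    congr 1
  have hre : (∑ y : Fin (2 * (2 * j + 1) + 2) → B, ∏ x, psi (y x)).re =
      ∑ y : Fin (2 * (2 * j + 1) + 2) → B, (∏ x, psi (y x)).re := by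
    induction (Finset.univ : Finset (Fin (2 * (2 * j + 1) + 2) → B)) using Finset.induction_on with
    | empty => rfl
    | insert a s ha ih => rw [Finset.sum_insert ha, Finset.sum_insert ha, Zsqrtd.re_add, ih]
  have hval : ((-4 : GaussianInt) ^ (j + 1)).re = (-4 : ℤ) ^ (j + 1) := by
    rw [show (-4 : GaussianInt) = ((-4 : ℤ) : GaussianInt) from rfl, ← Int.cast_pow, Zsqrtd.re_intCast]
  rw [← hval, ← htot, hre]
  simp only [psi_wt, pow_re]
  rw [← Finset.sum_filter]
  symm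
  have hdot : ∀ (u : Fin (2 * j + 1) ⊕ Fin (2 * j + 1) → B) (c : B),
      (1 : Fin (2 * (2 * j + 1) + 2) → B) ⬝ᵥ (inc (2 * j + 1) u + c • 1) = 0 := fun u c => by
    rw [dotProduct_add, inc_even, dotProduct_smul]
    have h11 : (1 : Fin (2 * (2 * j + 1) + 2) → B) ⬝ᵥ 1 = 0 := by
      rw [dotProduct]; simp; rw [show (2 : B) = 0 by decide]; ring
    simp [h11]
  rw [Cfsg.Lib.ArfSum.S, Finset.sum_mul, show (2 : ℤ) = ((Finset.univ : Finset B).card : ℤ) by simp]
  simp only [← nsmul_eq_mul', ← Finset.sum_const]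
  rw [← Finset.sum_product']
  refine (Finset.sum_bij (fun p _ => inc (2 * j + 1) p.1 + p.2 • (1 : Fin (2 * (2 * j + 1) + 2) → B)) ?_ ?_ ?_ ?_).symm
  · intro p _
    exact Finset.mem_filter.2 ⟨Finset.mem_univ _, wt_even (hdot p.1 p.2)⟩
  · intro p _ p' _ h
    have h1 := congrArg (prj (2 * j + 1)) h
    rw [map_add, map_add, map_smul, map_smul, prj_one, smul_zero, smul_zero, add_zero, add_zero, prj_inc,
      prj_inc] at h1
    rw [h1, add_right_inj] at h
    have h2 := congrFun h 0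
    simp at h2
    exact Prod.ext h1 h2
  · intro y hy
    have hy' := (Finset.mem_filter.1 hy).2
    have : (1 : Fin (2 * (2 * j + 1) + 2) → B) ⬝ᵥ y = 0 := by
      rw [← ZMod.natCast_eq_zero_iff_even, wt_mod] at hy'
      simpa [dotProduct] using hy'
    obtain ⟨c, hc⟩ := exists_const y this
    refine ⟨(prj (2 * j + 1) y, c), by simp, ?_⟩
    rw [hc, add_assoc, ← add_smul]
    rcases Cfsg.Lib.ArfSum.zmod_cases c with rfl | rfl
    · simp
    · rw [show (1 : B) + 1 = 0 by decide, zero_smul, add_zero]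
  · intro p _
    show Cfsg.Lib.ArfSum.χ (q (2 * j + 1) p.1) = _
    rw [← half, half_const hodd (inc_even p.1)]
    rfl

theorem type_of_q (j : ℕ) (hj : 1 ≤ j) :
    (Odd j → ∃ g : (Fin (2 * j + 1) ⊕ Fin (2 * j + 1) → B) ≃ₗ[B] (Fin (2 * j + 1) ⊕ Fin (2 * j + 1) → B),
      ∀ v, q (2 * j + 1) v = Cfsg.quadFormPlus (2 * j + 1) B (g v)) ∧
    (Even j → ∃ g : (Fin (2 * j + 1) ⊕ Fin (2 * j + 1) → B) ≃ₗ[B] ((Fin (2 * j) ⊕ Fin (2 * j)) ⊕ Fin 2 → B),
      ∀ v, q (2 * j + 1) v = Cfsg.quadFormMinus (2 * j) B 1 1 (g v)) := by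
  classical
  have hS := sum_q (j := j)
  have hpos : (0 : ℤ) < 2 ^ (2 * j + 1) := by positivity
  rcases Cfsg.Lib.ArfSum.classify (2 * j + 1) (q (2 * j + 1)) (q_add _) with ⟨g, hg⟩ | ⟨g, hg⟩
  · refine ⟨fun _ => ⟨g, hg⟩, fun hev => absurd hS (ne_of_gt ?_)⟩
    rw [show q (2 * j + 1) = fun v => Cfsg.quadFormPlus (2 * j + 1) B (g.toEquiv v) from funext hg,
      Cfsg.Lib.ArfSum.S_comp, Cfsg.Lib.ArfSum.S_plus, hev.add_one.neg_pow]
    have : (0 : ℤ) < 4 ^ (j + 1) := by positivity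
    linarith
  · refine ⟨fun hodd => absurd hS (ne_of_lt ?_), fun _ => ⟨g, hg⟩⟩
    rw [show q (2 * j + 1) = fun v => Cfsg.quadFormMinus (2 * j + 1 - 1) B 1 1 (g.toEquiv v) from funext hg,
      Cfsg.Lib.ArfSum.S_comp, Cfsg.Lib.ArfSum.S_minus, hodd.add_one.neg_pow]
    have : (0 : ℤ) < 4 ^ (j + 1) := by positivity
    have : (0 : ℤ) < 2 ^ (2 * j + 1 - 1 + 1) := by positivity
    linarith

/-- Transport of a representation to isometries. -/
theorem exists_hom {G : Type} [Group G] {ι κ : Type} [Fintype ι] [DecidableEq ι] [Fintype κ] [DecidableEq κ]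
    (ρ : G → ((ι → B) →ₗ[B] (ι → B))) (h1 : ρ 1 = LinearMap.id) (hm : ∀ a b, ρ (a * b) = (ρ a).comp (ρ b))
    (hinj : Function.Injective ρ) (f : (ι → B) → B) (hinv : ∀ a v, f (ρ a v) = f v)
    (f' : (κ → B) → B) (g : (ι → B) ≃ₗ[B] (κ → B)) (hg : ∀ v, f v = f' (g v)) :
    ∃ φ : G →* Cfsg.isometryGroup B f', Function.Injective φ := by
  let c : G → ((κ → B) →ₗ[B] (κ → B)) := fun a => g.toLinearMap.comp ((ρ a).comp g.symm.toLinearMap)
  let M : G →* Matrix κ κ B :=
    { toFun := fun a => LinearMap.toMatrix' (c a)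
      map_one' := by
        rw [← LinearMap.toMatrix'_id]
        exact congrArg _ (LinearMap.ext fun v => by simp [c, h1])
      map_mul' := fun a b => by
        rw [← LinearMap.toMatrix'_comp]
        exact congrArg _ (LinearMap.ext fun v => by simp [c, hm]) }
  have hmem : ∀ a, M.toHomUnits a ∈ Cfsg.isometryGroup B f' := fun a u _ => by
    show f' ((M a) *ᵥ u) = f' u
    rw [show M a *ᵥ u = c a u from LinearMap.toMatrix'_mulVec _ u]
    show f' (g (ρ a (g.symm u))) = f' u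
    rw [← hg, hinv, hg, LinearEquiv.apply_symm_apply]
  refine ⟨M.toHomUnits.codRestrict _ hmem, fun a b h => hinj (LinearMap.ext fun v => ?_)⟩
  have h' : M a = M b := congrArg (fun x : GL κ B => (x : Matrix κ κ B)) (congrArg Subtype.val h)
  have h'' := LinearMap.congr_fun (LinearMap.toMatrix'.injective h') (g v)
  simpa [c] using h''

theorem symmetric_in_orthogonal (j : ℕ) (hj : 1 ≤ j) :
    (Odd j → ∃ φ : Perm (Fin (4 * j + 4)) →* ↥(Cfsg.isometryGroup B (Cfsg.quadFormPlus (2 * j + 1) B)),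
      Function.Injective φ) ∧
    (Even j → ∃ φ : Perm (Fin (4 * j + 4)) →* ↥(Cfsg.isometryGroup B (Cfsg.quadFormMinus (2 * j) B 1 1)),
      Function.Injective φ) := by
  rw [show 4 * j + 4 = 2 * (2 * j + 1) + 2 by ring]
  have hinj : Function.Injective (rho (k := 2 * j + 1)) := fun a b h =>
    embed_injective (k := 2 * j + 1) (by omega) (Subtype.ext (congrArg LinearMap.toMatrix' h))
  exact ⟨fun h => by
      obtain ⟨g, hg⟩ := (type_of_q j hj).1 h
      exact exists_hom rho rho_one rho_mul hinj _ (q_rho (odd_two_mul_add_one j)) _ g hg,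
    fun h => by
      obtain ⟨g, hg⟩ := (type_of_q j hj).2 h
      exact exists_hom rho rho_one rho_mul hinj _ (q_rho (odd_two_mul_add_one j)) _ g hg⟩

end Cfsg.Lib.SymOrth
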