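import Cfsg.Agent.Known.UnipotentType
import Cfsg.Agent.Known.UnipotentBasics
import Cfsg.Agent.Classical.Symp.Matrix
import Cfsg.Agent.Classical.Symp.Decomp
import Cfsg.Prelude.Def_JordanBlocks
import Mathlib

/-! Jordan types of unipotent elements of symplectic groups over finite fields of any characteristic. -/

set_option autoImplicit false
set_option linter.style.haveILetI false

open Matrix Cfsg.Lib.Classical

namespace Cfsg.Lib.SympJordan

universe u

variable {F : Type u} [Field F]

/-- The cardinality of the kernel of a matrix. -/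
noncomputable def kc {ι : Type*} [Fintype ι] (M : Matrix ι ι F) : ℕ := Nat.card {v : ι → F // M *ᵥ v = 0}

section Kernels

variable {ι κ : Type*} [Fintype ι] [DecidableEq ι] [Fintype κ] [DecidableEq κ]

theorem kc_reindex (e : ι ≃ κ) (M : Matrix ι ι F) : kc (Matrix.reindex e e M) = kc M := by
  refine Nat.card_congr ((Equiv.arrowCongr e.symm (Equiv.refl F)).subtypeEquiv fun v => ?_)
  rw [Matrix.reindex_apply, submatrix_mulVec_equiv]
  constructor
  · intro h
    funext x
    have := congrFun h (e x)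
    simpa [Function.comp_def, Equiv.arrowCongr] using this
  · intro h
    funext x
    have := congrFun h (e.symm x)
    simpa [Function.comp_def, Equiv.arrowCongr] using this

theorem reindex_pow (e : ι ≃ κ) (M : Matrix ι ι F) (j : ℕ) :
    (Matrix.reindex e e M) ^ j = Matrix.reindex e e (M ^ j) := by
  have := map_pow (Matrix.reindexAlgEquiv F F e) M j
  simpa [Matrix.reindexAlgEquiv_apply] using this.symm

theorem kc_eq_pow (M : Matrix ι ι F) : kc M = Nat.card F ^ Module.finrank F (LinearMap.ker M.mulVecLin) := by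
  rw [← Module.natCard_eq_pow_finrank]
  exact Nat.card_congr (Equiv.subtypeEquivRight fun v => by simp [LinearMap.mem_ker])

/-- Nilpotent matrices with the same kernel sizes are similar. -/
theorem similar_of_kc [Finite F] (e : ι ≃ κ) {M : Matrix ι ι F} {M' : Matrix κ κ F} (hM : IsNilpotent M)
    (h : ∀ j, kc (M ^ j) = kc (M' ^ j)) : IsConj (Matrix.reindex e e (1 + M)) (1 + M') := by
  classical
  set n := Fintype.card κ
  let f := Fintype.equivFin κ
  set A : Matrix (Fin n) (Fin n) F := Matrix.reindex (e.trans f) (e.trans f) M with hA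
  set B : Matrix (Fin n) (Fin n) F := Matrix.reindex f f M' with hB
  obtain ⟨s, hs⟩ := hM
  obtain ⟨μ, -, hμ⟩ := UnipClasses.exists_type (N := A) (m := s) (by rw [hA, reindex_pow, hs]; simp)
  have hμ' : UnipClasses.HasType B μ := fun j => by
    rw [← hμ j]
    show kc (B ^ j) = kc (A ^ j)
    rw [hA, hB, reindex_pow, reindex_pow, kc_reindex, kc_reindex, h]
  obtain ⟨T, hT⟩ := UnipClasses.similar_of_type hμ hμ'
  let φ : Matrix (Fin n) (Fin n) F ≃ₐ[F] Matrix κ κ F := Matrix.reindexAlgEquiv F F f.symm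
  refine ⟨Units.map (φ : Matrix (Fin n) (Fin n) F →* Matrix κ κ F) T, ?_⟩
  have h1 : φ A = Matrix.reindex e e M := by
    ext a b
    simp [φ, hA, Matrix.reindexAlgEquiv_apply]
  have h2 : φ B = M' := by
    ext a b
    simp [φ, hB, Matrix.reindexAlgEquiv_apply]
  have h3 : Matrix.reindex e e (1 + M) = 1 + φ A := by
    rw [h1]
    ext a b
    simp [Matrix.one_apply]
  show φ (T : Matrix (Fin n) (Fin n) F) * Matrix.reindex e e (1 + M) = (1 + M') * φ (T : Matrix (Fin n) (Fin n) F)
  rw [h3, ← h2, ← map_one φ, ← map_add, ← map_add, ← map_mul, ← map_mul, mul_add, add_mul, hT, mul_one, one_mul]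

/-- A nilpotent matrix with one-dimensional kernel is a single chain. -/
theorem kc_single [Finite F] {M : Matrix ι ι F} (hM : IsNilpotent M) (h1 : kc M = Nat.card F) (j : ℕ) :
    kc (M ^ j) = Nat.card F ^ min j (Fintype.card ι) := by
  classical
  set n := Fintype.card ι
  let f := Fintype.equivFin ι
  set A : Matrix (Fin n) (Fin n) F := Matrix.reindex f f M with hA
  obtain ⟨s, hs⟩ := hM
  obtain ⟨μ, -, hμ⟩ := UnipClasses.exists_type (N := A) (m := s) (by rw [hA, reindex_pow, hs]; simp)
  have hk : ∀ j, kc (A ^ j) = kc (M ^ j) := fun j => by rw [hA, reindex_pow, kc_reindex]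
  have hone := (hk 1).symm.trans (hμ 1)
  rw [pow_one, h1] at hone
  have hsum : ∑ i, min 1 (UnipClasses.lens μ i) = 1 :=
    Nat.pow_right_injective (Finite.one_lt_card : 1 < Nat.card F) (by simp only [pow_one]; exact hone.symm)
  have hlen : Fintype.card (Fin μ.parts.toList.length) = 1 := by
    rw [Finset.sum_congr rfl (fun i _ => min_eq_left (μ.parts_pos (UnipClasses.lens_mem μ i)))] at hsum
    simpa using hsum
  rw [← hk j]
  show Nat.card _ = _
  rw [hμ j]
  congr 1
  obtain ⟨i, hi⟩ := Fintype.card_eq_one_iff.1 hlen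
  have hu : (Finset.univ : Finset (Fin μ.parts.toList.length)) = {i} :=
    Finset.eq_singleton_iff_unique_mem.2 ⟨Finset.mem_univ i, fun x _ => hi x⟩
  have htot : ∑ x, UnipClasses.lens μ x = n := by
    rw [Finset.sum_eq_multiset_sum, UnipClasses.map_lens, μ.parts_sum]
  rw [hu, Finset.sum_singleton] at htot ⊢
  rw [htot]

theorem kc_fromBlocks_diag (A : Matrix ι ι F) (D : Matrix κ κ F) :
    kc (Matrix.fromBlocks A 0 0 D) = kc A * kc D := by
  rw [kc, kc, kc, ← Nat.card_prod]
  refine Nat.card_congr (((Equiv.sumArrowEquivProdArrow ι κ F).subtypeEquiv fun v => ?_).trans Equiv.subtypeProdEquivProd)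
  rw [Matrix.fromBlocks_mulVec, Matrix.zero_mulVec, Matrix.zero_mulVec, add_zero, zero_add]
  constructor
  · intro h
    exact ⟨funext fun x => congrFun h (Sum.inl x), funext fun x => congrFun h (Sum.inr x)⟩
  · rintro ⟨h1, h2⟩
    funext x
    cases x with
    | inl x => exact congrFun h1 x
    | inr x => exact congrFun h2 x

theorem kc_blockDiagonal' {I : Type*} [Fintype I] [DecidableEq I] {α : I → Type*} [∀ i, Fintype (α i)]
    [∀ i, DecidableEq (α i)] (M : ∀ i, Matrix (α i) (α i) F) :
    kc (Matrix.blockDiagonal' M) = ∏ i, kc (M i) := by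
  have key : ∀ (v : (Σ i, α i) → F) i a, (Matrix.blockDiagonal' M *ᵥ v) ⟨i, a⟩ = (M i *ᵥ fun b => v ⟨i, b⟩) a := by
    intro v i a
    rw [Matrix.mulVec, dotProduct, Fintype.sum_sigma, Finset.sum_eq_single i]
    · simp only [Matrix.blockDiagonal'_apply_eq]; rfl
    · intro j _ hj
      exact Finset.sum_eq_zero fun b _ => by rw [Matrix.blockDiagonal'_apply_ne M a b (Ne.symm hj), zero_mul]
    · simp
  simp only [kc]
  rw [← Nat.card_pi]
  refine Nat.card_congr (((Equiv.piCurry fun i (_ : α i) => F).subtypeEquiv fun v => ?_).trans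
    Equiv.subtypePiEquivPi)
  constructor
  · intro h i
    funext a
    exact (key v i a).symm.trans (congrFun h ⟨i, a⟩)
  · intro h
    funext x
    obtain ⟨i, a⟩ := x
    rw [key]
    exact congrFun (h i) a

end Kernels

section Blocks

variable (k : ℕ)

/-- The nilpotent part of a Jordan block. -/
def shiftBlock : Matrix (Fin k) (Fin k) F := fun i j => if (i : ℕ) = j + 1 then 1 else 0

theorem jordanBlock_eq : Cfsg.jordanBlock k F = 1 + shiftBlock k := by
  ext i j
  simp only [Cfsg.jordanBlock, Matrix.of_apply, Matrix.add_apply, Matrix.one_apply, shiftBlock, Fin.ext_iff]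
  split_ifs <;> first | omega | simp

theorem shiftBlock_mulVec (v : Fin k → F) (i : Fin k) :
    (shiftBlock (F := F) k *ᵥ v) i = if h : 1 ≤ (i : ℕ) then v ⟨i - 1, by omega⟩ else 0 := by
  split_ifs with h
  · rw [mulVec, dotProduct, Finset.sum_eq_single (⟨i - 1, by omega⟩ : Fin k)]
    · rw [shiftBlock, if_pos (show (i : ℕ) = i - 1 + 1 by omega), one_mul]
    · intro b _ hne
      rw [shiftBlock, if_neg, zero_mul]
      intro e
      exact hne (Fin.ext (by show (b : ℕ) = i - 1; omega))
    · simp
  · rw [mulVec, dotProduct]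
    refine Finset.sum_eq_zero fun y _ => ?_
    rw [shiftBlock, if_neg (by omega), zero_mul]

theorem shiftBlock_transpose_mulVec (v : Fin k → F) (i : Fin k) :
    ((shiftBlock (F := F) k)ᵀ *ᵥ v) i = if h : (i : ℕ) + 1 < k then v ⟨i + 1, h⟩ else 0 := by
  split_ifs with h
  · rw [mulVec, dotProduct, Finset.sum_eq_single (⟨i + 1, h⟩ : Fin k)]
    · rw [transpose_apply, shiftBlock, if_pos (show ((⟨i + 1, h⟩ : Fin k) : ℕ) = i + 1 from rfl), one_mul]
    · intro b _ hne
      rw [transpose_apply, shiftBlock, if_neg, zero_mul]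
      intro e
      exact hne (Fin.ext e)
    · simp
  · rw [mulVec, dotProduct]
    refine Finset.sum_eq_zero fun y _ => ?_
    rw [transpose_apply, shiftBlock, if_neg (by have := y.isLt; omega), zero_mul]

theorem shiftBlock_nilpotent : (shiftBlock (F := F) k) ^ k = 0 := by
  have key : ∀ (j : ℕ) (v : Fin k → F) (i : Fin k), (i : ℕ) < j → ((shiftBlock (F := F) k) ^ j *ᵥ v) i = 0 := by
    intro j
    induction j with
    | zero => intro v i hi; omega
    | succ j ih =>
      intro v i hi
      rw [pow_succ', ← mulVec_mulVec, shiftBlock_mulVec]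
      split_ifs with h
      · exact ih v _ (by show (i : ℕ) - 1 < j; omega)
      · rfl
  exact Matrix.ext_of_mulVec_single fun j => by
    funext i
    rw [key k _ i i.isLt, zero_mulVec, Pi.zero_apply]

theorem shiftBlock_ker {k : ℕ} (hk : 1 ≤ k) (v : Fin k → F) :
    shiftBlock k *ᵥ v = 0 ↔ ∃ c : F, v = Pi.single ⟨k - 1, by omega⟩ c := by
  constructor
  · intro h
    refine ⟨v ⟨k - 1, by omega⟩, funext fun i => ?_⟩
    by_cases hi : (i : ℕ) = k - 1
    · have hi' : i = ⟨k - 1, by omega⟩ := Fin.ext hi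
      rw [hi', Pi.single_eq_same]
    · rw [Pi.single_eq_of_ne fun e => hi (by rw [e])]
      have h1 := congrFun h ⟨i + 1, by omega⟩
      rw [shiftBlock_mulVec, dif_pos (show 1 ≤ (i : ℕ) + 1 by omega), Pi.zero_apply] at h1
      simpa using h1
  · rintro ⟨c, rfl⟩
    funext i
    rw [shiftBlock_mulVec, Pi.zero_apply]
    split_ifs with h
    · exact Pi.single_eq_of_ne (fun e => by
        have := congrArg Fin.val e
        simp only at this
        omega) _
    · rfl

theorem shiftBlock_transpose_ker {k : ℕ} (hk : 1 ≤ k) (v : Fin k → F) :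
    (shiftBlock k)ᵀ *ᵥ v = 0 ↔ ∃ c : F, v = Pi.single ⟨0, hk⟩ c := by
  constructor
  · intro h
    refine ⟨v ⟨0, hk⟩, funext fun i => ?_⟩
    by_cases hi : (i : ℕ) = 0
    · have hi' : i = ⟨0, hk⟩ := Fin.ext hi
      rw [hi', Pi.single_eq_same]
    · rw [Pi.single_eq_of_ne fun e => hi (by rw [e])]
      have h1 := congrFun h ⟨i - 1, by omega⟩
      rw [shiftBlock_transpose_mulVec, dif_pos (show (i : ℕ) - 1 + 1 < k by omega), Pi.zero_apply] at h1
      rw [← h1]
      congr 1
      exact Fin.ext (by show (i : ℕ) = i - 1 + 1; omega)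
  · rintro ⟨c, rfl⟩
    funext i
    rw [shiftBlock_transpose_mulVec, Pi.zero_apply]
    split_ifs with h
    · exact Pi.single_eq_of_ne (fun e => by simpa using congrArg Fin.val e) _
    · rfl

end Blocks

section Model

variable (k : ℕ) (b : Bool)

/-- The corner of a block: one entry for a single chain, zero for two chains. -/
def corner : Matrix (Fin k) (Fin k) F := Matrix.diagonal fun i => if b = true ∧ (i : ℕ) = 0 then 1 else 0

/-- The inverse transpose of a Jordan block. -/
noncomputable def coBlock : Matrix (Fin k) (Fin k) F := Ring.inverse (Cfsg.jordanBlock k F)ᵀ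

theorem jordanBlock_transpose_isUnit : IsUnit (Cfsg.jordanBlock k F)ᵀ := by
  rw [jordanBlock_eq, Matrix.transpose_add, Matrix.transpose_one]
  refine IsNilpotent.isUnit_one_add ⟨k, ?_⟩
  rw [← Matrix.transpose_pow, shiftBlock_nilpotent, Matrix.transpose_zero]

theorem coBlock_mul : coBlock (F := F) k * (Cfsg.jordanBlock k F)ᵀ = 1 :=
  Ring.inverse_mul_cancel _ (jordanBlock_transpose_isUnit k)

theorem mul_coBlock : (Cfsg.jordanBlock k F)ᵀ * coBlock (F := F) k = 1 :=
  Ring.mul_inverse_cancel _ (jordanBlock_transpose_isUnit k)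

theorem coBlock_sub_one : coBlock (F := F) k - 1 = -(coBlock k * (shiftBlock k)ᵀ) := by
  have h := coBlock_mul (F := F) k
  rw [jordanBlock_eq, Matrix.transpose_add, Matrix.transpose_one, mul_add, mul_one] at h
  rw [eq_neg_iff_add_eq_zero, sub_add_eq_add_sub, h, sub_self]

theorem coBlock_nilpotent : (coBlock (F := F) k - 1) ^ k = 0 := by
  have hc : Commute (coBlock (F := F) k) (shiftBlock k)ᵀ := by
    have hJ : Commute (Cfsg.jordanBlock k F)ᵀ (shiftBlock k)ᵀ := by
      rw [jordanBlock_eq, Matrix.transpose_add, Matrix.transpose_one]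
      exact (Commute.one_left _).add_left (Commute.refl _)
    show coBlock k * (shiftBlock k)ᵀ = (shiftBlock k)ᵀ * coBlock k
    calc coBlock k * (shiftBlock k)ᵀ = coBlock k * ((shiftBlock k)ᵀ * ((Cfsg.jordanBlock k F)ᵀ * coBlock k)) := by
          rw [mul_coBlock, mul_one]
      _ = coBlock k * (Cfsg.jordanBlock k F)ᵀ * (shiftBlock k)ᵀ * coBlock k := by
          rw [← mul_assoc ((shiftBlock k)ᵀ), ← hJ.eq]; simp only [mul_assoc]
      _ = (shiftBlock k)ᵀ * coBlock k := by rw [coBlock_mul, one_mul]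
  rw [coBlock_sub_one, neg_pow, hc.mul_pow, ← Matrix.transpose_pow, shiftBlock_nilpotent, Matrix.transpose_zero,
    mul_zero, mul_zero]

theorem coBlock_sub_one_ker (y : Fin k → F) :
    (coBlock k - 1) *ᵥ y = 0 ↔ (shiftBlock k)ᵀ *ᵥ y = 0 := by
  rw [coBlock_sub_one, neg_mulVec, neg_eq_zero, ← mulVec_mulVec]
  refine ⟨fun h => ?_, fun h => by rw [h, mulVec_zero]⟩
  have := congrArg ((Cfsg.jordanBlock k F)ᵀ *ᵥ ·) h
  simpa only [mulVec_mulVec, ← mul_assoc, mul_coBlock, one_mul, mulVec_zero] using this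

/-- A unipotent symplectic matrix with one or two chains. -/
noncomputable def model : Matrix (Fin k ⊕ Fin k) (Fin k ⊕ Fin k) F :=
  Matrix.fromBlocks (Cfsg.jordanBlock k F) (Cfsg.jordanBlock k F * corner k b) 0 (coBlock k)

theorem model_mem : model (F := F) k b ∈ Matrix.symplecticGroup (Fin k) F := by
  rw [SymplecticGroup.mem_iff, model, Matrix.J, Matrix.fromBlocks_transpose, Matrix.fromBlocks_multiply,
    Matrix.fromBlocks_multiply, Matrix.transpose_mul, show (corner (F := F) k b)ᵀ = corner k b from diagonal_transpose _]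
  have h1 : Cfsg.jordanBlock k F * (coBlock k)ᵀ = 1 := by
    rw [← Matrix.transpose_transpose (Cfsg.jordanBlock k F), ← Matrix.transpose_mul, coBlock_mul, Matrix.transpose_one]
  congr 1 <;> simp [mul_assoc, h1, coBlock_mul]

theorem model_sub_one : model (F := F) k b - 1 =
    Matrix.fromBlocks (shiftBlock k) (Cfsg.jordanBlock k F * corner k b) 0 (coBlock k - 1) := by
  rw [model, ← Matrix.fromBlocks_one, sub_eq_iff_eq_add, Matrix.fromBlocks_add, add_zero, add_zero, sub_add_cancel,
    jordanBlock_eq, add_comm (shiftBlock k)]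

theorem model_pow (j : ℕ) : ∃ C, (model (F := F) k b - 1) ^ j =
    Matrix.fromBlocks (shiftBlock k ^ j) C 0 ((coBlock k - 1) ^ j) ∧ (b = false → C = 0) := by
  induction j with
  | zero => exact ⟨0, by simp [Matrix.fromBlocks_one], fun _ => rfl⟩
  | succ j ih =>
    obtain ⟨C, hC, hC0⟩ := ih
    refine ⟨shiftBlock k ^ j * (Cfsg.jordanBlock k F * corner k b) + C * (coBlock k - 1), ?_, fun hb => ?_⟩
    · rw [pow_succ, hC, model_sub_one, Matrix.fromBlocks_multiply]
      simp [pow_succ]
    · rw [hC0 hb, show corner (F := F) k b = 0 by simp [corner, hb]]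
      simp

theorem model_nilpotent : IsNilpotent (model (F := F) k b - 1) := by
  obtain ⟨C, hC, -⟩ := model_pow (F := F) k b k
  refine ⟨k + k, ?_⟩
  rw [pow_add, hC, shiftBlock_nilpotent, coBlock_nilpotent, Matrix.fromBlocks_multiply]
  simp

theorem card_line {ι : Type*} [DecidableEq ι] (i : ι) {p : (ι → F) → Prop}
    (h : ∀ v, p v ↔ ∃ c : F, v = Pi.single i c) : Nat.card {v : ι → F // p v} = Nat.card F := by
  refine (Nat.card_congr (Equiv.ofBijective (fun c : F => (⟨Pi.single i c, (h _).2 ⟨c, rfl⟩⟩ : {v : ι → F // p v}))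
    ⟨fun a b e => by simpa using congrFun (congrArg Subtype.val e) i, ?_⟩)).symm
  rintro ⟨v, hv⟩
  obtain ⟨c, rfl⟩ := (h v).1 hv
  exact ⟨c, rfl⟩

theorem kc_model_single [Finite F] {k : ℕ} (hk : 1 ≤ k) (j : ℕ) :
    kc ((model (F := F) k true - 1) ^ j) = Nat.card F ^ min j (k + k) := by
  rw [kc_single (model_nilpotent k true) ?_ j, Fintype.card_sum, Fintype.card_fin]
  refine card_line (Sum.inl ⟨k - 1, by omega⟩) fun v => ?_
  rw [model_sub_one, Matrix.fromBlocks_mulVec, Matrix.zero_mulVec, zero_add]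
  constructor
  · intro h
    have h2 : (coBlock (F := F) k - 1) *ᵥ (v ∘ Sum.inr) = 0 := funext fun x => congrFun h (Sum.inr x)
    obtain ⟨c, hc⟩ := (shiftBlock_transpose_ker hk _).1 ((coBlock_sub_one_ker k _).1 h2)
    have h1 : ∀ x, (shiftBlock k *ᵥ (v ∘ Sum.inl)) x +
        ((Cfsg.jordanBlock k F * corner k true) *ᵥ (v ∘ Sum.inr)) x = 0 := fun x => congrFun h (Sum.inl x)
    have h0 := h1 ⟨0, hk⟩
    rw [shiftBlock_mulVec, dif_neg (show ¬ 1 ≤ (0 : ℕ) by omega), zero_add, hc, ← mulVec_mulVec, jordanBlock_eq,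
      Matrix.add_mulVec, one_mulVec, Pi.add_apply, shiftBlock_mulVec, dif_neg (show ¬ 1 ≤ (0 : ℕ) by omega),
      add_zero, corner, mulVec_diagonal, if_pos ⟨rfl, rfl⟩, one_mul, Pi.single_eq_same] at h0
    rw [h0, Pi.single_zero] at hc
    obtain ⟨d, hd⟩ := (shiftBlock_ker hk _).1 (funext fun x => by
      have := h1 x
      rwa [hc, Matrix.mulVec_zero, Pi.zero_apply, add_zero] at this)
    refine ⟨d, funext fun x => ?_⟩
    rcases x with x | x
    · rw [show v (Sum.inl x) = (v ∘ Sum.inl) x from rfl, hd]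
      simp only [Pi.single_apply, Sum.inl.injEq]
    · rw [show v (Sum.inr x) = (v ∘ Sum.inr) x from rfl, hc, Pi.single_eq_of_ne Sum.inr_ne_inl, Pi.zero_apply]
  · rintro ⟨c, rfl⟩
    have e1 : (Pi.single (Sum.inl ⟨k - 1, by omega⟩) c : Fin k ⊕ Fin k → F) ∘ Sum.inr = 0 := by
      funext x; simp
    have e2 : (Pi.single (Sum.inl ⟨k - 1, by omega⟩) c : Fin k ⊕ Fin k → F) ∘ Sum.inl = Pi.single ⟨k - 1, by omega⟩ c := by
      funext x; simp [Pi.single_apply]
    rw [e1, e2, (shiftBlock_ker hk _).2 ⟨c, rfl⟩, Matrix.mulVec_zero, Matrix.mulVec_zero, add_zero]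
    funext x
    cases x <;> rfl

theorem kc_model_pair [Finite F] {k : ℕ} (hk : 1 ≤ k) (j : ℕ) :
    kc ((model (F := F) k false - 1) ^ j) = Nat.card F ^ (2 * min j k) := by
  obtain ⟨C, hC, hC0⟩ := model_pow (F := F) k false j
  rw [hC, hC0 rfl, kc_fromBlocks_diag, kc_single ⟨k, shiftBlock_nilpotent k⟩ (card_line _ (shiftBlock_ker hk)) j,
    kc_single ⟨k, coBlock_nilpotent k⟩ (card_line _ fun v =>
      (coBlock_sub_one_ker k v).trans (shiftBlock_transpose_ker hk v)) j, Fintype.card_fin, ← pow_add, two_mul]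

end Model

section Glue

variable {I : Type*} [Fintype I] [DecidableEq I] (k : I → ℕ)

/-- Regrouping the coordinates of an orthogonal sum. -/
def regroup {m : ℕ} (f : (Σ i, Fin (k i)) ≃ Fin m) : (Σ i, Fin (k i) ⊕ Fin (k i)) ≃ Fin m ⊕ Fin m :=
  (Equiv.sigmaSumDistrib _ _).trans (f.sumCongr f)

theorem glue_mem {m : ℕ} (f : (Σ i, Fin (k i)) ≃ Fin m) (U : ∀ i, Matrix (Fin (k i) ⊕ Fin (k i)) (Fin (k i) ⊕ Fin (k i)) F)
    (hU : ∀ i, U i ∈ Matrix.symplecticGroup (Fin (k i)) F) :
    Matrix.reindex (regroup k f) (regroup k f) (Matrix.blockDiagonal' U) ∈ Matrix.symplecticGroup (Fin m) F := by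
  have hJ : Matrix.reindex (regroup k f) (regroup k f) (Matrix.blockDiagonal' fun i => Matrix.J (Fin (k i)) F) =
      Matrix.J (Fin m) F := by
    ext x y
    obtain ⟨⟨i, a⟩, rfl⟩ := (regroup k f).surjective x
    obtain ⟨⟨l, c⟩, rfl⟩ := (regroup k f).surjective y
    rw [Matrix.reindex_apply, Matrix.submatrix_apply, Equiv.symm_apply_apply, Equiv.symm_apply_apply]
    by_cases hil : i = l
    · subst hil
      rw [Matrix.blockDiagonal'_apply_eq]
      rcases a with a | a <;> rcases c with c | c <;>
        simp [regroup, Matrix.J, Equiv.sigmaSumDistrib, Matrix.one_apply]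
    · rw [Matrix.blockDiagonal'_apply_ne (fun i => Matrix.J (Fin (k i)) F) a c hil]
      rcases a with a | a <;> rcases c with c | c <;>
        simp [regroup, Matrix.J, Equiv.sigmaSumDistrib, Matrix.one_apply, hil]
  rw [SymplecticGroup.mem_iff, Matrix.transpose_reindex, Matrix.blockDiagonal'_transpose, ← hJ]
  simp only [← Matrix.reindexAlgEquiv_apply F F, ← map_mul, ← Matrix.blockDiagonal'_mul]
  exact congrArg _ (congrArg Matrix.blockDiagonal' (funext fun i => (SymplecticGroup.mem_iff.1 (hU i))))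

theorem kc_glue {m : ℕ} (f : (Σ i, Fin (k i)) ≃ Fin m)
    (U : ∀ i, Matrix (Fin (k i) ⊕ Fin (k i)) (Fin (k i) ⊕ Fin (k i)) F) (j : ℕ) :
    kc ((Matrix.reindex (regroup k f) (regroup k f) (Matrix.blockDiagonal' U) - 1) ^ j) = ∏ i, kc ((U i - 1) ^ j) := by
  have h1 : Matrix.reindex (regroup k f) (regroup k f) (Matrix.blockDiagonal' U) - 1 =
      Matrix.reindex (regroup k f) (regroup k f) (Matrix.blockDiagonal' (U - 1)) := by
    rw [Matrix.blockDiagonal'_sub, Matrix.blockDiagonal'_one]
    ext x y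
    simp [Matrix.one_apply]
  rw [h1, reindex_pow, kc_reindex, ← Matrix.blockDiagonal'_pow, kc_blockDiagonal']
  rfl

end Glue

section Parity

variable {V : Type*} [AddCommGroup V] [Module F V] [FiniteDimensional F V]

/-- Even powers of a unipotent-like part of an isometry of an alternating form have even rank. -/
theorem even_rank_sq (B : LinearMap.BilinForm F V) (hA : B.IsAlt) (hB : B.Nondegenerate) (T : V ≃ₗ[F] V)
    (hT : ∀ x y, B (T x) (T y) = B x y) (i : ℕ) :
    Even (Module.finrank F (LinearMap.range (((T : Module.End F V) - 1) ^ (i + i)))) := by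
  set L : Module.End F V := (T : Module.End F V) - 1 with hL
  set L' : Module.End F V := (T.symm : Module.End F V) - 1 with hL'
  have hadj : ∀ x y, B (L x) y = B x (L' y) := fun x y => by
    simp only [hL, hL', LinearMap.sub_apply, Module.End.one_apply, LinearEquiv.coe_coe, map_sub]
    rw [← hT x (T.symm y), T.apply_symm_apply]
  have hfac : L' = -((T.symm : Module.End F V) * L) := by
    refine LinearMap.ext fun x => ?_
    simp only [hL, hL', LinearMap.neg_apply, Module.End.mul_apply, LinearMap.sub_apply, Module.End.one_apply,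
      LinearEquiv.coe_coe, map_sub, LinearEquiv.symm_apply_apply, neg_sub]
  have hpow : ∀ j x y, B ((L ^ j) x) y = B x ((L' ^ j) y) := by
    intro j
    induction j with
    | zero => intro x y; rfl
    | succ j ih =>
      intro x y
      rw [pow_succ, Module.End.mul_apply, ih, hadj, ← Module.End.mul_apply, ← pow_succ']
  have hker : ∀ j y, (L' ^ j) y = 0 ↔ (L ^ j) y = 0 := by
    intro j
    have hc : Commute (T.symm : Module.End F V) L := by
      rw [hL]
      refine Commute.sub_right ?_ (Commute.one_right _)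
      exact LinearMap.ext fun x => by simp
    intro y
    rw [hfac, neg_pow, hc.mul_pow, Module.End.mul_apply, Module.End.mul_apply]
    have hinj : Function.Injective ⇑(((-1 : Module.End F V)) ^ j * (T.symm : Module.End F V) ^ j) := by
      rw [Module.End.mul_eq_comp, LinearMap.coe_comp, Module.End.coe_pow, Module.End.coe_pow]
      exact (Function.Injective.iterate (fun a b hab => by simpa using hab) j).comp (T.symm.injective.iterate j)
    exact ⟨fun h => hinj (by rw [Module.End.mul_apply, h, map_zero]), fun h => by rw [h, map_zero, map_zero]⟩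
  set W := LinearMap.range (L ^ i) with hW
  obtain ⟨C, hC⟩ := Submodule.exists_isCompl (LinearMap.ker ((L ^ i).domRestrict W))
  have hdim : Module.finrank F C = Module.finrank F (LinearMap.range (L ^ (i + i))) := by
    have h1 := ((L ^ i).domRestrict W).finrank_range_add_finrank_ker
    have h2 := Submodule.finrank_add_eq_of_isCompl hC
    rw [LinearMap.range_domRestrict, show W.map (L ^ i) = LinearMap.range (L ^ (i + i)) by
      rw [hW, ← LinearMap.range_comp, ← Module.End.mul_eq_comp, ← pow_add]] at h1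
    omega
  let B' : LinearMap.BilinForm F C := B.compl₁₂ (W.subtype.comp C.subtype) (W.subtype.comp C.subtype)
  have hB'A : B'.IsAlt := fun x => hA _
  have hsep : ∀ c : C, (∀ d : C, B' c d = 0) → c = 0 := by
    intro c hc
    have hall : ∀ w : W, B ((c : W) : V) (w : V) = 0 := by
      intro w
      obtain ⟨r, hr, d, hd, rfl⟩ := Submodule.mem_sup.1 (hC.sup_eq_top ▸ Submodule.mem_top :
        w ∈ LinearMap.ker ((L ^ i).domRestrict W) ⊔ C)
      rw [Submodule.coe_add, map_add, show B ((c : W) : V) (d : V) = 0 from hc ⟨d, hd⟩, add_zero]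
      obtain ⟨x, hx⟩ := LinearMap.mem_range.1 (c : W).2
      rw [← hx, hpow]
      have : (L' ^ i) (r : V) = 0 := (hker i _).2 hr
      rw [this, map_zero]
    have hk : (c : W) ∈ LinearMap.ker ((L ^ i).domRestrict W) := by
      show (L ^ i) ((c : W) : V) = 0
      rw [← hker]
      refine hB.1 _ fun x => ?_
      rw [← LinearMap.IsAlt.neg hA, ← hpow, ← LinearMap.IsAlt.neg hA, neg_neg]
      exact hall ⟨_, LinearMap.mem_range_self _ x⟩
    exact Subtype.ext (Submodule.disjoint_def.1 hC.disjoint _ hk c.2)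
  have hB' : B'.Nondegenerate := ⟨hsep, fun c hc => hsep c fun d => by
    rw [← LinearMap.IsAlt.neg hB'A, hc d, neg_zero]⟩
  rw [← hdim]
  exact even_finrank_of_symplectic hB'A hB'

end Parity

theorem count_odd {t : ℕ} (d : Fin t → ℕ) (heven : ∀ i, Even (∑ x, min (i + i) (d x))) {j : ℕ} (hj : Odd j) :
    Even (Finset.univ.filter (fun x : Fin t => d x = j)).card := by
  obtain ⟨i, rfl⟩ := hj
  have h1 := heven i
  have h2 := heven (i + 1)
  have key : ∑ x, min (i + i) (d x) + ∑ x, min (i + 1 + (i + 1)) (d x) +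
      (Finset.univ.filter (fun x : Fin t => d x = 2 * i + 1)).card = 2 * ∑ x, min (2 * i + 1) (d x) := by
    rw [Finset.card_filter, ← Finset.sum_add_distrib, ← Finset.sum_add_distrib, Finset.mul_sum]
    refine Finset.sum_congr rfl fun x _ => ?_
    split_ifs <;> omega
  rw [Nat.even_iff] at h1 h2 ⊢
  omega

theorem kc_jordanType [Finite F] {t : ℕ} (d : Fin t → ℕ) (j : ℕ) :
    kc ((Cfsg.jordanTypeMatrix d F - 1) ^ j) = Nat.card F ^ ∑ x, min j (d x) := by
  rw [show Cfsg.jordanTypeMatrix d F - 1 = UnipClasses.J d from ?_]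
  · exact UnipClasses.card_ker d j
  ext x y
  obtain ⟨a, x⟩ := x
  obtain ⟨b, y⟩ := y
  by_cases h : a = b
  · subst h
    simp [Cfsg.jordanTypeMatrix, jordanBlock_eq, UnipClasses.J, shiftBlock, Matrix.one_apply, Sigma.ext_iff]
  · simp [Cfsg.jordanTypeMatrix, UnipClasses.J, Matrix.one_apply, Sigma.ext_iff, h,
      Matrix.blockDiagonal'_apply_ne (fun k => Cfsg.jordanBlock (d k) F) x y h]

/-- Jordan types occurring in symplectic groups. -/
theorem types [Fintype F] {m t : ℕ} (d : Fin t → ℕ) (hd : ∀ k, 1 ≤ d k) (hsum : ∑ k, d k = 2 * m) :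
    (∃ e : ((k : Fin t) × Fin (d k)) ≃ (Fin m ⊕ Fin m), ∃ A : Matrix.symplecticGroup (Fin m) F,
      IsConj (Matrix.reindex e e (Cfsg.jordanTypeMatrix d F)) (A : Matrix (Fin m ⊕ Fin m) (Fin m ⊕ Fin m) F)) ↔
    ∀ j : ℕ, Odd j → Even (Finset.univ.filter (fun k : Fin t => d k = j)).card := by
  classical
  have hq : 1 < Nat.card F := Finite.one_lt_card
  constructor
  · rintro ⟨e, A, P, hP⟩ j hj
    refine count_odd d (fun i => ?_) hj
    set M := (A : Matrix (Fin m ⊕ Fin m) (Fin m ⊕ Fin m) F) with hM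
    have hs : SemiconjBy (P : Matrix (Fin m ⊕ Fin m) (Fin m ⊕ Fin m) F)
        (Matrix.reindex e e (Cfsg.jordanTypeMatrix d F - 1)) (M - 1) := by
      have : Matrix.reindex e e (Cfsg.jordanTypeMatrix d F - 1) = Matrix.reindex e e (Cfsg.jordanTypeMatrix d F) - 1 := by
        ext x y; simp [Matrix.one_apply]
      rw [this]
      exact hP.sub_right (SemiconjBy.one_right _)
    have h1 : kc ((M - 1) ^ (i + i)) = Nat.card F ^ ∑ x, min (i + i) (d x) := by
      rw [← kc_jordanType, ← kc_reindex e, ← reindex_pow]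
      exact (UnipClasses.card_ker_conj P (hs.pow_right (i + i)).eq).symm
    rw [kc_eq_pow] at h1
    rw [← Nat.pow_right_injective hq h1]
    have hdet : IsUnit M.det := SymplecticGroup.symplectic_det A.2
    let T : (Fin m ⊕ Fin m → F) ≃ₗ[F] (Fin m ⊕ Fin m → F) := Matrix.toLinearEquiv' M (M.invertibleOfIsUnitDet hdet)
    have hev := even_rank_sq (sympBilin m F) (sympBilin_isAlt m F) (sympBilin_nondegenerate m F) T (fun x y =>
      (mem_symplectic_iff_form M).1 A.2 x y) i
    have e1 : ((T : Module.End F (Fin m ⊕ Fin m → F)) - 1) ^ (i + i) = Matrix.toLin' ((M - 1) ^ (i + i)) := by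
      rw [Matrix.toLin'_pow, map_sub, Matrix.toLin'_one]; rfl
    rw [e1] at hev
    have h3 := (Matrix.toLin' ((M - 1) ^ (i + i))).finrank_range_add_finrank_ker
    rw [Module.finrank_pi, Fintype.card_sum, Fintype.card_fin] at h3
    suffices hk : Even (Module.finrank F (LinearMap.ker (Matrix.toLin' ((M - 1) ^ (i + i))))) from hk
    rw [Nat.even_iff] at hev ⊢
    omega
  · intro hpar
    let c : ℕ → ℕ := fun a => (Finset.univ.filter (fun k : Fin t => d k = a)).card
    let I := Σ a : Fin (2 * m + 1), Fin (if Odd (a : ℕ) then c a / 2 else c a)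
    let w : ℕ → ℕ := fun a => if Odd a then a else a / 2
    let k : I → ℕ := fun x => w x.1
    have hle : ∀ x, d x < 2 * m + 1 := fun x => by
      have := Finset.single_le_sum (f := d) (fun i _ => Nat.zero_le _) (Finset.mem_univ x)
      omega
    have hfib : ∀ g : ℕ → ℕ, g 0 = 0 → ∑ x, g (d x) =
        ∑ i : I, (if Odd ((i.1 : ℕ)) then 2 else 1) * g i.1 := by
      intro g _
      rw [← Finset.sum_fiberwise' (Finset.univ : Finset (Fin t)) (fun x => (⟨d x, hle x⟩ : Fin (2 * m + 1)))
        fun a => g a, Fintype.sum_sigma]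
      refine Finset.sum_congr rfl fun a _ => ?_
      show _ = ∑ _y : Fin (if Odd (a : ℕ) then c a / 2 else c a), (if Odd (a : ℕ) then 2 else 1) * g a
      simp only [Finset.sum_const, Finset.card_univ, Fintype.card_fin, smul_eq_mul]
      have hca : (Finset.univ.filter fun x : Fin t => (⟨d x, hle x⟩ : Fin (2 * m + 1)) = a).card = c a := by
        simp only [c, Fin.ext_iff]
      rw [hca]
      split_ifs with h
      · obtain ⟨r, hr⟩ := hpar a h
        rw [show c a = r + r from hr, show (r + r) / 2 = r by omega]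
        ring
      · rw [one_mul]
    have hk1 : ∀ i : I, 1 ≤ k i := by
      rintro ⟨⟨a, ha⟩, x⟩
      have hx := x.isLt
      simp only at hx
      have hpos : 0 < c a := by split_ifs at hx <;> omega
      obtain ⟨y, hy⟩ := Finset.card_pos.1 hpos
      have hya := (Finset.mem_filter.1 hy).2
      have := hd y
      simp only [k, w]
      split_ifs with h
      · omega
      · rw [Nat.not_odd_iff_even] at h; obtain ⟨r, hr⟩ := h; omega
    have hcardk : Fintype.card (Σ i, Fin (k i)) = m := by
      rw [Fintype.card_sigma]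
      simp only [Fintype.card_fin]
      have h1 := hfib (fun a => a) rfl
      rw [hsum] at h1
      have h2 : ∑ i : I, (if Odd ((i.1 : ℕ)) then 2 else 1) * (i.1 : ℕ) = 2 * ∑ i, k i := by
        rw [Finset.mul_sum]
        refine Finset.sum_congr rfl fun i _ => ?_
        simp only [k, w]
        split_ifs with h
        · rfl
        · rw [Nat.not_odd_iff_even] at h; obtain ⟨r, hr⟩ := h; omega
      omega
    let f := Fintype.equivFinOfCardEq hcardk
    let U := fun i : I => model (F := F) (k i) (decide (¬ Odd (i.1 : ℕ)))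
    have hmem := glue_mem k f U fun i => model_mem _ _
    have hcard : Fintype.card ((x : Fin t) × Fin (d x)) = Fintype.card (Fin m ⊕ Fin m) := by
      rw [Fintype.card_sigma, Fintype.card_sum]
      simp only [Fintype.card_fin]
      omega
    refine ⟨Fintype.equivOfCardEq hcard, ⟨_, hmem⟩, ?_⟩
    have hnil : IsNilpotent (Cfsg.jordanTypeMatrix d F - 1) := by
      refine ⟨2 * m, ?_⟩
      rw [show Cfsg.jordanTypeMatrix d F - 1 = Matrix.blockDiagonal' (fun x => shiftBlock (F := F) (d x)) by
        rw [sub_eq_iff_eq_add, ← Matrix.blockDiagonal'_one, ← Matrix.blockDiagonal'_add, Cfsg.jordanTypeMatrix]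
        congr 1
        funext x
        rw [jordanBlock_eq, Pi.add_apply, Pi.one_apply, add_comm]]
      rw [← Matrix.blockDiagonal'_pow, show ((fun x => shiftBlock (F := F) (d x)) ^ (2 * m)) = 0 from
        funext fun x => pow_eq_zero_of_le (by have := hle x; omega) (shiftBlock_nilpotent (F := F) (d x)),
        Matrix.blockDiagonal'_zero]
    have hsim := similar_of_kc (Fintype.equivOfCardEq hcard) hnil
      (M' := Matrix.reindex (regroup k f) (regroup k f) (Matrix.blockDiagonal' U) - 1) fun j => by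
      rw [kc_jordanType, kc_glue, hfib (fun a => min j a) (Nat.min_zero j), ← Finset.prod_pow_eq_pow_sum]
      refine Finset.prod_congr rfl fun i _ => ?_
      simp only [U]
      by_cases h : Odd (i.1 : ℕ)
      · rw [if_pos h, show decide (¬ Odd (i.1 : ℕ)) = false from decide_eq_false (not_not.2 h), kc_model_pair (hk1 i),
          show k i = i.1 from if_pos h]
      · rw [if_neg h, show decide (¬ Odd (i.1 : ℕ)) = true from decide_eq_true h, kc_model_single (hk1 i), one_mul,
          show k i = (i.1 : ℕ) / 2 from if_neg h]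
        rw [Nat.not_odd_iff_even] at h
        obtain ⟨r, hr⟩ := h
        congr 2
        omega
    rwa [add_sub_cancel, add_sub_cancel] at hsim

end Cfsg.Lib.SympJordan
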