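import Mathlib
import Cfsg.Agent.Classical.Symp.IsotropicFrames
import Cfsg.Agent.Classical.Symp.Standard

/-! Unipotent elements of the symplectic group, counted by a Moebius sum over isotropic subspaces. -/

set_option autoImplicit false
set_option linter.style.haveILetI false
set_option linter.unusedSectionVars false

namespace Cfsg.Lib.Known.SpUnip

open Cfsg.Lib.Classical Submodule

section Identity

variable {K : Type*} [Field K]

/-- The Moebius weight of all isotropic subspaces of dimension `k`. -/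
def aw (Q : K) (m k : ℕ) : K :=
  (∏ i ∈ Finset.range k, (Q ^ (2 * (m - i)) - 1)) * ((-1) ^ k * Q ^ k.choose 2) /
    ∏ i ∈ Finset.range k, (Q ^ (i + 1) - 1)

theorem aw_zero (Q : K) (m : ℕ) : aw Q m 0 = 1 := by simp [aw]

theorem aw_succ (Q : K) (m k : ℕ) :
    aw Q m (k + 1) = aw Q m k * (-(Q ^ k * (Q ^ (2 * (m - k)) - 1)) / (Q ^ (k + 1) - 1)) := by
  rw [aw, aw, Finset.prod_range_succ, Finset.prod_range_succ, Nat.choose_succ_succ, Nat.choose_one_right,
    pow_succ (-1 : K) k, pow_add Q k, div_mul_div_comm]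
  congr 1
  ring

theorem aw_last (Q : K) (m : ℕ) : aw Q m (m + 1) = 0 := by simp [aw_succ]

theorem aw_up (Q : K) (m k : ℕ) :
    aw Q (m + 1) (k + 1) = aw Q m k * (-(Q ^ k * (Q ^ (2 * (m + 1)) - 1)) / (Q ^ (k + 1) - 1)) := by
  rw [aw, aw, Finset.prod_range_succ', Nat.choose_succ_succ, Nat.choose_one_right, pow_succ (-1 : K) k,
    pow_add Q k, div_mul_div_comm, Finset.prod_range_succ (fun i => Q ^ (i + 1) - 1)]
  simp only [Nat.sub_zero, Nat.add_sub_add_right]
  congr 1
  ring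

theorem aw_pascal {Q : K} (hQ : ∀ n : ℕ, n ≠ 0 → Q ^ n ≠ 1) {m k : ℕ} (hk : k ≤ m) :
    aw Q (m + 1) (k + 1) = Q ^ (k + 1) * aw Q m (k + 1) - (Q ^ k + Q ^ (2 * m + 1)) * aw Q m k := by
  have hne : Q ^ (k + 1) - 1 ≠ 0 := sub_ne_zero.mpr (hQ _ (by omega))
  obtain ⟨j, rfl⟩ : ∃ j, m = k + j := ⟨m - k, by omega⟩
  rw [aw_up, aw_succ, Nat.add_sub_cancel_left]
  field_simp
  ring

theorem sum_aw {Q : K} (hQ : ∀ n : ℕ, n ≠ 0 → Q ^ n ≠ 1) : ∀ m : ℕ,
    ∑ k ∈ Finset.range (m + 1), aw Q m k = (-1) ^ m * Q ^ (m ^ 2)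
  | 0 => by simp [aw_zero]
  | m + 1 => by
    have ih := sum_aw hQ m
    have e1 : ∑ k ∈ Finset.range (m + 1), aw Q (m + 1) (k + 1) =
        ∑ k ∈ Finset.range (m + 1), ((Q ^ (k + 1) * aw Q m (k + 1) - Q ^ k * aw Q m k) -
          Q ^ (2 * m + 1) * aw Q m k) := by
      refine Finset.sum_congr rfl fun k hk => ?_
      rw [Finset.mem_range] at hk
      rw [aw_pascal hQ (by omega)]
      ring
    rw [Finset.sum_range_succ', e1, Finset.sum_sub_distrib, Finset.sum_range_sub (fun k => Q ^ k * aw Q m k),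
      ← Finset.mul_sum, ih, aw_last, aw_zero, aw_zero]
    ring

theorem aw_inv {q : K} (hq0 : q ≠ 0) (hq : ∀ n : ℕ, n ≠ 0 → q ^ n ≠ 1) (m : ℕ) : ∀ k ≤ m,
    aw q⁻¹ m k * q ^ (2 * m * k) = aw q m k * q ^ (k + 1).choose 2 := by
  intro k
  induction k with
  | zero => simp [aw_zero]
  | succ k ih =>
    intro hk
    obtain ⟨j, rfl⟩ : ∃ j, m = k + 1 + j := ⟨m - (k + 1), by omega⟩
    have ih' := ih (by omega)
    have hne : q ^ (k + 1) - 1 ≠ 0 := sub_ne_zero.mpr (hq _ (by omega))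
    have e : (-(q⁻¹ ^ k * (q⁻¹ ^ (2 * (j + 1)) - 1)) / (q⁻¹ ^ (k + 1) - 1)) * q ^ (2 * (k + 1 + j)) =
        (-(q ^ k * (q ^ (2 * (j + 1)) - 1)) / (q ^ (k + 1) - 1)) * q ^ (k + 1) := by
      have hne' : (1 : K) - q ^ (k + 1) ≠ 0 := sub_ne_zero.mpr (hq _ (by omega)).symm
      have h1 : q⁻¹ ^ (k + 1) - 1 = (1 - q ^ (k + 1)) / q ^ (k + 1) := by
        rw [inv_pow]; field_simp
      rw [h1, inv_pow, inv_pow]
      field_simp
      ring
    calc aw q⁻¹ (k + 1 + j) (k + 1) * q ^ (2 * (k + 1 + j) * (k + 1))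
        = (aw q⁻¹ (k + 1 + j) k * q ^ (2 * (k + 1 + j) * k)) *
            ((-(q⁻¹ ^ k * (q⁻¹ ^ (2 * (j + 1)) - 1)) / (q⁻¹ ^ (k + 1) - 1)) * q ^ (2 * (k + 1 + j))) := by
          rw [aw_succ, show k + 1 + j - k = j + 1 by omega]; ring
      _ = (aw q (k + 1 + j) k * q ^ (k + 1).choose 2) *
            ((-(q ^ k * (q ^ (2 * (j + 1)) - 1)) / (q ^ (k + 1) - 1)) * q ^ (k + 1)) := by rw [ih', e]
      _ = aw q (k + 1 + j) (k + 1) * q ^ (k + 1 + 1).choose 2 := by
          rw [aw_succ, show k + 1 + j - k = j + 1 by omega, Nat.choose_succ_succ (k + 1) 1, Nat.choose_one_right]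
          ring

theorem sum_weighted {q : K} (hq0 : q ≠ 0) (hq : ∀ n : ℕ, n ≠ 0 → q ^ n ≠ 1) (m : ℕ) :
    ∑ k ∈ Finset.range (m + 1), aw q m k * q ^ (k * (k + 1) / 2 + 2 * k * (m - k) + 2 * (m - k) ^ 2) =
      ∑ k ∈ Finset.range (m + 1), aw q m k := by
  have hi : ∀ n : ℕ, n ≠ 0 → q⁻¹ ^ n ≠ 1 := fun n hn => by rw [inv_pow, inv_ne_one]; exact hq n hn
  have e : ∀ k ∈ Finset.range (m + 1),
      aw q m k * q ^ (k * (k + 1) / 2 + 2 * k * (m - k) + 2 * (m - k) ^ 2) = q ^ (2 * m ^ 2) * aw q⁻¹ m k := by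
    intro k hk
    rw [Finset.mem_range] at hk
    refine mul_right_cancel₀ (pow_ne_zero (2 * m * k) hq0) ?_
    rw [mul_assoc (q ^ (2 * m ^ 2)), aw_inv hq0 hq m k (by omega), mul_assoc, ← pow_add, mul_left_comm, ← pow_add,
      Nat.choose_two_right]
    congr 2
    obtain ⟨j, rfl⟩ : ∃ j, m = k + j := ⟨m - k, by omega⟩
    rw [Nat.add_sub_cancel_left, Nat.add_sub_cancel, mul_comm (k + 1) k]
    ring
  rw [Finset.sum_congr rfl e, ← Finset.mul_sum, sum_aw hi, sum_aw hq, inv_pow, mul_left_comm, two_mul (m ^ 2), pow_add,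
    mul_assoc, mul_inv_cancel₀ (pow_ne_zero _ hq0), mul_one]

end Identity

universe u v

variable {F : Type u} [Field F] [Finite F] {V : Type v} [AddCommGroup V] [Module F V] [FiniteDimensional F V]
  {B : LinearMap.BilinForm F V}

/-- Totally isotropic subspaces. -/
def Iso (B : LinearMap.BilinForm F V) (W : Submodule F V) : Prop := ∀ x ∈ W, ∀ y ∈ W, B x y = 0

/-- The Moebius value of a subspace of dimension `d`. -/
def mu (q : ℚ) (d : ℕ) : ℚ := (-1) ^ d * q ^ d.choose 2

theorem iso_sup_line (hA : B.IsAlt) {X W : Submodule F V} {r : V} (hr : r ∈ X) (hrad : ∀ x ∈ X, B r x = 0)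
    (hW : Iso B W) (hWX : W ≤ X) : Iso B (W ⊔ span F {r}) ∧ W ⊔ span F {r} ≤ X := by
  refine ⟨?_, sup_le hWX ((span_singleton_le_iff_mem r X).mpr hr)⟩
  intro x hx y hy
  obtain ⟨a, ha, b, hb, rfl⟩ := mem_sup.mp hx
  obtain ⟨c, hc, d, hd, rfl⟩ := mem_sup.mp hy
  obtain ⟨s, rfl⟩ := mem_span_singleton.mp hb
  obtain ⟨t, rfl⟩ := mem_span_singleton.mp hd
  have h1 : B a r = 0 := by rw [← hA.neg_eq, hrad a (hWX ha), neg_zero]
  simp [hW a ha c hc, h1, hrad c (hWX hc), hA r]

theorem card_complements {W' : Submodule F V} {r : V} (hr : r ∈ W') (hr0 : r ≠ 0) :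
    Nat.card {W : Submodule F V // W ⊔ span F {r} = W' ∧ r ∉ W} = Nat.card F ^ (Module.finrank F W' - 1) := by
  have hev : (LinearMap.applyₗ (⟨r, hr⟩ : W') : Module.Dual F W' →ₗ[F] F) ≠ 0 := fun e => by
    have h0 : (⟨r, hr⟩ : W') ≠ 0 := fun h => hr0 (congrArg Subtype.val h)
    obtain ⟨φ, hφ⟩ := Module.Projective.exists_dual_ne_zero F h0
    exact hφ (LinearMap.congr_fun e φ)
  have hc := card_fiber_functional _ hev
  rw [Subspace.dual_finrank_eq] at hc
  rw [← hc]
  refine (Nat.card_eq_of_bijective (fun φ : {φ : Module.Dual F W' //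
      (LinearMap.applyₗ (⟨r, hr⟩ : W') : Module.Dual F W' →ₗ[F] F) φ = 1} =>
    (⟨(LinearMap.ker φ.1).map W'.subtype, ?_, ?_⟩ : {W : Submodule F V // W ⊔ span F {r} = W' ∧ r ∉ W})) ⟨?_, ?_⟩).symm
  · have hφ : φ.1 ⟨r, hr⟩ = 1 := φ.2
    refine le_antisymm (sup_le (map_subtype_le _ _) ((span_singleton_le_iff_mem r W').mpr hr)) fun x hx => ?_
    refine mem_sup.mpr ⟨W'.subtype ((⟨x, hx⟩ : W') - φ.1 ⟨x, hx⟩ • ⟨r, hr⟩), mem_map_of_mem (f := W'.subtype) ?_, φ.1 ⟨x, hx⟩ • r,
      smul_mem _ _ (mem_span_singleton_self r), ?_⟩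
    · rw [LinearMap.mem_ker, map_sub, map_smul, hφ, smul_eq_mul, mul_one, sub_self]
    · simp
  · have hφ : φ.1 ⟨r, hr⟩ = 1 := φ.2
    rintro ⟨y, hy, e⟩
    obtain rfl : y = ⟨r, hr⟩ := Subtype.ext e
    rw [SetLike.mem_coe, LinearMap.mem_ker, hφ] at hy
    exact one_ne_zero hy
  · rintro ⟨φ, hφ⟩ ⟨ψ, hψ⟩ e
    have e' : LinearMap.ker φ = LinearMap.ker ψ :=
      Submodule.map_injective_of_injective W'.subtype_injective (congrArg Subtype.val e)
    change φ ⟨r, hr⟩ = 1 at hφ
    change ψ ⟨r, hr⟩ = 1 at hψ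
    refine Subtype.ext (LinearMap.ext fun x => ?_)
    have hx : x - φ x • (⟨r, hr⟩ : W') ∈ LinearMap.ker φ := by
      rw [LinearMap.mem_ker, map_sub, map_smul, hφ, smul_eq_mul, mul_one, sub_self]
    rw [e', LinearMap.mem_ker, map_sub, map_smul, hψ, smul_eq_mul, mul_one, sub_eq_zero] at hx
    exact hx.symm
  · rintro ⟨W, hW, hrW⟩
    have hWle : W ≤ W' := hW ▸ le_sup_left
    set P := W.comap W'.subtype with hP
    have hc' : IsCompl P (span F {(⟨r, hr⟩ : W')}) := by
      refine IsCompl.of_eq ?_ ?_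
      · rw [eq_bot_iff]
        rintro x ⟨hx1, hx2⟩
        obtain ⟨s, rfl⟩ := mem_span_singleton.mp hx2
        rcases eq_or_ne s 0 with rfl | hs
        · simp
        · refine absurd ?_ hrW
          have := W.smul_mem s⁻¹ (show s • r ∈ W from hx1)
          rwa [inv_smul_smul₀ hs] at this
      · rw [eq_top_iff]
        rintro ⟨x, hx⟩ -
        rw [← hW] at hx
        obtain ⟨a, ha, b, hb, rfl⟩ := mem_sup.mp hx
        obtain ⟨s, rfl⟩ := mem_span_singleton.mp hb
        exact mem_sup.mpr ⟨⟨a, hWle ha⟩, ha, s • ⟨r, hr⟩, smul_mem _ _ (mem_span_singleton_self _), rfl⟩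
    have h0 : (⟨r, hr⟩ : W') ≠ 0 := fun h => hr0 (congrArg Subtype.val h)
    let ψ : span F {(⟨r, hr⟩ : W')} →ₗ[F] F := (LinearEquiv.toSpanNonzeroSingleton F W' _ h0).symm.toLinearMap
    refine ⟨⟨LinearMap.ofIsCompl hc' 0 ψ, ?_⟩, Subtype.ext ?_⟩
    · change LinearMap.ofIsCompl hc' 0 ψ ((⟨⟨r, hr⟩, mem_span_singleton_self _⟩ : span F {(⟨r, hr⟩ : W')}) : W') = 1
      rw [LinearMap.ofIsCompl_right_apply]
      simp only [ψ, LinearEquiv.coe_coe, LinearEquiv.symm_apply_eq]
      exact Subtype.ext (by simp)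
    · change (LinearMap.ker (LinearMap.ofIsCompl hc' 0 ψ)).map W'.subtype = W
      rw [show LinearMap.ker (LinearMap.ofIsCompl hc' 0 ψ) = P from ?_, hP, map_comap_subtype, inf_eq_right.mpr hWle]
      ext x
      obtain ⟨a, b, rfl, -⟩ := existsUnique_add_of_isCompl hc' x
      rw [LinearMap.mem_ker, map_add, LinearMap.ofIsCompl_left_apply, LinearMap.ofIsCompl_right_apply,
        LinearMap.zero_apply, zero_add]
      constructor
      · intro h
        rw [show b = 0 from (LinearEquiv.toSpanNonzeroSingleton F W' _ h0).symm.injective (h.trans (map_zero _).symm)]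
        simp
      · intro h
        have hb : (b : W') ∈ P := by
          have := P.sub_mem h a.2
          rwa [add_sub_cancel_left] at this
        have : (b : W') = 0 := (disjoint_def.mp hc'.disjoint) _ hb b.2
        rw [show b = 0 from Subtype.ext this, map_zero]

attribute [local instance] _root_.Classical.propDecidable in
theorem sum_mu_zero [Fintype (Submodule F V)] (hA : B.IsAlt) {X : Submodule F V} {r : V} (hr : r ∈ X) (hr0 : r ≠ 0)
    (hrad : ∀ x ∈ X, B r x = 0) :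
    ∑ W ∈ Finset.univ.filter (fun W => Iso B W ∧ W ≤ X), mu (Nat.card F) (Module.finrank F W) = 0 := by
  rw [← Finset.sum_fiberwise_of_maps_to (g := fun W => W ⊔ span F {r})
    (t := Finset.univ.filter (fun W' => Iso B W' ∧ W' ≤ X ∧ r ∈ W')) (fun W hW => by
      have hW' : Iso B W ∧ W ≤ X := (Finset.mem_filter.mp hW).2
      obtain ⟨h1, h2⟩ := iso_sup_line hA hr hrad hW'.1 hW'.2
      exact Finset.mem_filter.mpr ⟨Finset.mem_univ _, h1, h2, mem_sup_right (mem_span_singleton_self r)⟩)]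
  refine Finset.sum_eq_zero fun W' hW' => ?_
  simp only [Finset.mem_filter, Finset.mem_univ, true_and] at hW'
  obtain ⟨hi, hle, hrW⟩ := hW'
  have hset : (Finset.univ.filter (fun W => Iso B W ∧ W ≤ X)).filter (fun W => W ⊔ span F {r} = W') =
      insert W' (Finset.univ.filter (fun W => W ⊔ span F {r} = W' ∧ r ∉ W)) := by
    ext W
    simp only [Finset.mem_filter, Finset.mem_univ, true_and, Finset.mem_insert]
    constructor
    · rintro ⟨-, e⟩
      by_cases hW : r ∈ W
      · left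
        rw [← e]
        exact (sup_eq_left.mpr ((span_singleton_le_iff_mem r W).mpr hW)).symm
      · exact Or.inr ⟨e, hW⟩
    · rintro (rfl | ⟨e, -⟩)
      · exact ⟨⟨hi, hle⟩, sup_eq_left.mpr ((span_singleton_le_iff_mem r _).mpr hrW)⟩
      · have : W ≤ W' := e ▸ le_sup_left
        exact ⟨⟨fun x hx y hy => hi x (this hx) y (this hy), this.trans hle⟩, e⟩
  rw [hset, Finset.sum_insert (by simp [hrW])]
  have hdim : ∀ W ∈ Finset.univ.filter (fun W : Submodule F V => W ⊔ span F {r} = W' ∧ r ∉ W),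
      mu (Nat.card F) (Module.finrank F W) = mu (Nat.card F) (Module.finrank F W' - 1) := by
    intro W hW
    simp only [Finset.mem_filter, Finset.mem_univ, true_and] at hW
    congr 1
    have h := Submodule.finrank_sup_add_finrank_inf_eq W (span F {r})
    rw [hW.1, finrank_span_singleton hr0, show W ⊓ span F {r} = ⊥ from
      disjoint_iff.mp ((disjoint_span_singleton' hr0).mpr hW.2), finrank_bot] at h
    omega
  have hcard : (Finset.univ.filter (fun W : Submodule F V => W ⊔ span F {r} = W' ∧ r ∉ W)).card =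
      Nat.card F ^ (Module.finrank F W' - 1) := by
    rw [← card_complements hrW hr0, Nat.card_eq_fintype_card (α := {W : Submodule F V // _}), Fintype.card_subtype]
  rw [Finset.sum_congr rfl hdim, Finset.sum_const, hcard, nsmul_eq_mul]
  obtain ⟨d, hd⟩ : ∃ d, Module.finrank F W' = d + 1 := ⟨Module.finrank F W' - 1, by
    have : 0 < Module.finrank F W' := Module.finrank_pos_iff.mpr
      ⟨⟨⟨r, hrW⟩, 0, fun h => hr0 (congrArg Subtype.val h)⟩⟩
    omega⟩
  rw [hd, Nat.add_sub_cancel, mu, mu, Nat.choose_succ_succ, Nat.choose_one_right, pow_succ (-1 : ℚ) d, pow_add]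
  push_cast
  ring

attribute [local instance] _root_.Classical.propDecidable in
theorem frames_eq [Fintype (Submodule F V)] (k : ℕ) :
    Nat.card {f : Fin k → V // IsoFrames.IsFrame B f} =
      (Finset.univ.filter (fun W : Submodule F V => Iso B W ∧ Module.finrank F W = k)).card *
        ∏ i : Fin k, (Nat.card F ^ k - Nat.card F ^ (i : ℕ)) := by
  haveI := Fintype.ofFinite F
  haveI : Finite V := Module.finite_of_finite F
  let T := {W : Submodule F V // Iso B W ∧ Module.finrank F W = k}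
  let sp : {f : Fin k → V // IsoFrames.IsFrame B f} → T := fun f =>
    ⟨span F (Set.range f.1), fun x hx y hy => IsoFrames.frame_span f.2 hx hy, by
      rw [finrank_span_eq_card f.2.1, Fintype.card_fin]⟩
  rw [Nat.card_congr (Equiv.sigmaFiberEquiv sp).symm, Nat.card_sigma]
  rw [Finset.sum_congr rfl (fun W _ => ?_), Finset.sum_const, Finset.card_univ, smul_eq_mul]
  rotate_left
  · exact ∏ i : Fin k, (Nat.card F ^ k - Nat.card F ^ (i : ℕ))
  · rw [Nat.card_eq_fintype_card (α := F)]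
    have hc := card_linearIndependent (K := F) (V := W.1) (k := k) (le_of_eq W.2.2.symm)
    rw [W.2.2] at hc
    rw [← hc]
    refine Nat.card_congr
      { toFun := fun f => ⟨fun i => ⟨f.1.1 i, (congrArg Subtype.val f.2).le (subset_span ⟨i, rfl⟩)⟩,
          LinearIndependent.of_comp W.1.subtype f.1.2.1⟩
        invFun := fun s => ⟨⟨fun i => (s.1 i : V), s.2.map' W.1.subtype W.1.ker_subtype,
          fun i j => W.2.1 _ (s.1 i).2 _ (s.1 j).2⟩, Subtype.ext ?_⟩
        left_inv := fun f => rfl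
        right_inv := fun s => rfl }
    refine eq_of_le_of_finrank_eq (span_le.mpr (by rintro _ ⟨i, rfl⟩; exact (s.1 i).2)) ?_
    change Module.finrank F (span F (Set.range fun i => (s.1 i : V))) = _
    rw [finrank_span_eq_card (show LinearIndependent F (fun i => (s.1 i : V)) from s.2.map' W.1.subtype W.1.ker_subtype), Fintype.card_fin, W.2.2]
  rw [Fintype.card_subtype]

attribute [local instance] _root_.Classical.propDecidable in
theorem count_iso (hA : B.IsAlt) (hB : B.Nondegenerate) {m : ℕ} (hd : Module.finrank F V = 2 * m)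
    [Fintype (Submodule F V)] {k : ℕ} (hk : k ≤ m) :
    ((Finset.univ.filter (fun W : Submodule F V => Iso B W ∧ Module.finrank F W = k)).card : ℚ) *
      mu (Nat.card F) k = aw (Nat.card F : ℚ) m k := by
  classical
  haveI := Fintype.ofFinite F
  have hq : 2 ≤ Nat.card F := Finite.one_lt_card
  have h := frames_eq (B := B) k
  rw [IsoFrames.card_frames hA hB hd] at h
  have hprod : (∏ i ∈ Finset.range k, ((Nat.card F : ℚ) ^ k - (Nat.card F : ℚ) ^ i)) ≠ 0 := by
    refine Finset.prod_ne_zero_iff.mpr fun i hi => sub_ne_zero.mpr (ne_of_gt ?_)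
    rw [Finset.mem_range] at hi
    exact pow_lt_pow_right₀ (by exact_mod_cast hq) hi
  have h' := congrArg (fun n : ℕ => (n : ℚ)) h
  rw [Fin.prod_univ_eq_prod_range (fun i => Nat.card F ^ k - Nat.card F ^ i) k] at h'
  simp only [Nat.cast_mul, Nat.cast_prod] at h'
  have hl : ∀ i ∈ Finset.range k, ((Nat.card F ^ (2 * m - i) - Nat.card F ^ i : ℕ) : ℚ) =
      (Nat.card F : ℚ) ^ i * ((Nat.card F : ℚ) ^ (2 * (m - i)) - 1) := by
    intro i hi
    rw [Finset.mem_range] at hi
    rw [Nat.cast_sub (Nat.pow_le_pow_right (by omega) (by omega)), Nat.cast_pow, Nat.cast_pow, mul_sub, mul_one,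
      ← pow_add, show i + 2 * (m - i) = 2 * m - i by omega]
  have hr : ∀ i ∈ Finset.range k, ((Nat.card F ^ k - Nat.card F ^ i : ℕ) : ℚ) =
      (Nat.card F : ℚ) ^ i * ((Nat.card F : ℚ) ^ (k - 1 - i + 1) - 1) := by
    intro i hi
    rw [Finset.mem_range] at hi
    rw [Nat.cast_sub (Nat.pow_le_pow_right (by omega) (by omega)), Nat.cast_pow, Nat.cast_pow, mul_sub, mul_one,
      ← pow_add, show i + (k - 1 - i + 1) = k by omega]
  rw [Finset.prod_congr rfl hl, Finset.prod_congr rfl hr, Finset.prod_mul_distrib, Finset.prod_mul_distrib,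
    Finset.prod_range_reflect (fun i => (Nat.card F : ℚ) ^ (i + 1) - 1) k, mul_left_comm] at h'
  have hne : (∏ i ∈ Finset.range k, (Nat.card F : ℚ) ^ i) ≠ 0 :=
    Finset.prod_ne_zero_iff.mpr fun i _ => pow_ne_zero _ (by positivity)
  have h'' := mul_left_cancel₀ hne h'
  have hden : (∏ i ∈ Finset.range k, ((Nat.card F : ℚ) ^ (i + 1) - 1)) ≠ 0 := by
    refine Finset.prod_ne_zero_iff.mpr fun i _ => sub_ne_zero.mpr (ne_of_gt ?_)
    exact one_lt_pow₀ (by exact_mod_cast hq) (by omega)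
  rw [aw, h'', mu, eq_div_iff hden]
  ring

theorem iso_finrank_le (hA : B.IsAlt) (hB : B.Nondegenerate) {m : ℕ} (hd : Module.finrank F V = 2 * m)
    {W : Submodule F V} (hW : Iso B W) : Module.finrank F W ≤ m := by
  have h : W ≤ B.orthogonal W := fun x hx y hy => hW y hy x hx
  have h1 := Submodule.finrank_mono h
  rw [LinearMap.BilinForm.finrank_orthogonal hB, hd] at h1
  have := Submodule.finrank_le W
  omega

/-- Elements of `p`-power order. -/
def IsU (p : ℕ) {G : Type*} [Monoid G] (g : G) : Prop := ∃ k : ℕ, g ^ p ^ k = 1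

theorem isU_iff {p : ℕ} [Fact p.Prime] {G : Type*} [Group G] [Finite G] (g : G) :
    (∃ k : ℕ, orderOf g = p ^ k) ↔ IsU p g := by
  constructor
  · rintro ⟨k, hk⟩
    exact ⟨k, by rw [← hk, pow_orderOf_eq_one]⟩
  · rintro ⟨k, hk⟩
    obtain ⟨i, -, hi⟩ := (Nat.dvd_prime_pow (Fact.out : p.Prime)).mp (orderOf_dvd_of_pow_eq_one hk)
    exact ⟨i, hi⟩

section Unip

variable (p : ℕ) [Fact p.Prime] [CharP F p]

omit [Finite F] in
theorem sub_one_pow (g : V ≃ₗ[F] V) (k : ℕ) :
    ((g : Module.End F V) - 1) ^ p ^ k = ((g ^ p ^ k : V ≃ₗ[F] V) : Module.End F V) - 1 := by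
  rcases subsingleton_or_nontrivial V with hV | hV
  · exact Subsingleton.elim _ _
  haveI : CharP (Module.End F V) p :=
    charP_of_injective_algebraMap (FaithfulSMul.algebraMap_injective F (Module.End F V)) p
  rw [sub_pow_char_pow_of_commute _ _ (Commute.one_right _), one_pow]
  congr 1
  exact (map_pow (LinearEquiv.automorphismGroup.toLinearMapMonoidHom (R := F) (M := V)) g _).symm

omit [Finite F] in
theorem isU_of_nilpotent (g : BilinIsom B) {n : ℕ}
    (h : (((g : V ≃ₗ[F] V) : Module.End F V) - 1) ^ n = 0) : IsU p g := by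
  refine ⟨n, Subtype.ext (LinearEquiv.toLinearMap_injective ?_)⟩
  have h1 := sub_one_pow p (g : V ≃ₗ[F] V) n
  have hle : n ≤ p ^ n := (Nat.lt_pow_self (Fact.out : p.Prime).one_lt).le
  rw [← Nat.add_sub_cancel' hle, pow_add, h, zero_mul] at h1
  rw [← Nat.add_sub_cancel' hle]
  rw [eq_comm, sub_eq_zero] at h1
  rw [SubgroupClass.coe_pow]
  exact h1

omit [Finite F] in
theorem exists_radical (hA : B.IsAlt) (g : BilinIsom B) (hg : IsU p g) (hg1 : g ≠ 1) :
    ∃ r : V, r ≠ 0 ∧ (g : V ≃ₗ[F] V) r = r ∧ ∀ x, (g : V ≃ₗ[F] V) x = x → B r x = 0 := by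
  obtain ⟨k, hk⟩ := hg
  set N : Module.End F V := ((g : V ≃ₗ[F] V) : Module.End F V) - 1 with hN
  have hNk : N ^ p ^ k = 0 := by
    rw [hN, sub_one_pow, ← SubgroupClass.coe_pow, hk]
    exact sub_self _
  obtain ⟨z, hz⟩ : ∃ z, N z ≠ 0 := by
    by_contra h
    push Not at h
    refine hg1 (BilinIsom.ext' fun x => ?_)
    have := h x
    rw [hN, LinearMap.sub_apply, sub_eq_zero] at this
    exact this
  have hex : ∃ n, (N ^ n) (N z) = 0 := ⟨p ^ k, by rw [hNk]; rfl⟩
  classical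
  have hn := Nat.find_spec hex
  obtain ⟨n, hn'⟩ : ∃ n, Nat.find hex = n + 1 := by
    refine ⟨Nat.find hex - 1, ?_⟩
    rcases Nat.eq_zero_or_pos (Nat.find hex) with h0 | h0
    · rw [h0] at hn; exact absurd hn hz
    · omega
  rw [hn'] at hn
  have hmin : (N ^ n) (N z) ≠ 0 := Nat.find_min hex (by omega)
  refine ⟨(N ^ n) (N z), hmin, ?_, fun x hx => ?_⟩
  · rw [pow_succ', Module.End.mul_apply] at hn
    generalize (N ^ n) (N z) = r at hn ⊢
    rw [hN, LinearMap.sub_apply, sub_eq_zero] at hn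
    exact hn
  · rw [← Module.End.mul_apply, ← pow_succ, pow_succ', Module.End.mul_apply]
    generalize (N ^ n) z = y
    rw [hN, LinearMap.sub_apply, map_sub, LinearMap.sub_apply, Module.End.one_apply, LinearEquiv.coe_coe]
    nth_rewrite 1 [← hx]
    rw [BilinIsom.map_form, sub_self]

/-- The number of unipotent isometries fixing an isotropic subspace pointwise. -/
theorem card_fixing (hA : B.IsAlt) (hB : B.Nondegenerate) {m : ℕ} (hd : Module.finrank F V = 2 * m)
    {W : Submodule F V} (hW : Iso B W) {k : ℕ} (hk : Module.finrank F W = k) :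
    ∃ X : Submodule F V, (B.restrict X).IsAlt ∧ (B.restrict X).Nondegenerate ∧
      Module.finrank F X = 2 * (m - k) ∧
      Nat.card {g : BilinIsom B // (∀ w ∈ W, (g : V ≃ₗ[F] V) w = w) ∧ IsU p g} =
        Nat.card F ^ (k * (k + 1) / 2 + 2 * k * (m - k)) * Nat.card {h : BilinIsom (B.restrict X) // IsU p h} := by
  classical
  haveI : Finite V := Module.finite_of_finite F
  set U := B.orthogonal W with hU
  have hWU : W ≤ U := fun x hx y hy => hW y hy x hx
  obtain ⟨C, hC⟩ := Submodule.exists_isCompl W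
  set X := C ⊓ U with hX
  have hXU : X ≤ U := inf_le_right
  have hinf : ∀ x, x ∈ W → x ∈ X → x = 0 := fun x h1 h2 => disjoint_def.mp hC.disjoint x h1 h2.1
  have hdec : ∀ u ∈ U, ∃ w ∈ W, ∃ x ∈ X, u = w + x := by
    intro u hu
    obtain ⟨w, c, rfl, -⟩ := existsUnique_add_of_isCompl hC u
    refine ⟨w, w.2, c, ⟨c.2, ?_⟩, rfl⟩
    have := U.sub_mem hu (hWU w.2)
    rwa [add_sub_cancel_left] at this
  have hperp : ∀ w ∈ W, ∀ u ∈ U, B w u = 0 ∧ B u w = 0 := fun w hw u hu =>
    ⟨hu w hw, by rw [← hA.neg_eq, hu w hw, neg_zero]⟩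
  have hXn : (B.restrict X).Nondegenerate := by
    refine ⟨fun x hx => ?_, fun x hx => ?_⟩ <;>
    · refine Subtype.ext (hinf _ ?_ x.2)
      rw [← LinearMap.BilinForm.orthogonal_orthogonal hB hA.isRefl W]
      intro u hu
      obtain ⟨w, hw, y, hy, rfl⟩ := hdec u hu
      have h1 := hx ⟨y, hy⟩
      simp only [LinearMap.BilinForm.restrict_apply, LinearMap.domRestrict_apply] at h1
      rw [map_add, LinearMap.add_apply, (hperp w hw _ (hXU x.2)).1, zero_add]
      first
        | exact h1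
        | (rw [← hA.neg_eq, h1, neg_zero])
  have hXd : Module.finrank F X = 2 * (m - k) := by
    have h := Submodule.finrank_sup_add_finrank_inf_eq W X
    rw [show W ⊔ X = U from le_antisymm (sup_le hWU hXU) fun u hu => by
        obtain ⟨w, hw, y, hy, rfl⟩ := hdec u hu
        exact add_mem (mem_sup_left hw) (mem_sup_right hy),
      show W ⊓ X = ⊥ from eq_bot_iff.mpr fun x hx => (Submodule.mem_bot F).mpr (hinf x hx.1 hx.2),
      finrank_bot, hk, hU, LinearMap.BilinForm.finrank_orthogonal hB, hd, hk] at h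
    have := iso_finrank_le hA hB hd hW
    omega
  refine ⟨X, fun x => hA x.1, hXn, hXd, ?_⟩
  let St : Subgroup (BilinIsom B) := pointFixer B W
  let π : V →ₗ[F] V := C.subtype ∘ₗ (C.projectionOnto W hC.symm)
  have hπC : ∀ v, π v ∈ C := fun v => (C.projectionOnto W hC.symm v).2
  have hπW : ∀ v, v - π v ∈ W := fun v => by
    obtain ⟨w, c, rfl, -⟩ := existsUnique_add_of_isCompl hC v
    have : π ((w : V) + c) = c := by
      simp [π, Submodule.projectionOnto_apply_right, Submodule.projectionOnto_apply_left]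
    rw [this, add_sub_cancel_right]
    exact w.2
  have hπeq : ∀ v, ∀ x ∈ X, v - x ∈ W → π v = x := fun v x hx h => by
    refine sub_eq_zero.mp (disjoint_def.mp hC.disjoint _ ?_ (C.sub_mem (hπC v) hx.1))
    have := W.sub_mem h (hπW v)
    rwa [sub_sub_sub_cancel_left] at this
  have hgU : ∀ (g : St) (u : V), u ∈ U → (g.1.1 : V ≃ₗ[F] V) u ∈ U := fun g u hu => orthogonal_invariant g.1 g.2 hu
  have hπU : ∀ u ∈ U, π u ∈ X := fun u hu => ⟨hπC u, by
    have := U.sub_mem hu (hWU (hπW u))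
    rwa [sub_sub_cancel] at this⟩
  have hform : ∀ (g : St) (x y : V), x ∈ U → y ∈ U →
      B (π ((g.1.1 : V ≃ₗ[F] V) x)) (π ((g.1.1 : V ≃ₗ[F] V) y)) = B x y := by
    intro g x y hx hy
    rw [show B x y = B ((g.1.1 : V ≃ₗ[F] V) x) ((g.1.1 : V ≃ₗ[F] V) y) from (BilinIsom.map_form g.1 x y).symm]
    have key : ∀ a ∈ U, ∀ b ∈ U, B (π a) (π b) = B a b := by
      intro a ha b hb
      have e1 := hperp _ (hπW a) _ (hXU (hπU b hb))
      have e2 := hperp _ (hπW b) _ (hXU (hπU a ha))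
      have e3 := hperp _ (hπW a) _ (hWU (hπW b))
      conv_rhs => rw [← add_sub_cancel (π a) a, ← add_sub_cancel (π b) b, map_add, map_add, LinearMap.add_apply,
        LinearMap.add_apply, e1.1, e2.2, e3.1]
      ring
    exact key _ (hgU g x hx) _ (hgU g y hy)
  let L : St → (X →ₗ[F] X) := fun g =>
    ((π ∘ₗ (g.1.1 : V ≃ₗ[F] V).toLinearMap) ∘ₗ X.subtype).codRestrict X fun x => hπU _ (hgU g _ (hXU x.2))
  have hLinj : ∀ g, Function.Injective (L g) := by
    intro g
    rw [injective_iff_map_eq_zero]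
    intro x hx
    refine hXn.1 x fun y => ?_
    have h := hform g x y (hXU x.2) (hXU y.2)
    have hx' : π ((g.1.1 : V ≃ₗ[F] V) x) = 0 := congrArg Subtype.val hx
    rw [hx', map_zero, LinearMap.zero_apply] at h
    exact h.symm
  let Φ : St →* BilinIsom (B.restrict X) := MonoidHom.mk'
    (fun g => ⟨LinearEquiv.ofBijective (L g) ⟨hLinj g, LinearMap.surjective_of_injective (hLinj g)⟩,
      fun x y => hform g x y (hXU x.2) (hXU y.2)⟩)
    (fun g h => BilinIsom.ext' fun x => Subtype.ext (by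
      change π ((g.1.1 : V ≃ₗ[F] V) ((h.1.1 : V ≃ₗ[F] V) x)) = π ((g.1.1 : V ≃ₗ[F] V) (π ((h.1.1 : V ≃ₗ[F] V) x)))
      refine sub_eq_zero.mp ?_
      rw [← map_sub, ← map_sub, g.2 _ (hπW _)]
      exact hπeq _ 0 X.zero_mem (by rw [sub_zero]; exact hπW _)))
  have hsurj : Function.Surjective Φ := by
    intro h
    let πX : U →ₗ[F] X := (π ∘ₗ U.subtype).codRestrict X fun u => hπU u u.2
    let φ : U →ₗ[F] V := X.subtype ∘ₗ (h.1 : X ≃ₗ[F] X).toLinearMap ∘ₗ πX + (LinearMap.id - π) ∘ₗ U.subtype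
    have hφ : ∀ u : U, φ u = ((h.1 : X ≃ₗ[F] X) (πX u) : V) + ((u : V) - π u) := fun u => rfl
    obtain ⟨g, hg⟩ := exists_sympIsom_extend hA hB φ (by
      rw [injective_iff_map_eq_zero]
      intro u hu
      rw [hφ] at hu
      have hz : ((h.1 : X ≃ₗ[F] X) (πX u) : V) = 0 := by
        refine hinf _ ?_ (Submodule.coe_mem _)
        rw [eq_neg_of_add_eq_zero_left hu]
        exact W.neg_mem (hπW _)
      have h0 : πX u = 0 := (h.1 : X ≃ₗ[F] X).injective (by rw [map_zero]; exact Subtype.ext hz)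
      rw [hz, zero_add, show π u = 0 from congrArg Subtype.val h0, sub_zero] at hu
      exact Subtype.ext hu) (by
      intro a b
      rw [hφ, hφ]
      have ha := (hperp _ (hπW a) _ (hXU ((h.1 : X ≃ₗ[F] X) (πX b)).2)).1
      have hb := (hperp _ (hπW b) _ (hXU ((h.1 : X ≃ₗ[F] X) (πX a)).2)).2
      have hab := (hperp _ (hπW a) _ (hWU (hπW b))).1
      have hh : B ((h.1 : X ≃ₗ[F] X) (πX a) : V) ((h.1 : X ≃ₗ[F] X) (πX b) : V) = B (π a) (π b) :=
        h.2 (πX a) (πX b)
      have e1 := (hperp _ (hπW a) _ (hXU (hπU _ b.2))).1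
      have e2 := (hperp _ (hπW b) _ (hXU (hπU _ a.2))).2
      rw [map_add, map_add, LinearMap.add_apply, LinearMap.add_apply, ha, hb, hab, hh]
      conv_rhs => rw [← add_sub_cancel (π a) (a : V), ← add_sub_cancel (π b) (b : V), map_add, map_add,
        LinearMap.add_apply, LinearMap.add_apply, e1, e2, hab])
    have hgW : g ∈ St := fun w hw => by
      have h0 : πX ⟨w, hWU hw⟩ = 0 := Subtype.ext (hπeq w 0 X.zero_mem (by rwa [sub_zero]))
      rw [show (g : V ≃ₗ[F] V) w = φ ⟨w, hWU hw⟩ from hg ⟨w, hWU hw⟩, hφ, h0, map_zero,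
        hπeq w 0 X.zero_mem (by rwa [sub_zero])]
      simp
    refine ⟨⟨g, hgW⟩, BilinIsom.ext' fun x => Subtype.ext ?_⟩
    change π ((g : V ≃ₗ[F] V) x) = _
    have h0 : πX ⟨x, hXU x.2⟩ = x := Subtype.ext (hπeq _ x x.2 (by rw [Submodule.subtype_apply, sub_self]; exact W.zero_mem))
    rw [show (g : V ≃ₗ[F] V) (x : V) = φ ⟨x, hXU x.2⟩ from hg ⟨x, hXU x.2⟩, hφ, h0,
      hπeq (x : V) x x.2 (by rw [sub_self]; exact W.zero_mem), sub_self, add_zero]
    exact hπeq _ _ (Submodule.coe_mem _) (by rw [sub_self]; exact W.zero_mem)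
  have hker : ∀ g : St, Φ g = 1 → IsU p g := by
    intro g hg
    have hN1 : ∀ u ∈ U, (g.1.1 : V ≃ₗ[F] V) u - u ∈ W := by
      intro u hu
      obtain ⟨w, hw, x, hx, rfl⟩ := hdec u hu
      have : π ((g.1.1 : V ≃ₗ[F] V) x) = x :=
        congrArg (fun f : BilinIsom (B.restrict X) => (((f.1 : X ≃ₗ[F] X) ⟨x, hx⟩ : X) : V)) hg
      rw [map_add, g.2 w hw, add_sub_add_left_eq_sub]
      have h' := hπW ((g.1.1 : V ≃ₗ[F] V) x)
      rwa [this] at h'
    have hN2 : ∀ v, (g.1.1 : V ≃ₗ[F] V) v - v ∈ U := by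
      intro v w hw
      change B w ((g.1.1 : V ≃ₗ[F] V) v - v) = 0
      rw [map_sub, sub_eq_zero]
      nth_rewrite 1 [← g.2 w hw]
      exact BilinIsom.map_form g.1 w v
    obtain ⟨a, ha⟩ := isU_of_nilpotent p g.1 (n := 3) (LinearMap.ext fun v => by
      change ((g.1.1 : V ≃ₗ[F] V) ((g.1.1 : V ≃ₗ[F] V) ((g.1.1 : V ≃ₗ[F] V) v - v) - ((g.1.1 : V ≃ₗ[F] V) v - v)) -
        ((g.1.1 : V ≃ₗ[F] V) ((g.1.1 : V ≃ₗ[F] V) v - v) - ((g.1.1 : V ≃ₗ[F] V) v - v))) = 0
      rw [g.2 _ (hN1 _ (hN2 v)), sub_self])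
    exact ⟨a, Subtype.ext (by rw [SubmonoidClass.coe_pow, ha]; rfl)⟩
  have hiff : ∀ g : St, IsU p g ↔ IsU p (Φ g) := by
    intro g
    constructor
    · rintro ⟨a, ha⟩; exact ⟨a, by rw [← map_pow, ha, map_one]⟩
    · rintro ⟨a, ha⟩
      obtain ⟨b, hb⟩ := hker (g ^ p ^ a) (by rw [map_pow, ha])
      exact ⟨a + b, by rw [pow_add, pow_mul, hb]⟩
  have hcount : Nat.card {g : BilinIsom B // (∀ w ∈ W, (g : V ≃ₗ[F] V) w = w) ∧ IsU p g} =
      Nat.card ({h : BilinIsom (B.restrict X) // IsU p h} × Φ.ker) := by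
    choose s hs using hsurj
    refine (Nat.card_eq_of_bijective (fun x : {h : BilinIsom (B.restrict X) // IsU p h} × Φ.ker =>
      (⟨(s x.1.1 * x.2.1).1, (s x.1.1 * x.2.1).2, by
        obtain ⟨a, ha⟩ := (hiff _).mpr (show IsU p (Φ (s x.1.1 * x.2.1)) by
          rw [map_mul, hs, MonoidHom.mem_ker.mp x.2.2, mul_one]; exact x.1.2)
        exact ⟨a, congrArg Subtype.val ha⟩⟩ :
        {g : BilinIsom B // (∀ w ∈ W, (g : V ≃ₗ[F] V) w = w) ∧ IsU p g})) ⟨?_, ?_⟩).symm
    · rintro ⟨h, z⟩ ⟨h', z'⟩ e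
      have e' : s h.1 * z.1 = s h'.1 * z'.1 :=
        Subtype.ext (congrArg (fun y : {g : BilinIsom B // (∀ w ∈ W, (g : V ≃ₗ[F] V) w = w) ∧ IsU p g} => y.1) e)
      have e'' := congrArg Φ e'
      rw [map_mul, map_mul, hs, hs, MonoidHom.mem_ker.mp z.2, MonoidHom.mem_ker.mp z'.2, mul_one, mul_one] at e''
      obtain rfl : h = h' := Subtype.ext e''
      exact Prod.ext rfl (Subtype.ext (mul_left_cancel e'))
    · rintro ⟨g, hg, a, ha⟩
      refine ⟨⟨⟨Φ ⟨g, hg⟩, (hiff _).mp ⟨a, Subtype.ext (by rw [SubmonoidClass.coe_pow]; exact ha)⟩⟩,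
        ⟨(s (Φ ⟨g, hg⟩))⁻¹ * ⟨g, hg⟩, by rw [MonoidHom.mem_ker, map_mul, map_inv, hs, inv_mul_cancel]⟩⟩, ?_⟩
      exact Subtype.ext (congrArg (fun y : St => y.1) (mul_inv_cancel_left (s (Φ ⟨g, hg⟩)) ⟨g, hg⟩) :)
  rw [hcount, Nat.card_prod, mul_comm]
  congr 1
  -- the order of the kernel
  let bW := Module.finBasisOfFinrankEq F W hk
  let f₀ : Fin k → V := fun i => (bW i : V)
  have hf₀ : IsoFrames.IsFrame B f₀ :=
    ⟨bW.linearIndependent.map' W.subtype W.ker_subtype, fun i j => hW _ (bW i).2 _ (bW j).2⟩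
  have hfix : ∀ g : BilinIsom B, IsoFrames.act g f₀ = f₀ ↔ g ∈ St := fun g => by
    refine ⟨fun e w hw => ?_, fun e => funext fun i => e _ (bW i).2⟩
    have h2 : ((g : V ≃ₗ[F] V).toLinearMap ∘ₗ W.subtype) = W.subtype := bW.ext fun i => congrFun e i
    exact LinearMap.congr_fun h2 ⟨w, hw⟩
  have h1 := IsoFrames.card_pre hA hB hf₀ (fun _ => True)
  simp only [and_true] at h1
  rw [Nat.card_congr (Equiv.subtypeUnivEquiv fun _ => trivial), Nat.card_congr (Equiv.subtypeEquivRight hfix),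
    IsoFrames.card_frames hA hB hd] at h1
  have h2 := Φ.ker.card_mul_index
  rw [Subgroup.index_ker, MonoidHom.range_eq_top.mpr hsurj, Subgroup.card_top,
    card_bilinIsom_symplectic (m - k) (fun x => hA x.1) hXn hXd] at h2
  obtain ⟨j, rfl⟩ : ∃ j, m = j + k := ⟨m - k, by have := iso_finrank_le hA hB hd hW; omega⟩
  rw [Nat.add_sub_cancel] at h2 ⊢
  change Nat.card (BilinIsom B) = _ * Nat.card St at h1
  rw [card_bilinIsom_symplectic (j + k) hA hB hd, ← IsoFrames.prod_identity, ← h2, pow_add _ _ (j ^ 2),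
    mul_assoc (Nat.card F ^ _) (Nat.card F ^ _)] at h1
  have hq : 2 ≤ Nat.card F := Finite.one_lt_card
  have h3 := Nat.eq_of_mul_eq_mul_left (IsoFrames.prod_pos hq (Nat.le_add_left k j)) h1
  refine (Nat.eq_of_mul_eq_mul_right ?_ h3).symm
  exact Nat.mul_pos (pow_pos (by omega) _) (Finset.prod_pos fun i _ => Nat.sub_pos_of_lt (Nat.one_lt_pow (by omega) hq))

attribute [local instance] _root_.Classical.propDecidable in
theorem count_unip : ∀ (m : ℕ) {V : Type v} [AddCommGroup V] [Module F V] [FiniteDimensional F V]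
    {B : LinearMap.BilinForm F V}, B.IsAlt → B.Nondegenerate → Module.finrank F V = 2 * m →
    Nat.card {g : BilinIsom B // IsU p g} = Nat.card F ^ (2 * m ^ 2) := by
  intro m
  induction m using Nat.strong_induction_on with
  | _ m ih =>
  intro V _ _ _ B hA hB hd
  haveI : Finite V := Module.finite_of_finite F
  haveI : Finite (Submodule F V) := Finite.of_injective (fun W => (W : Set V)) SetLike.coe_injective
  haveI := Fintype.ofFinite (Submodule F V)
  haveI : Finite (V ≃ₗ[F] V) := DFunLike.finite _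
  haveI := Fintype.ofFinite {g : BilinIsom B // IsU p g}
  set q : ℚ := (Nat.card F : ℚ) with hq
  have hq2 : 2 ≤ Nat.card F := Finite.one_lt_card
  have hq0 : q ≠ 0 := by rw [hq]; positivity
  have hqn : ∀ n : ℕ, n ≠ 0 → q ^ n ≠ 1 := fun n hn => ne_of_gt (one_lt_pow₀ (by rw [hq]; exact_mod_cast hq2) hn)
  set S := Finset.univ.filter (fun W : Submodule F V => Iso B W) with hS
  let u : Submodule F V → ℕ := fun W => Nat.card {g : BilinIsom B // (∀ w ∈ W, (g : V ≃ₗ[F] V) w = w) ∧ IsU p g}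
  have key : ∑ W ∈ S, mu q (Module.finrank F W) * (u W : ℚ) = ∑ W ∈ S, mu q (Module.finrank F W) := by
    have e1 : ∀ W ∈ S, mu q (Module.finrank F W) * (u W : ℚ) =
        ∑ g : {g : BilinIsom B // IsU p g},
          if ∀ w ∈ W, (g.1 : V ≃ₗ[F] V) w = w then mu q (Module.finrank F W) else 0 := by
      intro W _
      have hu : u W = (Finset.univ.filter
          (fun g : {g : BilinIsom B // IsU p g} => ∀ w ∈ W, (g.1 : V ≃ₗ[F] V) w = w)).card := by
        rw [← Fintype.card_subtype, ← Nat.card_eq_fintype_card]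
        exact Nat.card_congr
          { toFun := fun g => ⟨⟨g.1, g.2.2⟩, g.2.1⟩
            invFun := fun g => ⟨g.1.1, g.2, g.1.2⟩
            left_inv := fun g => rfl
            right_inv := fun g => rfl }
      rw [← Finset.sum_filter, Finset.sum_const, ← hu, nsmul_eq_mul, mul_comm]
    rw [Finset.sum_congr rfl e1, Finset.sum_comm, Finset.sum_eq_single ⟨1, 0, by simp⟩]
    · exact Finset.sum_congr rfl fun W _ => if_pos fun w _ => rfl
    · rintro ⟨g, hg⟩ - hne
      obtain ⟨r, hr0, hr, hrad⟩ := exists_radical p hA g hg fun e => hne (Subtype.ext e)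
      set X := LinearMap.ker (((g : V ≃ₗ[F] V) : Module.End F V) - 1) with hX
      have hmem : ∀ x, x ∈ X ↔ (g : V ≃ₗ[F] V) x = x := fun x => by
        rw [hX, LinearMap.mem_ker, LinearMap.sub_apply, sub_eq_zero]; rfl
      rw [← Finset.sum_filter, hS, Finset.filter_filter]
      convert sum_mu_zero (B := B) hA (X := X) ((hmem r).mpr hr) hr0 (fun x hx => hrad x ((hmem x).mp hx)) using 2
      refine Finset.filter_congr fun W _ => and_congr_right fun _ => ?_
      exact ⟨fun h x hx => (hmem x).mpr (h x hx), fun h x hx => (hmem x).mp (h hx)⟩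
    · simp
  have grp : ∀ f : ℕ → ℚ, ∑ W ∈ S, mu q (Module.finrank F W) * f (Module.finrank F W) =
      ∑ k ∈ Finset.range (m + 1), aw q m k * f k := by
    intro f
    rw [← Finset.sum_fiberwise_of_maps_to (g := fun W : Submodule F V => Module.finrank F W)
      (t := Finset.range (m + 1)) (fun W hW => by
        have hW' : Iso B W := (Finset.mem_filter.mp hW).2
        simpa [Finset.mem_range, Nat.lt_succ_iff] using iso_finrank_le hA hB hd hW')]
    refine Finset.sum_congr rfl fun k hk => ?_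
    rw [hq, ← count_iso hA hB hd (Nat.lt_succ_iff.mp (Finset.mem_range.mp hk)), hS, Finset.filter_filter,
      Finset.sum_congr rfl (g := fun _ => mu (Nat.card F : ℚ) k * f k) (fun W hW => by
        rw [(Finset.mem_filter.mp hW).2.2]), Finset.sum_const, nsmul_eq_mul, mul_assoc]
  set e : ℕ → ℕ := fun k => k * (k + 1) / 2 + 2 * k * (m - k) + 2 * (m - k) ^ 2 with he
  set u₀ := Nat.card {g : BilinIsom B // IsU p g} with hu₀
  have hu : ∀ W ∈ S, (u W : ℚ) = (fun k => if k = 0 then (u₀ : ℚ) else q ^ e k) (Module.finrank F W) := by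
    intro W hW
    by_cases h0 : Module.finrank F W = 0
    · simp only [h0, if_pos]
      norm_cast
      obtain rfl := Submodule.finrank_eq_zero.mp h0
      refine Nat.card_congr (Equiv.subtypeEquivRight fun g => ⟨fun h => h.2, fun h => ⟨fun w hw => ?_, h⟩⟩)
      rw [(Submodule.mem_bot F).mp hw, map_zero]
    · have hiso : Iso B W := (Finset.mem_filter.mp hW).2
      have hle := iso_finrank_le hA hB hd hiso
      obtain ⟨X, hXa, hXn, hXd, hX⟩ := card_fixing p hA hB hd hiso rfl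
      simp only [if_neg h0, u, hX, ih (m - Module.finrank F W) (by omega) hXa hXn hXd, he]
      rw [hq]
      push_cast
      rw [← pow_add]
  rw [Finset.sum_congr rfl (fun W hW => by rw [hu W hW]), grp (fun k => if k = 0 then (u₀ : ℚ) else q ^ e k)] at key
  have hS1 := grp (fun _ => 1)
  simp only [mul_one] at hS1
  rw [hS1, ← sum_weighted hq0 hqn m, Finset.sum_range_succ' _ m, Finset.sum_range_succ' _ m, aw_zero] at key
  simp only [Nat.add_eq_zero, one_ne_zero, and_false, if_false, if_true, he, add_right_inj, one_mul] at key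
  have := key
  norm_num at this
  rw [hq] at this
  exact_mod_cast this

end Unip

theorem main {F : Type*} [Field F] [Fintype F] (p : ℕ) [Fact p.Prime] [CharP F p] (m : ℕ) :
    Nat.card {g : ↥(Matrix.symplecticGroup (Fin m) F) // ∃ k : ℕ, orderOf g = p ^ k} =
      Fintype.card F ^ (2 * m ^ 2) := by
  rw [← Nat.card_eq_fintype_card, ← count_unip p m (sympBilin_isAlt m F) (sympBilin_nondegenerate m F)
    (finrank_sympSpace m F)]
  refine Nat.card_congr ((sympEquiv m F).toEquiv.subtypeEquiv fun g => ?_)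
  rw [isU_iff]
  constructor
  · rintro ⟨k, hk⟩; exact ⟨k, by change sympEquiv m F g ^ p ^ k = 1; rw [← map_pow, hk, map_one]⟩
  · rintro ⟨k, hk⟩; exact ⟨k, (sympEquiv m F).injective (by rw [map_pow, map_one]; exact hk)⟩

end Cfsg.Lib.Known.SpUnip
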