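import Cfsg.Agent.Suz.Lie
import Cfsg.Agent.Suz.Small

/-! The least degree of a faithful complex representation of a Suzuki group. -/

set_option autoImplicit false
set_option linter.unusedSectionVars false

namespace Cfsg.Lib.Suz

open Finset

variable {F : Type*} [Field F] [Fintype F] {m : ℕ} (Q : Par F m)

/-- The absolute trace, valued in the field. -/
def tF (m : ℕ) (x : F) : F := ∑ i ∈ Finset.range (2 * m + 1), x ^ (2 ^ i)

include Q

theorem tF_add (x y : F) : tF m (x + y) = tF m x + tF m y := by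
  have := charP Q
  have : Fact (Nat.Prime 2) := ⟨Nat.prime_two⟩
  simp only [tF, ← Finset.sum_add_distrib]
  exact Finset.sum_congr rfl fun i _ => add_pow_char_pow x y 2 i

theorem tF_zero : tF m (0 : F) = 0 :=
  Finset.sum_eq_zero fun i _ => zero_pow (pow_ne_zero _ two_ne_zero)

theorem tF_one : tF m (1 : F) = 1 := by
  have := charP Q
  simp [tF, CharTwo.two_eq_zero]

theorem tF_sq (x : F) : tF m (x ^ 2) = tF m x := by
  have h : ∀ i, (x ^ 2) ^ (2 ^ i) = x ^ (2 ^ (i + 1)) := fun i => by rw [← pow_mul, ← pow_succ']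
  simp only [tF, h]
  have h1 := Finset.sum_range_succ (fun i => x ^ (2 ^ i)) (2 * m + 1)
  rw [Finset.sum_range_succ' (fun i => x ^ (2 ^ i)), pow_q Q, pow_zero, pow_one] at h1
  exact add_right_cancel h1

theorem tF_pow_two (x : F) (j : ℕ) : tF m (x ^ (2 ^ j)) = tF m x := by
  induction j with
  | zero => simp
  | succ j ih => rw [pow_succ, pow_mul, tF_sq Q, ih]

theorem tF_cases (x : F) : tF m x = 0 ∨ tF m x = 1 := by
  have := charP Q
  have : Fact (Nat.Prime 2) := ⟨Nat.prime_two⟩
  have h : tF m x ^ 2 = tF m x := by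
    conv_rhs => rw [← tF_sq Q]
    simp only [tF, sum_pow_char 2]
    exact Finset.sum_congr rfl fun i _ => by rw [← pow_mul, ← pow_mul, mul_comm]
  rcases eq_or_ne (tF m x) 0 with h0 | h0
  · exact .inl h0
  · exact .inr (mul_left_cancel₀ h0 (by rw [mul_one, ← sq, h]))

open scoped Classical in
/-- The basic additive character. -/
noncomputable def sgnF (_ : Par F m) (x : F) : ℂ := if tF m x = 0 then 1 else -1

theorem sgnF_zero : sgnF Q (0 : F) = 1 := by rw [sgnF, if_pos (tF_zero Q)]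

theorem sgnF_one : sgnF Q (1 : F) = -1 := by
  rw [sgnF, tF_one Q, if_neg one_ne_zero]

theorem sgnF_add (x y : F) : sgnF Q (x + y) = sgnF Q x * sgnF Q y := by
  unfold sgnF
  have h := tF_add Q x y
  rcases tF_cases Q x with hx | hx <;> rcases tF_cases Q y with hy | hy <;> simp [h, hx, hy, add_self Q]

theorem sgnF_sq (x : F) : sgnF Q x * sgnF Q x = 1 := by rw [← sgnF_add, add_self Q, sgnF_zero]

theorem sum_sgnF_mul [DecidableEq F] (b : F) :
    ∑ w : F, sgnF Q (w * b) = if b = 0 then (Fintype.card F : ℂ) else 0 := by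
  split_ifs with hb
  · subst hb; simp [sgnF_zero]
  · have h := Equiv.sum_comp (Equiv.addRight b⁻¹) fun w => sgnF Q (w * b)
    simp only [Equiv.coe_addRight, add_mul, inv_mul_cancel₀ hb, sgnF_add, sgnF_one, mul_neg, mul_one,
      Finset.sum_neg_distrib] at h
    linear_combination (-1 / 2 : ℂ) * h

variable {V : Type*} [AddCommGroup V] [Module ℂ V] [FiniteDimensional ℂ V]
  (φ : Cfsg.Sz F m →* Module.End ℂ V)

omit [FiniteDimensional ℂ V] in
theorem zmul (b b' : F) : φ (uu Q 0 b) * φ (uu Q 0 b') = φ (uu Q 0 (b + b')) := by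
  rw [← map_mul, uu_mul, add_zero, mul_zero, add_zero]

/-- The eigenprojection of the centre of the Sylow subgroup. -/
noncomputable def proj (w : F) : Module.End ℂ V :=
  (Fintype.card F : ℂ)⁻¹ • ∑ b : F, sgnF Q (w * b) • φ (uu Q 0 b)

omit [FiniteDimensional ℂ V] in
theorem z_proj (w x : F) : φ (uu Q 0 x) * proj Q φ w = sgnF Q (w * x) • proj Q φ w := by
  rw [proj, mul_smul_comm, smul_comm, Finset.mul_sum]
  congr 1
  rw [Finset.smul_sum]
  refine Fintype.sum_equiv (Equiv.addLeft x) _ _ fun b => ?_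
  rw [mul_smul_comm, zmul, Equiv.coe_addLeft, smul_smul, mul_add, sgnF_add, ← mul_assoc, sgnF_sq, one_mul]

omit [FiniteDimensional ℂ V] in
theorem proj_idem (w : F) : proj Q φ w * proj Q φ w = proj Q φ w := by
  nth_rw 1 [proj]
  simp only [smul_mul_assoc, Finset.sum_mul, z_proj, smul_smul, sgnF_sq, one_smul, Finset.sum_const,
    Finset.card_univ, ← Nat.cast_smul_eq_nsmul ℂ]
  rw [inv_mul_cancel₀ (Nat.cast_ne_zero.2 Fintype.card_ne_zero), one_smul]

omit [FiniteDimensional ℂ V] in
theorem sum_proj : ∑ w : F, proj Q φ w = 1 := by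
  classical
  simp only [proj, ← Finset.smul_sum]
  rw [Finset.sum_comm]
  simp only [← Finset.sum_smul, sum_sgnF_mul, ite_smul, zero_smul, Finset.sum_ite_eq', Finset.mem_univ, if_true,
    smul_smul]
  rw [inv_mul_cancel₀ (Nat.cast_ne_zero.2 Fintype.card_ne_zero), one_smul, uu_zero, map_one]

theorem trace_proj (w : F) : LinearMap.trace ℂ V (proj Q φ w) =
    (Module.finrank ℂ (LinearMap.range (proj Q φ w)) : ℂ) :=
  LinearMap.IsProj.trace ((LinearMap.isProj_range_iff_isIdempotentElem _).2 (proj_idem Q φ w))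

theorem trace_conj (g h : Cfsg.Sz F m) :
    LinearMap.trace ℂ V (φ (g * h * g⁻¹)) = LinearMap.trace ℂ V (φ h) := by
  rw [map_mul φ, map_mul φ, LinearMap.trace_mul_comm, ← mul_assoc, ← map_mul φ, inv_mul_cancel, map_one, one_mul]

theorem trace_proj_const {w : F} (hw : w ≠ 0) :
    LinearMap.trace ℂ V (proj Q φ w) = LinearMap.trace ℂ V (proj Q φ 1) := by
  simp only [proj, map_smul, map_sum]
  congr 1
  refine Fintype.sum_equiv (Equiv.mulLeft₀ w hw) _ _ fun b => ?_
  obtain ⟨k, hk⟩ := exists_s1_root Q (Units.mk0 w hw)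
  have hk' := congrArg Units.val hk
  rw [Units.val_pow_eq_pow_val, Units.val_mk0] at hk'
  rw [Equiv.mulLeft₀_apply, one_mul, ← hk', ← trace_conj Q φ (hI Q k) (uu Q 0 b), hI_conj_uu, mul_zero]

/-- The commutator pairing. -/
theorem pairing {a : F} (h0 : a ≠ 0) (h1 : a ≠ 1) :
    ∃ c : F, sgnF Q (c ^ (2 ^ (m + 1)) * a + a ^ (2 ^ (m + 1)) * c) = -1 := by
  have hX : a ^ (2 ^ m) + a ^ (2 ^ (m + 1)) ≠ 0 := by
    intro h
    have e : a ^ (2 ^ m) * (a ^ (2 ^ m) + 1) = 0 := by
      rw [mul_add, mul_one, ← pow_add, show 2 ^ m + 2 ^ m = 2 ^ (m + 1) by rw [pow_succ]; ring, add_comm, h]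
    rcases mul_eq_zero.1 e with e | e
    · exact h0 ((pow_eq_zero_iff (pow_ne_zero _ two_ne_zero)).1 e)
    · have := charP Q
      have : Fact (Nat.Prime 2) := ⟨Nat.prime_two⟩
      have e2 : (a + 1) ^ (2 ^ m) = 0 := by rw [add_pow_char_pow, one_pow, e]
      have e3 := (pow_eq_zero_iff (pow_ne_zero m two_ne_zero)).1 e2
      exact h1 ((eq_neg_of_add_eq_zero_left e3).trans (neg_eq Q 1))
  refine ⟨(a ^ (2 ^ m) + a ^ (2 ^ (m + 1)))⁻¹, ?_⟩
  generalize hc : (a ^ (2 ^ m) + a ^ (2 ^ (m + 1)))⁻¹ = c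
  have e : tF m (c ^ (2 ^ (m + 1)) * a + a ^ (2 ^ (m + 1)) * c) = tF m ((a ^ (2 ^ m) + a ^ (2 ^ (m + 1))) * c) := by
    rw [tF_add Q, add_mul, tF_add Q, ← tF_pow_two Q (c ^ (2 ^ (m + 1)) * a) m, mul_pow, ← pow_mul, ← pow_add,
      show m + 1 + m = 2 * m + 1 by ring, pow_q Q, mul_comm c]
  rw [sgnF, e, ← hc, mul_inv_cancel₀ hX, tF_one Q, if_neg one_ne_zero]

omit [FiniteDimensional ℂ V] in
theorem uu_z_comm (a e b : F) : uu Q 0 b * uu Q a e = uu Q a e * uu Q 0 b := by
  rw [uu_mul, uu_mul]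
  congr 1
  · ring
  · rw [zero_pow (pow_ne_zero _ two_ne_zero), zero_mul, mul_zero]; ring

omit [FiniteDimensional ℂ V] in
theorem proj_comm (a e w : F) : φ (uu Q a e) * proj Q φ w = proj Q φ w * φ (uu Q a e) := by
  rw [proj, mul_smul_comm, smul_mul_assoc, Finset.mul_sum, Finset.sum_mul]
  congr 1
  refine Finset.sum_congr rfl fun b _ => ?_
  rw [mul_smul_comm, smul_mul_assoc, ← map_mul, ← map_mul, uu_z_comm Q a e b]

theorem trace_offdiag {a : F} (h0 : a ≠ 0) (h1 : a ≠ 1) (e : F) :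
    LinearMap.trace ℂ V (φ (uu Q a e) * proj Q φ 1) = 0 := by
  obtain ⟨c, hc⟩ := pairing Q h0 h1
  have key : uu Q c 0 * uu Q a e = uu Q 0 (c ^ (2 ^ (m + 1)) * a + a ^ (2 ^ (m + 1)) * c) * uu Q a e * uu Q c 0 := by
    rw [uu_mul, uu_mul, uu_mul]
    congr 1
    · ring
    · rw [zero_pow (pow_ne_zero _ two_ne_zero), zero_mul, zero_add]
      linear_combination -(add_self Q (a ^ (2 ^ (m + 1)) * c))
  have h : φ (uu Q c 0) * (φ (uu Q a e) * proj Q φ 1) * φ (uu Q c 0)⁻¹ = -(φ (uu Q a e) * proj Q φ 1) := by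
    have hcomm : proj Q φ 1 * φ (uu Q c 0)⁻¹ = φ (uu Q c 0)⁻¹ * proj Q φ 1 := by
      obtain ⟨x, y, hxy⟩ := exists_uu Q (inv_mem (uu_mem Q c 0))
      rw [hxy, proj_comm]
    rw [mul_assoc, mul_assoc, hcomm, ← mul_assoc, ← mul_assoc, ← map_mul, key, ← map_mul, mul_assoc _ (uu Q c 0),
      mul_inv_cancel, mul_one, map_mul, mul_assoc, proj_comm, ← mul_assoc, z_proj, one_mul, hc, smul_mul_assoc,
      neg_one_smul, ← proj_comm]
  have h2 := congrArg (LinearMap.trace ℂ V) h
  rw [map_neg, LinearMap.trace_mul_comm, ← mul_assoc, ← map_mul, inv_mul_cancel, map_one, one_mul] at h2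
  linear_combination (1 / 2 : ℂ) * h2

/-- A faithful representation has degree at least `2^m (q - 1)`. -/
theorem min_degree (hφ : Function.Injective φ) :
    2 ^ m * (2 ^ (2 * m + 1) - 1) ≤ Module.finrank ℂ V := by
  classical
  let d : F → ℕ := fun w => Module.finrank ℂ (LinearMap.range (proj Q φ w))
  have htot : Module.finrank ℂ V = ∑ w, d w := by
    have h := congrArg (LinearMap.trace ℂ V) (sum_proj Q φ)
    rw [map_sum, LinearMap.trace_one] at h
    simp only [trace_proj] at h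
    exact_mod_cast h.symm
  have hd : ∀ w, w ≠ 0 → d w = d 1 := fun w hw => by
    have h := trace_proj_const Q φ hw
    rw [trace_proj, trace_proj] at h
    exact_mod_cast h
  have hd1 : d 1 ≠ 0 := by
    intro h0
    have hz : ∀ w, w ≠ 0 → proj Q φ w = 0 := fun w hw => by
      rw [← LinearMap.range_eq_bot, ← Submodule.finrank_eq_zero (R := ℂ)]
      exact (hd w hw).trans h0
    have h1 : proj Q φ 0 = 1 := by
      rw [← sum_proj Q φ, Fintype.sum_eq_single 0 hz]
    have h2 : φ (uu Q 0 1) = φ (uu Q 0 0) := by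
      have := z_proj Q φ 0 1
      rw [h1, mul_one, zero_mul, sgnF_zero, one_smul] at this
      rw [this, uu_zero, map_one]
    exact one_ne_zero (uu_inj Q (hφ h2)).2
  let P := proj Q φ 1
  have hP : ∀ v ∈ LinearMap.range P, P v = v := by
    rintro _ ⟨u, rfl⟩
    exact LinearMap.congr_fun (proj_idem Q φ 1) u
  let π : V →ₗ[ℂ] ↥(LinearMap.range P) := P.rangeRestrict
  let ι : ↥(LinearMap.range P) →ₗ[ℂ] V := (LinearMap.range P).subtype
  let S : Type _ := {a : F // tF m a = 0}
  let g : S → Module.End ℂ ↥(LinearMap.range P) := fun a => π ∘ₗ φ (uu Q a.1 0) ∘ₗ ι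
  have hg : LinearIndependent ℂ g := by
    rw [Fintype.linearIndependent_iff]
    intro x hx b
    have hsum : ∑ a : S, x a • (φ (uu Q a.1 0) * P) = 0 := by
      refine LinearMap.ext fun v => ?_
      have e := congrArg (fun T : Module.End ℂ ↥(LinearMap.range P) => ι (T (π v))) hx
      simp only [g, LinearMap.sum_apply, LinearMap.smul_apply, LinearMap.comp_apply, map_sum, map_smul,
        LinearMap.zero_apply, map_zero] at e
      simp only [LinearMap.sum_apply, LinearMap.smul_apply, LinearMap.zero_apply, Module.End.mul_apply]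
      rw [← e]
      refine Finset.sum_congr rfl fun a _ => ?_
      congr 1
      show φ (uu Q a.1 0) (P v) = P (φ (uu Q a.1 0) (P v))
      have e' : P * (φ (uu Q a.1 0) * P) = φ (uu Q a.1 0) * P := by
        rw [← mul_assoc, show P * φ (uu Q a.1 0) = φ (uu Q a.1 0) * P from (proj_comm Q φ a.1 0 1).symm, mul_assoc,
          show P * P = P from proj_idem Q φ 1]
      exact (LinearMap.congr_fun e' v).symm
    have h2 := congrArg (fun T => LinearMap.trace ℂ V (φ (uu Q b.1 0)⁻¹ * T)) hsum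
    simp only [Finset.mul_sum, mul_smul_comm, map_sum, map_smul, mul_zero, map_zero, ← mul_assoc, ← map_mul] at h2
    rw [Finset.sum_eq_single b, inv_mul_cancel, map_one, one_mul, smul_eq_mul] at h2
    · refine (mul_eq_zero.1 h2).resolve_right ?_
      rw [trace_proj]
      exact_mod_cast hd1
    · intro a _ hab
      obtain ⟨u, v, huv⟩ := exists_uu Q (mul_mem (inv_mem (uu_mem Q b.1 0)) (uu_mem Q a.1 0))
      rw [huv, trace_offdiag Q φ ?_ ?_ v, smul_zero]
      all_goals
        have hu : b.1 + u = a.1 := by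
          have h3 := congrArg (fun z => uu Q b.1 0 * z) huv
          simp only [mul_inv_cancel_left, uu_mul] at h3
          exact (uu_inj Q h3).1.symm
        intro hu'
      · exact hab (Subtype.ext (by rw [← hu, hu', add_zero]))
      · have h4 : tF m (b.1 + u) = 0 := by rw [hu]; exact a.2
        rw [tF_add Q, b.2, zero_add, hu', tF_one Q] at h4
        exact one_ne_zero h4
    · intro h; exact absurd (Finset.mem_univ b) h
  have hcard : 2 * Fintype.card S = 2 ^ (2 * m + 1) := by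
    have e : Fintype.card {a : F // ¬ tF m a = 0} = Fintype.card S := by
      refine Fintype.card_congr ((Equiv.addRight (1 : F)).subtypeEquiv fun a => ?_)
      rw [Equiv.coe_addRight, tF_add Q, tF_one Q]
      rcases tF_cases Q a with h | h <;> simp [h, add_self Q]
    rw [Fintype.card_subtype_compl] at e
    have hle := Fintype.card_subtype_le fun a : F => tF m a = 0
    rw [Q.hF] at e hle
    change 2 ^ (2 * m + 1) - Fintype.card S = Fintype.card S at e
    change Fintype.card S ≤ _ at hle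
    omega
  have hSd : Fintype.card S ≤ d 1 * d 1 := by
    refine hg.fintype_card_le_finrank.trans (le_of_eq ?_)
    rw [Module.finrank_linearMap]
  have hdm : 2 ^ m ≤ d 1 := by
    refine Nat.mul_self_le_mul_self_iff.1 (le_trans (le_of_eq ?_) hSd)
    rw [pow_succ, show 2 * m = m + m by ring, pow_add] at hcard
    linarith
  rw [htot, ← Finset.sum_erase_add _ _ (Finset.mem_univ (0 : F)),
    Finset.sum_congr rfl fun w hw => hd w (Finset.mem_erase.1 hw).1, Finset.sum_const, smul_eq_mul,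
    Finset.card_erase_of_mem (Finset.mem_univ _), Finset.card_univ, Q.hF]
  calc 2 ^ m * (2 ^ (2 * m + 1) - 1) = (2 ^ (2 * m + 1) - 1) * 2 ^ m := mul_comm _ _
    _ ≤ (2 ^ (2 * m + 1) - 1) * d 1 := Nat.mul_le_mul_left _ hdm
    _ ≤ _ := Nat.le_add_right _ _

end Cfsg.Lib.Suz

namespace Cfsg.Lib.Suz

variable {F : Type*} [Field F] [Fintype F] {m : ℕ} (Q : Par F m)

include Q in
theorem lie_min_degree {k : ℕ} (ρ : Representation ℂ (Cfsg.Lie.Sz F (2 ^ (m + 1))) (Fin k → ℂ))
    (hirr : ρ.IsIrreducible) (hk : 2 ≤ k) : 2 ^ m * (2 ^ (2 * m + 1) - 1) ≤ k := by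
  have := lie_simple Q
  have hne : ∃ g, ρ g ≠ 1 := by
    by_contra hall
    push Not at hall
    let S : Subrepresentation ρ :=
      ⟨Submodule.span ℂ {(Pi.single ⟨0, by omega⟩ 1 : Fin k → ℂ)}, fun g v hv => by rw [hall]; exact hv⟩
    have h1 : Module.finrank ℂ S.toSubmodule = 1 := finrank_span_singleton (by simp)
    have : IsSimpleOrder (Subrepresentation ρ) := hirr
    rcases IsSimpleOrder.eq_bot_or_eq_top S with h | h <;>
      rw [show S.toSubmodule = _ from congrArg Subrepresentation.toSubmodule h] at h1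
    · rw [show ((⊥ : Subrepresentation ρ).toSubmodule) = ⊥ from rfl, finrank_bot] at h1
      exact zero_ne_one h1
    · rw [show ((⊤ : Subrepresentation ρ).toSubmodule) = ⊤ from rfl, finrank_top, Module.finrank_fin_fun] at h1
      omega
  have hinj : Function.Injective ρ := by
    rw [← MonoidHom.ker_eq_bot_iff]
    refine (MonoidHom.normal_ker ρ).eq_bot_or_eq_top.resolve_right fun h => ?_
    obtain ⟨g, hg⟩ := hne
    exact hg (MonoidHom.mem_ker.1 (h ▸ Subgroup.mem_top g))
  have h := min_degree Q (ρ.comp (lieEquiv Q).toMonoidHom) (hinj.comp (lieEquiv Q).injective)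
  rwa [Module.finrank_fin_fun] at h

end Cfsg.Lib.Suz
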