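import Cfsg.Agent.Suz.Lie
import Mathlib.GroupTheory.FreeGroup.Reduce

/-! A nontrivial word is not a law in large Suzuki groups: leading terms of the first column. -/

set_option autoImplicit false
set_option linter.unusedSectionVars false

open Polynomial
open scoped Matrix

namespace Cfsg.Lib.Suz.Words

variable {F : Type*} [Field F]

/-- Parameters of a unipotent element over polynomials: the two coordinates and the twisted second one. -/
structure Par3 (F : Type*) [Field F] where
  /-- first coordinate -/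
  e : F[X]
  /-- second coordinate -/
  f : F[X]
  /-- twist of the second coordinate -/
  fs : F[X]

/-- The corner entry. -/
noncomputable def Par3.top (r : ℕ) (P : Par3 F) : F[X] := P.e * P.f + P.e ^ (r + 2) + P.fs

/-- The product of two parameters. -/
noncomputable def Par3.mul (r : ℕ) (P P' : Par3 F) : Par3 F :=
  ⟨P.e + P'.e, P.f + P'.f + P.e ^ r * P'.e, P.fs + P'.fs + P.e ^ 2 * P'.e ^ r⟩

/-- A monomial parameter, or its inverse. -/
noncomputable def mono (r k : ℕ) (ε : Bool) : Par3 F :=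
  ⟨X ^ k, cond ε (X ^ (k * (r + 1))) 0, cond ε (X ^ (k * (r + 2))) 0⟩

/-- Start parameter of a letter. -/
noncomputable def startP (r : ℕ) (x : ℕ × Bool) : Par3 F :=
  cond x.2 (mono r (2 * x.1 + 2) false) (mono r (2 * x.1 + 3) true)

/-- Middle parameter of a letter. -/
noncomputable def midP (r : ℕ) (x : ℕ × Bool) : Par3 F := mono r 1 (!x.2)

/-- End parameter of a letter. -/
noncomputable def endP (r : ℕ) (x : ℕ × Bool) : Par3 F :=
  cond x.2 (mono r (2 * x.1 + 3) false) (mono r (2 * x.1 + 2) true)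

/-- The unipotent action on vectors. -/
noncomputable def app (r : ℕ) (P : Par3 F) (v : Fin 4 → F[X]) : Fin 4 → F[X] :=
  ![v 0 + P.e * v 1 + (P.f + P.e ^ (r + 1)) * v 2 + P.top r * v 3, v 1 + P.e ^ r * v 2 + P.f * v 3,
    v 2 + P.e * v 3, v 3]

/-- The action of the antidiagonal element. -/
def flip (v : Fin 4 → F[X]) : Fin 4 → F[X] := ![v 3, v 2, v 1, v 0]

/-- A parameter with dominant corner. -/
def Good (r D : ℕ) (P : Par3 F) : Prop :=
  ∃ E : ℕ, 1 ≤ E ∧ E ≤ D ∧ P.top r ≠ 0 ∧ (P.top r).natDegree = E * (r + 2) ∧ P.e.natDegree ≤ E ∧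
    P.f.natDegree ≤ E * (r + 1)

/-- A vector with dominant last coordinate. -/
def GoodVec (B : ℕ) (v : Fin 4 → F[X]) : Prop :=
  v 3 ≠ 0 ∧ (v 3).natDegree ≤ B ∧ ∀ i : Fin 4, i ≠ 3 → (v i).degree < (v 3).degree

theorem natDegree_cond (b : Bool) (k : ℕ) : (cond b (X ^ k : F[X]) 0).natDegree ≤ k := by
  cases b <;> simp

theorem GoodVec.step {r D B : ℕ} {v : Fin 4 → F[X]} (hv : GoodVec B v) {P : Par3 F} (hP : Good r D P) :
    GoodVec (B + D * (r + 2)) (flip (app r P v)) := by
  obtain ⟨h3, hB, hlt⟩ := hv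
  obtain ⟨E, hE, hED, hne, hdeg, he, hf⟩ := hP
  obtain ⟨n, hn⟩ : ∃ n : ℕ, (v 3).degree = n := ⟨_, degree_eq_natDegree h3⟩
  have hn' : (v 3).natDegree = n := natDegree_eq_of_degree_eq_some hn
  have hmain : (P.top r * v 3).degree = ((E * (r + 2) + n : ℕ) : WithBot ℕ) := by
    rw [degree_eq_natDegree (mul_ne_zero hne h3), natDegree_mul hne h3, hdeg, hn']
  have hbnd : ∀ (p w : F[X]) (a : ℕ), p.natDegree ≤ a → a < E * (r + 2) → w.degree ≤ (n : WithBot ℕ) →
      (p * w).degree < (P.top r * v 3).degree := by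
    intro p w a hp ha hw
    rw [hmain]
    rcases eq_or_ne (p * w) 0 with h | h
    · rw [h, degree_zero]; exact WithBot.bot_lt_coe _
    · have hp0 := left_ne_zero_of_mul h
      have hw0 := right_ne_zero_of_mul h
      rw [degree_eq_natDegree h, natDegree_mul hp0 hw0]
      have hw' := natDegree_le_of_degree_le hw
      exact WithBot.coe_lt_coe.2 (show p.natDegree + w.natDegree < E * (r + 2) + n by omega)
  have hle : ∀ i, (v i).degree ≤ (n : WithBot ℕ) := fun i => by
    rcases eq_or_ne i 3 with rfl | h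
    · exact hn.le
    · exact hn ▸ (hlt i h).le
  have hsmall : ∀ i, (v i).degree < (P.top r * v 3).degree := fun i => by
    refine lt_of_le_of_lt (hle i) ?_
    rw [hmain]
    exact WithBot.coe_lt_coe.2 (show n < E * (r + 2) + n by nlinarith)
  have hr1 : E * (r + 1) < E * (r + 2) := Nat.mul_lt_mul_of_pos_left (by omega) (by omega)
  have h1 : (P.e * v 1).degree < (P.top r * v 3).degree := hbnd _ _ E he (by nlinarith) (hle 1)
  have hpow : ∀ j, (P.e ^ j).natDegree ≤ E * j := fun j => by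
    rw [mul_comm]; exact natDegree_pow_le_of_le j he
  have h2 : ((P.f + P.e ^ (r + 1)) * v 2).degree < (P.top r * v 3).degree :=
    hbnd _ _ (E * (r + 1)) (natDegree_add_le_of_degree_le hf (hpow _)) hr1 (hle 2)
  have e0 : (app r P v 0).degree = (P.top r * v 3).degree := by
    show (v 0 + P.e * v 1 + (P.f + P.e ^ (r + 1)) * v 2 + P.top r * v 3).degree = _
    refine degree_add_eq_right_of_degree_lt ?_
    exact (degree_add_le _ _).trans_lt (max_lt ((degree_add_le _ _).trans_lt (max_lt (hsmall 0) h1)) h2)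
  have e1 : (app r P v 1).degree < (P.top r * v 3).degree := by
    show (v 1 + P.e ^ r * v 2 + P.f * v 3).degree < _
    exact (degree_add_le _ _).trans_lt (max_lt ((degree_add_le _ _).trans_lt (max_lt (hsmall 1)
      (hbnd _ _ (E * r) (hpow r) (by nlinarith) (hle 2)))) (hbnd _ _ _ hf hr1 (hle 3)))
  have e2 : (app r P v 2).degree < (P.top r * v 3).degree := by
    show (v 2 + P.e * v 3).degree < _
    exact (degree_add_le _ _).trans_lt (max_lt (hsmall 2) (hbnd _ _ E he (by nlinarith) (hle 3)))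
  have f3 : flip (app r P v) 3 = app r P v 0 := rfl
  refine ⟨?_, ?_, fun i hi => ?_⟩
  · rw [f3]; intro h; rw [h, degree_zero, hmain] at e0; exact WithBot.bot_ne_coe e0
  · rw [f3, natDegree_eq_of_degree_eq (e0), natDegree_eq_of_degree_eq_some hmain]
    have := Nat.mul_le_mul_right (r + 2) hED
    omega
  · rw [f3, e0]
    fin_cases i
    · exact hsmall 3
    · exact e2
    · exact e1
    · exact absurd rfl hi

variable [CharP F 2]

theorem good_mono (r : ℕ) {k D : ℕ} (hk : 1 ≤ k) (hD : k ≤ D) (ε : Bool) : Good r D (mono r k ε : Par3 F) := by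
  have htop : (mono r k ε : Par3 F).top r = X ^ (k * (r + 2)) := by
    cases ε
    · simp [mono, Par3.top, ← pow_mul]
    · simp only [mono, Par3.top, cond_true, ← pow_mul, ← pow_add]
      rw [show k + k * (r + 1) = k * (r + 2) by ring, CharTwo.add_self_eq_zero, zero_add]
  exact ⟨k, hk, hD, by rw [htop]; exact pow_ne_zero _ X_ne_zero, by rw [htop, natDegree_X_pow],
    by simp [mono], natDegree_cond _ _⟩

theorem good_mul {r : ℕ} (hr : ∃ j, r = 2 ^ j) {A C D : ℕ} (hAC : A ≠ C) (hA : A ≤ D) (hC : C ≤ D) (ε δ : Bool) :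
    Good r D ((mono r A ε : Par3 F).mul r (mono r C δ)) := by
  have htop : ((mono r A ε : Par3 F).mul r (mono r C δ)).top r = X ^ (A * (r + 2)) + X ^ (C * (r + 2)) +
      (cond δ (X ^ (A + C * (r + 1))) 0 + cond ε 0 (X ^ (A * (r + 1) + C))) := by
    have h2 : (2 : F[X]) = 0 := CharTwo.two_eq_zero
    have e2 : ∀ a c : F[X], (a + c) ^ (r + 2) = (a ^ r + c ^ r) * (a ^ 2 + c ^ 2) := fun a c => by
      obtain ⟨j, rfl⟩ := hr
      have : Fact (Nat.Prime 2) := ⟨Nat.prime_two⟩
      rw [pow_add, add_pow_char_pow]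
      linear_combination ((a ^ 2 ^ j + c ^ 2 ^ j) * a * c) * h2
    have p1 : ∀ k, (X : F[X]) ^ (k * (r + 1)) = (X ^ k) ^ r * X ^ k := fun k => by rw [← pow_mul, ← pow_add]; ring_nf
    have p2 : ∀ k, (X : F[X]) ^ (k * (r + 2)) = (X ^ k) ^ r * (X ^ k) ^ 2 := fun k => by
      rw [← pow_mul, ← pow_mul, ← pow_add]; ring_nf
    simp only [mono, Par3.mul, Par3.top, e2, p1, p2, pow_add (X : F[X]) A, pow_add (X : F[X]) _ C]
    generalize (X : F[X]) ^ A = a
    generalize (X : F[X]) ^ C = c
    cases ε <;> cases δ <;> simp only [cond_true, cond_false]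
    all_goals ring_nf
    all_goals simp [h2, show (3 : F[X]) = 1 by linear_combination h2, show (4 : F[X]) = 0 by linear_combination 2 * h2,
      show (5 : F[X]) = 1 by linear_combination 2 * h2]
  have hrest : (cond δ (X ^ (A + C * (r + 1)) : F[X]) 0 + cond ε 0 (X ^ (A * (r + 1) + C))).natDegree < max A C * (r + 2) := by
    have l1 := natDegree_cond (F := F) δ (A + C * (r + 1))
    have l2 : (cond ε (0 : F[X]) (X ^ (A * (r + 1) + C))).natDegree ≤ A * (r + 1) + C := by cases ε <;> simp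
    refine lt_of_le_of_lt (natDegree_add_le _ _) (max_lt (lt_of_le_of_lt l1 ?_) (lt_of_le_of_lt l2 ?_))
    all_goals rcases Nat.lt_or_gt_of_ne hAC with h | h
    all_goals first
      | (rw [max_eq_right h.le]; nlinarith)
      | (rw [max_eq_left h.le]; nlinarith)
  have hmain : ((X : F[X]) ^ (A * (r + 2)) + X ^ (C * (r + 2))).natDegree = max A C * (r + 2) := by
    rcases Nat.lt_or_gt_of_ne hAC with h | h
    · rw [natDegree_add_eq_right_of_natDegree_lt, natDegree_X_pow, max_eq_right h.le]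
      · rw [natDegree_X_pow, natDegree_X_pow]
        exact Nat.mul_lt_mul_of_pos_right h (by omega)
    · rw [natDegree_add_eq_left_of_natDegree_lt, natDegree_X_pow, max_eq_left h.le]
      · rw [natDegree_X_pow, natDegree_X_pow]
        exact Nat.mul_lt_mul_of_pos_right h (by omega)
  have hdeg : (((mono r A ε : Par3 F).mul r (mono r C δ)).top r).natDegree = max A C * (r + 2) := by
    rw [htop, natDegree_add_eq_left_of_natDegree_lt (by rw [hmain]; exact hrest), hmain]
  refine ⟨max A C, by omega, max_le hA hC, ?_, ?_, ?_, ?_⟩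
  · intro h
    have h' := congrArg natDegree h
    rw [hdeg, natDegree_zero] at h'
    have := Nat.mul_eq_zero.1 h'
    omega
  · exact hdeg
  · exact natDegree_add_le_of_degree_le (by simp [mono]) (by simp [mono])
  · refine natDegree_add_le_of_degree_le (natDegree_add_le_of_degree_le ((natDegree_cond _ _).trans ?_)
      ((natDegree_cond _ _).trans ?_)) ?_
    · exact Nat.mul_le_mul_right _ (le_max_left A C)
    · exact Nat.mul_le_mul_right _ (le_max_right A C)
    · simp only [mono, ← pow_mul, ← pow_add, natDegree_X_pow]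
      nlinarith [le_max_left A C, le_max_right A C]

theorem good_junction {r : ℕ} (hr : ∃ j, r = 2 ^ j) {D : ℕ} (x y : ℕ × Bool) (hxy : x.1 = y.1 → x.2 = y.2)
    (hx : 2 * x.1 + 3 ≤ D) (hy : 2 * y.1 + 3 ≤ D) : Good r D ((endP r x : Par3 F).mul r (startP r y)) := by
  obtain ⟨i, bi⟩ := x
  obtain ⟨j, bj⟩ := y
  simp only at hxy hx hy
  rcases bi <;> rcases bj <;> simp only [endP, startP, cond_true, cond_false]
  · exact good_mul hr (by omega) (by omega) (by omega) _ _
  · exact good_mul hr (fun h => by simpa using hxy (by omega)) (by omega) (by omega) _ _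
  · exact good_mul hr (fun h => by simpa using hxy (by omega)) (by omega) (by omega) _ _
  · exact good_mul hr (by omega) (by omega) (by omega) _ _

/-- The vector of a word, after its first unipotent factor. -/
noncomputable def wordVec (r : ℕ) : (ℕ × Bool) → List (ℕ × Bool) → (Fin 4 → F[X])
  | x, [] => flip (app r (midP r x) ![0, 0, 0, 1])
  | x, y :: L => flip (app r (midP r x) (flip (app r ((endP r x).mul r (startP r y)) (wordVec r y L))))

theorem goodVec_word {r : ℕ} (hr : ∃ j, r = 2 ^ j) (D : ℕ) : ∀ (x : ℕ × Bool) (L : List (ℕ × Bool)), FreeGroup.IsReduced (x :: L) →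
    (∀ y ∈ x :: L, 2 * y.1 + 3 ≤ D) → GoodVec ((2 * L.length + 1) * (D * (r + 2))) (wordVec (F := F) r x L) := by
  intro x L
  induction L generalizing x with
  | nil =>
    intro _ hD
    have h0 : GoodVec (F := F) 0 ![0, 0, 0, 1] := by
      refine ⟨by simp, by simp, fun i hi => ?_⟩
      fin_cases i <;> simp_all
    have h1 := h0.step (good_mono (F := F) r le_rfl (show 1 ≤ D by have := hD x List.mem_cons_self; omega) (!x.2))
    simpa [wordVec, midP] using h1
  | cons y L ih =>
    intro hred hD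
    rw [FreeGroup.IsReduced, List.isChain_cons_cons] at hred
    have hv := ih y hred.2 (fun z hz => hD z (List.mem_cons_of_mem _ hz))
    have hx := hD x List.mem_cons_self
    have hy := hD y (List.mem_cons_of_mem _ List.mem_cons_self)
    have h1 := (hv.step (good_junction hr x y hred.1 hx hy)).step
      (good_mono (F := F) r le_rfl (show 1 ≤ D by omega) (!x.2))
    obtain ⟨a, b, c⟩ := h1
    exact ⟨a, b.trans (le_of_eq (by simp only [List.length_cons]; ring)), c⟩

section Eval

variable [Fintype F] {m : ℕ} (Q : Par F m)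

/-- Compatibility of a parameter at a point. -/
def Compat (m : ℕ) (t : F) (P : Par3 F) : Prop := (P.f.eval t) ^ (2 ^ (m + 1)) = P.fs.eval t

/-- The element at a point. -/
noncomputable def elt (t : F) (P : Par3 F) : Cfsg.Sz F m := uu Q (P.e.eval t) (P.f.eval t)

include Q

theorem compat_mono (t : F) (k : ℕ) (ε : Bool) : Compat m t (mono (2 ^ (m + 1)) k ε : Par3 F) := by
  cases ε
  · simp [Compat, mono]
  · simp only [Compat, mono, cond_true, eval_pow, eval_X]
    rw [pow_mul t k, pow_mul t k, pow_succ (t ^ k) (2 ^ (m + 1)), pow_add (t ^ k), mul_pow, pow_ss Q, mul_comm]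

theorem compat_mul {t : F} {P P' : Par3 F} (h : Compat m t P) (h' : Compat m t P') :
    Compat m t (P.mul (2 ^ (m + 1)) P') := by
  simp only [Compat, Par3.mul, eval_add, eval_mul, eval_pow, add_pow_s Q, mul_pow, pow_ss Q, h.symm, h'.symm]

theorem elt_mul (t : F) (P P' : Par3 F) : elt Q t P * elt Q t P' = elt Q t (P.mul (2 ^ (m + 1)) P') := by
  rw [elt, elt, elt, uu_mul]
  simp [Par3.mul]

theorem elt_app {t : F} {P : Par3 F} (h : Compat m t P) (v : Fin 4 → F[X]) :
    ((elt Q t P : Cfsg.Sz F m) : SL4 F).1 *ᵥ (fun i => (v i).eval t) =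
      fun i => (app (2 ^ (m + 1)) P v i).eval t := by
  funext i
  fin_cases i <;>
    simp [elt, uu, T, Tmat, fn, app, Par3.top, Matrix.mulVec, dotProduct, Fin.sum_univ_four, h.symm]

omit Q in
theorem W_app (t : F) (v : Fin 4 → F[X]) :
    (W F).1 *ᵥ (fun i => (v i).eval t) = fun i => (flip v i).eval t := by
  funext i
  fin_cases i <;> simp [W, flip, Matrix.mulVec, dotProduct, Fin.sum_univ_four]

/-- The antidiagonal element in the group. -/
def wI : Cfsg.Sz F m := ⟨W F, W_mem Q⟩

/-- The substituted elements. -/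
noncomputable def genS (t : F) (i : ℕ) : Cfsg.Sz F m :=
  uu Q (t ^ (2 * i + 2)) 0 * wI Q * uu Q t 0 * wI Q * uu Q (t ^ (2 * i + 3)) 0

/-- A letter. -/
noncomputable def letS (t : F) (x : ℕ × Bool) : Cfsg.Sz F m := cond x.2 (genS Q t x.1) (genS Q t x.1)⁻¹

theorem letS_eq (t : F) (x : ℕ × Bool) :
    letS Q t x = elt Q t (startP (2 ^ (m + 1)) x) * wI Q * elt Q t (midP (2 ^ (m + 1)) x) * wI Q *
      elt Q t (endP (2 ^ (m + 1)) x) := by
  have hinv : ∀ a : F, (uu Q a 0)⁻¹ = uu Q a (a ^ (2 ^ (m + 1) + 1)) := fun a => Subtype.ext (by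
    show (T m a 0)⁻¹ = _
    rw [T_inv Q, zero_add]; rfl)
  have hw : (wI Q)⁻¹ = wI Q := inv_eq_of_mul_eq_one_right (Subtype.ext (W_sq Q))
  obtain ⟨i, b⟩ := x
  cases b
  · simp only [letS, genS, cond_false, startP, midP, endP, elt, mono, Bool.not_false, cond_true, eval_pow,
      eval_X, mul_inv_rev, hinv, hw, ← pow_mul, pow_one, one_mul, mul_assoc]
  · simp [letS, genS, startP, midP, endP, elt, mono]

theorem word_col (t : F) : ∀ (x : ℕ × Bool) (L : List (ℕ × Bool)),
    ((((x :: L).map (letS Q t)).prod : Cfsg.Sz F m) : SL4 F).1 *ᵥ ![1, 0, 0, 0] =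
      fun i => (app (2 ^ (m + 1)) (startP (2 ^ (m + 1)) x) (wordVec (2 ^ (m + 1)) x L) i).eval t := by
  intro x L
  have hst : ∀ z : ℕ × Bool, Compat m t (startP (2 ^ (m + 1)) z : Par3 F) := fun z => by
    obtain ⟨i, b⟩ := z; cases b <;> exact compat_mono Q t _ _
  have hen : ∀ z : ℕ × Bool, Compat m t (endP (2 ^ (m + 1)) z : Par3 F) := fun z => by
    obtain ⟨i, b⟩ := z; cases b <;> exact compat_mono Q t _ _
  have hmi : ∀ z : ℕ × Bool, Compat m t (midP (2 ^ (m + 1)) z : Par3 F) := fun z => compat_mono Q t _ _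
  induction L generalizing x with
  | nil =>
    rw [List.map_cons, List.map_nil, List.prod_cons, List.prod_nil, mul_one, letS_eq]
    simp only [Subgroup.coe_mul, Matrix.SpecialLinearGroup.coe_mul, ← Matrix.mulVec_mulVec]
    have h0 : ((elt Q t (endP (2 ^ (m + 1)) x) : Cfsg.Sz F m) : SL4 F).1 *ᵥ ![1, 0, 0, 0] = ![1, 0, 0, 0] := by
      funext i
      fin_cases i <;> simp [elt, uu, T, Tmat, Matrix.mulVec, dotProduct, Fin.sum_univ_four]
    have h1 : (W F).1 *ᵥ ![1, 0, 0, 0] = fun i => ((![0, 0, 0, 1] : Fin 4 → F[X]) i).eval t := by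
      funext i
      fin_cases i <;> simp [W, Matrix.mulVec, dotProduct, Fin.sum_univ_four]
    rw [h0, show ((wI Q : Cfsg.Sz F m) : SL4 F) = W F from rfl, h1, elt_app Q (hmi x), W_app, elt_app Q (hst x)]
    rfl
  | cons y L ih =>
    rw [List.map_cons, List.prod_cons, Subgroup.coe_mul, Matrix.SpecialLinearGroup.coe_mul, ← Matrix.mulVec_mulVec,
      ih y, letS_eq]
    simp only [Subgroup.coe_mul, Matrix.SpecialLinearGroup.coe_mul, ← Matrix.mulVec_mulVec]
    rw [← elt_app Q (hst y), Matrix.mulVec_mulVec _ ((elt Q t (endP (2 ^ (m + 1)) x) : Cfsg.Sz F m) : SL4 F).1,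
      ← Matrix.SpecialLinearGroup.coe_mul, ← Subgroup.coe_mul, elt_mul, elt_app Q (compat_mul Q (hen x) (hst y)),
      show ((wI Q : Cfsg.Sz F m) : SL4 F) = W F from rfl, W_app, elt_app Q (hmi x), W_app, elt_app Q (hst x)]
    rfl

end Eval

/-- A nontrivial word takes a nontrivial value. -/
theorem exists_word_value_ne (w : FreeGroup ℕ) (hw : w ≠ 1) :
    ∃ N : ℕ, ∀ (F : Type*) [Field F] [Fintype F] (m : ℕ) (_ : Par F m), N ≤ m →
      ∃ f : ℕ → Cfsg.Sz F m, FreeGroup.lift f w ≠ 1 := by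
  obtain ⟨x, L, hL⟩ : ∃ x L, w.toWord = x :: L :=
    List.exists_cons_of_ne_nil fun h => hw (FreeGroup.toWord_eq_nil_iff.1 h)
  obtain ⟨D, hD⟩ : ∃ D, ∀ y ∈ x :: L, 2 * y.1 + 3 ≤ D :=
    ⟨((x :: L).map fun y => 2 * y.1 + 3).sum, fun y hy => List.le_sum_of_mem (List.mem_map_of_mem hy)⟩
  refine ⟨4 * (2 * L.length + 1) * D + 1, fun F _ _ m Q hm => ?_⟩
  classical
  have := charP Q
  obtain ⟨h3, hdeg, -⟩ := goodVec_word (F := F) (r := 2 ^ (m + 1)) ⟨_, rfl⟩ D x L (hL ▸ FreeGroup.isReduced_toWord) hD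
  have hbound : (2 * L.length + 1) * (D * (2 ^ (m + 1) + 2)) < Fintype.card F := by
    rw [Q.hF]
    have h1 : 4 * (2 * L.length + 1) * D < 2 ^ m := lt_of_lt_of_le (by omega) (Nat.lt_two_pow_self (n := m)).le
    have h2 : 2 ^ (m + 1) = 2 * 2 ^ m := by rw [pow_succ]; ring
    have h3 : 2 ^ (2 * m + 1) = 2 * (2 ^ m * 2 ^ m) := by rw [pow_succ, ← pow_add]; ring
    have h4 : 1 ≤ 2 ^ m := Nat.one_le_two_pow
    rw [h2, h3]
    generalize (2 * L.length + 1) = K at h1 ⊢
    generalize 2 ^ m = T at h1 h4 ⊢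
    nlinarith
  obtain ⟨t, ht⟩ : ∃ t : F, (wordVec (2 ^ (m + 1)) x L 3).eval t ≠ 0 := by
    by_contra hall
    push Not at hall
    exact h3 (eq_zero_of_natDegree_lt_card_of_eval_eq_zero _ Function.injective_id hall
      (lt_of_le_of_lt hdeg hbound))
  refine ⟨genS Q t, fun h1 => ht ?_⟩
  have hval : FreeGroup.lift (genS Q t) w = ((x :: L).map (letS Q t)).prod := by
    rw [← FreeGroup.mk_toWord (x := w), hL, FreeGroup.lift_mk]
    rfl
  have h := congrFun (word_col Q t x L) 3
  rw [← hval, h1] at h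
  simpa [app] using h.symm

end Cfsg.Lib.Suz.Words
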