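import Cfsg.Agent.Known.TitsCommCheck
import Cfsg.Agent.Known.TitsInvolutions
import Cfsg.Agent.BN.Extra

/-!
The derived subgroup of `²F₄(2)` has index two: a transfer argument.
-/

set_option autoImplicit false
set_option linter.style.haveILetI false
set_option linter.unusedSectionVars false
set_option maxRecDepth 20000
set_option maxHeartbeats 4000000
set_option Elab.async false

open Cfsg.Lie
open Cfsg.Lib.Chev Cfsg.Lib.Chev.ReeF
open Cfsg.Lib.TitsInvol (WZ Z runR wG wG_append wG_val wG_eq runR_eq runR_append wG_ne_one flatW par flat_lt decomp)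

namespace Cfsg.Lib.TitsComm

/-- The group. -/
noncomputable abbrev TG (X : RF (ZMod 2)) : Subgroup (GL chevF4.Idx (ZMod 2)) := X.G1

/-- Its unipotent part. -/
noncomputable abbrev TU (X : RF (ZMod 2)) : Subgroup (GL chevF4.Idx (ZMod 2)) := chevF4.posUnipotent (ZMod 2) ⊓ X.G1

theorem wz_roots : ∀ z ∈ WZ, ∀ r ∈ z.1, r < 48 ∧ 24 ≤ r := by decide +kernel

theorem zw_roots {l : List ℕ} {r : ℕ} (h : r ∈ zw l) : r < 48 ∧ 24 ≤ r := by
  obtain ⟨k, -, hr⟩ := List.mem_flatMap.1 h
  by_cases hk : k < WZ.length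
  · rw [List.getD_eq_getElem _ _ hk] at hr
    exact wz_roots _ (List.getElem_mem hk) r hr
  · rw [List.getD_eq_default _ _ (not_lt.1 hk)] at hr
    simp at hr

theorem zw_append (a b : List ℕ) : zw (a ++ b) = zw a ++ zw b := List.flatMap_append

theorem zw_cons (k : ℕ) (l : List ℕ) : zw (k :: l) = zw [k] ++ zw l := zw_append [k] l

theorem gw_roots {l : List ℕ} {r : ℕ} (h : r ∈ gw l) : r < 48 := by
  obtain ⟨k, -, hr⟩ := List.mem_flatMap.1 h
  have : ∀ z ∈ genW, ∀ r ∈ z, r < 48 := by decide +kernel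
  by_cases hk : k < genW.length
  · rw [List.getD_eq_getElem _ _ hk] at hr
    exact this _ (List.getElem_mem hk) r hr
  · rw [List.getD_eq_default _ _ (not_lt.1 hk)] at hr
    simp at hr

theorem wG_nil : wG [] = 1 := by simp [wG]

theorem wG_inv : ∀ w : List ℕ, wG w.reverse = (wG w)⁻¹
  | [] => by simp [wG]
  | r :: w => by
    have h : SF.ok.xG r (1 : ZMod 2) * SF.ok.xG r 1 = 1 := by
      rw [SF.ok.xG_mul, show (1 : ZMod 2) + 1 = 0 from rfl, SF.xG_zero]
    have hinv : (SF.ok.xG r (1 : ZMod 2))⁻¹ = SF.ok.xG r 1 := inv_eq_of_mul_eq_one_right h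
    rw [List.reverse_cons, wG_append, wG_inv w]
    simp only [wG, List.map_cons, List.map_nil, List.prod_cons, List.prod_nil, mul_one, mul_inv_rev, hinv]

theorem wG_zw_append (a b : List ℕ) : wG (zw (a ++ b)) = wG (zw a) * wG (zw b) := by rw [zw_append, wG_append]

theorem wG_one_of_isOne {w : List ℕ} (hw : ∀ r ∈ w, r < 48) (h : isOne w = true) : wG w = 1 := by
  rw [← wG_nil]
  refine wG_eq hw (by simp) fun n hn => ?_
  have := Cfsg.Lib.TitsPacked.runP_inj (a := w) (b := []) (Nat.eq_of_beq_eq_true h) hn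
  rw [runR_eq w _ hw, runR_eq [] _ (by simp)] at this
  exact this

theorem ne_one_of_moves {w : List ℕ} (hw : ∀ r ∈ w, r < 48) (h : fixes48 w = false) : wG w ≠ 1 := by
  refine wG_ne_one hw ?_
  rw [← runR_eq w _ hw]
  intro e
  rw [fixes48, Cfsg.Lib.TitsPacked.runQ_eq, e, Nat.beq_refl] at h
  exact Bool.noConfusion h

/-- The bits of a row image. -/
theorem bitV_run {w : List ℕ} (hw : ∀ r ∈ w, r < 48) (v : ℕ) (a : chevF4.Idx) :
    Matrix.vecMul (fun x => Word.bitV v (enc chevF4.rank chevF4.nroots x)) (wG w : Matrix chevF4.Idx chevF4.Idx (ZMod 2)) a =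
      Word.bitV (runR w v) (enc chevF4.rank chevF4.nroots a) := by
  rw [wG_val, runR_eq w v hw]
  exact Word.runB_eq w _ v hw (fun _ => rfl) a

theorem bitV_inj {u v : ℕ} {n : ℕ} (h : Word.bitV u n = Word.bitV v n) : u.testBit n = v.testBit n := by
  unfold Word.bitV at h
  cases hu : u.testBit n <;> cases hv : v.testBit n <;> simp [hu, hv] at h ⊢

theorem run_congr {a b : List ℕ} (ha : ∀ r ∈ a, r < 48) (hb : ∀ r ∈ b, r < 48) (h : wG a = wG b) (v : ℕ) :
    runR a v % 2 ^ 52 = runR b v % 2 ^ 52 := by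
  refine Nat.eq_of_testBit_eq fun i => ?_
  rw [Nat.testBit_mod_two_pow, Nat.testBit_mod_two_pow]
  by_cases hi : i < 52
  · have hc : chevF4.rank + chevF4.nroots = 52 := by decide +kernel
    obtain ⟨x, hx⟩ := exists_enc chevF4.rank chevF4.nroots (show i < chevF4.rank + chevF4.nroots by rw [hc]; exact hi)
    have h1 := bitV_run ha v x
    rw [h, bitV_run hb v x, hx] at h1
    rw [bitV_inj h1]
  · simp [hi]

theorem fixes48_congr {a b : List ℕ} (ha : ∀ r ∈ a, r < 48) (hb : ∀ r ∈ b, r < 48) (h : wG a = wG b) :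
    fixes48 a = fixes48 b := by
  rw [fixes48, fixes48, Cfsg.Lib.TitsPacked.runQ_eq, Cfsg.Lib.TitsPacked.runQ_eq, run_congr ha hb h]

theorem mem_TU (X : RF (ZMod 2)) (l : List ℕ) : wG (zw l) ∈ TU X := by
  have hA : wG [33, 24] ∈ X.G1 := by simpa [wG, RF.yP] using X.yA_mem (1 : ZMod 2)
  have hB : wG [27, 25, 28] ∈ X.G1 := by
    have h := X.yB_mem (1 : ZMod 2) 0
    simp only [RF.y4, one_pow, zero_pow (Nat.mul_ne_zero two_ne_zero X.e_pos.ne'), SF.xG_zero, add_zero, mul_one] at h
    simpa [wG, mul_assoc] using h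
  have hnA : wG (TitsInvol.nw false) ∈ X.G1 := by
    have h := mul_mem (mul_mem (X.yA_mem (1 : ZMod 2)) (X.yA'_mem (1 : ZMod 2))) (X.yA_mem (1 : ZMod 2))
    simpa [wG, TitsInvol.nw, RF.yP, mul_assoc] using h
  have hnB : wG (TitsInvol.nw true) ∈ X.G1 := by
    have h := mul_mem (mul_mem (X.yB_mem (0 : ZMod 2) 1) (X.yB'_mem (1 : ZMod 2) 1)) (X.yB_mem (1 : ZMod 2) 0)
    simp only [RF.y4, one_pow, zero_pow X.e_pos.ne', zero_pow (Nat.succ_ne_zero X.e),
      zero_pow (Nat.mul_ne_zero two_ne_zero X.e_pos.ne'), SF.xG_zero, add_zero, zero_add, mul_one, one_mul,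
      show (1 : ZMod 2) + 1 = 0 from rfl] at h
    simpa [wG, TitsInvol.nw, mul_assoc] using h
  have hC : wG [28, 30] ∈ X.G1 := by
    rw [← wG_eq (by decide +kernel) (by decide +kernel) TitsInvol.sq_base, wG_append]
    exact mul_mem hB hB
  have hW : ∀ W : List Bool, wG (W.map TitsInvol.nw).flatten ∈ X.G1 := by
    intro W
    induction W with
    | nil => exact one_mem _
    | cons b W ih =>
      rw [List.map_cons, List.flatten_cons, wG_append]
      cases b
      exacts [mul_mem hnA ih, mul_mem hnB ih]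
  have hZ : ∀ i < 12, wG (Z.getD i default).2.1 ∈ X.G1 := by
    intro i hi
    have hs : wG (TitsInvol.src.getD i default).2.1 ∈ X.G1 := by
      have : ∀ i < 12, (TitsInvol.src.getD i default).2.1 = [27, 25, 28] ∨
          (TitsInvol.src.getD i default).2.1 = [33, 24] ∨ (TitsInvol.src.getD i default).2.1 = [28, 30] := by
        decide +kernel
      rcases this i hi with e | e | e
      · rw [e]; exact hB
      · rw [e]; exact hA
      · rw [e]; exact hC
    obtain ⟨l1, l2, l3, -⟩ := TitsInvol.src_lt i hi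
    refine TitsInvol.mem_of_conj X.G1 ?_ (hW (TitsInvol.src.getD i default).1) hs
    rw [← wG_append, ← wG_append]
    exact wG_eq (fun r hr => (List.mem_append.1 hr).elim (l1 r) (l2 r))
      (fun r hr => (List.mem_append.1 hr).elim (l2 r) (l3 r)) (TitsInvol.src_ok i hi)
  refine Subgroup.mem_inf.2 ⟨?_, ?_⟩
  · refine Subgroup.list_prod_mem _ fun y hy => ?_
    obtain ⟨r, hr, rfl⟩ := List.mem_map.1 hy
    exact SF.xG_mem_U (zw_roots hr).2 (zw_roots hr).1 _
  · induction l with
    | nil => rw [show zw [] = [] from rfl, wG_nil]; exact one_mem _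
    | cons k l ih =>
      rw [zw_cons, wG_append]
      refine mul_mem ?_ ih
      by_cases hk : k < 12
      · have : ∀ k < 12, zw [k] = (Z.getD k default).2.1 := by decide +kernel
        rw [this k hk]
        exact hZ k hk
      · have hz : zw [k] = [] := by
          have h0 : WZ.getD k ([], false) = ([], false) := List.getD_eq_default _ _ (show WZ.length ≤ k by simpa [WZ] using hk)
          show ((WZ.getD k ([], false)).1 ++ []) = []
          rw [h0]; rfl
        rw [hz, wG_nil]
        exact one_mem _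

/-- The code of the first four indices. -/
def code1 (l : List ℕ) : ℕ := (((List.range 4).filter fun k => l.contains k).map fun k => 2 ^ (3 - k)).sum

/-- The code of the remaining eight. -/
def code2 (l : List ℕ) : ℕ := (((List.range' 4 8).filter fun k => l.contains k).map fun k => 2 ^ (11 - k)).sum

theorem codes_ok : (List.range 12).sublists.all (fun l =>
    decide (code1 l < 16) && decide (code2 l < 256) && selOf (code1 l) (code2 l) == l) = true := by decide +kernel

theorem sel_ok {l : List ℕ} (h : l.Sublist (List.range 12)) : ∃ e, selOK l e = true := by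
  have := List.all_eq_true.1 codes_ok l (List.mem_sublists.2 h)
  simp only [Bool.and_eq_true, decide_eq_true_eq, beq_iff_eq] at this
  obtain ⟨⟨h1, h2⟩, h3⟩ := this
  have h4 := List.all_eq_true.1 (pre_ok _ h1) _ (List.mem_range.2 h2)
  rw [h3] at h4
  exact ⟨_, h4⟩

theorem exists_sel (X : RF (ZMod 2)) {u : GL chevF4.Idx (ZMod 2)} (hu : u ∈ TU X) :
    ∃ l, l.Sublist (List.range 12) ∧ u = wG (zw l) := by
  have hex : ∀ i < 12, (Z.getD i default).2.1 = (Z.getD i default).1.1 :: (Z.getD i default).1.2 ::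
      (Z.getD i default).2.1.drop 2 ∧
      ∀ r ∈ (Z.getD i default).2.1.drop 2, r ∈ rts ((Z.map Prod.fst).drop (i + 1)) := by decide +kernel
  rw [TU, X.U1_eq] at hu
  obtain ⟨S, hS, e⟩ := decomp X Z (by simpa [Z, OP] using (good_OP (K := ZMod 2)))
    (fun S hS z hz => TitsInvol.words_lt z (hS.subset hz))
    (fun i hi => ⟨_, hex i hi⟩)
    (fun z hz => X.G1_le (by
      obtain ⟨i, hi, rfl⟩ := List.getElem_of_mem hz
      change i < 12 at hi
      have : ∀ k < 12, zw [k] = (Z.getD k default).2.1 := by decide +kernel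
      have hm := (Subgroup.mem_inf.1 (mem_TU X [i])).2
      rw [this i hi, List.getD_eq_getElem Z default (show i < Z.length from hi)] at hm
      exact hm)) u ⟨by
      have := hu.1
      rw [← UL_OP] at this
      exact this, hu.2⟩
  have hmap : Z = (List.range 12).map fun i => Z.getD i default := by rfl
  rw [hmap] at hS
  obtain ⟨l, hl, rfl⟩ := List.sublist_map_iff.1 hS
  refine ⟨l, hl, e.trans (congrArg wG ?_)⟩
  have hlt : ∀ k ∈ l, k < 12 := fun k hk => List.mem_range.1 (hl.subset hk)
  have : ∀ k < 12, zw [k] = (Z.getD k default).2.1 := by decide +kernel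
  clear e hS hl
  induction l with
  | nil => rfl
  | cons k l ih =>
    rw [zw_cons, ← ih fun j hj => hlt j (List.mem_cons_of_mem _ hj), this k (hlt k List.mem_cons_self)]
    simp [flatW]

theorem regular (X : RF (ZMod 2)) {w : List ℕ} (hw : ∀ r ∈ w, r < 48) (hu : wG w ∈ TU X) (h : fixes48 w = true) :
    wG w = 1 := by
  obtain ⟨l, hl, e⟩ := exists_sel X hu
  obtain ⟨d, hd⟩ := sel_ok hl
  simp only [selOK, Bool.and_eq_true, Bool.or_eq_true, Bool.not_eq_true'] at hd
  rcases hd.1 with h0 | h0
  · rw [e, List.isEmpty_iff.1 h0]; exact wG_nil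
  · rw [fixes48_congr hw (fun r hr => (zw_roots hr).1) e, h0] at h
    exact Bool.noConfusion h

/-- Where the coloured orbit is sent. -/
theorem col_walk : ∀ (l : List ℕ), (∀ k ∈ l, k < 12) → ∀ j < 256, ∃ i < 256,
    runR (zw l) (colPts.getD j 0) = colPts.getD i 0 ∧ colVal.getD i false = xor (colVal.getD j false) (zpar l)
  | [], _, j, hj => ⟨j, hj, rfl, by simp [zpar]⟩
  | k :: l, hl, j, hj => by
    have h := List.all_eq_true.1 col_ok.2.2.2 j (List.mem_range.2 hj)
    simp only [Bool.and_eq_true, List.all_eq_true, List.mem_range, decide_eq_true_eq, beq_iff_eq] at h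
    obtain ⟨⟨h1, h2⟩, h3⟩ := h.2 k (hl k List.mem_cons_self)
    obtain ⟨i, hi, e1, e2⟩ := col_walk l (fun x hx => hl x (List.mem_cons_of_mem _ hx)) _ h1
    refine ⟨i, hi, ?_, ?_⟩
    · rw [zw_cons, runR_append, Nat.eq_of_beq_eq_true h2, e1]
    · rw [e2, h3, show zpar (k :: l) = xor (zpar [k]) (zpar l) by simp [zpar], Bool.xor_assoc]

theorem nodup_colPts : colPts.Nodup := by
  have h := col_sorted
  have key : ∀ {a : ℕ} {l : List ℕ}, incr a l = true → (a :: l).Nodup ∧ ∀ b ∈ l, a < b := by
    intro a l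
    induction l generalizing a with
    | nil => simp
    | cons b l ih =>
      intro h
      simp only [incr, Bool.and_eq_true, decide_eq_true_eq] at h
      obtain ⟨hn, hlt⟩ := ih h.2
      have hall : ∀ c ∈ b :: l, a < c := by
        intro c hc
        rcases List.mem_cons.1 hc with rfl | hc
        · exact h.1
        · exact h.1.trans (hlt c hc)
      exact ⟨List.nodup_cons.2 ⟨fun hm => lt_irrefl _ (hall a hm), hn⟩, hall⟩
  revert h
  generalize colPts = L
  cases L with
  | nil => intro _; exact List.nodup_nil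
  | cons a l => exact fun h => (key h).1

theorem par_congr {a b : List ℕ} (ha : ∀ k ∈ a, k < 12) (hb : ∀ k ∈ b, k < 12) (h : wG (zw a) = wG (zw b)) :
    zpar a = zpar b := by
  obtain ⟨i, hi, e1, e2⟩ := col_walk a ha colBase col_ok.2.1
  obtain ⟨j, hj, f1, f2⟩ := col_walk b hb colBase col_ok.2.1
  have hv : ∀ i < 256, colPts.getD i 0 < 2 ^ 52 := fun i hi => by
    have := List.all_eq_true.1 col_ok.2.2.2 i (List.mem_range.2 hi)
    simp only [Bool.and_eq_true, decide_eq_true_eq] at this
    exact this.1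
  have := run_congr (fun r hr => (zw_roots hr).1) (fun r hr => (zw_roots hr).1) h (colPts.getD colBase 0)
  rw [e1, f1, Nat.mod_eq_of_lt (hv i hi), Nat.mod_eq_of_lt (hv j hj),
    List.getD_eq_getElem colPts 0 (show i < colPts.length by rw [col_ok.1]; exact hi),
    List.getD_eq_getElem colPts 0 (show j < colPts.length by rw [col_ok.1]; exact hj)] at this
  obtain rfl := (List.Nodup.getElem_inj_iff nodup_colPts).1 this
  rw [f2] at e2
  revert e2
  cases colVal.getD colBase false <;> simp [eq_comm]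

/-- The character of the unipotent part. -/
theorem exists_chi (X : RF (ZMod 2)) : ∃ χ : (TU X).subgroupOf X.G1 →* Multiplicative (ZMod 2),
    ∀ (l : List ℕ) (u : (TU X).subgroupOf X.G1), (∀ k ∈ l, k < 12) → ((u : X.G1) : GL chevF4.Idx (ZMod 2)) = wG (zw l) →
      χ u = Multiplicative.ofAdd (if zpar l then 1 else 0) := by
  classical
  have hsel : ∀ u : (TU X).subgroupOf X.G1, ∃ l, (∀ k ∈ l, k < 12) ∧ ((u : X.G1) : GL chevF4.Idx (ZMod 2)) = wG (zw l) :=
    fun u => by
      obtain ⟨l, hl, e⟩ := exists_sel X (Subgroup.mem_subgroupOf.1 u.2)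
      exact ⟨l, fun k hk => List.mem_range.1 (hl.subset hk), e⟩
  choose sel hlt hsel using hsel
  have hpar : ∀ a b : List ℕ, zpar (a ++ b) = xor (zpar a) (zpar b) := by
    intro a b
    induction a with
    | nil => simp [zpar]
    | cons k a ih =>
      rw [List.cons_append, show zpar (k :: (a ++ b)) = xor (zpar [k]) (zpar (a ++ b)) by simp [zpar],
        show zpar (k :: a) = xor (zpar [k]) (zpar a) by simp [zpar], ih, Bool.xor_assoc]
  refine ⟨MonoidHom.mk' (fun u => Multiplicative.ofAdd (if zpar (sel u) then 1 else 0)) fun u v => ?_, fun l u hl e => ?_⟩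
  · have : zpar (sel (u * v)) = xor (zpar (sel u)) (zpar (sel v)) := by
      rw [← hpar]
      refine par_congr (hlt _) (fun k hk => (List.mem_append.1 hk).elim (hlt u k) (hlt v k)) ?_
      rw [← hsel, wG_zw_append, ← hsel, ← hsel]
      rfl
    show Multiplicative.ofAdd _ = Multiplicative.ofAdd _ * Multiplicative.ofAdd _
    rw [← ofAdd_add, this]
    cases zpar (sel u) <;> cases zpar (sel v) <;> rfl
  · show Multiplicative.ofAdd _ = _
    rw [par_congr (hlt u) hl ((hsel u).symm.trans e)]

/-- Subtracting one. -/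
noncomputable def shiftM (g : GL chevF4.Idx (ZMod 2)) : Matrix chevF4.Idx chevF4.Idx (ZMod 2) := (g : Matrix _ _ _) - 1

theorem rank_shiftM_conj (g u : GL chevF4.Idx (ZMod 2)) : (shiftM (g * u * g⁻¹)).rank = (shiftM u).rank := by
  have h : shiftM (g * u * g⁻¹) = (g : Matrix _ _ _) * shiftM u * ((g⁻¹ : GL chevF4.Idx (ZMod 2)) : Matrix _ _ _) := by
    rw [shiftM, shiftM, Units.val_mul, Units.val_mul, Matrix.mul_sub, Matrix.sub_mul, mul_one, Units.mul_inv]
  rw [h, Matrix.rank_mul_eq_left_of_isUnit_det _ _ ((Matrix.isUnit_iff_isUnit_det _).1 (g⁻¹).isUnit),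
    Matrix.rank_mul_eq_right_of_isUnit_det _ _ ((Matrix.isUnit_iff_isUnit_det _).1 g.isUnit)]

theorem vecMul_shiftM {w : List ℕ} (hw : ∀ r ∈ w, r < 48) (m : ℕ) (a : chevF4.Idx) :
    Matrix.vecMul (fun x => Word.bitV m (enc chevF4.rank chevF4.nroots x)) (shiftM (wG w)) a =
      Word.bitV (diffImg w m) (enc chevF4.rank chevF4.nroots a) := by
  rw [shiftM, Matrix.vecMul_sub, Matrix.vecMul_one, Pi.sub_apply, bitV_run hw, diffImg,
    Cfsg.Lib.TitsPacked.runQ_eq]
  unfold Word.bitV
  rw [Nat.testBit_xor]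
  cases (runR w m).testBit (enc chevF4.rank chevF4.nroots a) <;>
    cases m.testBit (enc chevF4.rank chevF4.nroots a) <;> decide

theorem rank_rep {r : ℕ} (hr : r < repList.length) : 33 ≤ (shiftM (wG (zw (repList.getD r [])))).rank := by
  have h := List.all_eq_true.1 low_ok.2 r (List.mem_range.2 hr)
  simp only [Bool.and_eq_true, beq_iff_eq, List.all_eq_true, List.mem_range, decide_eq_true_eq] at h
  obtain ⟨⟨hlen, hpiv⟩, hid⟩ := h
  set l := lowRank.getD r []
  set w := zw (repList.getD r [])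
  have hw : ∀ q ∈ w, q < 48 := fun q hq => (zw_roots hq).1
  have hc : chevF4.rank + chevF4.nroots = 52 := by decide +kernel
  have hp : ∀ k : Fin 33, ∃ a, enc chevF4.rank chevF4.nroots a = (l.getD k (0, 0)).2 := fun k =>
    exists_enc _ _ (by
      rw [hc, List.getD_eq_getElem _ _ (hlen.symm ▸ k.2)]
      exact hpiv _ (List.getElem_mem _))
  choose piv hpiv' using hp
  let A : Matrix (Fin 33) chevF4.Idx (ZMod 2) := fun j x => Word.bitV (l.getD j (0, 0)).1 (enc chevF4.rank chevF4.nroots x)
  have e : (A * shiftM (wG w)).submatrix id piv = 1 := by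
    ext j k
    rw [Matrix.submatrix_apply, id, Matrix.mul_apply_eq_vecMul]
    show Matrix.vecMul (fun x => Word.bitV (l.getD j (0, 0)).1 (enc chevF4.rank chevF4.nroots x)) (shiftM (wG w)) (piv k) = _
    rw [vecMul_shiftM hw, hpiv' k]
    unfold Word.bitV
    rw [hid j j.2 k k.2, Matrix.one_apply]
    by_cases hjk : j = k
    · subst hjk; simp
    · rw [show ((j : ℕ) == (k : ℕ)) = false from beq_eq_false_iff_ne.2 (Fin.val_ne_of_ne hjk)]
      simp [hjk]
  calc 33 = ((1 : Matrix (Fin 33) (Fin 33) (ZMod 2))).rank := by rw [Matrix.rank_one, Fintype.card_fin]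
    _ ≤ (A * shiftM (wG w)).rank := e ▸ Matrix.rank_submatrix_le _ _ _
    _ ≤ _ := Matrix.rank_mul_le_right _ _

theorem bitV_combo (n : ℕ) : ∀ (l : List ℕ) (c : ℕ),
    Word.bitV (combo l c) n = ∑ a : Fin l.length, Word.bitV c a * Word.bitV (l.getD a 0) n
  | [], c => by simp [combo, Word.bitV]
  | b :: l, c => by
    have hsucc : ∀ a : ℕ, (c / 2).testBit a = c.testBit (a + 1) := fun a => by rw [Nat.testBit_add_one]
    show _ = ∑ a : Fin (l.length + 1), _
    rw [combo, Fin.sum_univ_succ]
    have := bitV_combo n l (c / 2)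
    simp only [Fin.val_zero, Fin.val_succ, List.getD_cons_zero, List.getD_cons_succ]
    have e : ∀ a : Fin l.length, Word.bitV c (a + 1) = Word.bitV (c / 2) a := fun a => by
      unfold Word.bitV; rw [hsucc]
    simp only [e, ← this]
    unfold Word.bitV
    rw [Nat.testBit_xor]
    cases c.testBit 0 <;> simp only [cond_true, cond_false, Nat.zero_testBit] <;> cases b.testBit n <;>
      cases (combo l (c / 2)).testBit n <;> decide

theorem rank_b : (shiftM (wG [27, 25, 28])).rank ≤ 32 := by
  obtain ⟨hlen, hall, -, -⟩ := high_ok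
  let P : Matrix chevF4.Idx (Fin highBasis.length) (ZMod 2) := fun i a =>
    Word.bitV (highCoef.getD (enc chevF4.rank chevF4.nroots i) 0) a
  let Q : Matrix (Fin highBasis.length) chevF4.Idx (ZMod 2) := fun a x =>
    Word.bitV (highBasis.getD a 0) (enc chevF4.rank chevF4.nroots x)
  have hc : chevF4.rank + chevF4.nroots = 52 := by decide +kernel
  have e : shiftM (wG [27, 25, 28]) = P * Q := by
    ext i x
    have hi : enc chevF4.rank chevF4.nroots i < 52 := hc ▸ enc_lt _ _ i
    have hx : enc chevF4.rank chevF4.nroots x < 52 := hc ▸ enc_lt _ _ x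
    have h := List.all_eq_true.1 hall _ (List.mem_range.2 hi)
    have hbit := congrArg (fun v => v.testBit (enc chevF4.rank chevF4.nroots x)) (Nat.eq_of_beq_eq_true h)
    simp only [Nat.testBit_mod_two_pow, hx, decide_true, Bool.true_and] at hbit
    have hv := vecMul_shiftM (w := [27, 25, 28]) (by decide) (2 ^ enc chevF4.rank chevF4.nroots i) x
    rw [show (fun a => Word.bitV (2 ^ enc chevF4.rank chevF4.nroots i) (enc chevF4.rank chevF4.nroots a)) =
        Pi.single i (1 : ZMod 2) from funext fun a => by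
      simp [Word.bitV, Pi.single_apply, Nat.testBit_two_pow, (enc_injective _ _).eq_iff, eq_comm],
      Matrix.single_one_vecMul] at hv
    show shiftM (wG [27, 25, 28]) i x = _
    rw [show shiftM (wG [27, 25, 28]) i x = (shiftM (wG [27, 25, 28])).row i x from rfl, hv]
    unfold Word.bitV
    rw [hbit]
    exact bitV_combo _ highBasis _
  rw [e]
  exact ((Matrix.rank_mul_le_left P Q).trans (Matrix.rank_le_card_width P)).trans (by rw [Fintype.card_fin, hlen])

theorem conj_shape {G : Type*} [Group G] {L C R g b : G} (h : L * C = C * R) (e : L = g * b * g⁻¹) :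
    R = C⁻¹ * g * b * (C⁻¹ * g)⁻¹ := by
  rw [eq_inv_mul_of_mul_eq h.symm, e]
  group

theorem conj_shapeGL {L C R g b : GL chevF4.Idx (ZMod 2)} (h : L * C = C * R) (e : L = g * b * g⁻¹) :
    (shiftM R).rank = (shiftM b).rank := by
  have h1 : R = C⁻¹ * (L * C) := by rw [h, inv_mul_cancel_left]
  have h2 : R = C⁻¹ * g * b * (C⁻¹ * g)⁻¹ := by
    rw [h1, e, mul_inv_rev, inv_inv]
    simp only [mul_assoc]
  rw [h2, rank_shiftM_conj]

theorem even_not_conj (X : RF (ZMod 2)) {l : List ℕ} (hl : l.Sublist (List.range 12)) (hp : zpar l = false)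
    (g : GL chevF4.Idx (ZMod 2)) : wG (zw l) ≠ g * wG [27, 25, 28] * g⁻¹ := by
  intro e
  obtain ⟨d, hd⟩ := sel_ok hl
  simp only [selOK, hp, Bool.false_or, Bool.and_eq_true, Bool.or_eq_true, Bool.not_eq_true', decide_eq_true_eq,
    List.all_eq_true] at hd
  have hlt : ∀ r ∈ zw l, r < 48 := fun r hr => (zw_roots hr).1
  obtain ⟨-, -, h2, h4⟩ := high_ok
  set b := [27, 25, 28]
  have hb : ∀ r ∈ b, r < 48 := by decide
  rcases hd.2 with (hd | hd) | ⟨⟨hr, hzs⟩, hfix⟩
  · have h1 := regular X (w := zw l ++ zw l) (fun r hr => (List.mem_append.1 hr).elim (hlt r) (hlt r))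
      (by rw [← zw_append]; exact mem_TU X _) hd
    rw [wG_append, e, conj_mul, mul_inv_eq_one, mul_eq_left, ← wG_append] at h1
    exact ne_one_of_moves (fun r hr => (List.mem_append.1 hr).elim (hb r) (hb r)) h2 h1
  · have hne := ne_one_of_moves (w := zw l ++ zw l ++ zw l ++ zw l) (by simpa [or_imp, forall_and] using hlt) hd
    refine hne ?_
    rw [wG_append, wG_append, wG_append, e, conj_mul, conj_mul, conj_mul, mul_inv_eq_one, mul_eq_left,
      ← wG_append, ← wG_append, ← wG_append]
    refine regular X (w := b ++ b ++ b ++ b) (by simpa [or_imp, forall_and] using hb) ?_ h4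
    have : b = zw [0] := by decide +kernel
    rw [this, ← zw_append, ← zw_append, ← zw_append]
    exact mem_TU X _
  · set c := d.1
    set rp := repList.getD d.2 []
    have h1 := regular X (w := zw l ++ zw c ++ (zw c ++ zw rp).reverse)
      (fun r hr => by
        rcases List.mem_append.1 hr with hr | hr
        · exact (List.mem_append.1 hr).elim (hlt r) fun hr => (zw_roots hr).1
        · exact (List.mem_append.1 (List.mem_reverse.1 hr)).elim (fun hr => (zw_roots hr).1) fun hr => (zw_roots hr).1)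
      (by rw [wG_append, ← zw_append, ← zw_append, wG_inv]; exact mul_mem (mem_TU X _) (inv_mem (mem_TU X _))) hfix
    rw [wG_append, wG_inv, mul_inv_eq_one, wG_append (zw l), wG_append (zw c)] at h1
    have hR := conj_shapeGL (L := wG (zw l)) (C := wG (zw c)) (R := wG (zw rp)) (g := g) (b := wG b) h1 e
    have hrank : 33 ≤ (shiftM (wG (zw rp))).rank := rank_rep hr
    have hb32 : (shiftM (wG b)).rank ≤ 32 := rank_b
    rw [hR] at hrank
    omega

/-- A transfer to an abelian group that is odd on an element of order four. -/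
theorem transfer_odd {G : Type*} [Group G] [Finite G] (H : Subgroup G) (χ : H →* Multiplicative (ZMod 2)) (g : G)
    (hg4 : g ^ 4 = 1)
    (key : ∀ (x : G) (k : ℕ), k = 1 ∨ k = 2 ∨ k = 4 → ∀ hm : x⁻¹ * g ^ k * x ∈ H,
      χ ⟨_, hm⟩ = Multiplicative.ofAdd (k : ZMod 2))
    (hidx : (H.index : ZMod 2) ≠ 0) : g ∉ commutator G := by
  classical
  intro hg
  letI : Fintype (Quotient (MulAction.orbitRel (Subgroup.zpowers g) (G ⧸ H))) := Fintype.ofFinite _
  have hker : MonoidHom.transfer χ g = 1 := Abelianization.commutator_subset_ker _ hg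
  rw [MonoidHom.transfer_eq_prod_quotient_orbitRel_zpowers_quot] at hker
  have hterm : ∀ q : Quotient (MulAction.orbitRel (Subgroup.zpowers g) (G ⧸ H)),
      χ ⟨_, QuotientGroup.out_conj_pow_minimalPeriod_mem H g q.out⟩ =
        Multiplicative.ofAdd ((Function.minimalPeriod (g • ·) q.out : ℕ) : ZMod 2) := fun q => by
    refine key q.out.out _ ?_ _
    have hdvd : Function.minimalPeriod (g • ·) q.out ∣ 4 :=
      MulAction.pow_smul_eq_iff_minimalPeriod_dvd.1 (by rw [hg4, one_smul])
    generalize Function.minimalPeriod (g • ·) q.out = k at hdvd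
    have := Nat.le_of_dvd (by norm_num) hdvd
    interval_cases k <;> omega
  rw [Finset.prod_congr rfl fun q _ => hterm q, ← ofAdd_sum, ← Nat.cast_sum,
    ← Subgroup.index_eq_sum_minimalPeriod H g] at hker
  exact hidx (Multiplicative.ofAdd.injective hker)

theorem sel_flat : ∀ (l : List ℕ), (∀ x ∈ l, x < 12) → flatW (List.map (fun i => Z.getD i default) l) = zw l ∧
    par (List.map (fun i => Z.getD i default) l) = zpar l
  | [], _ => ⟨rfl, rfl⟩
  | a :: l, hl => by
    have h1 : ∀ k < 12, zw [k] = (Z.getD k default).2.1 ∧ zpar [k] = (Z.getD k default).2.2 := by decide +kernel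
    obtain ⟨i1, i2⟩ := sel_flat l fun x hx => hl x (List.mem_cons_of_mem _ hx)
    obtain ⟨j1, j2⟩ := h1 a (hl a List.mem_cons_self)
    refine ⟨?_, ?_⟩
    · rw [zw_cons, ← i1, j1]; simp [flatW]
    · rw [show zpar (a :: l) = xor (zpar [a]) (zpar l) by simp [zpar], ← i2, j2]; simp [par]

theorem invol_even {l : List ℕ} (hl : l.Sublist (List.range 12)) (h : wG (zw l) * wG (zw l) = 1) : zpar l = false := by
  by_contra hp
  have hlt : ∀ r ∈ zw l, r < 48 := fun r hr => (zw_roots hr).1
  have hl' : ∀ x ∈ l, x < 12 := fun x hx => List.mem_range.1 (hl.subset hx)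
  have hS : (List.map (fun i => Z.getD i default) l).Sublist Z := by
    have := hl.map (fun i => Z.getD i default)
    rwa [show (List.range 12).map (fun i => Z.getD i default) = Z from rfl] at this
  obtain ⟨hf1, hf2⟩ := sel_flat l hl'
  have hodd := TitsInvol.odd_moves hS (hf2.trans (by simpa using hp))
  rw [hf1] at hodd
  exact wG_ne_one (w := zw l ++ zw l) (fun r hr => (List.mem_append.1 hr).elim (hlt r) (hlt r)) hodd
    ((wG_append _ _).trans h)

theorem elemB_mem (X : RF (ZMod 2)) : wG [27, 25, 28] ∈ X.G1 := by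
  have h : zw [0] = [27, 25, 28] := by decide +kernel
  exact h ▸ (Subgroup.mem_inf.1 (mem_TU X [0])).2

theorem elemB_pow_four (X : RF (ZMod 2)) : wG [27, 25, 28] ^ 4 = 1 := by
  have h : zw [0, 0, 0, 0] = [27, 25, 28] ++ [27, 25, 28] ++ [27, 25, 28] ++ [27, 25, 28] := by decide +kernel
  have h1 := regular X (fun r hr => (zw_roots hr).1) (mem_TU X [0, 0, 0, 0]) (h ▸ high_ok.2.2.2)
  rw [h, wG_append, wG_append, wG_append] at h1
  rw [pow_succ, pow_succ, pow_succ, pow_one]
  exact h1

/-- The transfer separates the group from its derived subgroup. -/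
theorem elemB_not_mem (X : RF (ZMod 2)) :
    (⟨wG [27, 25, 28], elemB_mem X⟩ : ↥X.G1) ∉ commutator ↥X.G1 := by
  haveI : Finite ↥X.G1 := Subtype.finite
  obtain ⟨χ, hχ⟩ := exists_chi X
  have hidx : ((TU X).subgroupOf X.G1).index = 8775 := by
    have h := ((TU X).subgroupOf X.G1).card_mul_index
    have h4 : Nat.card ↥((TU X).subgroupOf X.G1) = 4096 := by
      rw [Nat.card_congr (Subgroup.subgroupOfEquivOfLe (inf_le_right : TU X ≤ X.G1)).toEquiv]
      exact X.card_U1.trans (by rw [ZMod.card]; norm_num)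
    have h5 : Nat.card ↥X.G1 = 35942400 := by
      rw [X.order, ZMod.card]; norm_num
    rw [h4, h5] at h
    omega
  refine transfer_odd _ χ _ (Subtype.ext (elemB_pow_four X)) (fun x k hk hm => ?_) (by rw [hidx]; decide)
  obtain ⟨l, hl, e⟩ := exists_sel X (Subgroup.mem_subgroupOf.1 hm)
  have hl' : ∀ y ∈ l, y < 12 := fun y hy => List.mem_range.1 (hl.subset hy)
  rw [hχ l ⟨_, hm⟩ hl' e]
  simp only [Subgroup.coe_mul, Subgroup.coe_inv, SubgroupClass.coe_pow] at e
  rcases hk with rfl | rfl | rfl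
  · have : zpar l = true := by
      by_contra hp
      refine even_not_conj X hl (by simpa using hp) (x : GL chevF4.Idx (ZMod 2))⁻¹ ?_
      rw [← e, pow_one, inv_inv]
    rw [this]; rfl
  · have : zpar l = false := by
      refine invol_even hl ?_
      rw [← e, ← sq]
      have h2 : ∀ {G : Type} [Group G] (a b : G), b ^ 4 = 1 → (a⁻¹ * b ^ 2 * a) ^ 2 = 1 := by
        intro G _ a b hb
        rw [sq (a⁻¹ * b ^ 2 * a), show a⁻¹ * b ^ 2 * a * (a⁻¹ * b ^ 2 * a) = a⁻¹ * (b ^ 2 * b ^ 2) * a by group,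
          ← pow_add, hb, mul_one, inv_mul_cancel]
      exact h2 _ _ (elemB_pow_four X)
    rw [this]; rfl
  · have : zpar l = false := by
      refine par_congr hl' (b := []) (by simp) ?_
      rw [← e, elemB_pow_four X, mul_one, inv_mul_cancel]
      exact wG_nil.symm
    rw [this]; rfl

end Cfsg.Lib.TitsComm
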