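import Cfsg.Agent.Known.TitsCommDefs

/-!
The selections with prefix codes 8 to 11.
-/

set_option autoImplicit false
set_option Elab.async false
set_option maxRecDepth 100000

namespace Cfsg.Lib.TitsComm

theorem pre8 : preOK 8 = true := by decide +kernel
theorem pre9 : preOK 9 = true := by decide +kernel
theorem pre10 : preOK 10 = true := by decide +kernel
theorem pre11 : preOK 11 = true := by decide +kernel

end Cfsg.Lib.TitsComm
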