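import Cfsg.Agent.Known.TitsCommDefs

/-!
The selections with prefix codes 12 to 15.
-/

set_option autoImplicit false
set_option Elab.async false
set_option maxRecDepth 100000

namespace Cfsg.Lib.TitsComm

theorem pre12 : preOK 12 = true := by decide +kernel
theorem pre13 : preOK 13 = true := by decide +kernel
theorem pre14 : preOK 14 = true := by decide +kernel
theorem pre15 : preOK 15 = true := by decide +kernel

end Cfsg.Lib.TitsComm
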