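import Cfsg.Agent.Known.TitsPre0
import Cfsg.Agent.Known.TitsPre1
import Cfsg.Agent.Known.TitsPre2
import Cfsg.Agent.Known.TitsPre3

/-!
Checks for the derived subgroup of `²F₄(2)`.
-/

set_option autoImplicit false
set_option Elab.async false
set_option maxRecDepth 100000

namespace Cfsg.Lib.TitsComm

open Cfsg.Lib.TitsInvol (WZ runR)

theorem pre_ok : ∀ pre < 16, preOK pre = true := by
  intro pre h
  interval_cases pre
  exacts [pre0, pre1, pre2, pre3, pre4, pre5, pre6, pre7, pre8, pre9, pre10, pre11, pre12, pre13, pre14, pre15]

theorem col_ok : colPts.length = 256 ∧ colBase < 256 ∧ colVal.getD colBase true = false ∧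
    (List.range 256).all (fun j => decide (colPts.getD j 0 < 2 ^ 52) &&
      (List.range 12).all fun k => decide ((colStep.getD j []).getD k 0 < 256) &&
        Nat.beq (runR (zw [k]) (colPts.getD j 0)) (colPts.getD ((colStep.getD j []).getD k 0) 0) &&
        (colVal.getD ((colStep.getD j []).getD k 0) false == xor (colVal.getD j false) (zpar [k]))) = true := by
  decide +kernel

theorem col_sorted : (match colPts with | [] => true | a :: l => incr a l) = true := by decide +kernel

theorem low_ok : lowRank.length = repList.length ∧ ((List.range repList.length).all fun r =>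
    let w := zw (repList.getD r []); let l := lowRank.getD r []
    (l.length == 33) && l.all (fun t => decide (t.2 < 52)) && (List.range 33).all fun j => (List.range 33).all fun k =>
      (diffImg w (l.getD j (0, 0)).1).testBit (l.getD k (0, 0)).2 == (j == k)) = true := by decide +kernel

theorem high_ok : highBasis.length = 32 ∧ ((List.range 52).all fun i =>
    Nat.beq (diffImg [27, 25, 28] (2 ^ i) % 2 ^ 52) (combo highBasis (highCoef.getD i 0) % 2 ^ 52)) = true ∧
    fixes48 ([27, 25, 28] ++ [27, 25, 28]) = false ∧ fixes48 ([27, 25, 28] ++ [27, 25, 28] ++ [27, 25, 28] ++ [27, 25, 28]) = true := by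
  decide +kernel

theorem odd_ok0 : oddOK 0 = true := by decide +kernel
theorem odd_ok1 : oddOK 1 = true := by decide +kernel
theorem odd_ok2 : oddOK 2 = true := by decide +kernel
theorem odd_ok3 : oddOK 3 = true := by decide +kernel
theorem odd_ok4 : oddOK 4 = true := by decide +kernel
theorem odd_ok5 : oddOK 5 = true := by decide +kernel
theorem odd_ok6 : oddOK 6 = true := by decide +kernel
theorem odd_ok7 : oddOK 7 = true := by decide +kernel

theorem odd_ok : ∀ i < 8, oddOK i = true := by
  intro i h
  interval_cases i
  exacts [odd_ok0, odd_ok1, odd_ok2, odd_ok3, odd_ok4, odd_ok5, odd_ok6, odd_ok7]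

end Cfsg.Lib.TitsComm
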