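import Cfsg.Agent.Known.TitsEval

/-!
Certificates for the derived subgroup of `²F₄(2)`.
-/

set_option autoImplicit false
set_option maxRecDepth 100000

namespace Cfsg.Lib.TitsComm

/-- An orbit of the unipotent group with a consistent colouring. -/
def colPts : List ℕ := [
  4, 20, 36, 52,
  516, 532, 548, 564,
  1028, 1044, 1060, 1076,
  1540, 1556, 1572, 1588,
  1048580, 1048596, 1048612, 1048628,
  1049092, 1049108, 1049124, 1049140,
  1049668, 1049684, 1049700, 1049716,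
  1050180, 1050196, 1050212, 1050228,
  2097156, 2097172, 2097188, 2097204,
  2097732, 2097748, 2097764, 2097780,
  2098180, 2098196, 2098212, 2098228,
  2098756, 2098772, 2098788, 2098804,
  3145732, 3145748, 3145764, 3145780,
  3146308, 3146324, 3146340, 3146356,
  3146820, 3146836, 3146852, 3146868,
  3147268, 3147284, 3147300, 3147316,
  33554436, 33554452, 33554468, 33554484,
  33554948, 33554964, 33554980, 33554996,
  33555716, 33555732, 33555748, 33555764,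
  33556228, 33556244, 33556260, 33556276,
  34603012, 34603028, 34603044, 34603060,
  34603524, 34603540, 34603556, 34603572,
  34604356, 34604372, 34604388, 34604404,
  34604868, 34604884, 34604900, 34604916,
  36175876, 36175892, 36175908, 36175924,
  36176452, 36176468, 36176484, 36176500,
  36177156, 36177172, 36177188, 36177204,
  36177732, 36177748, 36177764, 36177780,
  37224452, 37224468, 37224484, 37224500,
  37225028, 37225044, 37225060, 37225076,
  37225796, 37225812, 37225828, 37225844,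
  37226244, 37226260, 37226276, 37226292,
  67108868, 67108884, 67108900, 67108916,
  67109636, 67109652, 67109668, 67109684,
  67109892, 67109908, 67109924, 67109940,
  67110660, 67110676, 67110692, 67110708,
  68681732, 68681748, 68681764, 68681780,
  68682500, 68682516, 68682532, 68682548,
  68682820, 68682836, 68682852, 68682868,
  68683588, 68683604, 68683620, 68683636,
  69206020, 69206036, 69206052, 69206068,
  69206852, 69206868, 69206884, 69206900,
  69207044, 69207060, 69207076, 69207092,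
  69207876, 69207892, 69207908, 69207924,
  70778884, 70778900, 70778916, 70778932,
  70779716, 70779732, 70779748, 70779764,
  70779972, 70779988, 70780004, 70780020,
  70780676, 70780692, 70780708, 70780724,
  100663300, 100663316, 100663332, 100663348,
  100664068, 100664084, 100664100, 100664116,
  100664580, 100664596, 100664612, 100664628,
  100664836, 100664852, 100664868, 100664884,
  102236164, 102236180, 102236196, 102236212,
  102236932, 102236948, 102236964, 102236980,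
  102237508, 102237524, 102237540, 102237556,
  102237764, 102237780, 102237796, 102237812,
  103284740, 103284756, 103284772, 103284788,
  103285572, 103285588, 103285604, 103285620,
  103286020, 103286036, 103286052, 103286068,
  103286340, 103286356, 103286372, 103286388,
  103809028, 103809044, 103809060, 103809076,
  103809860, 103809876, 103809892, 103809908,
  103810372, 103810388, 103810404, 103810420,
  103810564, 103810580, 103810596, 103810612]

/-- The colours. -/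
def colVal : List Bool := [false, false, false, false, false, false, false, false, true, true, true, true, true, true, true, true, true, true, true, true, true, true, true, true, false, false, false, false, false, false, false, false, false, false, false, false, false, false, false, false, true, true, true, true, true, true, true, true, true, true, true, true, true, true, true, true, false, false, false, false, false, false, false, false, true, true, true, true, true, true, true, true, false, false, false, false, false, false, false, false, false, false, false, false, false, false, false, false, true, true, true, true, true, true, true, true, true, true, true, true, true, true, true, true, false, false, false, false, false, false, false, false, false, false, false, false, false, false, false, false, true, true, true, true, true, true, true, true, true, true, true, true, true, true, true, true, false, false, false, false,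 false, false, false, false, false, false, false, false, false, false, false, false, true, true, true, true, true, true, true, true, true, true, true, true, true, true, true, true, false, false, false, false, false, false, false, false, false, false, false, false, false, false, false, false, true, true, true, true, true, true, true, true, true, true, true, true, true, true, true, true, false, false, false, false, false, false, false, false, false, false, false, false, false, false, false, false, true, true, true, true, true, true, true, true, true, true, true, true, true, true, true, true, false, false, false, false, false, false, false, false, false, false, false, false, false, false, false, false, true, true, true, true, true, true, true, true]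

/-- The images under the twelve representatives. -/
def colStep : List (List ℕ) := [
  [128, 0, 64, 32, 16, 8, 0, 4, 0, 0, 2, 1],
  [129, 1, 65, 33, 17, 9, 1, 5, 1, 1, 3, 0],
  [130, 3, 66, 34, 18, 10, 2, 6, 2, 2, 0, 3],
  [131, 2, 67, 35, 19, 11, 3, 7, 3, 3, 1, 2],
  [134, 4, 68, 38, 20, 12, 5, 0, 4, 4, 6, 5],
  [135, 5, 69, 39, 21, 13, 4, 1, 5, 5, 7, 4],
  [132, 7, 70, 36, 22, 14, 7, 2, 6, 6, 4, 7],
  [133, 6, 71, 37, 23, 15, 6, 3, 7, 7, 5, 6],
  [136, 12, 72, 40, 24, 1, 10, 12, 8, 8, 10, 9],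
  [137, 13, 73, 41, 25, 0, 11, 13, 9, 9, 11, 8],
  [138, 15, 74, 42, 26, 3, 8, 14, 10, 10, 8, 11],
  [139, 14, 75, 43, 27, 2, 9, 15, 11, 11, 9, 10],
  [142, 8, 76, 46, 28, 5, 15, 8, 12, 12, 14, 13],
  [143, 9, 77, 47, 29, 4, 14, 9, 13, 13, 15, 12],
  [140, 11, 78, 44, 30, 7, 13, 10, 14, 14, 12, 15],
  [141, 10, 79, 45, 31, 6, 12, 11, 15, 15, 13, 14],
  [144, 20, 80, 48, 2, 24, 16, 20, 17, 16, 18, 17],
  [145, 21, 81, 49, 3, 25, 17, 21, 16, 17, 19, 16],
  [146, 23, 82, 50, 0, 26, 18, 22, 19, 18, 16, 19],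
  [147, 22, 83, 51, 1, 27, 19, 23, 18, 19, 17, 18],
  [150, 16, 84, 54, 6, 28, 21, 16, 21, 20, 22, 21],
  [151, 17, 85, 55, 7, 29, 20, 17, 20, 21, 23, 20],
  [148, 19, 86, 52, 4, 30, 23, 18, 23, 22, 20, 23],
  [149, 18, 87, 53, 5, 31, 22, 19, 22, 23, 21, 22],
  [154, 24, 89, 56, 10, 17, 26, 28, 25, 24, 26, 25],
  [155, 25, 88, 57, 11, 16, 27, 29, 24, 25, 27, 24],
  [152, 27, 91, 58, 8, 19, 24, 30, 27, 26, 24, 27],
  [153, 26, 90, 59, 9, 18, 25, 31, 26, 27, 25, 26],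
  [156, 28, 93, 62, 14, 21, 31, 24, 29, 28, 30, 29],
  [157, 29, 92, 63, 15, 20, 30, 25, 28, 29, 31, 28],
  [158, 31, 95, 60, 12, 23, 29, 26, 31, 30, 28, 31],
  [159, 30, 94, 61, 13, 22, 28, 27, 30, 31, 29, 30],
  [160, 60, 97, 0, 48, 40, 32, 37, 34, 32, 34, 33],
  [161, 61, 96, 1, 49, 41, 33, 36, 35, 33, 35, 32],
  [162, 63, 99, 2, 50, 42, 34, 39, 32, 34, 32, 35],
  [163, 62, 98, 3, 51, 43, 35, 38, 33, 35, 33, 34],
  [164, 56, 100, 6, 52, 44, 37, 33, 38, 36, 38, 37],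
  [165, 57, 101, 7, 53, 45, 36, 32, 39, 37, 39, 36],
  [166, 59, 102, 4, 54, 46, 39, 35, 36, 38, 36, 39],
  [167, 58, 103, 5, 55, 47, 38, 34, 37, 39, 37, 38],
  [168, 48, 105, 8, 56, 33, 42, 45, 42, 40, 42, 41],
  [169, 49, 104, 9, 57, 32, 43, 44, 43, 41, 43, 40],
  [170, 51, 107, 10, 58, 35, 40, 47, 40, 42, 40, 43],
  [171, 50, 106, 11, 59, 34, 41, 46, 41, 43, 41, 42],
  [172, 52, 108, 14, 60, 37, 47, 41, 46, 44, 46, 45],
  [173, 53, 109, 15, 61, 36, 46, 40, 47, 45, 47, 44],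
  [174, 55, 110, 12, 62, 39, 45, 43, 44, 46, 44, 47],
  [175, 54, 111, 13, 63, 38, 44, 42, 45, 47, 45, 46],
  [176, 40, 113, 16, 34, 56, 48, 53, 51, 48, 50, 49],
  [177, 41, 112, 17, 35, 57, 49, 52, 50, 49, 51, 48],
  [178, 43, 115, 18, 32, 58, 50, 55, 49, 50, 48, 51],
  [179, 42, 114, 19, 33, 59, 51, 54, 48, 51, 49, 50],
  [180, 44, 116, 22, 38, 60, 53, 49, 55, 52, 54, 53],
  [181, 45, 117, 23, 39, 61, 52, 48, 54, 53, 55, 52],
  [182, 47, 118, 20, 36, 62, 55, 51, 53, 54, 52, 55],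
  [183, 46, 119, 21, 37, 63, 54, 50, 52, 55, 53, 54],
  [186, 36, 120, 24, 42, 49, 58, 61, 59, 56, 58, 57],
  [187, 37, 121, 25, 43, 48, 59, 60, 58, 57, 59, 56],
  [184, 39, 122, 26, 40, 51, 56, 63, 57, 58, 56, 59],
  [185, 38, 123, 27, 41, 50, 57, 62, 56, 59, 57, 58],
  [190, 32, 125, 30, 46, 53, 63, 57, 63, 60, 62, 61],
  [191, 33, 124, 31, 47, 52, 62, 56, 62, 61, 63, 60],
  [188, 35, 127, 28, 44, 55, 61, 59, 61, 62, 60, 63],
  [189, 34, 126, 29, 45, 54, 60, 58, 60, 63, 61, 62],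
  [208, 64, 4, 96, 80, 72, 66, 68, 64, 65, 66, 65],
  [209, 65, 5, 97, 81, 73, 67, 69, 65, 64, 67, 64],
  [210, 67, 6, 98, 82, 74, 64, 70, 66, 67, 64, 67],
  [211, 66, 7, 99, 83, 75, 65, 71, 67, 66, 65, 66],
  [214, 68, 0, 102, 84, 76, 71, 64, 68, 69, 70, 69],
  [215, 69, 1, 103, 85, 77, 70, 65, 69, 68, 71, 68],
  [212, 71, 2, 100, 86, 78, 69, 66, 70, 71, 68, 71],
  [213, 70, 3, 101, 87, 79, 68, 67, 71, 70, 69, 70],
  [218, 76, 12, 106, 89, 65, 72, 76, 72, 73, 74, 73],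
  [219, 77, 13, 107, 88, 64, 73, 77, 73, 72, 75, 72],
  [216, 79, 14, 104, 91, 67, 74, 78, 74, 75, 72, 75],
  [217, 78, 15, 105, 90, 66, 75, 79, 75, 74, 73, 74],
  [220, 72, 8, 108, 93, 69, 77, 72, 76, 77, 78, 77],
  [221, 73, 9, 109, 92, 68, 76, 73, 77, 76, 79, 76],
  [222, 75, 10, 110, 95, 71, 79, 74, 78, 79, 76, 79],
  [223, 74, 11, 111, 94, 70, 78, 75, 79, 78, 77, 78],
  [192, 84, 20, 112, 66, 88, 82, 84, 81, 81, 82, 81],
  [193, 85, 21, 113, 67, 89, 83, 85, 80, 80, 83, 80],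
  [194, 87, 22, 114, 64, 90, 80, 86, 83, 83, 80, 83],
  [195, 86, 23, 115, 65, 91, 81, 87, 82, 82, 81, 82],
  [198, 80, 16, 118, 70, 92, 87, 80, 85, 85, 86, 85],
  [199, 81, 17, 119, 71, 93, 86, 81, 84, 84, 87, 84],
  [196, 83, 18, 116, 68, 94, 85, 82, 87, 87, 84, 87],
  [197, 82, 19, 117, 69, 95, 84, 83, 86, 86, 85, 86],
  [200, 88, 29, 122, 75, 81, 88, 92, 89, 89, 90, 89],
  [201, 89, 28, 123, 74, 80, 89, 93, 88, 88, 91, 88],
  [202, 91, 31, 120, 73, 83, 90, 94, 91, 91, 88, 91],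
  [203, 90, 30, 121, 72, 82, 91, 95, 90, 90, 89, 90],
  [206, 92, 25, 124, 79, 85, 93, 88, 93, 93, 94, 93],
  [207, 93, 24, 125, 78, 84, 92, 89, 92, 92, 95, 92],
  [204, 95, 27, 126, 77, 87, 95, 90, 95, 95, 92, 95],
  [205, 94, 26, 127, 76, 86, 94, 91, 94, 94, 93, 94],
  [240, 124, 36, 64, 112, 106, 98, 100, 98, 97, 98, 97],
  [241, 125, 37, 65, 113, 107, 99, 101, 99, 96, 99, 96],
  [242, 127, 38, 66, 114, 104, 96, 102, 96, 99, 96, 99],
  [243, 126, 39, 67, 115, 105, 97, 103, 97, 98, 97, 98],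
  [244, 120, 33, 70, 116, 110, 103, 96, 102, 101, 102, 101],
  [245, 121, 32, 71, 117, 111, 102, 97, 103, 100, 103, 100],
  [246, 123, 35, 68, 118, 108, 101, 98, 100, 103, 100, 103],
  [247, 122, 34, 69, 119, 109, 100, 99, 101, 102, 101, 102],
  [250, 112, 44, 74, 121, 99, 104, 108, 106, 105, 106, 105],
  [251, 113, 45, 75, 120, 98, 105, 109, 107, 104, 107, 104],
  [248, 115, 46, 72, 123, 97, 106, 110, 104, 107, 104, 107],
  [249, 114, 47, 73, 122, 96, 107, 111, 105, 106, 105, 106],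
  [254, 116, 41, 76, 125, 103, 109, 104, 110, 109, 110, 109],
  [255, 117, 40, 77, 124, 102, 108, 105, 111, 108, 111, 108],
  [252, 119, 43, 78, 127, 101, 111, 106, 108, 111, 108, 111],
  [253, 118, 42, 79, 126, 100, 110, 107, 109, 110, 109, 110],
  [224, 104, 52, 80, 98, 122, 114, 116, 115, 113, 114, 113],
  [225, 105, 53, 81, 99, 123, 115, 117, 114, 112, 115, 112],
  [226, 107, 54, 82, 96, 120, 112, 118, 113, 115, 112, 115],
  [227, 106, 55, 83, 97, 121, 113, 119, 112, 114, 113, 114],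
  [228, 108, 49, 86, 102, 126, 119, 112, 119, 117, 118, 117],
  [229, 109, 48, 87, 103, 127, 118, 113, 118, 116, 119, 116],
  [230, 111, 51, 84, 100, 124, 117, 114, 117, 119, 116, 119],
  [231, 110, 50, 85, 101, 125, 116, 115, 116, 118, 117, 118],
  [232, 100, 61, 90, 107, 115, 120, 124, 123, 121, 122, 121],
  [233, 101, 60, 91, 106, 114, 121, 125, 122, 120, 123, 120],
  [234, 103, 63, 88, 105, 113, 122, 126, 121, 123, 120, 123],
  [235, 102, 62, 89, 104, 112, 123, 127, 120, 122, 121, 122],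
  [236, 96, 56, 92, 111, 119, 125, 120, 127, 125, 126, 125],
  [237, 97, 57, 93, 110, 118, 124, 121, 126, 124, 127, 124],
  [238, 99, 58, 94, 109, 117, 127, 122, 125, 127, 124, 127],
  [239, 98, 59, 95, 108, 116, 126, 123, 124, 126, 125, 126],
  [32, 192, 200, 160, 144, 136, 128, 132, 129, 130, 130, 129],
  [33, 193, 201, 161, 145, 137, 129, 133, 128, 131, 131, 128],
  [34, 195, 202, 162, 146, 138, 130, 134, 131, 128, 128, 131],
  [35, 194, 203, 163, 147, 139, 131, 135, 130, 129, 129, 130],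
  [36, 196, 204, 164, 149, 140, 133, 128, 133, 134, 134, 133],
  [37, 197, 205, 165, 148, 141, 132, 129, 132, 135, 135, 132],
  [38, 199, 206, 166, 151, 142, 135, 130, 135, 132, 132, 135],
  [39, 198, 207, 167, 150, 143, 134, 131, 134, 133, 133, 134],
  [40, 204, 192, 168, 152, 129, 138, 140, 137, 138, 138, 137],
  [41, 205, 193, 169, 153, 128, 139, 141, 136, 139, 139, 136],
  [42, 207, 194, 170, 154, 131, 136, 142, 139, 136, 136, 139],
  [43, 206, 195, 171, 155, 130, 137, 143, 138, 137, 137, 138],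
  [44, 200, 196, 172, 157, 133, 143, 136, 141, 142, 142, 141],
  [45, 201, 197, 173, 156, 132, 142, 137, 140, 143, 143, 140],
  [46, 203, 198, 174, 159, 135, 141, 138, 143, 140, 140, 143],
  [47, 202, 199, 175, 158, 134, 140, 139, 142, 141, 141, 142],
  [48, 212, 217, 176, 130, 154, 144, 149, 144, 146, 146, 145],
  [49, 213, 216, 177, 131, 155, 145, 148, 145, 147, 147, 144],
  [50, 215, 219, 178, 128, 152, 146, 151, 146, 144, 144, 147],
  [51, 214, 218, 179, 129, 153, 147, 150, 147, 145, 145, 146],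
  [52, 208, 221, 180, 135, 158, 149, 145, 148, 150, 150, 149],
  [53, 209, 220, 181, 134, 159, 148, 144, 149, 151, 151, 148],
  [54, 211, 223, 182, 133, 156, 151, 147, 150, 148, 148, 151],
  [55, 210, 222, 183, 132, 157, 150, 146, 151, 149, 149, 150],
  [58, 216, 208, 184, 138, 147, 154, 157, 152, 154, 154, 153],
  [59, 217, 209, 185, 139, 146, 155, 156, 153, 155, 155, 152],
  [56, 219, 210, 186, 136, 145, 152, 159, 154, 152, 152, 155],
  [57, 218, 211, 187, 137, 144, 153, 158, 155, 153, 153, 154],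
  [62, 220, 212, 188, 143, 151, 159, 153, 156, 158, 158, 157],
  [63, 221, 213, 189, 142, 150, 158, 152, 157, 159, 159, 156],
  [60, 223, 214, 190, 141, 149, 157, 155, 158, 156, 156, 159],
  [61, 222, 215, 191, 140, 148, 156, 154, 159, 157, 157, 158],
  [0, 252, 233, 128, 176, 168, 160, 165, 163, 162, 162, 161],
  [1, 253, 232, 129, 177, 169, 161, 164, 162, 163, 163, 160],
  [2, 255, 235, 130, 178, 170, 162, 167, 161, 160, 160, 163],
  [3, 254, 234, 131, 179, 171, 163, 166, 160, 161, 161, 162],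
  [6, 248, 236, 132, 181, 172, 165, 161, 167, 166, 166, 165],
  [7, 249, 237, 133, 180, 173, 164, 160, 166, 167, 167, 164],
  [4, 251, 238, 134, 183, 174, 167, 163, 165, 164, 164, 167],
  [5, 250, 239, 135, 182, 175, 166, 162, 164, 165, 165, 166],
  [8, 240, 225, 136, 184, 161, 170, 173, 171, 170, 170, 169],
  [9, 241, 224, 137, 185, 160, 171, 172, 170, 171, 171, 168],
  [10, 243, 227, 138, 186, 163, 168, 175, 169, 168, 168, 171],
  [11, 242, 226, 139, 187, 162, 169, 174, 168, 169, 169, 170],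
  [14, 244, 228, 140, 189, 165, 175, 169, 175, 174, 174, 173],
  [15, 245, 229, 141, 188, 164, 174, 168, 174, 175, 175, 172],
  [12, 247, 230, 142, 191, 167, 173, 171, 173, 172, 172, 175],
  [13, 246, 231, 143, 190, 166, 172, 170, 172, 173, 173, 174],
  [16, 232, 248, 144, 162, 186, 176, 180, 178, 178, 178, 177],
  [17, 233, 249, 145, 163, 187, 177, 181, 179, 179, 179, 176],
  [18, 235, 250, 146, 160, 184, 178, 182, 176, 176, 176, 179],
  [19, 234, 251, 147, 161, 185, 179, 183, 177, 177, 177, 178],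
  [22, 236, 253, 148, 167, 190, 181, 176, 182, 182, 182, 181],
  [23, 237, 252, 149, 166, 191, 180, 177, 183, 183, 183, 180],
  [20, 239, 255, 150, 165, 188, 183, 178, 180, 180, 180, 183],
  [21, 238, 254, 151, 164, 189, 182, 179, 181, 181, 181, 182],
  [26, 228, 241, 152, 170, 179, 186, 188, 186, 186, 186, 185],
  [27, 229, 240, 153, 171, 178, 187, 189, 187, 187, 187, 184],
  [24, 231, 243, 154, 168, 177, 184, 190, 184, 184, 184, 187],
  [25, 230, 242, 155, 169, 176, 185, 191, 185, 185, 185, 186],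
  [28, 224, 244, 156, 175, 183, 191, 184, 190, 190, 190, 189],
  [29, 225, 245, 157, 174, 182, 190, 185, 191, 191, 191, 188],
  [30, 227, 246, 158, 173, 181, 189, 186, 188, 188, 188, 191],
  [31, 226, 247, 159, 172, 180, 188, 187, 189, 189, 189, 190],
  [112, 128, 140, 224, 208, 200, 194, 196, 193, 195, 194, 193],
  [113, 129, 141, 225, 209, 201, 195, 197, 192, 194, 195, 192],
  [114, 131, 142, 226, 210, 202, 192, 198, 195, 193, 192, 195],
  [115, 130, 143, 227, 211, 203, 193, 199, 194, 192, 193, 194],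
  [116, 132, 136, 228, 213, 204, 199, 192, 197, 199, 198, 197],
  [117, 133, 137, 229, 212, 205, 198, 193, 196, 198, 199, 196],
  [118, 135, 138, 230, 215, 206, 197, 194, 199, 197, 196, 199],
  [119, 134, 139, 231, 214, 207, 196, 195, 198, 196, 197, 198],
  [122, 140, 132, 234, 217, 193, 200, 204, 201, 203, 202, 201],
  [123, 141, 133, 235, 216, 192, 201, 205, 200, 202, 203, 200],
  [120, 143, 134, 232, 219, 195, 202, 206, 203, 201, 200, 203],
  [121, 142, 135, 233, 218, 194, 203, 207, 202, 200, 201, 202],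
  [126, 136, 128, 238, 220, 197, 205, 200, 205, 207, 206, 205],
  [127, 137, 129, 239, 221, 196, 204, 201, 204, 206, 207, 204],
  [124, 139, 130, 236, 222, 199, 207, 202, 207, 205, 204, 207],
  [125, 138, 131, 237, 223, 198, 206, 203, 206, 204, 205, 206],
  [96, 148, 157, 240, 194, 218, 210, 213, 208, 211, 210, 209],
  [97, 149, 156, 241, 195, 219, 211, 212, 209, 210, 211, 208],
  [98, 151, 159, 242, 192, 216, 208, 215, 210, 209, 208, 211],
  [99, 150, 158, 243, 193, 217, 209, 214, 211, 208, 209, 210],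
  [100, 144, 153, 244, 199, 222, 215, 209, 212, 215, 214, 213],
  [101, 145, 152, 245, 198, 223, 214, 208, 213, 214, 215, 212],
  [102, 147, 155, 246, 197, 220, 213, 211, 214, 213, 212, 215],
  [103, 146, 154, 247, 196, 221, 212, 210, 215, 212, 213, 214],
  [104, 152, 148, 250, 203, 211, 216, 221, 216, 219, 218, 217],
  [105, 153, 149, 251, 202, 210, 217, 220, 217, 218, 219, 216],
  [106, 155, 150, 248, 201, 209, 218, 223, 218, 217, 216, 219],
  [107, 154, 151, 249, 200, 208, 219, 222, 219, 216, 217, 218],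
  [108, 156, 144, 254, 206, 215, 221, 217, 220, 223, 222, 221],
  [109, 157, 145, 255, 207, 214, 220, 216, 221, 222, 223, 220],
  [110, 159, 146, 252, 204, 213, 223, 219, 222, 221, 220, 223],
  [111, 158, 147, 253, 205, 212, 222, 218, 223, 220, 221, 222],
  [80, 188, 172, 192, 240, 234, 226, 228, 227, 227, 226, 225],
  [81, 189, 173, 193, 241, 235, 227, 229, 226, 226, 227, 224],
  [82, 191, 174, 194, 242, 232, 224, 230, 225, 225, 224, 227],
  [83, 190, 175, 195, 243, 233, 225, 231, 224, 224, 225, 226],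
  [86, 184, 169, 196, 245, 238, 231, 224, 231, 231, 230, 229],
  [87, 185, 168, 197, 244, 239, 230, 225, 230, 230, 231, 228],
  [84, 187, 171, 198, 247, 236, 229, 226, 229, 229, 228, 231],
  [85, 186, 170, 199, 246, 237, 228, 227, 228, 228, 229, 230],
  [90, 176, 164, 202, 249, 227, 232, 236, 235, 235, 234, 233],
  [91, 177, 165, 203, 248, 226, 233, 237, 234, 234, 235, 232],
  [88, 179, 166, 200, 251, 225, 234, 238, 233, 233, 232, 235],
  [89, 178, 167, 201, 250, 224, 235, 239, 232, 232, 233, 234],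
  [92, 180, 161, 206, 252, 231, 237, 232, 239, 239, 238, 237],
  [93, 181, 160, 207, 253, 230, 236, 233, 238, 238, 239, 236],
  [94, 183, 163, 204, 254, 229, 239, 234, 237, 237, 236, 239],
  [95, 182, 162, 205, 255, 228, 238, 235, 236, 236, 237, 238],
  [64, 168, 189, 208, 226, 248, 242, 245, 242, 243, 242, 241],
  [65, 169, 188, 209, 227, 249, 243, 244, 243, 242, 243, 240],
  [66, 171, 191, 210, 224, 250, 240, 247, 240, 241, 240, 243],
  [67, 170, 190, 211, 225, 251, 241, 246, 241, 240, 241, 242],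
  [70, 172, 184, 212, 231, 252, 247, 241, 246, 247, 246, 245],
  [71, 173, 185, 213, 230, 253, 246, 240, 247, 246, 247, 244],
  [68, 175, 186, 214, 229, 254, 245, 243, 244, 245, 244, 247],
  [69, 174, 187, 215, 228, 255, 244, 242, 245, 244, 245, 246],
  [72, 164, 180, 218, 235, 241, 248, 253, 250, 251, 250, 249],
  [73, 165, 181, 219, 234, 240, 249, 252, 251, 250, 251, 248],
  [74, 167, 182, 216, 233, 243, 250, 255, 248, 249, 248, 251],
  [75, 166, 183, 217, 232, 242, 251, 254, 249, 248, 249, 250],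
  [78, 160, 177, 222, 238, 245, 253, 249, 254, 255, 254, 253],
  [79, 161, 176, 223, 239, 244, 252, 248, 255, 254, 255, 252],
  [76, 163, 179, 220, 236, 247, 255, 251, 252, 253, 252, 255],
  [77, 162, 178, 221, 237, 246, 254, 250, 253, 252, 253, 254]]

/-- The starting position. -/
def colBase : ℕ := 0

/-- Classes of even elements of order four. -/
def repList : List (List ℕ) := [
  [0, 4],
  [1, 6],
  [1, 10],
  [2, 4],
  [3, 7],
  [3, 8],
  [4, 5],
  [6, 7],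
  [0, 2, 3],
  [0, 2, 7],
  [0, 3, 4],
  [1, 2, 5],
  [2, 4, 6],
  [4, 5, 7]]

/-- Conjugating data. -/
def leaf0 : List (List ℕ × ℕ) := [([], 0), ([], 0), ([], 0), ([], 0), ([], 0), ([], 0), ([], 0), ([], 0),
  ([], 0), ([], 0), ([], 0), ([], 0), ([], 0), ([], 0), ([], 0), ([], 0),
  ([], 0), ([], 0), ([], 0), ([], 0), ([], 0), ([], 0), ([], 0), ([], 0),
  ([], 0), ([], 0), ([], 0), ([], 0), ([], 0), ([], 0), ([], 0), ([], 0),
  ([], 0), ([], 0), ([], 0), ([], 0), ([], 0), ([], 0), ([], 0), ([], 0),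
  ([], 0), ([], 0), ([], 0), ([], 0), ([], 0), ([], 0), ([], 0), ([], 0),
  ([], 7), ([6], 7), ([5], 7), ([1, 0], 7), ([5, 2], 7), ([0, 1], 7), ([2], 7), ([3], 7),
  ([4, 2, 0], 7), ([2, 0], 7), ([0, 2], 7), ([3, 0], 7), ([1], 7), ([4, 1], 7), ([0], 7), ([4, 0], 7),
  ([], 0), ([], 0), ([], 0), ([], 0), ([], 0), ([], 0), ([], 0), ([], 0),
  ([], 0), ([], 0), ([], 0), ([], 0), ([], 0), ([], 0), ([], 0), ([], 0),
  ([], 0), ([], 0), ([], 0), ([], 0), ([], 0), ([], 0), ([], 0), ([], 0),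
  ([], 0), ([], 0), ([], 0), ([], 0), ([], 0), ([], 0), ([], 0), ([], 0),
  ([], 0), ([], 0), ([], 0), ([], 0), ([], 0), ([], 0), ([], 0), ([], 0),
  ([], 0), ([], 0), ([], 0), ([], 0), ([], 0), ([], 0), ([], 0), ([], 0),
  ([], 0), ([], 0), ([], 0), ([], 0), ([], 0), ([], 0), ([], 0), ([], 0),
  ([], 0), ([], 0), ([], 0), ([], 0), ([], 0), ([], 0), ([], 0), ([], 0),
  ([], 0), ([], 0), ([], 0), ([], 0), ([], 0), ([], 0), ([], 0), ([], 0),
  ([], 0), ([], 0), ([], 0), ([], 0), ([], 0), ([], 0), ([], 0), ([], 0),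
  ([], 0), ([], 0), ([], 0), ([], 0), ([], 0), ([], 0), ([], 0), ([], 0),
  ([], 0), ([], 0), ([], 0), ([], 0), ([], 0), ([], 0), ([], 0), ([], 0),
  ([], 0), ([], 0), ([], 0), ([], 0), ([], 0), ([], 0), ([], 0), ([], 0),
  ([], 0), ([], 0), ([], 0), ([], 0), ([], 0), ([], 0), ([], 0), ([], 0),
  ([], 0), ([], 0), ([], 0), ([], 0), ([], 0), ([], 0), ([], 0), ([], 0),
  ([], 0), ([], 0), ([], 0), ([], 0), ([], 0), ([], 0), ([], 0), ([], 0),
  ([], 6), ([8], 6), ([6], 6), ([8, 6], 6), ([4], 6), ([8, 4], 6), ([6, 4], 6), ([8, 6, 4], 6),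
  ([2], 6), ([1], 6), ([3, 2], 6), ([3, 1], 6), ([4, 1], 6), ([5, 1], 6), ([4, 3, 1], 6), ([5, 3, 1], 6),
  ([], 13), ([8], 13), ([8, 6], 13), ([6], 13), ([4], 13), ([8, 4], 13), ([8, 3], 13), ([3], 13),
  ([2], 13), ([1], 13), ([6, 1], 13), ([6, 2], 13), ([3, 1], 13), ([5, 1], 13), ([2, 3], 13), ([1, 3], 13),
  ([6, 0], 6), ([1, 5, 0], 6), ([0], 6), ([7, 0], 6), ([5, 0], 6), ([7, 5, 0], 6), ([1, 0], 6), ([7, 1, 0], 6),
  ([5, 0, 1], 6), ([2, 1, 0], 6), ([5, 2, 0], 6), ([2, 5, 0], 6), ([2, 0], 6), ([7, 2, 0], 6), ([0, 1], 6), ([0, 2], 6),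
  ([0, 1], 13), ([0, 2], 13), ([7, 2, 0], 13), ([2, 0], 13), ([3, 2, 0], 13), ([5, 2, 0], 13), ([5, 0, 1], 13), ([2, 1, 0], 13),
  ([7, 1, 0], 13), ([1, 0], 13), ([5, 0], 13), ([7, 5, 0], 13), ([0], 13), ([7, 0], 13), ([1, 5, 0], 13), ([6, 0], 13)]

/-- Conjugating data. -/
def leaf1 : List (List ℕ × ℕ) := [([], 0), ([], 0), ([], 0), ([], 0), ([], 0), ([], 0), ([], 0), ([], 0),
  ([], 5), ([4], 5), ([3], 5), ([4, 3], 5), ([4, 0], 5), ([0], 5), ([7, 4], 5), ([7], 5),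
  ([], 4), ([6], 4), ([8], 4), ([8, 6], 4), ([8, 6, 3], 4), ([8, 3], 4), ([6, 3], 4), ([3], 4),
  ([7, 4, 0], 4), ([7, 0], 4), ([4, 3, 0], 4), ([3, 0], 4), ([8, 0], 4), ([8, 4, 0], 4), ([0], 4), ([4, 0], 4),
  ([], 0), ([], 0), ([], 0), ([], 0), ([], 0), ([], 0), ([], 0), ([], 0),
  ([4, 2, 0], 5), ([2, 0], 5), ([0, 2], 5), ([7, 2], 5), ([4, 2], 5), ([2], 5), ([4, 3, 2], 5), ([3, 2], 5),
  ([5, 3, 2], 4), ([0, 2, 0], 4), ([3, 2], 4), ([7, 2], 4), ([6, 2], 4), ([2], 4), ([6, 5, 2], 4), ([5, 2], 4),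
  ([5, 2, 0], 4), ([0, 2], 4), ([2, 0], 4), ([4, 2, 0], 4), ([7, 2, 0], 4), ([0, 7, 2], 4), ([2, 3, 0], 4), ([3, 2, 0], 4),
  ([], 0), ([], 0), ([], 0), ([], 0), ([], 0), ([], 0), ([], 0), ([], 0),
  ([], 0), ([], 0), ([], 0), ([], 0), ([], 0), ([], 0), ([], 0), ([], 0),
  ([], 0), ([], 0), ([], 0), ([], 0), ([], 0), ([], 0), ([], 0), ([], 0),
  ([], 0), ([], 0), ([], 0), ([], 0), ([], 0), ([], 0), ([], 0), ([], 0),
  ([], 0), ([], 0), ([], 0), ([], 0), ([], 0), ([], 0), ([], 0), ([], 0),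
  ([], 0), ([], 0), ([], 0), ([], 0), ([], 0), ([], 0), ([], 0), ([], 0),
  ([], 0), ([], 0), ([], 0), ([], 0), ([], 0), ([], 0), ([], 0), ([], 0),
  ([], 0), ([], 0), ([], 0), ([], 0), ([], 0), ([], 0), ([], 0), ([], 0),
  ([], 0), ([], 0), ([], 0), ([], 0), ([], 0), ([], 0), ([], 0), ([], 0),
  ([], 0), ([], 0), ([], 0), ([], 0), ([], 0), ([], 0), ([], 0), ([], 0),
  ([], 0), ([], 0), ([], 0), ([], 0), ([], 0), ([], 0), ([], 0), ([], 0),
  ([], 0), ([], 0), ([], 0), ([], 0), ([], 0), ([], 0), ([], 0), ([], 0),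
  ([], 0), ([], 0), ([], 0), ([], 0), ([], 0), ([], 0), ([], 0), ([], 0),
  ([], 0), ([], 0), ([], 0), ([], 0), ([], 0), ([], 0), ([], 0), ([], 0),
  ([], 0), ([], 0), ([], 0), ([], 0), ([], 0), ([], 0), ([], 0), ([], 0),
  ([], 0), ([], 0), ([], 0), ([], 0), ([], 0), ([], 0), ([], 0), ([], 0),
  ([4, 2, 1], 4), ([0, 1, 0], 4), ([1, 3, 2], 4), ([7, 2, 1], 4), ([2, 1], 4), ([1, 6, 2], 4), ([6, 2, 1], 4), ([8, 2, 1], 4),
  ([1, 0, 2], 4), ([0, 1], 4), ([2, 1, 0], 4), ([3, 0, 1], 4), ([4, 0, 1], 4), ([5, 0, 1], 4), ([7, 0, 1], 4), ([4, 2, 1, 0], 4),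
  ([], 0), ([], 0), ([], 0), ([], 0), ([], 0), ([], 0), ([], 0), ([], 0),
  ([2, 1, 0], 5), ([6, 0, 1], 5), ([0, 1], 5), ([7, 2, 1], 5), ([2, 1], 5), ([0, 1, 0], 5), ([5, 0, 1], 5), ([3, 0, 1], 5),
  ([8, 1, 0], 4), ([6, 1, 0], 4), ([1, 4, 0], 4), ([1, 0], 4), ([0, 2, 1], 4), ([5, 1, 0], 4), ([1, 3, 0], 4), ([4, 1, 0], 4),
  ([5, 3, 1], 4), ([4, 1], 4), ([5, 1], 4), ([4, 3, 1], 4), ([1], 4), ([1, 6], 4), ([3, 1], 4), ([8, 1], 4),
  ([4, 1], 5), ([1, 0], 5), ([5, 1], 5), ([3, 1], 5), ([1], 5), ([1, 4], 5), ([3, 1, 0], 5), ([6, 1], 5),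
  ([], 0), ([], 0), ([], 0), ([], 0), ([], 0), ([], 0), ([], 0), ([], 0)]

/-- Conjugating data. -/
def leaf2 : List (List ℕ × ℕ) := [([], 0), ([], 0), ([], 0), ([], 0), ([], 0), ([], 0), ([], 0), ([], 0),
  ([], 0), ([], 0), ([], 0), ([], 0), ([], 0), ([], 0), ([], 0), ([], 0),
  ([], 0), ([], 0), ([], 0), ([], 0), ([], 0), ([], 0), ([], 0), ([], 0),
  ([], 0), ([], 0), ([], 0), ([], 0), ([], 0), ([], 0), ([], 0), ([], 0),
  ([], 0), ([], 0), ([], 0), ([], 0), ([], 0), ([], 0), ([], 0), ([], 0),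
  ([], 0), ([], 0), ([], 0), ([], 0), ([], 0), ([], 0), ([], 0), ([], 0),
  ([], 0), ([], 0), ([], 0), ([], 0), ([], 0), ([], 0), ([], 0), ([], 0),
  ([], 0), ([], 0), ([], 0), ([], 0), ([], 0), ([], 0), ([], 0), ([], 0),
  ([2, 3, 0], 3), ([1, 3, 1, 0], 3), ([9, 2, 0], 12), ([2, 0], 12), ([3, 2, 0], 3), ([9, 3, 2, 0], 3), ([6, 2, 0], 12), ([4, 2, 0], 12),
  ([3, 0], 3), ([9, 3, 0], 3), ([9, 0], 12), ([0], 12), ([0, 2, 3], 3), ([4, 3, 0], 3), ([4, 0], 12), ([0, 2], 12),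
  ([9, 3, 1, 0], 3), ([3, 1, 0], 3), ([2, 1, 0], 12), ([0, 1], 12), ([1, 3, 2, 0], 3), ([4, 3, 1, 0], 3), ([0, 2, 1], 12), ([4, 0, 1], 12),
  ([1, 3, 0], 3), ([2, 3, 1, 0], 3), ([1, 0], 12), ([9, 1, 0], 12), ([3, 2, 1, 0], 3), ([3, 0, 1], 3), ([6, 1, 0], 12), ([4, 1, 0], 12),
  ([6, 2, 0], 3), ([5, 0], 3), ([3, 2, 0], 12), ([7, 3, 2, 0], 12), ([7, 2, 0], 3), ([2, 0], 3), ([2, 3, 0], 12), ([6, 3, 2, 0], 12),
  ([3, 0], 12), ([7, 3, 0], 12), ([7, 0], 3), ([0], 3), ([3, 0, 2], 12), ([4, 3, 0], 12), ([4, 0], 3), ([5, 2, 0], 3),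
  ([1, 4, 3, 0], 12), ([2, 3, 1, 0], 12), ([1, 4, 0], 3), ([4, 1, 0], 3), ([3, 2, 1, 0], 12), ([1, 3, 0], 12), ([7, 1, 0], 3), ([1, 0], 3),
  ([2, 1, 0], 3), ([0, 1], 3), ([6, 3, 1, 0], 12), ([0, 1, 3], 12), ([1, 5, 0], 3), ([5, 1, 0], 3), ([3, 1, 0], 12), ([7, 3, 1, 0], 12),
  ([], 3), ([8], 3), ([8, 3], 12), ([3], 12), ([6, 3], 12), ([3, 2], 12), ([2, 6], 3), ([6], 3),
  ([5, 3, 2], 12), ([1, 3, 1], 12), ([6, 5], 3), ([6, 2, 5], 3), ([2, 5], 3), ([5], 3), ([5, 3], 12), ([2, 5, 3], 12),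
  ([3, 1], 12), ([8, 3, 1], 12), ([6, 5, 1], 3), ([6, 5, 4, 1], 3), ([5, 1], 3), ([5, 4, 1], 3), ([6, 3, 1], 12), ([3, 2, 1], 12),
  ([4, 1], 3), ([1], 3), ([4, 1, 3], 12), ([1, 3], 12), ([0, 1, 0], 12), ([5, 3, 1], 12), ([6, 4, 1], 3), ([6, 1], 3),
  ([], 12), ([7], 12), ([7, 3], 3), ([3], 3), ([6, 3], 3), ([2, 3], 3), ([2], 12), ([6], 12),
  ([2, 5], 12), ([5, 2], 12), ([0, 2, 0], 3), ([2, 5, 3], 3), ([5, 3], 3), ([4, 5, 3], 3), ([4, 5], 12), ([5], 12),
  ([5, 3, 1], 3), ([2, 1, 3], 3), ([6, 1], 12), ([2, 1], 12), ([1], 12), ([7, 1], 12), ([1, 3], 3), ([7, 1, 3], 3),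
  ([2, 3, 1], 3), ([6, 3, 1], 3), ([1, 5], 12), ([5, 1], 12), ([5, 2, 1], 12), ([2, 5, 1], 12), ([4, 3, 1], 3), ([3, 1], 3),
  ([], 0), ([], 0), ([], 0), ([], 0), ([], 0), ([], 0), ([], 0), ([], 0),
  ([], 0), ([], 0), ([], 0), ([], 0), ([], 0), ([], 0), ([], 0), ([], 0),
  ([], 0), ([], 0), ([], 0), ([], 0), ([], 0), ([], 0), ([], 0), ([], 0),
  ([], 0), ([], 0), ([], 0), ([], 0), ([], 0), ([], 0), ([], 0), ([], 0),
  ([], 0), ([], 0), ([], 0), ([], 0), ([], 0), ([], 0), ([], 0), ([], 0),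
  ([], 0), ([], 0), ([], 0), ([], 0), ([], 0), ([], 0), ([], 0), ([], 0),
  ([], 0), ([], 0), ([], 0), ([], 0), ([], 0), ([], 0), ([], 0), ([], 0),
  ([], 0), ([], 0), ([], 0), ([], 0), ([], 0), ([], 0), ([], 0), ([], 0)]

/-- Conjugating data. -/
def leaf3 : List (List ℕ × ℕ) := [([], 0), ([], 0), ([], 0), ([], 0), ([], 0), ([], 0), ([], 0), ([], 0),
  ([], 0), ([], 0), ([], 0), ([], 0), ([], 0), ([], 0), ([], 0), ([], 0),
  ([], 0), ([], 0), ([], 0), ([], 0), ([], 0), ([], 0), ([], 0), ([], 0),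
  ([], 0), ([], 0), ([], 0), ([], 0), ([], 0), ([], 0), ([], 0), ([], 0),
  ([], 0), ([], 0), ([], 0), ([], 0), ([], 0), ([], 0), ([], 0), ([], 0),
  ([], 0), ([], 0), ([], 0), ([], 0), ([], 0), ([], 0), ([], 0), ([], 0),
  ([], 0), ([], 0), ([], 0), ([], 0), ([], 0), ([], 0), ([], 0), ([], 0),
  ([], 0), ([], 0), ([], 0), ([], 0), ([], 0), ([], 0), ([], 0), ([], 0),
  ([], 0), ([], 0), ([], 0), ([], 0), ([], 0), ([], 0), ([], 0), ([], 0),
  ([], 0), ([], 0), ([], 0), ([], 0), ([], 0), ([], 0), ([], 0), ([], 0),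
  ([], 0), ([], 0), ([], 0), ([], 0), ([], 0), ([], 0), ([], 0), ([], 0),
  ([], 0), ([], 0), ([], 0), ([], 0), ([], 0), ([], 0), ([], 0), ([], 0),
  ([], 0), ([], 0), ([], 0), ([], 0), ([], 0), ([], 0), ([], 0), ([], 0),
  ([], 0), ([], 0), ([], 0), ([], 0), ([], 0), ([], 0), ([], 0), ([], 0),
  ([], 0), ([], 0), ([], 0), ([], 0), ([], 0), ([], 0), ([], 0), ([], 0),
  ([], 0), ([], 0), ([], 0), ([], 0), ([], 0), ([], 0), ([], 0), ([], 0),
  ([], 0), ([], 0), ([], 0), ([], 0), ([], 0), ([], 0), ([], 0), ([], 0),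
  ([], 0), ([], 0), ([], 0), ([], 0), ([], 0), ([], 0), ([], 0), ([], 0),
  ([], 0), ([], 0), ([], 0), ([], 0), ([], 0), ([], 0), ([], 0), ([], 0),
  ([], 0), ([], 0), ([], 0), ([], 0), ([], 0), ([], 0), ([], 0), ([], 0),
  ([], 0), ([], 0), ([], 0), ([], 0), ([], 0), ([], 0), ([], 0), ([], 0),
  ([], 0), ([], 0), ([], 0), ([], 0), ([], 0), ([], 0), ([], 0), ([], 0),
  ([], 0), ([], 0), ([], 0), ([], 0), ([], 0), ([], 0), ([], 0), ([], 0),
  ([], 0), ([], 0), ([], 0), ([], 0), ([], 0), ([], 0), ([], 0), ([], 0),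
  ([], 0), ([], 0), ([], 0), ([], 0), ([], 0), ([], 0), ([], 0), ([], 0),
  ([], 0), ([], 0), ([], 0), ([], 0), ([], 0), ([], 0), ([], 0), ([], 0),
  ([], 0), ([], 0), ([], 0), ([], 0), ([], 0), ([], 0), ([], 0), ([], 0),
  ([], 0), ([], 0), ([], 0), ([], 0), ([], 0), ([], 0), ([], 0), ([], 0),
  ([], 0), ([], 0), ([], 0), ([], 0), ([], 0), ([], 0), ([], 0), ([], 0),
  ([], 0), ([], 0), ([], 0), ([], 0), ([], 0), ([], 0), ([], 0), ([], 0),
  ([], 0), ([], 0), ([], 0), ([], 0), ([], 0), ([], 0), ([], 0), ([], 0),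
  ([], 0), ([], 0), ([], 0), ([], 0), ([], 0), ([], 0), ([], 0), ([], 0)]

/-- Conjugating data. -/
def leaf4 : List (List ℕ × ℕ) := [([], 0), ([], 0), ([], 2), ([1], 2), ([], 0), ([], 0), ([3, 1, 3], 2), ([5, 6, 4], 2),
  ([], 0), ([], 0), ([5, 4], 2), ([5, 4, 1], 2), ([], 0), ([], 0), ([6], 2), ([6, 1], 2),
  ([], 0), ([], 0), ([5], 2), ([5, 1], 2), ([], 0), ([], 0), ([6, 4, 1], 2), ([6, 4], 2),
  ([], 0), ([], 0), ([4], 2), ([4, 1], 2), ([], 0), ([], 0), ([5, 6], 2), ([6, 5], 2),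
  ([], 1), ([7], 1), ([0, 4], 11), ([5, 2, 0], 11), ([5, 0], 11), ([7, 5, 0], 11), ([2], 1), ([7, 2], 1),
  ([1, 5, 0], 11), ([0, 1], 11), ([6, 2], 1), ([2, 1], 1), ([1], 1), ([7, 1], 1), ([4, 0], 11), ([7, 4, 0], 11),
  ([2, 0], 11), ([7, 2, 0], 11), ([7, 5], 1), ([5], 1), ([4, 1], 1), ([5, 2], 1), ([7, 0], 11), ([0], 11),
  ([7, 4], 1), ([4], 1), ([1, 0], 11), ([7, 1, 0], 11), ([2, 1, 0], 11), ([6, 2, 0], 11), ([1, 5], 1), ([5, 1], 1),
  ([], 0), ([], 0), ([], 0), ([], 0), ([], 0), ([], 0), ([], 0), ([], 0),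
  ([], 0), ([], 0), ([], 0), ([], 0), ([], 0), ([], 0), ([], 0), ([], 0),
  ([], 0), ([], 0), ([], 0), ([], 0), ([], 0), ([], 0), ([], 0), ([], 0),
  ([], 0), ([], 0), ([], 0), ([], 0), ([], 0), ([], 0), ([], 0), ([], 0),
  ([], 0), ([], 0), ([], 0), ([], 0), ([], 0), ([], 0), ([], 0), ([], 0),
  ([], 0), ([], 0), ([], 0), ([], 0), ([], 0), ([], 0), ([], 0), ([], 0),
  ([], 0), ([], 0), ([], 0), ([], 0), ([], 0), ([], 0), ([], 0), ([], 0),
  ([], 0), ([], 0), ([], 0), ([], 0), ([], 0), ([], 0), ([], 0), ([], 0),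
  ([], 0), ([], 0), ([], 0), ([], 0), ([], 0), ([], 0), ([], 0), ([], 0),
  ([], 0), ([], 0), ([], 0), ([], 0), ([], 0), ([], 0), ([], 0), ([], 0),
  ([], 0), ([], 0), ([], 0), ([], 0), ([], 0), ([], 0), ([], 0), ([], 0),
  ([], 0), ([], 0), ([], 0), ([], 0), ([], 0), ([], 0), ([], 0), ([], 0),
  ([], 0), ([], 0), ([], 0), ([], 0), ([], 0), ([], 0), ([], 0), ([], 0),
  ([], 0), ([], 0), ([], 0), ([], 0), ([], 0), ([], 0), ([], 0), ([], 0),
  ([], 0), ([], 0), ([], 0), ([], 0), ([], 0), ([], 0), ([], 0), ([], 0),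
  ([], 0), ([], 0), ([], 0), ([], 0), ([], 0), ([], 0), ([], 0), ([], 0),
  ([2, 3, 0], 11), ([1, 3, 0], 11), ([5, 3, 1], 1), ([6, 5, 3], 1), ([4, 3], 1), ([5, 1, 3], 1), ([8, 3, 1, 0], 11), ([3, 1, 0], 11),
  ([3, 0], 11), ([8, 3, 0], 11), ([5, 3, 2], 1), ([0, 1, 0], 1), ([5, 3], 1), ([4, 2, 3], 1), ([2, 3, 1, 0], 11), ([3, 2, 0], 11),
  ([2, 3], 1), ([1, 3], 1), ([6, 5, 3, 0], 11), ([3, 0, 1], 11), ([4, 3, 0], 11), ([5, 1, 3, 0], 11), ([3, 1], 1), ([8, 3, 1], 1),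
  ([3], 1), ([8, 3], 1), ([0, 1, 3], 11), ([5, 3, 2, 0], 11), ([5, 3, 0], 11), ([4, 2, 3, 0], 11), ([3, 2], 1), ([2, 3, 1], 1),
  ([], 0), ([], 0), ([4, 1, 3], 2), ([0, 1, 0], 2), ([], 0), ([], 0), ([4, 3], 2), ([4, 3, 1], 2),
  ([5, 1, 3], 2), ([0, 4, 0], 2), ([], 0), ([], 0), ([5, 3], 2), ([5, 3, 1], 2), ([], 0), ([], 0),
  ([2, 1, 3], 2), ([6, 1, 3], 2), ([], 0), ([], 0), ([2, 3, 1], 2), ([2, 3], 2), ([], 0), ([], 0),
  ([], 0), ([], 0), ([3, 1], 2), ([3], 2), ([], 0), ([], 0), ([0, 2, 0], 2), ([1, 3], 2)]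

/-- Conjugating data. -/
def leaf5 : List (List ℕ × ℕ) := [([], 0), ([], 0), ([], 0), ([], 0), ([], 0), ([], 0), ([], 0), ([], 0),
  ([], 0), ([], 0), ([], 0), ([], 0), ([], 0), ([], 0), ([], 0), ([], 0),
  ([], 0), ([], 0), ([], 0), ([], 0), ([], 0), ([], 0), ([], 0), ([], 0),
  ([], 0), ([], 0), ([], 0), ([], 0), ([], 0), ([], 0), ([], 0), ([], 0),
  ([], 0), ([], 0), ([], 0), ([], 0), ([], 0), ([], 0), ([], 0), ([], 0),
  ([], 0), ([], 0), ([], 0), ([], 0), ([], 0), ([], 0), ([], 0), ([], 0),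
  ([], 0), ([], 0), ([], 0), ([], 0), ([], 0), ([], 0), ([], 0), ([], 0),
  ([], 0), ([], 0), ([], 0), ([], 0), ([], 0), ([], 0), ([], 0), ([], 0),
  ([], 0), ([], 0), ([], 0), ([], 0), ([], 0), ([], 0), ([], 0), ([], 0),
  ([], 0), ([], 0), ([], 0), ([], 0), ([], 0), ([], 0), ([], 0), ([], 0),
  ([], 0), ([], 0), ([], 0), ([], 0), ([], 0), ([], 0), ([], 0), ([], 0),
  ([], 0), ([], 0), ([], 0), ([], 0), ([], 0), ([], 0), ([], 0), ([], 0),
  ([], 0), ([], 0), ([], 0), ([], 0), ([], 0), ([], 0), ([], 0), ([], 0),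
  ([], 0), ([], 0), ([], 0), ([], 0), ([], 0), ([], 0), ([], 0), ([], 0),
  ([], 0), ([], 0), ([], 0), ([], 0), ([], 0), ([], 0), ([], 0), ([], 0),
  ([], 0), ([], 0), ([], 0), ([], 0), ([], 0), ([], 0), ([], 0), ([], 0),
  ([], 0), ([], 0), ([], 0), ([], 0), ([], 0), ([], 0), ([], 0), ([], 0),
  ([], 0), ([], 0), ([], 0), ([], 0), ([], 0), ([], 0), ([], 0), ([], 0),
  ([], 0), ([], 0), ([], 0), ([], 0), ([], 0), ([], 0), ([], 0), ([], 0),
  ([], 0), ([], 0), ([], 0), ([], 0), ([], 0), ([], 0), ([], 0), ([], 0),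
  ([], 0), ([], 0), ([], 0), ([], 0), ([], 0), ([], 0), ([], 0), ([], 0),
  ([], 0), ([], 0), ([], 0), ([], 0), ([], 0), ([], 0), ([], 0), ([], 0),
  ([], 0), ([], 0), ([], 0), ([], 0), ([], 0), ([], 0), ([], 0), ([], 0),
  ([], 0), ([], 0), ([], 0), ([], 0), ([], 0), ([], 0), ([], 0), ([], 0),
  ([], 0), ([], 0), ([], 0), ([], 0), ([], 0), ([], 0), ([], 0), ([], 0),
  ([], 0), ([], 0), ([], 0), ([], 0), ([], 0), ([], 0), ([], 0), ([], 0),
  ([], 0), ([], 0), ([], 0), ([], 0), ([], 0), ([], 0), ([], 0), ([], 0),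
  ([], 0), ([], 0), ([], 0), ([], 0), ([], 0), ([], 0), ([], 0), ([], 0),
  ([], 0), ([], 0), ([], 0), ([], 0), ([], 0), ([], 0), ([], 0), ([], 0),
  ([], 0), ([], 0), ([], 0), ([], 0), ([], 0), ([], 0), ([], 0), ([], 0),
  ([], 0), ([], 0), ([], 0), ([], 0), ([], 0), ([], 0), ([], 0), ([], 0),
  ([], 0), ([], 0), ([], 0), ([], 0), ([], 0), ([], 0), ([], 0), ([], 0)]

/-- Conjugating data. -/
def leaf6 : List (List ℕ × ℕ) := [([], 0), ([], 0), ([], 0), ([], 0), ([], 0), ([], 0), ([], 0), ([], 0),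
  ([], 0), ([], 0), ([], 0), ([], 0), ([], 0), ([], 0), ([], 0), ([], 0),
  ([], 0), ([], 0), ([], 0), ([], 0), ([], 0), ([], 0), ([], 0), ([], 0),
  ([], 0), ([], 0), ([], 0), ([], 0), ([], 0), ([], 0), ([], 0), ([], 0),
  ([], 0), ([], 0), ([], 0), ([], 0), ([], 0), ([], 0), ([], 0), ([], 0),
  ([], 0), ([], 0), ([], 0), ([], 0), ([], 0), ([], 0), ([], 0), ([], 0),
  ([], 0), ([], 0), ([], 0), ([], 0), ([], 0), ([], 0), ([], 0), ([], 0),
  ([], 0), ([], 0), ([], 0), ([], 0), ([], 0), ([], 0), ([], 0), ([], 0),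
  ([], 11), ([9], 11), ([3, 2, 1, 0], 1), ([3, 1, 0], 1), ([5, 4], 11), ([4, 5], 11), ([5, 3, 0], 1), ([5, 3, 2, 0], 1),
  ([2], 11), ([9, 2], 11), ([5, 0, 1, 3], 1), ([0, 4, 3], 1), ([4, 1], 11), ([9, 4, 1], 11), ([1, 3, 2, 0], 1), ([1, 3, 0], 1),
  ([1], 11), ([9, 1], 11), ([0, 1, 3], 1), ([0, 2, 3], 1), ([5, 4, 1], 11), ([4, 2], 11), ([2, 3, 2, 0], 1), ([2, 3, 0], 1),
  ([5], 11), ([6, 1], 11), ([3, 0, 2], 1), ([5, 3, 1, 0], 1), ([4], 11), ([9, 4], 11), ([3, 0], 1), ([3, 2, 0], 1),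
  ([1, 3, 0], 2), ([4, 3, 0], 2), ([], 0), ([], 0), ([], 0), ([], 0), ([5, 3, 0], 2), ([7, 5, 3, 0], 2),
  ([3, 2, 1, 0], 2), ([0, 4, 3], 2), ([], 0), ([], 0), ([], 0), ([], 0), ([3, 1, 0], 2), ([7, 3, 1, 0], 2),
  ([], 0), ([], 0), ([2, 3, 0], 2), ([6, 3, 2, 0], 2), ([6, 3, 0], 2), ([5, 3, 1, 0], 2), ([], 0), ([], 0),
  ([], 0), ([], 0), ([3, 2, 0], 2), ([0, 1, 3], 2), ([7, 3, 0], 2), ([3, 0], 2), ([], 0), ([], 0),
  ([0, 2, 1], 1), ([6, 0, 2], 1), ([3, 1], 11), ([8, 3, 1], 11), ([6, 2, 0], 1), ([6, 0], 1), ([2, 0, 4, 0], 11), ([0, 4, 0], 11),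
  ([5, 3], 11), ([6, 3, 1], 11), ([0, 2], 1), ([5, 1, 0], 1), ([1, 3], 11), ([2, 1, 3], 11), ([0], 1), ([2, 0], 1),
  ([0, 2, 0], 11), ([5, 1, 3], 11), ([5, 2, 0], 1), ([5, 0], 1), ([2, 3], 11), ([3], 11), ([1, 0], 1), ([2, 1, 0], 1),
  ([5, 6, 0], 1), ([6, 5, 0], 1), ([1, 3, 1], 11), ([4, 3, 1], 11), ([0, 4], 1), ([2, 0, 4], 1), ([2, 3, 2], 11), ([3, 2], 11),
  ([6, 2, 0], 2), ([4, 1, 0], 2), ([], 0), ([], 0), ([], 0), ([], 0), ([5, 1, 0], 2), ([6, 0], 2),
  ([], 0), ([], 0), ([7, 2, 0], 2), ([2, 0], 2), ([0], 2), ([7, 0], 2), ([], 0), ([], 0),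
  ([], 0), ([], 0), ([5, 0], 2), ([7, 5, 0], 2), ([7, 4, 0], 2), ([4, 0], 2), ([], 0), ([], 0),
  ([1, 0], 2), ([7, 1, 0], 2), ([], 0), ([], 0), ([], 0), ([], 0), ([2, 1, 0], 2), ([0, 4], 2),
  ([], 0), ([], 0), ([], 0), ([], 0), ([], 0), ([], 0), ([], 0), ([], 0),
  ([], 0), ([], 0), ([], 0), ([], 0), ([], 0), ([], 0), ([], 0), ([], 0),
  ([], 0), ([], 0), ([], 0), ([], 0), ([], 0), ([], 0), ([], 0), ([], 0),
  ([], 0), ([], 0), ([], 0), ([], 0), ([], 0), ([], 0), ([], 0), ([], 0),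
  ([], 0), ([], 0), ([], 0), ([], 0), ([], 0), ([], 0), ([], 0), ([], 0),
  ([], 0), ([], 0), ([], 0), ([], 0), ([], 0), ([], 0), ([], 0), ([], 0),
  ([], 0), ([], 0), ([], 0), ([], 0), ([], 0), ([], 0), ([], 0), ([], 0),
  ([], 0), ([], 0), ([], 0), ([], 0), ([], 0), ([], 0), ([], 0), ([], 0)]

/-- Conjugating data. -/
def leaf7 : List (List ℕ × ℕ) := [([], 0), ([], 0), ([], 0), ([], 0), ([], 0), ([], 0), ([], 0), ([], 0),
  ([], 0), ([], 0), ([], 0), ([], 0), ([], 0), ([], 0), ([], 0), ([], 0),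
  ([], 0), ([], 0), ([], 0), ([], 0), ([], 0), ([], 0), ([], 0), ([], 0),
  ([], 0), ([], 0), ([], 0), ([], 0), ([], 0), ([], 0), ([], 0), ([], 0),
  ([], 0), ([], 0), ([], 0), ([], 0), ([], 0), ([], 0), ([], 0), ([], 0),
  ([], 0), ([], 0), ([], 0), ([], 0), ([], 0), ([], 0), ([], 0), ([], 0),
  ([], 0), ([], 0), ([], 0), ([], 0), ([], 0), ([], 0), ([], 0), ([], 0),
  ([], 0), ([], 0), ([], 0), ([], 0), ([], 0), ([], 0), ([], 0), ([], 0),
  ([], 0), ([], 0), ([], 0), ([], 0), ([], 0), ([], 0), ([], 0), ([], 0),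
  ([], 0), ([], 0), ([], 0), ([], 0), ([], 0), ([], 0), ([], 0), ([], 0),
  ([], 0), ([], 0), ([], 0), ([], 0), ([], 0), ([], 0), ([], 0), ([], 0),
  ([], 0), ([], 0), ([], 0), ([], 0), ([], 0), ([], 0), ([], 0), ([], 0),
  ([], 0), ([], 0), ([], 0), ([], 0), ([], 0), ([], 0), ([], 0), ([], 0),
  ([], 0), ([], 0), ([], 0), ([], 0), ([], 0), ([], 0), ([], 0), ([], 0),
  ([], 0), ([], 0), ([], 0), ([], 0), ([], 0), ([], 0), ([], 0), ([], 0),
  ([], 0), ([], 0), ([], 0), ([], 0), ([], 0), ([], 0), ([], 0), ([], 0),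
  ([], 0), ([], 0), ([], 0), ([], 0), ([], 0), ([], 0), ([], 0), ([], 0),
  ([], 0), ([], 0), ([], 0), ([], 0), ([], 0), ([], 0), ([], 0), ([], 0),
  ([], 0), ([], 0), ([], 0), ([], 0), ([], 0), ([], 0), ([], 0), ([], 0),
  ([], 0), ([], 0), ([], 0), ([], 0), ([], 0), ([], 0), ([], 0), ([], 0),
  ([], 0), ([], 0), ([], 0), ([], 0), ([], 0), ([], 0), ([], 0), ([], 0),
  ([], 0), ([], 0), ([], 0), ([], 0), ([], 0), ([], 0), ([], 0), ([], 0),
  ([], 0), ([], 0), ([], 0), ([], 0), ([], 0), ([], 0), ([], 0), ([], 0),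
  ([], 0), ([], 0), ([], 0), ([], 0), ([], 0), ([], 0), ([], 0), ([], 0),
  ([], 0), ([], 0), ([], 0), ([], 0), ([], 0), ([], 0), ([], 0), ([], 0),
  ([], 0), ([], 0), ([], 0), ([], 0), ([], 0), ([], 0), ([], 0), ([], 0),
  ([], 0), ([], 0), ([], 0), ([], 0), ([], 0), ([], 0), ([], 0), ([], 0),
  ([], 0), ([], 0), ([], 0), ([], 0), ([], 0), ([], 0), ([], 0), ([], 0),
  ([], 0), ([], 0), ([], 0), ([], 0), ([], 0), ([], 0), ([], 0), ([], 0),
  ([], 0), ([], 0), ([], 0), ([], 0), ([], 0), ([], 0), ([], 0), ([], 0),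
  ([], 0), ([], 0), ([], 0), ([], 0), ([], 0), ([], 0), ([], 0), ([], 0),
  ([], 0), ([], 0), ([], 0), ([], 0), ([], 0), ([], 0), ([], 0), ([], 0)]

/-- Conjugating data. -/
def leaf8 : List (List ℕ × ℕ) := [([], 0), ([], 0), ([], 0), ([], 0), ([], 0), ([], 0), ([], 0), ([], 0),
  ([], 0), ([], 0), ([], 0), ([], 0), ([], 0), ([], 0), ([], 0), ([], 0),
  ([], 0), ([], 0), ([], 0), ([], 0), ([], 0), ([], 0), ([], 0), ([], 0),
  ([], 0), ([], 0), ([], 0), ([], 0), ([], 0), ([], 0), ([], 0), ([], 0),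
  ([], 0), ([], 0), ([], 0), ([], 0), ([], 0), ([], 0), ([], 0), ([], 0),
  ([], 0), ([], 0), ([], 0), ([], 0), ([], 0), ([], 0), ([], 0), ([], 0),
  ([], 0), ([], 0), ([], 0), ([], 0), ([], 0), ([], 0), ([], 0), ([], 0),
  ([], 0), ([], 0), ([], 0), ([], 0), ([], 0), ([], 0), ([], 0), ([], 0),
  ([2, 0], 0), ([2, 1, 0], 9), ([6, 2, 0], 0), ([8, 1, 3], 9), ([1, 3], 9), ([4, 2, 5], 0), ([1, 4], 9), ([8, 2, 0], 0),
  ([4, 3, 1], 9), ([7, 6, 2, 0], 0), ([4, 1], 9), ([7, 2, 0], 0), ([8, 7, 2, 0], 0), ([4, 0, 1], 9), ([2, 0, 7], 0), ([0, 4, 1], 9),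
  ([], 0), ([], 0), ([], 0), ([], 0), ([], 0), ([], 0), ([], 0), ([], 0),
  ([], 0), ([], 0), ([], 0), ([], 0), ([], 0), ([], 0), ([], 0), ([], 0),
  ([7, 0, 1], 9), ([8, 2], 0), ([1, 0, 2], 9), ([2, 5], 0), ([0, 2], 0), ([1, 5], 9), ([2], 0), ([7, 1], 9),
  ([3, 0, 1], 9), ([7, 2, 5], 0), ([0, 1], 9), ([0, 7, 2], 0), ([7, 2], 0), ([1], 9), ([7, 0, 2], 0), ([3, 1], 9),
  ([], 0), ([], 0), ([], 0), ([], 0), ([], 0), ([], 0), ([], 0), ([], 0),
  ([], 0), ([], 0), ([], 0), ([], 0), ([], 0), ([], 0), ([], 0), ([], 0),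
  ([], 0), ([2, 1], 9), ([9], 0), ([9, 2, 1], 9), ([5], 0), ([5, 2, 1], 9), ([8], 0), ([2, 0, 1], 9),
  ([3, 7], 0), ([1, 0, 4], 9), ([7], 0), ([1, 3, 0], 9), ([8, 7], 0), ([1, 4, 0], 9), ([7, 5], 0), ([1, 5, 2], 9),
  ([], 0), ([], 0), ([], 0), ([], 0), ([], 0), ([], 0), ([], 0), ([], 0),
  ([], 0), ([], 0), ([], 0), ([], 0), ([], 0), ([], 0), ([], 0), ([], 0),
  ([0], 0), ([1, 0], 9), ([9, 0], 0), ([9, 1, 0], 9), ([4, 5], 0), ([1, 6, 0], 9), ([5, 0], 0), ([5, 1, 0], 9),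
  ([1, 3, 2], 9), ([3, 7, 0], 0), ([7, 1, 0], 9), ([7, 0], 0), ([1, 5, 0], 9), ([7, 5, 0], 0), ([2, 1, 3], 9), ([0, 7], 0),
  ([], 0), ([], 0), ([], 0), ([], 0), ([], 0), ([], 0), ([], 0), ([], 0),
  ([], 0), ([], 0), ([], 0), ([], 0), ([], 0), ([], 0), ([], 0), ([], 0),
  ([], 0), ([], 0), ([], 0), ([], 0), ([], 0), ([], 0), ([], 0), ([], 0),
  ([], 0), ([], 0), ([], 0), ([], 0), ([], 0), ([], 0), ([], 0), ([], 0),
  ([], 0), ([], 0), ([], 0), ([], 0), ([], 0), ([], 0), ([], 0), ([], 0),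
  ([], 0), ([], 0), ([], 0), ([], 0), ([], 0), ([], 0), ([], 0), ([], 0),
  ([], 0), ([], 0), ([], 0), ([], 0), ([], 0), ([], 0), ([], 0), ([], 0),
  ([], 0), ([], 0), ([], 0), ([], 0), ([], 0), ([], 0), ([], 0), ([], 0),
  ([], 0), ([], 0), ([], 0), ([], 0), ([], 0), ([], 0), ([], 0), ([], 0),
  ([], 0), ([], 0), ([], 0), ([], 0), ([], 0), ([], 0), ([], 0), ([], 0)]

/-- Conjugating data. -/
def leaf9 : List (List ℕ × ℕ) := [([], 0), ([], 0), ([], 0), ([], 0), ([], 0), ([], 0), ([], 0), ([], 0),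
  ([], 0), ([], 0), ([], 0), ([], 0), ([], 0), ([], 0), ([], 0), ([], 0),
  ([], 0), ([], 0), ([], 0), ([], 0), ([], 0), ([], 0), ([], 0), ([], 0),
  ([], 0), ([], 0), ([], 0), ([], 0), ([], 0), ([], 0), ([], 0), ([], 0),
  ([], 0), ([], 0), ([], 0), ([], 0), ([], 0), ([], 0), ([], 0), ([], 0),
  ([], 0), ([], 0), ([], 0), ([], 0), ([], 0), ([], 0), ([], 0), ([], 0),
  ([], 0), ([], 0), ([], 0), ([], 0), ([], 0), ([], 0), ([], 0), ([], 0),
  ([], 0), ([], 0), ([], 0), ([], 0), ([], 0), ([], 0), ([], 0), ([], 0),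
  ([2, 1], 8), ([6, 2], 10), ([8, 1, 0], 8), ([2], 10), ([1, 0, 1], 10), ([0, 1, 0], 8), ([8, 2], 10), ([1, 0], 8),
  ([8, 7, 2], 10), ([7, 1, 0], 8), ([0, 7, 2], 10), ([2, 1, 5], 8), ([0, 7, 1, 0], 8), ([7, 2], 10), ([7, 2, 1], 8), ([7, 6, 2], 10),
  ([], 0), ([], 0), ([], 0), ([], 0), ([], 0), ([], 0), ([], 0), ([], 0),
  ([], 0), ([], 0), ([], 0), ([], 0), ([], 0), ([], 0), ([], 0), ([], 0),
  ([8, 2, 0], 10), ([4, 1, 0], 8), ([2, 5, 0], 10), ([4, 0, 1, 0], 8), ([8, 4, 1, 0], 8), ([2, 0], 10), ([2, 0, 1], 8), ([0, 2, 0], 10),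
  ([7, 0, 2, 0], 10), ([1, 3, 0], 8), ([7, 2, 0], 10), ([1, 4, 0], 8), ([1, 4, 2], 8), ([2, 0, 7], 10), ([1, 3, 2], 8), ([0, 7, 2, 0], 10),
  ([], 0), ([], 0), ([], 0), ([], 0), ([], 0), ([], 0), ([], 0), ([], 0),
  ([], 0), ([], 0), ([], 0), ([], 0), ([], 0), ([], 0), ([], 0), ([], 0),
  ([], 10), ([9, 1], 8), ([9], 10), ([1], 8), ([5], 10), ([1, 6], 8), ([9, 5], 10), ([5, 1], 8),
  ([1, 5], 8), ([0, 7, 0], 10), ([2, 1, 0], 8), ([7, 5], 10), ([7, 1], 8), ([3, 7], 10), ([3, 7, 1], 8), ([7], 10),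
  ([], 0), ([], 0), ([], 0), ([], 0), ([], 0), ([], 0), ([], 0), ([], 0),
  ([], 0), ([], 0), ([], 0), ([], 0), ([], 0), ([], 0), ([], 0), ([], 0),
  ([0], 10), ([9, 0, 1], 8), ([9, 0], 10), ([0, 1], 8), ([8, 0], 10), ([5, 0, 1], 8), ([5, 0], 10), ([8, 0, 1], 8),
  ([0, 7], 10), ([1, 4], 8), ([8, 7, 0], 10), ([0, 7, 1], 8), ([3, 7, 0], 10), ([1, 3], 8), ([7, 0], 10), ([3, 1, 3], 8),
  ([], 0), ([], 0), ([], 0), ([], 0), ([], 0), ([], 0), ([], 0), ([], 0),
  ([], 0), ([], 0), ([], 0), ([], 0), ([], 0), ([], 0), ([], 0), ([], 0),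
  ([], 0), ([], 0), ([], 0), ([], 0), ([], 0), ([], 0), ([], 0), ([], 0),
  ([], 0), ([], 0), ([], 0), ([], 0), ([], 0), ([], 0), ([], 0), ([], 0),
  ([], 0), ([], 0), ([], 0), ([], 0), ([], 0), ([], 0), ([], 0), ([], 0),
  ([], 0), ([], 0), ([], 0), ([], 0), ([], 0), ([], 0), ([], 0), ([], 0),
  ([], 0), ([], 0), ([], 0), ([], 0), ([], 0), ([], 0), ([], 0), ([], 0),
  ([], 0), ([], 0), ([], 0), ([], 0), ([], 0), ([], 0), ([], 0), ([], 0),
  ([], 0), ([], 0), ([], 0), ([], 0), ([], 0), ([], 0), ([], 0), ([], 0),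
  ([], 0), ([], 0), ([], 0), ([], 0), ([], 0), ([], 0), ([], 0), ([], 0)]

/-- Conjugating data. -/
def leaf10 : List (List ℕ × ℕ) := [([], 0), ([], 0), ([], 0), ([], 0), ([], 0), ([], 0), ([], 0), ([], 0),
  ([], 0), ([], 0), ([], 0), ([], 0), ([], 0), ([], 0), ([], 0), ([], 0),
  ([], 9), ([7, 2, 1], 0), ([5, 2, 1], 0), ([9], 9), ([7, 0, 1], 0), ([9, 6], 9), ([6], 9), ([5, 0, 1], 0),
  ([5], 9), ([6, 0, 1], 0), ([2, 1], 0), ([7], 9), ([9, 0, 1], 0), ([7, 6], 9), ([0, 2], 9), ([0, 1], 0),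
  ([], 0), ([], 0), ([], 0), ([], 0), ([], 0), ([], 0), ([], 0), ([], 0),
  ([], 0), ([], 0), ([], 0), ([], 0), ([], 0), ([], 0), ([], 0), ([], 0),
  ([2, 1, 0], 0), ([2, 0], 9), ([6, 3], 9), ([6, 0, 1, 0], 0), ([3], 9), ([0, 1, 0], 0), ([9, 0, 1, 0], 0), ([4], 9),
  ([3, 0, 2], 9), ([3, 0, 1], 0), ([5, 2, 1, 0], 0), ([5, 2, 0], 9), ([3, 2, 1], 0), ([5, 4], 9), ([5, 3], 9), ([0, 4, 1], 0),
  ([], 0), ([], 0), ([], 0), ([], 0), ([], 0), ([], 0), ([], 0), ([], 0),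
  ([], 0), ([], 0), ([], 0), ([], 0), ([], 0), ([], 0), ([], 0), ([], 0),
  ([], 0), ([], 0), ([], 0), ([], 0), ([], 0), ([], 0), ([], 0), ([], 0),
  ([], 0), ([], 0), ([], 0), ([], 0), ([], 0), ([], 0), ([], 0), ([], 0),
  ([], 0), ([], 0), ([], 0), ([], 0), ([], 0), ([], 0), ([], 0), ([], 0),
  ([], 0), ([], 0), ([], 0), ([], 0), ([], 0), ([], 0), ([], 0), ([], 0),
  ([], 0), ([], 0), ([], 0), ([], 0), ([], 0), ([], 0), ([], 0), ([], 0),
  ([], 0), ([], 0), ([], 0), ([], 0), ([], 0), ([], 0), ([], 0), ([], 0),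
  ([], 0), ([], 0), ([], 0), ([], 0), ([], 0), ([], 0), ([], 0), ([], 0),
  ([], 0), ([], 0), ([], 0), ([], 0), ([], 0), ([], 0), ([], 0), ([], 0),
  ([], 0), ([], 0), ([], 0), ([], 0), ([], 0), ([], 0), ([], 0), ([], 0),
  ([], 0), ([], 0), ([], 0), ([], 0), ([], 0), ([], 0), ([], 0), ([], 0),
  ([], 0), ([], 0), ([], 0), ([], 0), ([], 0), ([], 0), ([], 0), ([], 0),
  ([], 0), ([], 0), ([], 0), ([], 0), ([], 0), ([], 0), ([], 0), ([], 0),
  ([], 0), ([], 0), ([], 0), ([], 0), ([], 0), ([], 0), ([], 0), ([], 0),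
  ([], 0), ([], 0), ([], 0), ([], 0), ([], 0), ([], 0), ([], 0), ([], 0),
  ([], 0), ([], 0), ([], 0), ([], 0), ([], 0), ([], 0), ([], 0), ([], 0),
  ([], 0), ([], 0), ([], 0), ([], 0), ([], 0), ([], 0), ([], 0), ([], 0),
  ([9, 1, 0], 0), ([9, 0], 9), ([0], 9), ([1, 0], 0), ([8, 1, 0], 0), ([8, 0], 9), ([6, 0], 9), ([6, 1, 0], 0),
  ([7, 0], 9), ([7, 1, 0], 0), ([3, 1], 0), ([3, 2], 9), ([2, 3], 9), ([0, 2, 1], 0), ([4, 1], 0), ([5, 0], 9),
  ([], 0), ([], 0), ([], 0), ([], 0), ([], 0), ([], 0), ([], 0), ([], 0),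
  ([], 0), ([], 0), ([], 0), ([], 0), ([], 0), ([], 0), ([], 0), ([], 0),
  ([5, 2], 9), ([5, 1], 0), ([4, 1, 0], 0), ([4, 0], 9), ([3, 0], 9), ([7, 1], 0), ([8, 5, 1], 0), ([0, 4], 9),
  ([8, 2], 9), ([8, 1], 0), ([6, 1], 0), ([6, 2], 9), ([9, 2], 9), ([9, 1], 0), ([1], 0), ([2], 9)]

/-- Conjugating data. -/
def leaf11 : List (List ℕ × ℕ) := [([], 8), ([9, 1], 10), ([1], 10), ([9], 8), ([8], 8), ([6, 1], 10), ([8, 1], 10), ([6], 8),
  ([5, 1], 10), ([2, 0], 8), ([5], 8), ([2, 0, 1], 10), ([7, 1], 10), ([6, 5], 8), ([7], 8), ([3, 1, 0], 10),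
  ([], 0), ([], 0), ([], 0), ([], 0), ([], 0), ([], 0), ([], 0), ([], 0),
  ([], 0), ([], 0), ([], 0), ([], 0), ([], 0), ([], 0), ([], 0), ([], 0),
  ([9, 3], 8), ([3, 1], 10), ([9, 3, 1], 10), ([3], 8), ([6, 3], 8), ([4, 1], 10), ([5, 1, 0], 10), ([4], 8),
  ([7, 4], 8), ([6, 1, 0], 10), ([8, 1, 0], 10), ([5, 3], 8), ([7, 3], 8), ([9, 1, 0], 10), ([1, 0], 10), ([5, 4], 8),
  ([], 0), ([], 0), ([], 0), ([], 0), ([], 0), ([], 0), ([], 0), ([], 0),
  ([], 0), ([], 0), ([], 0), ([], 0), ([], 0), ([], 0), ([], 0), ([], 0),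
  ([], 0), ([], 0), ([], 0), ([], 0), ([], 0), ([], 0), ([], 0), ([], 0),
  ([], 0), ([], 0), ([], 0), ([], 0), ([], 0), ([], 0), ([], 0), ([], 0),
  ([], 0), ([], 0), ([], 0), ([], 0), ([], 0), ([], 0), ([], 0), ([], 0),
  ([], 0), ([], 0), ([], 0), ([], 0), ([], 0), ([], 0), ([], 0), ([], 0),
  ([], 0), ([], 0), ([], 0), ([], 0), ([], 0), ([], 0), ([], 0), ([], 0),
  ([], 0), ([], 0), ([], 0), ([], 0), ([], 0), ([], 0), ([], 0), ([], 0),
  ([], 0), ([], 0), ([], 0), ([], 0), ([], 0), ([], 0), ([], 0), ([], 0),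
  ([], 0), ([], 0), ([], 0), ([], 0), ([], 0), ([], 0), ([], 0), ([], 0),
  ([], 0), ([], 0), ([], 0), ([], 0), ([], 0), ([], 0), ([], 0), ([], 0),
  ([], 0), ([], 0), ([], 0), ([], 0), ([], 0), ([], 0), ([], 0), ([], 0),
  ([], 0), ([], 0), ([], 0), ([], 0), ([], 0), ([], 0), ([], 0), ([], 0),
  ([], 0), ([], 0), ([], 0), ([], 0), ([], 0), ([], 0), ([], 0), ([], 0),
  ([], 0), ([], 0), ([], 0), ([], 0), ([], 0), ([], 0), ([], 0), ([], 0),
  ([], 0), ([], 0), ([], 0), ([], 0), ([], 0), ([], 0), ([], 0), ([], 0),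
  ([], 0), ([], 0), ([], 0), ([], 0), ([], 0), ([], 0), ([], 0), ([], 0),
  ([], 0), ([], 0), ([], 0), ([], 0), ([], 0), ([], 0), ([], 0), ([], 0),
  ([2, 5, 1], 10), ([5, 0], 8), ([2, 5], 8), ([5, 0, 1], 10), ([6, 5, 0], 8), ([5, 2, 1], 10), ([3, 0, 1, 0], 10), ([5, 2], 8),
  ([2], 8), ([6, 0, 1], 10), ([2, 1], 10), ([6, 0], 8), ([0, 1], 10), ([9, 0], 8), ([0], 8), ([9, 0, 1], 10),
  ([], 0), ([], 0), ([], 0), ([], 0), ([], 0), ([], 0), ([], 0), ([], 0),
  ([], 0), ([], 0), ([], 0), ([], 0), ([], 0), ([], 0), ([], 0), ([], 0),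
  ([5, 3, 0], 8), ([2, 1, 0], 10), ([6, 0, 1, 0], 10), ([7, 3, 0], 8), ([9, 0, 1, 0], 10), ([7, 3, 2], 8), ([5, 3, 2], 8), ([0, 1, 0], 10),
  ([4, 2], 8), ([3, 2, 1], 10), ([4, 2, 1], 10), ([3, 2], 8), ([4, 0, 1], 10), ([3, 0], 8), ([4, 0], 8), ([3, 0, 1], 10),
  ([], 0), ([], 0), ([], 0), ([], 0), ([], 0), ([], 0), ([], 0), ([], 0),
  ([], 0), ([], 0), ([], 0), ([], 0), ([], 0), ([], 0), ([], 0), ([], 0)]

/-- Conjugating data. -/
def leaf12 : List (List ℕ × ℕ) := [([], 0), ([], 0), ([], 0), ([], 0), ([], 0), ([], 0), ([], 0), ([], 0),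
  ([], 0), ([], 0), ([], 0), ([], 0), ([], 0), ([], 0), ([], 0), ([], 0),
  ([], 0), ([], 0), ([], 0), ([], 0), ([], 0), ([], 0), ([], 0), ([], 0),
  ([], 0), ([], 0), ([], 0), ([], 0), ([], 0), ([], 0), ([], 0), ([], 0),
  ([], 0), ([], 0), ([], 0), ([], 0), ([], 0), ([], 0), ([], 0), ([], 0),
  ([], 0), ([], 0), ([], 0), ([], 0), ([], 0), ([], 0), ([], 0), ([], 0),
  ([], 0), ([], 0), ([], 0), ([], 0), ([], 0), ([], 0), ([], 0), ([], 0),
  ([], 0), ([], 0), ([], 0), ([], 0), ([], 0), ([], 0), ([], 0), ([], 0),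
  ([], 0), ([], 0), ([], 0), ([], 0), ([], 0), ([], 0), ([], 0), ([], 0),
  ([], 0), ([], 0), ([], 0), ([], 0), ([], 0), ([], 0), ([], 0), ([], 0),
  ([], 0), ([], 0), ([], 0), ([], 0), ([], 0), ([], 0), ([], 0), ([], 0),
  ([], 0), ([], 0), ([], 0), ([], 0), ([], 0), ([], 0), ([], 0), ([], 0),
  ([], 0), ([], 0), ([], 0), ([], 0), ([], 0), ([], 0), ([], 0), ([], 0),
  ([], 0), ([], 0), ([], 0), ([], 0), ([], 0), ([], 0), ([], 0), ([], 0),
  ([], 0), ([], 0), ([], 0), ([], 0), ([], 0), ([], 0), ([], 0), ([], 0),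
  ([], 0), ([], 0), ([], 0), ([], 0), ([], 0), ([], 0), ([], 0), ([], 0),
  ([], 0), ([], 0), ([], 0), ([], 0), ([], 0), ([], 0), ([], 0), ([], 0),
  ([], 0), ([], 0), ([], 0), ([], 0), ([], 0), ([], 0), ([], 0), ([], 0),
  ([], 0), ([], 0), ([], 0), ([], 0), ([], 0), ([], 0), ([], 0), ([], 0),
  ([], 0), ([], 0), ([], 0), ([], 0), ([], 0), ([], 0), ([], 0), ([], 0),
  ([], 0), ([], 0), ([], 0), ([], 0), ([], 0), ([], 0), ([], 0), ([], 0),
  ([], 0), ([], 0), ([], 0), ([], 0), ([], 0), ([], 0), ([], 0), ([], 0),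
  ([], 0), ([], 0), ([], 0), ([], 0), ([], 0), ([], 0), ([], 0), ([], 0),
  ([], 0), ([], 0), ([], 0), ([], 0), ([], 0), ([], 0), ([], 0), ([], 0),
  ([], 0), ([], 0), ([], 0), ([], 0), ([], 0), ([], 0), ([], 0), ([], 0),
  ([], 0), ([], 0), ([], 0), ([], 0), ([], 0), ([], 0), ([], 0), ([], 0),
  ([], 0), ([], 0), ([], 0), ([], 0), ([], 0), ([], 0), ([], 0), ([], 0),
  ([], 0), ([], 0), ([], 0), ([], 0), ([], 0), ([], 0), ([], 0), ([], 0),
  ([], 0), ([], 0), ([], 0), ([], 0), ([], 0), ([], 0), ([], 0), ([], 0),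
  ([], 0), ([], 0), ([], 0), ([], 0), ([], 0), ([], 0), ([], 0), ([], 0),
  ([], 0), ([], 0), ([], 0), ([], 0), ([], 0), ([], 0), ([], 0), ([], 0),
  ([], 0), ([], 0), ([], 0), ([], 0), ([], 0), ([], 0), ([], 0), ([], 0)]

/-- Conjugating data. -/
def leaf13 : List (List ℕ × ℕ) := [([], 0), ([], 0), ([], 0), ([], 0), ([], 0), ([], 0), ([], 0), ([], 0),
  ([], 0), ([], 0), ([], 0), ([], 0), ([], 0), ([], 0), ([], 0), ([], 0),
  ([], 0), ([], 0), ([], 0), ([], 0), ([], 0), ([], 0), ([], 0), ([], 0),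
  ([], 0), ([], 0), ([], 0), ([], 0), ([], 0), ([], 0), ([], 0), ([], 0),
  ([], 0), ([], 0), ([], 0), ([], 0), ([], 0), ([], 0), ([], 0), ([], 0),
  ([], 0), ([], 0), ([], 0), ([], 0), ([], 0), ([], 0), ([], 0), ([], 0),
  ([], 0), ([], 0), ([], 0), ([], 0), ([], 0), ([], 0), ([], 0), ([], 0),
  ([], 0), ([], 0), ([], 0), ([], 0), ([], 0), ([], 0), ([], 0), ([], 0),
  ([], 0), ([], 0), ([], 0), ([], 0), ([], 0), ([], 0), ([], 0), ([], 0),
  ([], 0), ([], 0), ([], 0), ([], 0), ([], 0), ([], 0), ([], 0), ([], 0),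
  ([], 0), ([], 0), ([], 0), ([], 0), ([], 0), ([], 0), ([], 0), ([], 0),
  ([], 0), ([], 0), ([], 0), ([], 0), ([], 0), ([], 0), ([], 0), ([], 0),
  ([], 0), ([], 0), ([], 0), ([], 0), ([], 0), ([], 0), ([], 0), ([], 0),
  ([], 0), ([], 0), ([], 0), ([], 0), ([], 0), ([], 0), ([], 0), ([], 0),
  ([], 0), ([], 0), ([], 0), ([], 0), ([], 0), ([], 0), ([], 0), ([], 0),
  ([], 0), ([], 0), ([], 0), ([], 0), ([], 0), ([], 0), ([], 0), ([], 0),
  ([], 0), ([], 0), ([], 0), ([], 0), ([], 0), ([], 0), ([], 0), ([], 0),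
  ([], 0), ([], 0), ([], 0), ([], 0), ([], 0), ([], 0), ([], 0), ([], 0),
  ([], 0), ([], 0), ([], 0), ([], 0), ([], 0), ([], 0), ([], 0), ([], 0),
  ([], 0), ([], 0), ([], 0), ([], 0), ([], 0), ([], 0), ([], 0), ([], 0),
  ([], 0), ([], 0), ([], 0), ([], 0), ([], 0), ([], 0), ([], 0), ([], 0),
  ([], 0), ([], 0), ([], 0), ([], 0), ([], 0), ([], 0), ([], 0), ([], 0),
  ([], 0), ([], 0), ([], 0), ([], 0), ([], 0), ([], 0), ([], 0), ([], 0),
  ([], 0), ([], 0), ([], 0), ([], 0), ([], 0), ([], 0), ([], 0), ([], 0),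
  ([], 0), ([], 0), ([], 0), ([], 0), ([], 0), ([], 0), ([], 0), ([], 0),
  ([], 0), ([], 0), ([], 0), ([], 0), ([], 0), ([], 0), ([], 0), ([], 0),
  ([], 0), ([], 0), ([], 0), ([], 0), ([], 0), ([], 0), ([], 0), ([], 0),
  ([], 0), ([], 0), ([], 0), ([], 0), ([], 0), ([], 0), ([], 0), ([], 0),
  ([], 0), ([], 0), ([], 0), ([], 0), ([], 0), ([], 0), ([], 0), ([], 0),
  ([], 0), ([], 0), ([], 0), ([], 0), ([], 0), ([], 0), ([], 0), ([], 0),
  ([], 0), ([], 0), ([], 0), ([], 0), ([], 0), ([], 0), ([], 0), ([], 0),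
  ([], 0), ([], 0), ([], 0), ([], 0), ([], 0), ([], 0), ([], 0), ([], 0)]

/-- Conjugating data. -/
def leaf14 : List (List ℕ × ℕ) := [([], 0), ([], 0), ([], 0), ([], 0), ([], 0), ([], 0), ([], 0), ([], 0),
  ([], 0), ([], 0), ([], 0), ([], 0), ([], 0), ([], 0), ([], 0), ([], 0),
  ([], 0), ([], 0), ([], 0), ([], 0), ([], 0), ([], 0), ([], 0), ([], 0),
  ([], 0), ([], 0), ([], 0), ([], 0), ([], 0), ([], 0), ([], 0), ([], 0),
  ([], 0), ([], 0), ([], 0), ([], 0), ([], 0), ([], 0), ([], 0), ([], 0),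
  ([], 0), ([], 0), ([], 0), ([], 0), ([], 0), ([], 0), ([], 0), ([], 0),
  ([], 0), ([], 0), ([], 0), ([], 0), ([], 0), ([], 0), ([], 0), ([], 0),
  ([], 0), ([], 0), ([], 0), ([], 0), ([], 0), ([], 0), ([], 0), ([], 0),
  ([], 0), ([], 0), ([], 0), ([], 0), ([], 0), ([], 0), ([], 0), ([], 0),
  ([], 0), ([], 0), ([], 0), ([], 0), ([], 0), ([], 0), ([], 0), ([], 0),
  ([], 0), ([], 0), ([], 0), ([], 0), ([], 0), ([], 0), ([], 0), ([], 0),
  ([], 0), ([], 0), ([], 0), ([], 0), ([], 0), ([], 0), ([], 0), ([], 0),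
  ([], 0), ([], 0), ([], 0), ([], 0), ([], 0), ([], 0), ([], 0), ([], 0),
  ([], 0), ([], 0), ([], 0), ([], 0), ([], 0), ([], 0), ([], 0), ([], 0),
  ([], 0), ([], 0), ([], 0), ([], 0), ([], 0), ([], 0), ([], 0), ([], 0),
  ([], 0), ([], 0), ([], 0), ([], 0), ([], 0), ([], 0), ([], 0), ([], 0),
  ([], 0), ([], 0), ([], 0), ([], 0), ([], 0), ([], 0), ([], 0), ([], 0),
  ([], 0), ([], 0), ([], 0), ([], 0), ([], 0), ([], 0), ([], 0), ([], 0),
  ([], 0), ([], 0), ([], 0), ([], 0), ([], 0), ([], 0), ([], 0), ([], 0),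
  ([], 0), ([], 0), ([], 0), ([], 0), ([], 0), ([], 0), ([], 0), ([], 0),
  ([], 0), ([], 0), ([], 0), ([], 0), ([], 0), ([], 0), ([], 0), ([], 0),
  ([], 0), ([], 0), ([], 0), ([], 0), ([], 0), ([], 0), ([], 0), ([], 0),
  ([], 0), ([], 0), ([], 0), ([], 0), ([], 0), ([], 0), ([], 0), ([], 0),
  ([], 0), ([], 0), ([], 0), ([], 0), ([], 0), ([], 0), ([], 0), ([], 0),
  ([], 0), ([], 0), ([], 0), ([], 0), ([], 0), ([], 0), ([], 0), ([], 0),
  ([], 0), ([], 0), ([], 0), ([], 0), ([], 0), ([], 0), ([], 0), ([], 0),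
  ([], 0), ([], 0), ([], 0), ([], 0), ([], 0), ([], 0), ([], 0), ([], 0),
  ([], 0), ([], 0), ([], 0), ([], 0), ([], 0), ([], 0), ([], 0), ([], 0),
  ([], 0), ([], 0), ([], 0), ([], 0), ([], 0), ([], 0), ([], 0), ([], 0),
  ([], 0), ([], 0), ([], 0), ([], 0), ([], 0), ([], 0), ([], 0), ([], 0),
  ([], 0), ([], 0), ([], 0), ([], 0), ([], 0), ([], 0), ([], 0), ([], 0),
  ([], 0), ([], 0), ([], 0), ([], 0), ([], 0), ([], 0), ([], 0), ([], 0)]

/-- Conjugating data. -/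
def leaf15 : List (List ℕ × ℕ) := [([], 0), ([], 0), ([], 0), ([], 0), ([], 0), ([], 0), ([], 0), ([], 0),
  ([], 0), ([], 0), ([], 0), ([], 0), ([], 0), ([], 0), ([], 0), ([], 0),
  ([], 0), ([], 0), ([], 0), ([], 0), ([], 0), ([], 0), ([], 0), ([], 0),
  ([], 0), ([], 0), ([], 0), ([], 0), ([], 0), ([], 0), ([], 0), ([], 0),
  ([], 0), ([], 0), ([], 0), ([], 0), ([], 0), ([], 0), ([], 0), ([], 0),
  ([], 0), ([], 0), ([], 0), ([], 0), ([], 0), ([], 0), ([], 0), ([], 0),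
  ([], 0), ([], 0), ([], 0), ([], 0), ([], 0), ([], 0), ([], 0), ([], 0),
  ([], 0), ([], 0), ([], 0), ([], 0), ([], 0), ([], 0), ([], 0), ([], 0),
  ([], 0), ([], 0), ([], 0), ([], 0), ([], 0), ([], 0), ([], 0), ([], 0),
  ([], 0), ([], 0), ([], 0), ([], 0), ([], 0), ([], 0), ([], 0), ([], 0),
  ([], 0), ([], 0), ([], 0), ([], 0), ([], 0), ([], 0), ([], 0), ([], 0),
  ([], 0), ([], 0), ([], 0), ([], 0), ([], 0), ([], 0), ([], 0), ([], 0),
  ([], 0), ([], 0), ([], 0), ([], 0), ([], 0), ([], 0), ([], 0), ([], 0),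
  ([], 0), ([], 0), ([], 0), ([], 0), ([], 0), ([], 0), ([], 0), ([], 0),
  ([], 0), ([], 0), ([], 0), ([], 0), ([], 0), ([], 0), ([], 0), ([], 0),
  ([], 0), ([], 0), ([], 0), ([], 0), ([], 0), ([], 0), ([], 0), ([], 0),
  ([], 0), ([], 0), ([], 0), ([], 0), ([], 0), ([], 0), ([], 0), ([], 0),
  ([], 0), ([], 0), ([], 0), ([], 0), ([], 0), ([], 0), ([], 0), ([], 0),
  ([], 0), ([], 0), ([], 0), ([], 0), ([], 0), ([], 0), ([], 0), ([], 0),
  ([], 0), ([], 0), ([], 0), ([], 0), ([], 0), ([], 0), ([], 0), ([], 0),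
  ([], 0), ([], 0), ([], 0), ([], 0), ([], 0), ([], 0), ([], 0), ([], 0),
  ([], 0), ([], 0), ([], 0), ([], 0), ([], 0), ([], 0), ([], 0), ([], 0),
  ([], 0), ([], 0), ([], 0), ([], 0), ([], 0), ([], 0), ([], 0), ([], 0),
  ([], 0), ([], 0), ([], 0), ([], 0), ([], 0), ([], 0), ([], 0), ([], 0),
  ([], 0), ([], 0), ([], 0), ([], 0), ([], 0), ([], 0), ([], 0), ([], 0),
  ([], 0), ([], 0), ([], 0), ([], 0), ([], 0), ([], 0), ([], 0), ([], 0),
  ([], 0), ([], 0), ([], 0), ([], 0), ([], 0), ([], 0), ([], 0), ([], 0),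
  ([], 0), ([], 0), ([], 0), ([], 0), ([], 0), ([], 0), ([], 0), ([], 0),
  ([], 0), ([], 0), ([], 0), ([], 0), ([], 0), ([], 0), ([], 0), ([], 0),
  ([], 0), ([], 0), ([], 0), ([], 0), ([], 0), ([], 0), ([], 0), ([], 0),
  ([], 0), ([], 0), ([], 0), ([], 0), ([], 0), ([], 0), ([], 0), ([], 0),
  ([], 0), ([], 0), ([], 0), ([], 0), ([], 0), ([], 0), ([], 0), ([], 0)]

/-- All of the conjugating data. -/
def leafData : List (List (List ℕ × ℕ)) := [leaf0, leaf1, leaf2, leaf3, leaf4, leaf5, leaf6, leaf7, leaf8, leaf9, leaf10, leaf11, leaf12, leaf13, leaf14, leaf15]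

/-- Masks and pivots bounding ranks below. -/
def lowRank : List (List (ℕ × ℕ)) := [
  [(44560482438, 2), (545456325, 3), (448, 4), (64, 5), (128, 6), (4206664, 7), (896, 8), (196673, 10), (4160, 11), (4194376, 12), (4236232, 13), (69632, 14), (65, 16), (426945, 17), (1048640, 19), (8, 20), (8388608, 21), (46737264844, 22), (25235456, 23), (8458251, 24), (135266816, 25), (1048652, 26), (1082130432, 28), (17716740556, 29), (8598323211, 30), (24171983182, 31), (2546470020448256, 33), (129394278727, 35), (274904191052, 37), (868665528322, 38), (2542085022024, 39), (4674007597132, 40), (2533275880984576, 42)],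
  [(268435466, 2), (37520834297859, 3), (32, 4), (528384, 5), (537600, 6), (2048, 7), (524288, 8), (529440, 9), (538969088, 10), (131072, 11), (539759616, 12), (539522048, 13), (67584, 15), (2147483648, 16), (16908288, 17), (262145, 18), (2, 19), (536870912, 20), (137438953475, 21), (2156068864, 22), (558345748480, 24), (67637248, 25), (35356170780675, 26), (537610, 27), (562949953421312, 28), (139049566211, 29), (277025390592, 31), (10762780672, 32), (35322417120259, 34), (1196303010758656, 35), (140737756790792, 36), (149671020331011, 37), (17592186044416, 38)],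
  [(19965163929607, 0), (137438953477, 1), (268435464, 2), (1125904472360972, 3), (32, 4), (4, 5), (131072, 6), (2048, 7), (4096, 8), (1024, 9), (4294986752, 10), (2, 11), (2147483648, 12), (4294969344, 13), (562642831362, 14), (65572, 15), (2235538931716, 16), (16908288, 17), (2055, 18), (35218731827204, 19), (4297082880, 20), (2235530477572, 22), (150096224208898, 24), (67108864, 25), (598168685248516, 26), (44, 27), (1073872896, 29), (35495757217796, 31), (549757929474, 32), (34359742500, 34), (140741783473152, 36), (1112398645250, 39), (6597069766660, 41)],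
  [(36010684255302, 2), (36009610020929, 3), (64, 4), (526400, 5), (524352, 6), (4096, 7), (525312, 8), (558080, 9), (69207104, 10), (69274688, 11), (20480, 12), (266240, 13), (8392704, 14), (69370944, 15), (69240833, 17), (2172653568, 18), (2097216, 19), (3, 20), (35736007049287, 21), (25444352, 22), (137447608320, 24), (7, 25), (35735741236295, 26), (606076992, 27), (550830179335, 29), (70369817919495, 30), (148176633856, 31), (2345077592064, 32), (620155208775, 34), (1125900980620359, 35), (703757033668608, 36), (4537658118144, 37), (71744207490118, 38)],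
  [(70662949437450, 2), (19327352843, 3), (2048, 4), (128, 5), (640, 6), (16384, 7), (65536, 8), (8, 9), (268500992, 10), (10240, 11), (40960, 12), (16777228, 13), (147464, 14), (9, 15), (458760, 16), (1118838980618, 17), (42949672960, 18), (4196352, 19), (138412032, 20), (2700, 21), (137455730700, 22), (57359, 23), (70647933829135, 24), (274877906953, 25), (2147549199, 26), (35184372088832, 27), (34628173824, 28), (175921860444160, 29), (103079215112, 30), (4440996184064, 31), (2251799813685248, 36), (35871566856192, 37), (38208029065216, 38)],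
  [(212227894743043, 0), (215521597329421, 1), (140737488355336, 2), (70386062462988, 3), (4096, 4), (128, 5), (640, 6), (65536, 7), (8, 8), (536870916, 9), (1073741824, 10), (8192, 11), (45056, 12), (9, 13), (131712, 14), (70371030077454, 15), (537329668, 16), (43486543876, 17), (4194304, 19), (138416128, 20), (132, 21), (274877906944, 22), (8206, 23), (1100048891908, 24), (35184372088832, 25), (70368882589696, 26), (34896609924, 28), (104689827844, 30), (2251800350556164, 35), (70920647516174, 37), (73394687053838, 38), (914795960209422, 39), (9896141520900, 40)],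
  [(35495765729294, 2), (35459258384513, 3), (128, 4), (2048, 5), (1152, 6), (8320, 7), (32768, 8), (134250624, 9), (12, 10), (16384, 11), (83968, 12), (131212, 13), (16794760, 14), (401548, 15), (81933, 16), (586263273481, 17), (21609480332, 18), (8388608, 19), (1160, 20), (276826112, 21), (139, 22), (137464120456, 23), (35467865104394, 24), (2147575947, 25), (274877909005, 26), (17314119680, 27), (70368744179712, 28), (85899346944, 29), (211106500971648, 30), (2222779826315, 31), (1125934400831624, 36), (71468264210432, 37), (76003749726208, 38)],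
  [(3441359454223, 0), (72653675446281, 1), (68719476744, 2), (70454652190732, 3), (512, 4), (1024, 5), (8192, 6), (16384, 7), (65536, 8), (4, 9), (8668160, 10), (131588, 11), (8404992, 12), (16777216, 13), (16399, 14), (10, 15), (2147549184, 16), (142824570884, 17), (300656377866, 18), (524, 19), (536870912, 20), (1073750532, 21), (138529472516, 22), (292058054666, 23), (35735218421764, 24), (17188536320, 25), (34359803904, 26), (35185445830660, 27), (175922934185988, 29), (4698694288394, 31), (562949962155008, 34), (8933531975684, 37), (580567909336074, 38)],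
  [(65515422407, 2), (448, 4), (384, 5), (192, 6), (38838656, 7), (832, 8), (393537, 10), (38842560, 11), (38830272, 12), (45440, 13), (467329, 14), (266433, 16), (467136, 17), (1048832, 19), (33554496, 20), (46629185, 21), (67655479745, 22), (67672158400, 23), (26214595, 24), (1048840, 25), (46236364, 26), (549945541, 27), (64441287362, 28), (17762976448, 29), (31155290818, 30), (46180336002, 31), (3826367082889223, 33), (104199586689, 35), (277051769540, 37), (569646547269, 38), (3025850938183, 39), (3831264973108037, 40), (3817810388550465, 42)],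
  [(448, 4), (384, 5), (320, 6), (38834176, 7), (896, 8), (67645734915, 9), (67646063490, 10), (38830208, 11), (12288, 12), (67684532227, 13), (67646009346, 14), (196608, 16), (67645734914, 17), (1048896, 19), (67680337923, 20), (67692171714, 21), (65562513416, 22), (65537347592, 23), (2164260873, 24), (67645734923, 25), (67646063502, 26), (68230090758, 27), (66571993991, 28), (17716740108, 29), (35433480192, 30), (23622320139, 31), (4244138505535499, 33), (135291469835, 35), (342532329480, 37), (875147071498, 38), (2491128516608, 39), (4240556550295555, 40), (13194139533312, 42)],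
  [(44577259718, 2), (545394821, 3), (448, 4), (64, 5), (192, 6), (5251080, 7), (832, 8), (135233, 10), (4160, 11), (5242888, 12), (45888, 13), (69632, 14), (65, 16), (5735240, 17), (1048640, 19), (8, 20), (8388608, 21), (46721536192, 22), (16846848, 23), (25165835, 24), (135266952, 25), (9437260, 26), (1082130432, 28), (17180004685, 29), (9688911883, 30), (67650986374, 31), (2683083267506252, 33), (121332961677, 35), (274904191052, 37), (593797120078, 38), (3091312157122, 39), (4673999208524, 40), (2674012303986688, 42)],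
  [(35220359350286, 2), (37933688037409, 3), (32, 4), (530464, 5), (15392, 6), (13312, 7), (9248, 8), (8192, 9), (536870924, 10), (225280, 11), (537206828, 12), (401408, 13), (836993121315, 14), (262144, 15), (834314386442, 16), (2147886117, 17), (2684625960, 18), (19543074, 19), (553784334, 20), (2684363787, 22), (972301147143, 24), (536880168, 25), (35220076101672, 26), (536879104, 27), (774091619958824, 28), (2783138816005, 29), (35779225064490, 31), (2236067349536, 32), (34896609288, 34), (1688884220003368, 35), (1125899906850816, 36), (578103151844399, 37), (620708673687598, 38)],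
  [(36147057578050, 3), (64, 4), (526400, 5), (524352, 6), (530496, 7), (3136, 8), (562240, 9), (67109900, 10), (67699788, 11), (20480, 12), (67912780, 13), (8919104, 14), (231424, 15), (9014273, 17), (2239775756, 18), (12, 19), (8919119, 20), (36148122901509, 21), (25499648, 22), (35873513391172, 23), (412661308493, 24), (8392715, 25), (36148391333897, 26), (612374531, 27), (35185177398272, 29), (70369826838603, 30), (36021354496073, 31), (2346134863942, 32), (35253368393799, 34), (1337006752303119, 35), (703757042587727, 36), (40136294128644, 37), (107340427083855, 38)],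
  [(35510798073861, 2), (35478585737226, 3), (128, 4), (2176, 5), (1152, 6), (8320, 7), (32768, 8), (134250624, 9), (12, 10), (24576, 11), (124928, 12), (134381580, 13), (16925700, 14), (134651916, 15), (475137, 16), (603443232773, 17), (21475229708, 18), (8505344, 19), (134251528, 20), (276907020, 21), (134250507, 22), (137464120323, 23), (35474307547137, 24), (2281785355, 25), (277025472518, 26), (17314119680, 27), (70403103916040, 28), (85899346944, 29), (211209580183560, 30), (2222645575691, 31), (1125934266581000, 36), (107477261615104, 37), (114211770335232, 38)]]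

/-- Thirty-two vectors spanning the image. -/
def highBasis : List ℕ := [
  5, 8, 32, 64,
  256, 2048, 4096, 8192,
  16384, 65536, 131072, 524288,
  1048576, 2097152, 8388608, 16777216,
  33554432, 67108864, 268435456, 536870912,
  1073741824, 2147483648, 34359738368, 137438953472,
  274877906944, 549755813888, 1099511627776, 4398046511104,
  8796093022208, 70368744177664, 140737488355328, 562949953421312]

/-- The coefficients of the rows. -/
def highCoef : List ℕ := [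
  0, 40960, 131072, 0, 0, 0,
  4, 8, 12, 20, 0, 0,
  32, 96, 0, 160, 256, 768,
  1280, 0, 2048, 0, 4096, 8192,
  24576, 6144, 8192, 67584, 0, 139266,
  262144, 57345, 2646017, 1048576, 532482, 1310720,
  4456448, 0, 8388608, 25165824, 0, 41943040,
  67108864, 201326592, 335544320, 0, 0, 536870912,
  1073741824, 1610612736, 2684354560, 0]

/-- For each generator the indices of a first factor and two odd orders. -/
def oddFact : List (List ℕ × ℕ × ℕ) := [
  ([2, 7, 1, 6, 0, 1], 13, 13),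
  ([3, 2, 6, 0, 4, 0], 5, 13),
  ([0, 5, 4, 0, 1, 0], 13, 13),
  ([7, 3, 1, 7, 1, 0], 13, 13),
  ([1, 3, 6, 1], 5, 5),
  ([6, 1, 7, 1, 0, 4], 13, 13),
  ([4, 0, 1, 7, 3, 1], 13, 13),
  ([7, 5], 1, 5)]

end Cfsg.Lib.TitsComm
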