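import Cfsg.Agent.Known.TitsEval

/-!
Faster evaluators of words over the field of two elements: one vector without branching, and all the unit
vectors at once.
-/

set_option autoImplicit false
set_option maxRecDepth 100000
set_option exponentiation.threshold 4000

namespace Cfsg.Lib.TitsPacked

open Cfsg.Lib.TitsInvol (rowsB stepR runR)

/-- One step without branching. -/
def stepQ (r v : ℕ) : ℕ :=
  (rowsB.getD r []).foldr (fun e acc => Nat.xor acc (Nat.mul e.2 (Nat.mod (Nat.shiftRight v e.1) 2))) v

/-- A word without branching. -/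
def runQ : List ℕ → ℕ → ℕ
  | [], v => v
  | r :: w, v => runQ w (stepQ r v)

theorem stepQ_eq (r v : ℕ) : stepQ r v = stepR r v := by
  rw [stepQ, stepR]
  refine congrArg (fun f => (rowsB.getD r []).foldr f v) (funext fun e => funext fun acc => ?_)
  show acc ^^^ (e.2 * (v >>> e.1 % 2)) = _
  have h : v.testBit e.1 = decide (v >>> e.1 % 2 = 1) := by
    rw [Nat.testBit_eq_decide_div_mod_eq, Nat.shiftRight_eq_div_pow]
  rcases Nat.mod_two_eq_zero_or_one (v >>> e.1) with h1 | h1 <;> simp [h, h1]

theorem runQ_eq : ∀ (w : List ℕ) (v : ℕ), runQ w v = runR w v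
  | [], _ => rfl
  | r :: w, v => by rw [runQ, runR, stepQ_eq, runQ_eq w]

/-- One step on all the unit vectors at once: the columns are packed with stride 64. -/
def stepP (r S : ℕ) : ℕ :=
  (Cfsg.Lib.TitsInvol.rowsB.getD r []).foldr
    (fun e acc => Nat.xor acc (Nat.mul (Nat.land (Nat.shiftRight S (64 * e.1)) 18446744073709551615) (Nat.pow e.2 64))) S

/-- A word on all the unit vectors at once. -/
def runP : List ℕ → ℕ → ℕ
  | [], S => S
  | r :: w, S => runP w (stepP r S)

/-- The unit vectors. -/
def startP : ℕ := (List.range 52).foldr (fun n acc => Nat.xor (Nat.pow 2 (65 * n)) acc) 0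

theorem masks_pow : ∀ L ∈ Cfsg.Lib.TitsInvol.rowsB, ∀ e ∈ L, e.2 = 2 ^ Nat.log2 e.2 := by decide +kernel

theorem start_low : ∀ n < 52, ∀ c < 52, startP.testBit (64 * c + n) = decide (c = n) := by decide +kernel

theorem start_lt : startP < 2 ^ (64 * 52) := by decide +kernel

theorem start_bit {n : ℕ} (hn : n < 52) (c : ℕ) : startP.testBit (64 * c + n) = (2 ^ n).testBit c := by
  rw [Nat.testBit_two_pow]
  by_cases hc : c < 52
  · rw [start_low n hn c hc]; simp [eq_comm]
  · rw [Nat.testBit_lt_two_pow (start_lt.trans_le (Nat.pow_le_pow_right two_pos (by omega)))]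
    exact (decide_eq_false (by omega)).symm

theorem spread (S i k n c : ℕ) (hn : n < 64) :
    (Nat.mul (Nat.land (Nat.shiftRight S (64 * i)) 18446744073709551615) (Nat.pow (2 ^ k) 64)).testBit (64 * c + n) =
      (decide (c = k) && S.testBit (64 * i + n)) := by
  show ((S >>> (64 * i) &&& 18446744073709551615) * (2 ^ k) ^ 64).testBit (64 * c + n) = _
  rw [← pow_mul, ← Nat.shiftLeft_eq, Nat.testBit_shiftLeft, Nat.testBit_and,
    show (18446744073709551615 : ℕ) = 2 ^ 64 - 1 by norm_num, Nat.testBit_two_pow_sub_one, Nat.testBit_shiftRight]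
  by_cases h : c = k
  · subst h
    rw [show 64 * c + n - c * 64 = n by omega]
    simp [hn, show c * 64 ≤ 64 * c + n by omega]
  · by_cases h2 : k * 64 ≤ 64 * c + n
    · have h3 : ¬ 64 * c + n - k * 64 < 64 := by omega
      simp [h, h3]
    · simp [h, h2]

theorem stepP_spec (r S v n : ℕ) (hn : n < 64) (h : ∀ c, S.testBit (64 * c + n) = v.testBit c) (c : ℕ) :
    (stepP r S).testBit (64 * c + n) = (Cfsg.Lib.TitsInvol.stepR r v).testBit c := by
  rw [stepP, Cfsg.Lib.TitsInvol.stepR]
  have hpow : ∀ e ∈ Cfsg.Lib.TitsInvol.rowsB.getD r [], e.2 = 2 ^ Nat.log2 e.2 := by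
    by_cases hr : r < Cfsg.Lib.TitsInvol.rowsB.length
    · rw [List.getD_eq_getElem _ _ hr]; exact masks_pow _ (List.getElem_mem hr)
    · rw [List.getD_eq_default _ _ (not_lt.1 hr)]; simp
  revert hpow
  generalize Cfsg.Lib.TitsInvol.rowsB.getD r [] = L
  intro hpow
  induction L with
  | nil => exact h c
  | cons e L ih =>
    rw [List.foldr_cons, List.foldr_cons]
    show Nat.testBit (_ ^^^ _) _ = _
    rw [Nat.testBit_xor, ih fun x hx => hpow x (List.mem_cons_of_mem _ hx), hpow e List.mem_cons_self,
      spread S e.1 _ n c hn, h e.1]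
    cases v.testBit e.1 <;> simp [Nat.testBit_two_pow, eq_comm]

theorem runP_spec : ∀ (w : List ℕ) (S v n : ℕ), n < 64 → (∀ c, S.testBit (64 * c + n) = v.testBit c) →
    ∀ c, (runP w S).testBit (64 * c + n) = (runR w v).testBit c
  | [], _, _, _, _, h, c => h c
  | r :: w, S, v, n, hn, h, c => runP_spec w _ _ n hn (stepP_spec r S v n hn h) c

/-- Equal packed images give equal images of each unit vector. -/
theorem runP_inj {a b : List ℕ} (h : runP a startP = runP b startP) {n : ℕ} (hn : n < 52) :
    runR a (2 ^ n) = runR b (2 ^ n) := by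
  refine Nat.eq_of_testBit_eq fun c => ?_
  have hn' : n < 64 := by omega
  rw [← runP_spec a startP _ n hn' (start_bit hn) c, ← runP_spec b startP _ n hn' (start_bit hn) c, h]

end Cfsg.Lib.TitsPacked
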