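import Cfsg.Agent.Known.TitsCommData
import Cfsg.Agent.Known.TitsPacked

/-!
Definitions for the checks for the derived subgroup of `²F₄(2)`.
-/

set_option autoImplicit false
set_option maxRecDepth 100000

namespace Cfsg.Lib.TitsComm

open Cfsg.Lib.TitsInvol (WZ)
open Cfsg.Lib.TitsPacked (runP startP runQ)

/-- The roots of a product of representatives. -/
def zw (l : List ℕ) : List ℕ := l.flatMap fun k => (WZ.getD k ([], false)).1

/-- The parity of a product of representatives. -/
def zpar (l : List ℕ) : Bool := (l.map fun k => (WZ.getD k ([], false)).2).foldr xor false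

/-- The sixteen generator words. -/
def genW : List (List ℕ) :=
  [[33, 24], [14, 23], [27, 25, 28], [28, 30], [27, 25, 30], [20, 22, 19], [19, 17], [20, 22, 17]]

/-- Their classes. -/
def genS : List Bool := [false, false, true, false, true, true, false, true]

/-- A word fixes the regular vector. -/
def fixes48 (w : List ℕ) : Bool := Nat.beq (runQ w (2 ^ 48) % 2 ^ 52) (2 ^ 48)

/-- A selection from a prefix code and a suffix code. -/
def selOf (pre suf : ℕ) : List ℕ :=
  ((List.range 4).filter fun k => pre.testBit (3 - k)) ++ ((List.range' 4 8).filter fun k => suf.testBit (11 - k))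

/-- The test at a selection. -/
def selOK (S : List ℕ) (e : List ℕ × ℕ) : Bool :=
  (S.isEmpty || !(fixes48 (zw S))) &&
    (zpar S || fixes48 (zw S ++ zw S) || !(fixes48 (zw S ++ zw S ++ zw S ++ zw S)) ||
      (decide (e.2 < repList.length) && e.1.all (fun k => decide (k < 12)) &&
        fixes48 (zw S ++ zw e.1 ++ (zw e.1 ++ zw (repList.getD e.2 [])).reverse)))

/-- All selections with a given prefix. -/
def preOK (pre : ℕ) : Bool := (List.range 256).all fun suf => selOK (selOf pre suf) ((leafData.getD pre []).getD suf ([], 0))

/-- Strictly increasing. -/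
def incr : ℕ → List ℕ → Bool
  | _, [] => true
  | a, b :: l => decide (a < b) && incr b l

/-- The row image of a mask under a representative minus one. -/
def diffImg (w : List ℕ) (m : ℕ) : ℕ := runQ w m ^^^ m

/-- The combination of the spanning vectors selected by a coefficient. -/
def combo : List ℕ → ℕ → ℕ
  | [], _ => 0
  | b :: l, c => (bif c.testBit 0 then b else 0) ^^^ combo l (c / 2)

/-- The identity on the fifty-two unit vectors. -/
def isOne (w : List ℕ) : Bool := Nat.beq (runP w startP) startP

/-- The word in the generators with given indices. -/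
def gw (l : List ℕ) : List ℕ := l.flatMap fun i => genW.getD i []

/-- A generator is congruent to one or to the fixed one modulo elements of odd order. -/
def oddOK (i : ℕ) : Bool :=
  let e := oddFact.getD i ([], 0, 0)
  let tgt := genW.getD i [] ++ bif genS.getD i false then [27, 25, 28] else []
  e.1.all (fun k => decide (k < 8)) && (e.2.1 % 2 == 1) && (e.2.2 % 2 == 1) &&
    isOne (List.replicate e.2.1 (gw e.1)).flatten &&
    isOne (List.replicate e.2.2 ((gw e.1).reverse ++ tgt)).flatten

end Cfsg.Lib.TitsComm
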