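import Cfsg.Agent.Chev.Ree.F4.InvParab
import Cfsg.Agent.Known.TitsSimple

/-! The Tits group has two classes of involutions. -/

set_option autoImplicit false
set_option linter.dupNamespace false
set_option linter.unusedSectionVars false
set_option maxRecDepth 20000

open Cfsg.Lie
open Cfsg.Lib.Chev Cfsg.Lib.Chev.ReeF
open Cfsg.Lib.TitsInvol (wG wG_eq)

namespace Cfsg.Lib.TitsInvolClasses

theorem odd_move : ∃ k < 16, pr k 27 = 29 ∧ pr k 25 = 41 ∧ pr k 28 = 44 := by decide +kernel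

theorem odd_comm : ∀ w ∈ [[39, 45], [44, 47]], ∀ n < 52,
    Word.runB ([29, 41, 44] ++ w) (2 ^ n) = Word.runB (w ++ [29, 41, 44]) (2 ^ n) := by decide +kernel

theorem odd_elem (X : RF (ZMod 2)) : ∃ c : ↥X.G1, c ∉ commutator ↥X.G1 ∧
    ∀ i ∈ [9, 11], (c : GL chevF4.Idx (ZMod 2)) * X.yP (PP i) 1 = X.yP (PP i) 1 * c := by
  obtain ⟨k, hk, a, b, d⟩ := odd_move
  have e : X.nk k * wG [27, 25, 28] * (X.nk k)⁻¹ = wG [29, 41, 44] := by
    have f : ∀ r < 48, X.nk k * SF.ok.xG r (1 : ZMod 2) * (X.nk k)⁻¹ = SF.ok.xG (pr k r) 1 := fun r hr => by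
      rw [RF.nk, X.nL_conj_one _ hr, table_ok k hk r hr]
    have f1 := f 27 (by norm_num)
    have f2 := f 25 (by norm_num)
    have f3 := f 28 (by norm_num)
    rw [a] at f1; rw [b] at f2; rw [d] at f3
    simp only [wG, List.map_cons, List.map_nil, List.prod_cons, List.prod_nil, mul_one, ← f1, ← f2, ← f3]
    group
  set n : ↥X.G1 := ⟨X.nk k, X.nk_mem k⟩
  set b0 : ↥X.G1 := ⟨wG [27, 25, 28], TitsComm.elemB_mem X⟩
  refine ⟨n * b0 * n⁻¹, fun h => TitsComm.elemB_not_mem X ?_, fun i hi => ?_⟩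
  · have hN : (commutator ↥X.G1).Normal := by rw [commutator_def]; infer_instance
    have := hN.conj_mem _ h n⁻¹
    simpa [mul_assoc, b0] using this
  · have e2 : ((n * b0 * n⁻¹ : ↥X.G1) : GL chevF4.Idx (ZMod 2)) = wG [29, 41, 44] := e
    rw [e2]
    have key : ∀ w ∈ [[39, 45], [44, 47]], wG [29, 41, 44] * wG w = wG w * wG [29, 41, 44] := fun w hw => by
      rw [← TitsInvol.wG_append, ← TitsInvol.wG_append]
      refine wG_eq ?_ ?_ (odd_comm w hw) <;>
        (simp only [List.mem_cons, List.not_mem_nil, or_false] at hw; rcases hw with rfl | rfl <;> decide +kernel)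
    simp only [List.mem_cons, List.not_mem_nil, or_false] at hi
    rcases hi with rfl | rfl
    · have := key [39, 45] (by simp)
      rwa [show X.yP (PP 9) (1 : ZMod 2) = wG [39, 45] by simp [RF.yP, wG, PP, OP]]
    · have := key [44, 47] (by simp)
      rwa [show X.yP (PP 11) (1 : ZMod 2) = wG [44, 47] by simp [RF.yP, wG, PP, OP]]

theorem class_count (X : RF (ZMod 2)) :
    (ConjClasses.mk '' {g : ↥(commutator ↥X.G1) | orderOf g = 2}).ncard = 2 := by
  classical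
  obtain ⟨c, hc, hcc⟩ := odd_elem X
  have hidx := TitsComm.index_commutator X
  have hm : ∀ i ∈ [9, 10, 11], X.yP (PP i) (1 : ZMod 2) ∈ X.G1 := fun i hi => X.mem_G1 (X.yP_fixed hi 1).2
  set t9 : ↥X.G1 := ⟨_, hm 9 (by simp)⟩
  set t11 : ↥X.G1 := ⟨_, hm 11 (by simp)⟩
  have ho9 : orderOf t9 = 2 := (Subgroup.orderOf_coe t9).symm.trans (X.rep_order (by simp))
  have ho11 : orderOf t11 = 2 := (Subgroup.orderOf_coe t11).symm.trans (X.rep_order (by simp))
  set s9 : ↥(commutator ↥X.G1) := ⟨t9, TitsInvol.invol_mem X t9 ho9⟩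
  set s11 : ↥(commutator ↥X.G1) := ⟨t11, TitsInvol.invol_mem X t11 ho11⟩
  have hset : ConjClasses.mk '' {g : ↥(commutator ↥X.G1) | orderOf g = 2} =
      {ConjClasses.mk s9, ConjClasses.mk s11} := by
    ext C
    constructor
    · rintro ⟨g, hg, rfl⟩
      have key : ∀ (i : ℕ) (t : ↥(commutator ↥X.G1)), i ∈ [9, 11] →
          ((t : ↥X.G1) : GL chevF4.Idx (ZMod 2)) = X.yP (PP i) 1 →
          X.Cj ((g : ↥X.G1) : GL chevF4.Idx (ZMod 2)) ((t : ↥X.G1) : GL chevF4.Idx (ZMod 2)) →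
          ConjClasses.mk g = ConjClasses.mk t := by
        rintro i t hi ht ⟨h, hh, e⟩
        set h' : ↥X.G1 := ⟨h, hh⟩
        have e' : h'⁻¹ * (g : ↥X.G1) * h' = t := Subtype.ext e
        refine ConjClasses.mk_eq_mk_iff_isConj.2 ?_
        by_cases hh' : h' ∈ commutator ↥X.G1
        · exact isConj_iff.2 ⟨(⟨h', hh'⟩ : ↥(commutator ↥X.G1))⁻¹, Subtype.ext (by simpa using e')⟩
        · have hhc : h' * c ∈ commutator ↥X.G1 :=
            (Subgroup.mul_mem_iff_of_index_two hidx).2 (iff_of_false hh' hc)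
          refine isConj_iff.2 ⟨(⟨h' * c, hhc⟩ : ↥(commutator ↥X.G1))⁻¹, Subtype.ext ?_⟩
          have hct : c * (t : ↥X.G1) = (t : ↥X.G1) * c := Subtype.ext (by
            show (c : GL chevF4.Idx (ZMod 2)) * _ = _ * (c : GL chevF4.Idx (ZMod 2))
            rw [ht]; exact hcc i hi)
          simp only [Subgroup.coe_mul, Subgroup.coe_inv, inv_inv]
          rw [show (h' * c)⁻¹ * (g : ↥X.G1) * (h' * c) = c⁻¹ * (h'⁻¹ * (g : ↥X.G1) * h') * c by group, e',
            mul_assoc, ← hct, inv_mul_cancel_left]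
      rcases X.invol_cases ((g : ↥X.G1)).2
          ((Subgroup.orderOf_coe _).trans ((Subgroup.orderOf_coe g).trans hg)) with h | h
      exacts [Or.inl (key 9 s9 (by simp) rfl h), Or.inr (key 11 s11 (by simp) rfl h)]
    · rintro (rfl | rfl)
      exacts [⟨s9, (Subgroup.orderOf_coe s9).symm.trans ho9, rfl⟩, ⟨s11, (Subgroup.orderOf_coe s11).symm.trans ho11, rfl⟩]
  rw [hset, Set.ncard_pair]
  intro e
  obtain ⟨d, hd⟩ := isConj_iff.1 (ConjClasses.mk_eq_mk_iff_isConj.1 e)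
  refine X.reps_ne ⟨((d : ↥X.G1) : GL chevF4.Idx (ZMod 2))⁻¹, inv_mem (d : ↥X.G1).2, ?_⟩
  have := congrArg (fun z : ↥(commutator ↥X.G1) => (((z : ↥X.G1)) : GL chevF4.Idx (ZMod 2))) hd
  simpa using this

end Cfsg.Lib.TitsInvolClasses
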