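import Cfsg.Agent.Known.TitsCommDefs

/-!
The selections with prefix codes 0 to 3.
-/

set_option autoImplicit false
set_option Elab.async false
set_option maxRecDepth 100000

namespace Cfsg.Lib.TitsComm

theorem pre0 : preOK 0 = true := by decide +kernel
theorem pre1 : preOK 1 = true := by decide +kernel
theorem pre2 : preOK 2 = true := by decide +kernel
theorem pre3 : preOK 3 = true := by decide +kernel

end Cfsg.Lib.TitsComm
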