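import Cfsg.Agent.Known.TitsMult
import Mathlib

/-!
The derived subgroup of `²F₄(2)` has no doubly transitive action: a count of fixed points of elements of
orders two, five and sixteen.
-/

set_option autoImplicit false
set_option maxRecDepth 100000
set_option maxHeartbeats 1000000
set_option Elab.async false

namespace Cfsg.Lib.TitsTwoTrans

open Finset

/-- Pairs of residues modulo five. -/
abbrev K25 := Multiplicative (ZMod 5 × ZMod 5)

/-- Six generators, one for each line. -/
def base : List (ZMod 5 × ZMod 5) := [(1, 0), (0, 3), (2, 1), (2, 3), (2, 2), (3, 1)]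

theorem base_cover : ∀ p : ZMod 5 × ZMod 5, p ≠ 0 → ∃ s ∈ base, ∃ t : Fin 4, p = (2 : ZMod 5) ^ t.val • s := by
  decide +kernel

theorem base_span : ∀ s ∈ base, ∀ t ∈ base, s ≠ t → ∀ p : ZMod 5 × ZMod 5,
    ∃ i j : ZMod 5, p = i • s + j • t := by
  decide +kernel

theorem sixteen : ∀ i : Fin 16, i.val ≠ 0 → ∃ m : Fin 16, i.val * m.val % 16 = 8 := by decide

theorem small_n : (List.range 4241).all (fun n => n.blt 3 ||
    !((17971200 % (n * (n - 1))) == 0) || decide (n ≤ 13) || decide (n = 16) || decide (n = 25) ||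
      decide (n = 26) || decide (n = 27) || decide (n = 40) || decide (n = 65)) = true := by
  decide +kernel

section Count

open scoped Classical

set_option linter.unusedSectionVars false

variable {G : Type*} [Group G] [Finite G] {Ω : Type*} [Fintype Ω] [MulAction G Ω]

/-- The fixed points. -/
noncomputable def Fx (g : G) : Finset Ω := univ.filter fun y => g • y = y

theorem mem_Fx {g : G} {y : Ω} : y ∈ (Fx g : Finset Ω) ↔ g • y = y := by simp [Fx]

theorem Fx_conj {a h v : G} (e : a * h = h * v) : (Fx v : Finset Ω).card = (Fx a : Finset Ω).card := by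
  refine Finset.card_equiv (MulAction.toPerm h) fun y => ?_
  rw [mem_Fx, mem_Fx, MulAction.toPerm_apply, ← mul_smul, e, mul_smul, smul_left_cancel_iff]

theorem Fx_lt [FaithfulSMul G Ω] {g : G} (hg : g ≠ 1) : (Fx g : Finset Ω).card < Fintype.card Ω := by
  refine Finset.card_lt_univ_of_notMem (x := Classical.choose (?_ : ∃ y : Ω, g • y ≠ y)) ?_
  · by_contra h
    push Not at h
    exact hg (eq_of_smul_eq_smul fun y : Ω => by rw [h y, one_smul])
  · rw [mem_Fx]
    exact Classical.choose_spec (_ : ∃ y : Ω, g • y ≠ y)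

/-- Burnside's count on an invariant set, all non-trivial elements fixing the same number of points. -/
theorem burn (K : Subgroup G) (S : Finset Ω) (hS : ∀ k ∈ K, ∀ y ∈ S, k • y ∈ S) (e : ℕ)
    (he : ∀ k ∈ K, k ≠ 1 → (S.filter fun y => y ∈ (Fx k : Finset Ω)).card = e) :
    Nat.card K ∣ S.card + (Nat.card K - 1) * e := by
  classical
  letI : Fintype K := Fintype.ofFinite K
  letI : MulAction K {y // y ∈ S} :=
    { smul := fun k y => ⟨(k : G) • (y : Ω), hS k k.2 y y.2⟩
      one_smul := fun y => Subtype.ext (one_smul G (y : Ω))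
      mul_smul := fun k l y => Subtype.ext (mul_smul (k : G) (l : G) (y : Ω)) }
  letI : Fintype (MulAction.orbitRel.Quotient K {y // y ∈ S}) := Fintype.ofFinite _
  have hB := MulAction.sum_card_fixedBy_eq_card_orbits_mul_card_group K {y // y ∈ S}
  have h1 : Fintype.card (MulAction.fixedBy {y // y ∈ S} (1 : K)) = S.card := by
    rw [← Fintype.card_coe S]
    exact Fintype.card_congr (Equiv.subtypeUnivEquiv fun y => one_smul K y)
  have hne : ∀ k : K, k ≠ 1 → Fintype.card (MulAction.fixedBy {y // y ∈ S} k) = e := by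
    intro k hk
    rw [← he k k.2 (fun h => hk (Subtype.ext h)), ← Fintype.card_coe]
    refine Fintype.card_congr
      { toFun := fun y => ⟨y.1.1, mem_filter.2 ⟨y.1.2, mem_Fx.2 (congrArg Subtype.val y.2)⟩⟩
        invFun := fun y => ⟨⟨y.1, (mem_filter.1 y.2).1⟩, Subtype.ext (mem_Fx.1 (mem_filter.1 y.2).2)⟩
        left_inv := fun _ => rfl
        right_inv := fun _ => rfl }
  rw [← Finset.add_sum_erase _ _ (mem_univ (1 : K)), h1,
    Finset.sum_congr rfl fun k hk => hne k (ne_of_mem_erase hk), Finset.sum_const,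
    card_erase_of_mem (mem_univ _), card_univ, smul_eq_mul] at hB
  rw [Nat.card_eq_fintype_card]
  exact ⟨_, hB.trans (mul_comm _ _)⟩

theorem Fx_sq {g : G} (h : g ^ 5 = 1) : (Fx (g ^ 2) : Finset Ω) = Fx g := by
  ext y
  rw [mem_Fx, mem_Fx]
  refine ⟨fun e => ?_, fun e => by rw [sq, mul_smul, e, e]⟩
  have h6 : g = (g ^ 2) * (g ^ 2) * (g ^ 2) := by
    rw [← pow_add, ← pow_add, show 2 + 2 + 2 = 5 + 1 from rfl, pow_succ, h, one_mul]
  rw [h6, mul_smul, mul_smul, e, e, e]

theorem pow_mem_stab {g : G} {y : Ω} (h : g • y = y) (m : ℕ) : g ^ m • y = y :=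
  (MulAction.stabilizer G y).pow_mem h m

theorem zpowers_dvd {g : G} (S : Finset Ω) (hS : ∀ y ∈ S, g • y ∈ S) (hp : Nat.Prime (orderOf g)) :
    orderOf g ∣ S.card + (orderOf g - 1) * (S.filter fun y => y ∈ (Fx g : Finset Ω)).card := by
  have key : ∀ (m : ℕ) y, y ∈ S → g ^ m • y ∈ S := by
    intro m
    induction m with
    | zero => intro y hy; simpa using hy
    | succ m ih => intro y hy; rw [pow_succ, mul_smul]; exact ih _ (hS y hy)
  have h := burn (Subgroup.zpowers g) S (fun k hk y hy => by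
    obtain ⟨m, rfl⟩ := mem_powers_iff_mem_zpowers.2 hk
    exact key m y hy) ((S.filter fun y => y ∈ (Fx g : Finset Ω)).card) fun k hk hk1 => congrArg Finset.card (Finset.filter_congr fun y _ => by
    obtain ⟨m, rfl⟩ := mem_powers_iff_mem_zpowers.2 hk
    have hm : ¬ orderOf g ∣ m := fun h => hk1 (orderOf_dvd_iff_pow_eq_one.1 h)
    obtain ⟨l, hl⟩ := exists_pow_eq_self_of_coprime (hp.coprime_iff_not_dvd.2 hm).symm
    rw [mem_Fx, mem_Fx]
    refine ⟨fun e => ?_, fun e => pow_mem_stab e m⟩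
    have := pow_mem_stab e l
    rwa [hl] at this)
  rwa [Nat.card_zpowers] at h

/-- The count. -/
theorem no_two_trans (hcard : Nat.card G = 17971200) (a b x d : G) (ha : a ^ 5 = 1) (ha1 : a ≠ 1)
    (hb : b ^ 5 = 1) (hab : Commute a b) (hd : d ^ 5 = 1)
    (hbase : ∀ s ∈ base, ∃ h : G, a * h = h * (a ^ s.1.val * b ^ s.2.val))
    (hda : ∃ h : G, a * h = h * d) (hx : x ^ 16 = 1) (hx1 : x ^ 8 ≠ 1) (hxd : Commute (x ^ 8) d)
    [FaithfulSMul G Ω] (hΩ : 3 ≤ Fintype.card Ω) : ¬ MulAction.IsMultiplyPretransitive G Ω 2 := by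
  intro h2
  classical
  haveI := h2
  haveI : MulAction.IsPretransitive G Ω := MulAction.isPretransitive_of_is_two_pretransitive
  obtain ⟨n, hn⟩ : ∃ n, Fintype.card Ω = n := ⟨_, rfl⟩
  have hnn : n * (n - 1) ∣ 17971200 := by
    obtain ⟨q⟩ : Nonempty (Fin 2 ↪ Ω) :=
      Function.Embedding.nonempty_of_card_le (by rw [Fintype.card_fin]; omega)
    have := (MulAction.stabilizer G q).index_dvd_card
    rw [MulAction.index_stabilizer_of_transitive, hcard, Nat.card_eq_fintype_card,
      Fintype.card_embedding_eq, Fintype.card_fin, hn] at this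
    simpa [Nat.descFactorial, mul_comm] using this
  have hn13 : ¬ n ≤ 13 := by
    intro h13
    have hinj : Function.Injective (MulAction.toPermHom G Ω) := MulAction.toPerm_injective
    have hd := Subgroup.card_dvd_of_injective _ hinj
    rw [hcard, Nat.card_perm, Nat.card_eq_fintype_card, hn] at hd
    exact absurd (hd.trans (Nat.factorial_dvd_factorial h13)) (by decide)
  have hcases : n = 16 ∨ n = 25 ∨ n = 26 ∨ n = 27 ∨ n = 40 ∨ n = 65 := by
    have hle : n < 4241 := by
      by_contra hc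
      have := Nat.le_of_dvd (by norm_num) hnn
      have h' := Nat.mul_le_mul (show 4241 ≤ n by omega) (show 4240 ≤ n - 1 by omega)
      omega
    have := List.all_eq_true.1 small_n n (List.mem_range.2 hle)
    simp only [Bool.or_eq_true, Nat.blt_eq, Bool.not_eq_true', beq_eq_false_iff_ne, ne_eq,
      decide_eq_true_eq] at this
    have hm : 17971200 % (n * (n - 1)) = 0 := Nat.mod_eq_zero_of_dvd hnn
    omega
  -- the group of order twenty-five
  let φ : K25 →* G :=
    { toFun := fun p => a ^ (Multiplicative.toAdd p).1.val * b ^ (Multiplicative.toAdd p).2.val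
      map_one' := by simp
      map_mul' := fun p q => by
        simp only [toAdd_mul, Prod.fst_add, Prod.snd_add, ZMod.val_add, ← pow_eq_pow_mod _ ha,
          ← pow_eq_pow_mod _ hb, pow_add]
        exact (hab.pow_pow _ _).mul_mul_mul_comm _ _ }
  have hφ5 : ∀ p, φ p ^ 5 = 1 := fun p => by
    rw [← map_pow]
    have : p ^ 5 = 1 := by
      apply Multiplicative.toAdd.injective
      rw [toAdd_pow, toAdd_one]
      exact (by decide +kernel : ∀ r : ZMod 5 × ZMod 5, 5 • r = 0) _
    rw [this, map_one]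
  obtain ⟨f, hf⟩ : ∃ f, (Fx a : Finset Ω).card = f := ⟨_, rfl⟩
  have hbasef : ∀ s ∈ base, (Fx (φ (Multiplicative.ofAdd s)) : Finset Ω).card = f := fun s hs => by
    obtain ⟨h, e⟩ := hbase s hs
    exact (Fx_conj e).trans hf
  have hall : ∀ p, p ≠ 1 → (Fx (φ p) : Finset Ω).card = f := by
    intro p hp
    obtain ⟨s, hs, t, ht⟩ := base_cover (Multiplicative.toAdd p) (fun h => hp (Multiplicative.toAdd.injective h))
    have key : ∀ k : ℕ, (Fx (φ (Multiplicative.ofAdd ((2 : ZMod 5) ^ k • s))) : Finset Ω) =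
        Fx (φ (Multiplicative.ofAdd s)) := by
      intro k
      induction k with
      | zero => rw [pow_zero, one_smul]
      | succ k ih =>
        rw [pow_succ, mul_comm, mul_smul, two_smul, ofAdd_add, map_mul, ← sq, Fx_sq (hφ5 _), ih]
    rw [← ofAdd_toAdd p, ht, key t.val, hbasef s hs]
  have hfn : f < n := hf ▸ hn ▸ Fx_lt ha1
  have hinj : Function.Injective φ := by
    rw [injective_iff_map_eq_one]
    intro p hp
    by_contra h
    have hu : (Fx (φ p) : Finset Ω) = univ := Finset.eq_univ_of_forall fun y => mem_Fx.2 (by rw [hp, one_smul])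
    have := hall p h
    rw [hu, Finset.card_univ, hn] at this
    omega
  have h25 : Nat.card φ.range = 25 := by
    rw [← Nat.card_congr (MonoidHom.ofInjective hinj).toEquiv, Nat.card_eq_fintype_card]
    simp [K25]
  have hburn : 25 ∣ n + 24 * f := by
    have := burn φ.range (univ : Finset Ω) (fun _ _ y _ => mem_univ _) f fun k hk hk1 => by
      obtain ⟨p, rfl⟩ := hk
      rw [Finset.filter_univ_mem, hall p fun h => hk1 (by rw [h, map_one])]
    rwa [h25, Finset.card_univ, hn] at this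
  have hno : 5 ∣ n → 6 * f ≤ n := by
    intro h5
    have hdisj : ∀ s ∈ base.toFinset, ∀ t ∈ base.toFinset, s ≠ t →
        Disjoint (Fx (φ (Multiplicative.ofAdd s)) : Finset Ω) (Fx (φ (Multiplicative.ofAdd t))) := by
      intro s hs t ht hst
      rw [Finset.disjoint_left]
      intro y hys hyt
      have hle : φ.range ≤ MulAction.stabilizer G y := by
        rintro _ ⟨p, rfl⟩
        obtain ⟨i, j, e⟩ := base_span s (List.mem_toFinset.1 hs) t (List.mem_toFinset.1 ht) hst (Multiplicative.toAdd p)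
        rw [← ofAdd_toAdd p, e, ofAdd_add, map_mul, ← ZMod.natCast_zmod_val i, ← ZMod.natCast_zmod_val j,
          Nat.cast_smul_eq_nsmul, Nat.cast_smul_eq_nsmul, ofAdd_nsmul, ofAdd_nsmul, map_pow, map_pow]
        exact mul_mem (pow_mem_stab (mem_Fx.1 hys) _) (pow_mem_stab (mem_Fx.1 hyt) _)
      have hdv := Subgroup.card_dvd_of_le hle
      have hc := (MulAction.stabilizer G y).card_mul_index
      rw [MulAction.index_stabilizer_of_transitive, Nat.card_eq_fintype_card (α := Ω), hn, hcard] at hc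
      have : 25 * 5 ∣ 17971200 := by
        rw [← hc]
        exact mul_dvd_mul (h25 ▸ hdv) h5
      norm_num at this
    have hU := Finset.card_le_univ (base.toFinset.biUnion fun s => (Fx (φ (Multiplicative.ofAdd s)) : Finset Ω))
    rw [Finset.card_biUnion hdisj, Finset.sum_congr rfl fun s hs => hbasef s (List.mem_toFinset.1 hs),
      Finset.sum_const, smul_eq_mul, hn, show base.toFinset.card = 6 by decide +kernel] at hU
    exact hU
  have hsmall : n = 25 ∧ f = 0 ∨ n = 26 ∧ f = 1 ∨ n = 27 ∧ f = 2 := by omega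
  -- the elements of orders sixteen and five
  haveI : Fact (Nat.Prime 2) := ⟨Nat.prime_two⟩
  haveI : Fact (Nat.Prime 5) := ⟨by norm_num⟩
  set z := x ^ 8 with hz
  have hz2 : orderOf z = 2 := orderOf_eq_prime (by rw [hz, ← pow_mul]; exact hx) hx1
  have hox : orderOf x = 16 := orderOf_eq_prime_pow (p := 2) (n := 3) hx1 hx
  obtain ⟨g, hg⟩ : ∃ g, (Fx z : Finset Ω).card = g := ⟨_, rfl⟩
  have hgn : g < n := hg ▸ hn ▸ Fx_lt hx1
  have h16 : 16 ∣ n - g := by
    have h := burn (Subgroup.zpowers x) (univ \ (Fx z : Finset Ω)) (fun k hk y hy => by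
        obtain ⟨m, rfl⟩ := mem_powers_iff_mem_zpowers.2 hk
        rw [mem_sdiff, mem_Fx] at hy ⊢
        refine ⟨mem_univ _, fun e => hy.2 ?_⟩
        rw [← mul_smul, (show Commute z (x ^ m) from (Commute.refl x).pow_pow 8 m).eq, mul_smul] at e
        exact smul_left_cancel _ e) 0 fun k hk hk1 => by
        obtain ⟨m, rfl⟩ := mem_powers_iff_mem_zpowers.2 hk
        rw [Finset.card_eq_zero, Finset.filter_eq_empty_iff]
        intro y hy e
        rw [mem_sdiff, mem_Fx] at hy
        apply hy.2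
        have hm : m % 16 ≠ 0 := fun h => hk1 (by
          show x ^ m = 1
          rw [← pow_mod_orderOf, hox, h, pow_zero])
        obtain ⟨l, hl⟩ := sixteen ⟨m % 16, Nat.mod_lt _ (by norm_num)⟩ hm
        have h2 := pow_mem_stab (mem_Fx.1 e) l.val
        dsimp only at h2
        rw [← pow_mul, ← pow_mod_orderOf, hox, Nat.mul_mod,
          Nat.mod_eq_of_lt l.isLt, hl] at h2
        exact h2
    rw [Nat.card_zpowers, hox, mul_zero, add_zero, card_sdiff_of_subset (subset_univ _), card_univ, hn, hg] at h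
    exact h
  have hfd : (Fx d : Finset Ω).card = f := by
    obtain ⟨h, e⟩ := hda
    exact (Fx_conj e).trans hf
  have hd1 : d ≠ 1 := fun e => by
    subst e
    have := Finset.eq_univ_of_forall fun y : Ω => (mem_Fx (g := (1 : G))).2 (one_smul G y)
    rw [this, card_univ, hn] at hfd
    omega
  have hd5 : orderOf d = 5 := orderOf_eq_prime hd hd1
  obtain ⟨e, he⟩ : ∃ e, ((Fx z : Finset Ω).filter fun y => y ∈ (Fx d : Finset Ω)).card = e := ⟨_, rfl⟩
  have he' : ((Fx d : Finset Ω).filter fun y => y ∈ (Fx z : Finset Ω)).card = e := by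
    rw [← he]
    congr 1
    ext y
    simp only [mem_filter, and_comm]
  have hef : e ≤ f := he' ▸ hfd ▸ card_filter_le _ _
  have hA := zpowers_dvd (g := d) (Fx z : Finset Ω) (fun y hy => by
    rw [mem_Fx] at hy ⊢
    rw [← mul_smul, hxd.eq, mul_smul, hy]) (by rw [hd5]; norm_num)
  rw [hd5, hg, he] at hA
  have hB := zpowers_dvd (g := z) (Fx d : Finset Ω) (fun y hy => by
    rw [mem_Fx] at hy ⊢
    rw [← mul_smul, ← hxd.eq, mul_smul, hy]) (by rw [hz2]; norm_num)
  rw [hz2, hfd, he'] at hB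
  omega

end Count

/-! ### The certificate -/

open Cfsg.Lie Cfsg.Lib.Chev Cfsg.Lib.Chev.ReeF Cfsg.Lib.TitsComm Cfsg.Lib.TitsMult
open Cfsg.Lib.TitsInvol (runR wG wG_append)
open Cfsg.Lib.TitsPacked (runQ runQ_eq)

/-- Repetition of a word. -/
def rep (n : ℕ) (w : List ℕ) : List ℕ := (List.replicate n w).flatten

/-- The first generator of a Sylow 5-subgroup. -/
def aW : List ℕ := pcw5.getD 0 []

/-- The second one. -/
def bW : List ℕ := pcw5.getD 1 []

/-- An element of order sixteen. -/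
def xW : List ℕ := [1, 4, 0, 4, 0]

/-- An element of order five commuting with its eighth power. -/
def dW : List ℕ := [1, 0, 1, 4, 7, 3, 1, 0, 1, 0, 1, 4, 7, 3, 1, 0]

/-- A word conjugating the first generator to it. -/
def hW : List ℕ := [0, 1, 5, 4, 1, 0, 2, 7, 0, 4, 4, 4, 5, 5, 5, 5, 5, 5, 2, 2, 2, 3, 0, 4, 4, 4, 4, 4, 4, 4, 4,
  4, 4, 4, 4, 4, 4, 4, 4, 4, 4, 1]

/-- Words conjugating the first generator to one on each line. -/
def lineW : List ((ℕ × ℕ) × List ℕ) := [((1, 0), []),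
  ((0, 3), [2, 5, 1, 0, 3, 0, 1, 7, 7, 7, 4, 4, 4, 0, 1, 5, 5, 5, 7, 7, 7, 5, 5, 5, 7, 7, 7, 7, 7, 7, 4, 4, 4, 6, 3]),
  ((2, 1), [1, 4, 5, 0, 4, 5, 0, 2, 5, 0, 4, 4, 4, 4, 4, 4, 0, 0, 5, 5, 5, 2, 2, 2, 0, 3]),
  ((2, 3), [1, 4, 5, 1, 7, 2, 1, 0]),
  ((2, 2), [0, 1, 4, 5, 1, 0, 4, 5, 0, 4, 4, 4, 7, 7, 7, 0, 2, 2, 2, 5, 5, 5, 0, 7, 7, 7, 7, 7, 7, 5, 5, 5, 2, 2,
    2, 6, 5, 5, 5, 7, 7, 7, 7, 7, 7, 4, 4, 4]),
  ((3, 1), [0, 1, 2, 5, 0, 2, 7, 1, 0, 2, 2, 2, 5, 5, 5, 7, 7, 7, 5, 5, 5, 0, 7, 7, 7, 2, 2, 2, 6])]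

theorem ok_words : ([aW, bW, xW, dW, hW] ++ lineW.map Prod.snd).all okW = true := by decide +kernel

theorem ok_eqs : (sameW (rep 5 aW) [] && sameW (rep 5 bW) [] && sameW (rep 5 dW) [] && sameW (rep 16 xW) [] &&
    sameW (aW ++ bW) (bW ++ aW) && sameW (rep 8 xW ++ dW) (dW ++ rep 8 xW) && sameW (aW ++ hW) (hW ++ dW) &&
    (lineW.all fun e => sameW (aW ++ e.2) (e.2 ++ (rep e.1.1 aW ++ rep e.1.2 bW)))) = true := by
  decide +kernel

/-- A word moves a unit vector. -/
def movesW (w : List ℕ) : Bool := (List.range 52).any fun n => !(Nat.beq (runQ (gw w) (2 ^ n) % 2 ^ 52) (2 ^ n % 2 ^ 52))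

theorem ok_ne : (movesW aW && movesW (rep 8 xW)) = true := by decide +kernel

theorem base_lineW : ∀ s ∈ base, ∃ e ∈ lineW, e.1 = (s.1.val, s.2.val) := by decide +kernel

theorem ne_one_of_moves (X : RF (ZMod 2)) {w : List ℕ}
    (h : movesW w = true) : wG (gw w) ≠ wG (gw []) := by
  intro e
  simp only [movesW, List.any_eq_true, Bool.not_eq_true'] at h
  obtain ⟨n, -, hn⟩ := h
  have h1 := run_congr (fun r hr => gw_roots hr) (fun r hr => gw_roots hr) e (2 ^ n)
  rw [← runQ_eq] at h1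
  exact Nat.ne_of_beq_eq_false hn h1

theorem mat_rep (X : RF (ZMod 2)) {w : List ℕ} (h : okW w = true) :
    ∀ n : ℕ, mat X (el X w ^ n) = wG (gw (rep n w))
  | 0 => wG_nil.symm
  | n + 1 => by
    rw [pow_succ', mat_mul, mat_el X h, mat_rep X h n,
      show rep (n + 1) w = w ++ rep n w by simp [rep, List.replicate_succ], gw_append, wG_append]

theorem no_two_trans_commutator (X : RF (ZMod 2)) {Ω : Type*} [Fintype Ω]
    [MulAction ↥(commutator ↥X.G1) Ω] [FaithfulSMul ↥(commutator ↥X.G1) Ω] (hΩ : 3 ≤ Fintype.card Ω) :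
    ¬ MulAction.IsMultiplyPretransitive ↥(commutator ↥X.G1) Ω 2 := by
  haveI : Finite ↥X.G1 := Subtype.finite
  have hw := List.all_eq_true.1 ok_words
  have heq := ok_eqs
  simp only [Bool.and_eq_true, List.all_eq_true] at heq
  obtain ⟨⟨⟨⟨⟨⟨⟨ea, eb⟩, ed⟩, ex⟩, eab⟩, exd⟩, eh⟩, eline⟩ := heq
  have hne := ok_ne
  simp only [Bool.and_eq_true] at hne
  have ha := hw aW (by simp)
  have hb := hw bW (by simp)
  have hx := hw xW (by simp)
  have hd := hw dW (by simp)
  have hh := hw hW (by simp)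
  have one : mat X (1 : ↥(commutator ↥X.G1)) = wG (gw []) := wG_nil.symm
  refine no_two_trans (card_commutator X) (el X aW) (el X bW) (el X xW) (el X dW) (mat_inj X ?_) (fun e => ?_)
    (mat_inj X ?_) (mat_inj X ?_) (mat_inj X ?_) (fun s hs => ?_) ⟨el X hW, mat_inj X ?_⟩ (mat_inj X ?_)
    (fun e => ?_) (mat_inj X ?_) hΩ
  · rw [mat_rep X ha, one, sameW_sound ea]
  · exact ne_one_of_moves X hne.1 (by rw [← one, ← e, mat_el X ha])
  · rw [mat_rep X hb, one, sameW_sound eb]
  · rw [mat_mul, mat_mul, mat_el X ha, mat_el X hb, ← wG_append, ← wG_append, ← gw_append, ← gw_append,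
      sameW_sound eab]
  · rw [mat_rep X hd, one, sameW_sound ed]
  · obtain ⟨e, he, he1⟩ := base_lineW s hs
    have hg := hw e.2 (List.mem_append_right _ (List.mem_map.2 ⟨e, he, rfl⟩))
    refine ⟨el X e.2, mat_inj X ?_⟩
    rw [mat_mul, mat_mul, mat_mul, mat_el X ha, mat_el X hg, mat_rep X ha, mat_rep X hb, ← wG_append,
      ← gw_append, sameW_sound (eline e he), he1]
    simp only [gw_append, wG_append]
  · rw [mat_mul, mat_mul, mat_el X ha, mat_el X hh, mat_el X hd, ← wG_append, ← wG_append, ← gw_append,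
      ← gw_append, sameW_sound eh]
  · rw [mat_rep X hx, one, sameW_sound ex]
  · exact ne_one_of_moves X hne.2 (by rw [← one, ← e, mat_rep X hx])
  · rw [mat_mul, mat_mul, mat_rep X hx, mat_el X hd, ← wG_append, ← wG_append, ← gw_append, ← gw_append,
      sameW_sound exd]

end Cfsg.Lib.TitsTwoTrans
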