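import Mathlib

/-! Every square matrix over a field is similar to its transpose. -/

set_option autoImplicit false

open Polynomial Matrix
open scoped DirectSum

namespace Cfsg.Lib.TransposeSimilar

/-- A functional on polynomials killing exactly the ideal of `f`. -/
theorem exists_functional {F : Type*} [Field F] (f : F[X]) (hf : f ≠ 0) :
    ∃ l : F[X] →ₗ[F] F, (∀ g, l (f * g) = 0) ∧ ∀ b, (∀ g, l (b * g) = 0) → f ∣ b := by
  set f' := f * C f.leadingCoeff⁻¹ with hf'
  have hm : f'.Monic := monic_mul_leadingCoeff_inv hf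
  have hff : f ∣ f' := dvd_mul_right _ _
  have hf'f : f' ∣ f := ⟨C f.leadingCoeff, by
    rw [hf', mul_assoc, ← C_mul, inv_mul_cancel₀ (leadingCoeff_ne_zero.2 hf), C_1, mul_one]⟩
  refine ⟨(lcoeff F (f'.natDegree - 1)).comp (modByMonicHom f'), fun g => ?_, fun b hb => ?_⟩
  · show ((f * g) %ₘ f').coeff _ = 0
    rw [(modByMonic_eq_zero_iff_dvd hm).2 (hf'f.trans (dvd_mul_right _ _)), coeff_zero]
  · refine hff.trans ((modByMonic_eq_zero_iff_dvd hm).1 ?_)
    by_contra hr
    set r := b %ₘ f' with hrdef
    have hne1 : f' ≠ 1 := fun e => hr (by rw [hrdef, e, modByMonic_one])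
    have hdeg : r.natDegree < f'.natDegree := natDegree_modByMonic_lt b hm hne1
    have h := hb (X ^ (f'.natDegree - 1 - r.natDegree))
    change ((b * X ^ (f'.natDegree - 1 - r.natDegree)) %ₘ f').coeff (f'.natDegree - 1) = 0 at h
    have e : (b * X ^ (f'.natDegree - 1 - r.natDegree)) %ₘ f' = r * X ^ (f'.natDegree - 1 - r.natDegree) := by
      have hd : (r * X ^ (f'.natDegree - 1 - r.natDegree)).degree < f'.degree := by
        refine degree_lt_degree ?_
        rw [natDegree_mul hr (pow_ne_zero _ X_ne_zero), natDegree_X_pow]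
        omega
      conv_lhs => rw [show b = r + f' * (b /ₘ f') from (modByMonic_add_div b f').symm, add_mul, mul_assoc]
      rw [add_modByMonic, (modByMonic_eq_zero_iff_dvd hm).2 (dvd_mul_right _ _), add_zero,
        (modByMonic_eq_self_iff hm).2 hd]
    rw [e, coeff_mul_X_pow', if_pos (by omega),
      show f'.natDegree - 1 - (f'.natDegree - 1 - r.natDegree) = r.natDegree by omega] at h
    exact leadingCoeff_ne_zero.2 hr h

universe u

/-- An invertible self-adjoint form. -/
theorem exists_symmetrizer {F : Type u} [Field F] {ι : Type} [Fintype ι] [DecidableEq ι] (A : Matrix ι ι F) :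
    ∃ S : Matrix ι ι F, S.det ≠ 0 ∧ S * A = Aᵀ * S := by
  classical
  let φ : Module.End F (ι → F) := Matrix.toLin' A
  have htor : Module.IsTorsion F[X] (Module.AEval' φ) := Module.AEval.isTorsion_of_finiteDimensional F (ι → F) φ
  obtain ⟨I, hI, p, hp, k, ⟨e⟩⟩ := Module.equiv_directSum_of_isTorsion htor
  let f : I → F[X] := fun i => p i ^ k i
  choose l hl0 hl using fun i => exists_functional (f i) (pow_ne_zero _ (hp i).ne_zero)
  have hlc : ∀ i {a b : F[X]}, f i ∣ a - b → l i a = l i b := by
    intro i a b hd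
    obtain ⟨c, hc⟩ := hd
    rw [← sub_eq_zero, ← map_sub, hc, hl0]
  let cls : (ι → F) → ∀ i, F[X] ⧸ (F[X] ∙ p i ^ k i) := fun v i => e (Module.AEval'.of φ v) i
  choose rep hrep using fun (i : I) (j : ι) => Submodule.Quotient.mk_surjective _ (cls (Pi.single j 1) i)
  let R : I → (ι → F) → F[X] := fun i v => ∑ j, C (v j) * rep i j
  have hcls_smul : ∀ (i : I) (g : F[X]) (z : Module.AEval' φ), e (g • z) i = g • e z i := fun i g z => by
    rw [map_smul]; rfl
  have hR : ∀ i v, (Submodule.Quotient.mk (R i v) : F[X] ⧸ (F[X] ∙ p i ^ k i)) = cls v i := by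
    intro i v
    have hv : v = ∑ j, v j • (Pi.single j (1 : F) : ι → F) := by
      funext a
      simp [Finset.sum_apply, Pi.single_apply]
    have h1 : Module.AEval'.of φ v = ∑ j, C (v j) • Module.AEval'.of φ (Pi.single j 1) := by
      conv_lhs => rw [hv, map_sum]
      exact Finset.sum_congr rfl fun j _ => by rw [map_smul, Module.AEval.C_smul]
    show _ = e (Module.AEval'.of φ v) i
    rw [h1, map_sum, DFinsupp.finsetSum_apply]
    show Submodule.mkQ _ (R i v) = _
    rw [map_sum]
    refine Finset.sum_congr rfl fun j _ => ?_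
    rw [hcls_smul, ← smul_eq_mul, map_smul]
    exact congrArg (C (v j) • ·) (hrep i j)
  have hRA : ∀ i v, f i ∣ R i (A *ᵥ v) - X * R i v := by
    intro i v
    rw [← Ideal.mem_span_singleton, Ideal.span, ← Submodule.Quotient.eq, ← smul_eq_mul, Submodule.Quotient.mk_smul,
      hR, hR]
    show e (Module.AEval'.of φ (A *ᵥ v)) i = X • e (Module.AEval'.of φ v) i
    rw [← hcls_smul, Module.AEval'.X_smul_of]
    rfl
  let S : Matrix ι ι F := Matrix.of fun a b => ∑ i, l i (rep i a * rep i b)
  have hS : ∀ u v, u ⬝ᵥ (S *ᵥ v) = ∑ i, l i (R i u * R i v) := by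
    intro u v
    simp only [dotProduct, mulVec, S, Matrix.of_apply, R, Finset.sum_mul, Finset.mul_sum, map_sum]
    symm
    rw [Finset.sum_comm]
    conv_rhs => rw [Finset.sum_comm]
    refine Finset.sum_congr rfl fun b _ => ?_
    rw [Finset.sum_comm]
    refine Finset.sum_congr rfl fun a _ => Finset.sum_congr rfl fun i _ => ?_
    rw [show C (u a) * rep i a * (C (v b) * rep i b) = (u a * v b) • (rep i a * rep i b) by
      rw [smul_eq_C_mul, C_mul]; ring, map_smul, smul_eq_mul]
    ring
  refine ⟨S, fun h0 => ?_, ?_⟩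
  · obtain ⟨u, hu, hu0⟩ := Matrix.exists_mulVec_eq_zero_iff.2 h0
    apply hu
    have hz : ∀ i, f i ∣ R i u := by
      intro i
      refine hl i _ fun g => ?_
      set v := (Module.AEval'.of φ).symm (e.symm (DirectSum.lof F[X] I (fun i => F[X] ⧸ (F[X] ∙ p i ^ k i)) i (Submodule.Quotient.mk g)))
        with hv
      have hd : ∀ j, cls v j = DirectSum.lof F[X] I (fun i => F[X] ⧸ (F[X] ∙ p i ^ k i)) i (Submodule.Quotient.mk g) j := by
        intro j
        show e (Module.AEval'.of φ v) j = _
        rw [hv, LinearEquiv.apply_symm_apply, LinearEquiv.apply_symm_apply]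
      have h := hS v u
      rw [hu0, dotProduct_zero, Finset.sum_eq_single i] at h
      · rw [h]
        refine hlc i ?_
        rw [mul_comm (R i v), ← mul_sub]
        refine Dvd.dvd.mul_left ?_ _
        rw [← Ideal.mem_span_singleton, Ideal.span, ← Submodule.Quotient.eq, hR, hd, DirectSum.lof_apply]
      · intro j _ hji
        have hdv : f j ∣ R j v := by
          rw [← Ideal.mem_span_singleton, Ideal.span, ← Submodule.Quotient.mk_eq_zero, hR, hd,
            DirectSum.lof_eq_of, DirectSum.of_eq_of_ne _ _ _ hji]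
        obtain ⟨c, hc⟩ := hdv
        rw [hc, mul_assoc, hl0]
      · simp
    have h2 : e (Module.AEval'.of φ u) = 0 := by
      refine DFinsupp.ext fun i => ?_
      show cls u i = 0
      rw [← hR, Submodule.Quotient.mk_eq_zero, ← Ideal.span, Ideal.mem_span_singleton]
      exact hz i
    rw [LinearEquiv.map_eq_zero_iff, LinearEquiv.map_eq_zero_iff] at h2
    exact h2
  · refine Matrix.ext_of_mulVec_single fun b => ?_
    refine dotProduct_eq _ _ fun u => ?_
    rw [dotProduct_comm, dotProduct_comm _ u, ← mulVec_mulVec, ← mulVec_mulVec, hS, dotProduct_mulVec, vecMul_transpose, hS]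
    refine Finset.sum_congr rfl fun i _ => hlc i ?_
    obtain ⟨c, hc⟩ := hRA i u
    obtain ⟨d, hd⟩ := hRA i (Pi.single b 1)
    exact ⟨R i u * d - c * R i (Pi.single b 1), by linear_combination R i u * hd - R i (Pi.single b 1) * hc⟩

theorem isConj_transpose {F : Type u} [Field F] {ι : Type} [Fintype ι] [DecidableEq ι] (A : Matrix ι ι F) :
    IsConj A Aᵀ := by
  obtain ⟨S, hdet, hS⟩ := exists_symmetrizer A
  exact ⟨Matrix.GeneralLinearGroup.mkOfDetNeZero S hdet, hS⟩

end Cfsg.Lib.TransposeSimilar
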