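import Cfsg.Agent.Known.ThreeUnipotents

/-!
Two regular unipotents `u`, `v` with `(u⁻¹ v)²` a transvection generate `SL n`.
-/

namespace Cfsg.Lib.Known.TwoUnipotents

open Matrix Cfsg.Lib.Known.ThreeUnipotents

variable {F : Type*} [Field F] {n : ℕ}

/-- The full root group of `b ⊗ ψ` lies in `H`. -/
def Root (H : Subgroup (SpecialLinearGroup (Fin n) F)) (b ψ : Fin n → F) : Prop :=
  ∃ h : ψ ⬝ᵥ b = 0, ∀ x, rankOne b ψ h x ∈ H

/-- A single element. -/
def Elt (H : Subgroup (SpecialLinearGroup (Fin n) F)) (b ψ : Fin n → F) (x : F) : Prop :=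
  ∃ h : ψ ⬝ᵥ b = 0, rankOne b ψ h x ∈ H

variable {H : Subgroup (SpecialLinearGroup (Fin n) F)} {b c ψ χ : Fin n → F}

theorem rankOne_add_scalar (w φ : Fin n → F) (h : φ ⬝ᵥ w = 0) (x y : F) :
    rankOne w φ h x * rankOne w φ h y = rankOne w φ h (x + y) := by
  apply Subtype.ext
  change (1 + x • vecMulVec w φ) * (1 + y • vecMulVec w φ) = 1 + (x + y) • vecMulVec w φ
  rw [mul_add, mul_one, add_mul, one_mul, smul_mul_assoc, mul_smul_comm, vecMulVec_mul_vecMulVec, h]
  simp [add_smul, add_assoc]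

theorem Elt.conj {x : F} (h : Elt H b ψ x) {g : SpecialLinearGroup (Fin n) F} (hg : g ∈ H) :
    Elt H ((g : Matrix (Fin n) (Fin n) F) *ᵥ b) (ψ ᵥ* ((g⁻¹ : SpecialLinearGroup (Fin n) F) : Matrix (Fin n) (Fin n) F)) x := by
  obtain ⟨h0, hm⟩ := h
  have e0 : (ψ ᵥ* ((g⁻¹ : SpecialLinearGroup (Fin n) F) : Matrix (Fin n) (Fin n) F)) ᵥ* (g : Matrix (Fin n) (Fin n) F) = ψ := by
    rw [vecMul_vecMul]
    rw [show ((g⁻¹ : SpecialLinearGroup (Fin n) F) : Matrix (Fin n) (Fin n) F) * g.1 = 1 from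
      congrArg Subtype.val (inv_mul_cancel g), vecMul_one]
  have h1 : (ψ ᵥ* ((g⁻¹ : SpecialLinearGroup (Fin n) F) : Matrix (Fin n) (Fin n) F)) ⬝ᵥ ((g : Matrix (Fin n) (Fin n) F) *ᵥ b) = 0 := by
    rw [dotProduct_mulVec, e0, h0]
  refine ⟨h1, ?_⟩
  rw [conj_rank_one (g := g) (h := rankOne b ψ h0 x) (h' := rankOne _ _ h1 x) b ψ _ _ x rfl rfl rfl e0]
  exact H.mul_mem (H.mul_mem hg hm) (H.inv_mem hg)

theorem Root.conj (h : Root H b ψ) {g : SpecialLinearGroup (Fin n) F} (hg : g ∈ H) :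
    Root H ((g : Matrix (Fin n) (Fin n) F) *ᵥ b) (ψ ᵥ* ((g⁻¹ : SpecialLinearGroup (Fin n) F) : Matrix (Fin n) (Fin n) F)) := by
  obtain ⟨h0, hm⟩ := h
  have h' : ∀ x, Elt H _ _ x := fun x => Elt.conj ⟨h0, hm x⟩ hg
  exact ⟨(h' 0).1, fun x => (h' x).2⟩

theorem Elt.add {x y : F} (h : Elt H b ψ x) (h' : Elt H b ψ y) : Elt H b ψ (x + y) := by
  obtain ⟨h0, hm⟩ := h
  exact ⟨h0, by rw [← rankOne_add_scalar]; exact H.mul_mem hm h'.2⟩

theorem Elt.zero (h : ψ ⬝ᵥ b = 0) : Elt H b ψ 0 := ⟨h, by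
  rw [show rankOne b ψ h (0 : F) = 1 from Subtype.ext (by simp [coe_rankOne])]
  exact H.one_mem⟩

theorem Elt.neg {x : F} (h : Elt H b ψ x) : Elt H b ψ (-x) := by
  obtain ⟨h0, hm⟩ := h
  refine ⟨h0, ?_⟩
  have e : rankOne b ψ h0 (-x) = (rankOne b ψ h0 x)⁻¹ := by
    rw [eq_inv_iff_mul_eq_one, rankOne_add_scalar]
    exact Subtype.ext (by simp [coe_rankOne])
  rw [e]
  exact H.inv_mem hm

/-- The commutator of two root elements. -/
theorem Elt.comm {x y : F} (hb : Elt H b ψ x) (hc : Elt H c χ y) (h : χ ⬝ᵥ b = 0) :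
    Elt H b χ (x * y * (ψ ⬝ᵥ c)) := by
  obtain ⟨hb0, hbm⟩ := hb
  obtain ⟨hc0, hcm⟩ := hc
  set k := x * (ψ ⬝ᵥ c)
  have hkb : χ ⬝ᵥ (k • b) = 0 := by rw [dotProduct_smul, h, smul_zero]
  have hsum : χ ⬝ᵥ (c + k • b) = 0 := by rw [dotProduct_add, hc0, hkb, add_zero]
  have e1 := conj_rank_one (g := rankOne b ψ hb0 x) (h := rankOne c χ hc0 y)
    (h' := rankOne (c + k • b) χ hsum y) c χ _ χ y rfl rfl (by
      rw [coe_rankOne, add_mulVec, one_mulVec, smul_mulVec, vecMulVec_mulVec]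
      simp [k, smul_smul, mul_comm]) (by
      rw [coe_rankOne, vecMul_add, vecMul_one, vecMul_smul, vecMul_vecMulVec, h, zero_smul, smul_zero, add_zero])
  have h1 : rankOne (c + k • b) χ hsum y ∈ H := e1 ▸ H.mul_mem (H.mul_mem hbm hcm) (H.inv_mem hbm)
  rw [← rankOne_mul_left _ _ _ hc0 hkb, H.mul_mem_cancel_left hcm] at h1
  refine ⟨h, ?_⟩
  have e2 : rankOne b χ h (x * y * (ψ ⬝ᵥ c)) = rankOne (k • b) χ hkb y := by
    apply Subtype.ext
    rw [coe_rankOne, coe_rankOne, smul_vecMulVec, smul_smul]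
    congr 2
    simp only [k]; ring
  rwa [e2]

theorem Root.comm (hb : Root H b ψ) (hc : Root H c χ) (h : χ ⬝ᵥ b = 0) (hne : ψ ⬝ᵥ c ≠ 0) :
    Root H b χ := by
  refine ⟨h, fun z => ?_⟩
  have := (Elt.comm (x := 1) (y := z / (ψ ⬝ᵥ c)) ⟨hb.1, hb.2 1⟩ ⟨hc.1, hc.2 _⟩ h).2
  rwa [one_mul, div_mul_cancel₀ _ hne] at this

theorem Root.smul_left (h : Root H b ψ) (k : F) : Root H (k • b) ψ := by
  obtain ⟨h0, hm⟩ := h
  refine ⟨by rw [dotProduct_smul, h0, smul_zero], fun x => ?_⟩
  rw [show rankOne (k • b) ψ _ x = rankOne b ψ h0 (x * k) from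
    Subtype.ext (by rw [coe_rankOne, coe_rankOne, smul_vecMulVec, smul_smul])]
  exact hm _

/-- The functionals of the roots at a point. -/
def rootSpace (H : Subgroup (SpecialLinearGroup (Fin n) F)) (b : Fin n → F) : Submodule F (Fin n → F) where
  carrier := {ψ | Root H b ψ}
  zero_mem' := ⟨zero_dotProduct b, fun x => by
    rw [show rankOne b (0 : Fin n → F) _ x = 1 from Subtype.ext (by simp [coe_rankOne])]
    exact H.one_mem⟩
  add_mem' := by
    rintro ψ χ ⟨h, hm⟩ ⟨h', hm'⟩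
    refine ⟨by rw [add_dotProduct, h, h', add_zero], fun x => ?_⟩
    rw [← rankOne_mul_right _ _ _ h h']
    exact H.mul_mem (hm x) (hm' x)
  smul_mem' := by
    rintro k ψ ⟨h, hm⟩
    refine ⟨by rw [smul_dotProduct, h, smul_zero], fun x => ?_⟩
    rw [show rankOne b (k • ψ) _ x = rankOne b ψ h (x * k) from
      Subtype.ext (by rw [coe_rankOne, coe_rankOne, vecMulVec_smul, smul_smul])]
    exact hm _

/-- Regular unipotence. -/
def RegUnip (u : SpecialLinearGroup (Fin n) F) : Prop :=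
  IsNilpotent ((u : Matrix (Fin n) (Fin n) F) - 1) ∧ ((u : Matrix (Fin n) (Fin n) F) - 1) ^ (n - 1) ≠ 0

/-- `2 e₀ + e₁`. -/
def phi (n : ℕ) (F : Type*) [Field F] : Fin n → F :=
  fun i => if i.1 = 0 then 2 else if i.1 = 1 then 1 else 0

/-- `phi u⁻¹`. -/
def psi1 (n : ℕ) (F : Type*) [Field F] : Fin n → F :=
  fun i => if i.1 = 0 then 2 else (-1) ^ i.1

/-- `phi u⁻²`. -/
def psi2 (n : ℕ) (F : Type*) [Field F] : Fin n → F :=
  fun i => (-1) ^ i.1 * ((i.1 : F) + 2)

theorem vecMul_uMat (ψ : Fin n → F) (j : Fin n) :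
    (ψ ᵥ* (uMat n F : Matrix (Fin n) (Fin n) F)) j =
      ψ j + if h : 1 ≤ j.1 then ψ ⟨j.1 - 1, by omega⟩ else 0 := by
  rw [coe_uMat, vecMul_add, vecMul_one, Pi.add_apply]
  congr 1
  rw [vecMul_eq_sum, Finset.sum_apply]
  split_ifs with h
  · rw [Finset.sum_eq_single (⟨j.1 - 1, by omega⟩ : Fin n)]
    · simp [ThreeUnipotents.J]; omega
    · intro b _ hb
      have : j.1 ≠ b.1 + 1 := fun e => hb (Fin.ext (by simp; omega))
      simp [ThreeUnipotents.J, this]
    · simp
  · refine Finset.sum_eq_zero fun b _ => ?_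
    have : j.1 ≠ b.1 + 1 := by omega
    simp [ThreeUnipotents.J, this]

theorem psi1_mul : psi1 n F ᵥ* (uMat n F : Matrix (Fin n) (Fin n) F) = phi n F := by
  ext j
  rw [vecMul_uMat]
  obtain ⟨_ | _ | j, hj⟩ := j
  · simp [psi1, phi]
  · simp [psi1, phi]; norm_num
  · simp [psi1, phi, pow_succ]

theorem psi2_mul : psi2 n F ᵥ* (uMat n F : Matrix (Fin n) (Fin n) F) = psi1 n F := by
  ext j
  rw [vecMul_uMat]
  obtain ⟨_ | j, hj⟩ := j
  · simp [psi1, psi2]
  · simp [psi1, psi2, pow_succ]; ring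

theorem phi_dot (hn : 2 ≤ n) (b : Fin n → F) :
    phi n F ⬝ᵥ b = 2 * b ⟨0, by omega⟩ + b ⟨1, by omega⟩ := by
  rw [dotProduct, ← Finset.sum_subset (Finset.subset_univ ({⟨0, by omega⟩, ⟨1, by omega⟩} : Finset (Fin n)))]
  · rw [Finset.sum_pair (by simp [Fin.ext_iff])]
    simp [phi]
  · intro i _ hi
    simp [Fin.ext_iff] at hi
    simp [phi, hi.1, hi.2]

theorem uMat_mulVec (b : Fin n → F) (i : Fin n) :
    ((uMat n F : Matrix (Fin n) (Fin n) F) *ᵥ b) i =
      b i + if h : i.1 + 1 < n then b ⟨i.1 + 1, h⟩ else 0 := by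
  rw [coe_uMat, add_mulVec, one_mulVec, Pi.add_apply]
  congr 1
  rw [mulVec, dotProduct]
  split_ifs with h
  · rw [Finset.sum_eq_single (⟨i.1 + 1, h⟩ : Fin n)]
    · simp [ThreeUnipotents.J]
    · intro j _ hj
      have : j.1 ≠ i.1 + 1 := fun e => hj (Fin.ext e)
      simp [ThreeUnipotents.J, this]
    · simp
  · refine Finset.sum_eq_zero fun j _ => ?_
    have : j.1 ≠ i.1 + 1 := by omega
    simp [ThreeUnipotents.J, this]

/-- The second unipotent. -/
def vMat (hn : 2 ≤ n) (a : Fin n → F) : Matrix (Fin n) (Fin n) F :=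
  (1 + ThreeUnipotents.J n F) + vecMulVec ((1 + ThreeUnipotents.J n F) *ᵥ (a - (2 : F) • Pi.single ⟨0, by omega⟩ 1)) (Pi.single ⟨0, by omega⟩ 1) -
    vecMulVec (Pi.single ⟨0, by omega⟩ 1) (Pi.single ⟨1, by omega⟩ 1)

section Conj

variable (hn : 4 ≤ n) (a : Fin n → F) (c : F)

/-- The conjugator between the two. -/
def conjMat : Matrix (Fin n) (Fin n) F :=
  fun i j => if i.1 = j.1 + 1 then 1 else if j.1 + 1 = n then
    (if i.1 = 0 then c else
      if 2 ≤ i.1 then -c * (((1 + ThreeUnipotents.J n F) *ᵥ (a - (2 : F) • Pi.single ⟨0, by omega⟩ 1)) ⟨i.1 - 1, by omega⟩) else 0)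
    else 0

theorem det_conjMat : (conjMat hn a c).det = (-1) ^ (n - 1) * c := by
  obtain ⟨m, rfl⟩ : ∃ m, n = m + 1 := ⟨n - 1, by omega⟩
  rw [Matrix.det_succ_row_zero, Finset.sum_eq_single (Fin.last m)]
  · have e : (conjMat hn a c).submatrix Fin.succ (Fin.last m).succAbove = 1 := by
      ext i j
      have hj : j.1 + 1 ≠ m + 1 := by omega
      have hj' : m ≠ j.1 := by omega
      simp [conjMat, Matrix.one_apply, Fin.ext_iff, Fin.succAbove_last, eq_comm, hj']
    rw [e]
    simp [conjMat]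
  · intro b _ hb
    have h1 : b.1 + 1 ≠ m + 1 := fun e => hb (Fin.ext (by simp; omega))
    have : conjMat hn a c 0 b = 0 := by
      simp only [conjMat]
      rw [if_neg (by simp), if_neg h1]
    simp [this]
  · simp

variable (h0 : a ⟨0, by omega⟩ = -2) (h1 : a ⟨1, by omega⟩ = 4)
  (hl : a ⟨n - 1, by omega⟩ * c = 1)

include h0 h1 hl in
theorem conj_eq : conjMat hn a c * (1 + ThreeUnipotents.J n F) = vMat (show 2 ≤ n by omega) a * conjMat hn a c := by
  set i0 : Fin n := ⟨0, by omega⟩ with hi0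
  set i1 : Fin n := ⟨1, by omega⟩ with hi1
  set w : Fin n → F := a - (2 : F) • Pi.single i0 1 with hw
  set d : Fin n → F := (1 + ThreeUnipotents.J n F) *ᵥ w with hd
  have hdval : ∀ i : Fin n, d i = w i + if h : i.1 + 1 < n then w ⟨i.1 + 1, h⟩ else 0 := uMat_mulVec w
  have hd0 : d i0 = 0 := by
    rw [hdval, dif_pos (by simp [i0]; omega)]
    simp [w, i0, Fin.ext_iff]
    rw [h0, h1]
    norm_num
  have hdl : d ⟨n - 1, by omega⟩ = a ⟨n - 1, by omega⟩ := by
    rw [hdval, dif_neg (by simp; omega)]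
    have : (⟨n - 1, by omega⟩ : Fin n) ≠ i0 := by simp [i0, Fin.ext_iff]; omega
    simp [w, this]
  have key : vMat (show 2 ≤ n by omega) a = 1 + ThreeUnipotents.J n F + vecMulVec d (Pi.single i0 1) -
      vecMulVec (Pi.single i0 1) (Pi.single i1 1) := rfl
  rw [key, mul_add, mul_one, sub_mul, add_mul, add_mul, one_mul, vecMulVec_mul, vecMulVec_mul, add_assoc,
    add_sub_assoc]
  congr 1
  ext i j
  simp only [Matrix.add_apply, Matrix.sub_apply, Matrix.mul_apply, vecMulVec_apply]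
  have s1 : ∑ k, conjMat hn a c i k * ThreeUnipotents.J n F k j =
      if h : 1 ≤ j.1 then conjMat hn a c i ⟨j.1 - 1, by omega⟩ else 0 := by
    split_ifs with h
    · rw [Finset.sum_eq_single (⟨j.1 - 1, by omega⟩ : Fin n)]
      · simp [ThreeUnipotents.J]; omega
      · intro b _ hb
        have : j.1 ≠ b.1 + 1 := fun e => hb (Fin.ext (by simp; omega))
        simp [ThreeUnipotents.J, this]
      · simp
    · refine Finset.sum_eq_zero fun b _ => ?_
      have : j.1 ≠ b.1 + 1 := by omega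
      simp [ThreeUnipotents.J, this]
  have s2 : ∑ k, ThreeUnipotents.J n F i k * conjMat hn a c k j =
      if h : i.1 + 1 < n then conjMat hn a c ⟨i.1 + 1, h⟩ j else 0 := by
    split_ifs with h
    · rw [Finset.sum_eq_single (⟨i.1 + 1, h⟩ : Fin n)]
      · simp [ThreeUnipotents.J]
      · intro b _ hb
        have : b.1 ≠ i.1 + 1 := fun e => hb (Fin.ext e)
        simp [ThreeUnipotents.J, this]
      · simp
    · refine Finset.sum_eq_zero fun b _ => ?_
      have : b.1 ≠ i.1 + 1 := by omega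
      simp [ThreeUnipotents.J, this]
  rw [s1, s2, single_one_vecMul, single_one_vecMul]
  have hC : ∀ i j : Fin n, conjMat hn a c i j = if i.1 = j.1 + 1 then 1 else if j.1 + 1 = n then
      (if i.1 = 0 then c else if 2 ≤ i.1 then -c * d ⟨i.1 - 1, by omega⟩ else 0) else 0 := fun _ _ => rfl
  have hlow : ∀ i j : Fin n, j.1 + 1 ≠ n → conjMat hn a c i j = if i.1 = j.1 + 1 then 1 else 0 := by
    intro i j hj; rw [hC, if_neg hj]
  have hlast : ∀ i j : Fin n, j.1 + 1 = n → conjMat hn a c i j =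
      if i.1 = 0 then c else if 2 ≤ i.1 then -c * d ⟨i.1 - 1, by omega⟩ else 0 := by
    intro i j hj; rw [hC, if_neg (by omega), if_pos hj]
  simp only [Matrix.row_apply, Pi.single_apply]
  by_cases hi : i.1 = 0
  · have hdi : d i = 0 := by rw [show i = i0 from Fin.ext hi, hd0]
    have e1 : (⟨i.1 + 1, by omega⟩ : Fin n) = i1 := Fin.ext (by simp [i1, hi])
    rw [hdi, if_pos (show i = i0 from Fin.ext hi), dif_pos (show i.1 + 1 < n by omega), e1]
    simp only [zero_mul, add_zero, one_mul, sub_self]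
    split_ifs with h
    · rw [hlow _ _ (by simp; omega), if_neg (by simp; omega)]
    · rfl
  have hi' : i ≠ i0 := fun e => hi (by rw [e])
  rw [if_neg hi', zero_mul, sub_zero]
  by_cases hj : j.1 + 1 = n
  · rw [dif_pos (show 1 ≤ j.1 by omega), hlow _ _ (by simp; omega), hlast i0 j hj, if_pos (show i0.1 = 0 from rfl)]
    by_cases hin : i.1 + 1 < n
    · have e1 : (⟨(⟨i.1 + 1, hin⟩ : Fin n).1 - 1, by omega⟩ : Fin n) = i := Fin.ext (by simp)
      rw [dif_pos hin, hlast _ j hj]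
      simp only [Nat.add_sub_cancel, Fin.eta]
      split_ifs <;> first | omega | (exfalso; assumption) | ring
    · have e2 : i = ⟨n - 1, by omega⟩ := Fin.ext (by simp; omega)
      rw [dif_neg hin, if_pos (by simp; omega), e2, hdl]
      linear_combination -hl
  · rw [hlow i0 j hj, if_neg (show i0.1 ≠ j.1 + 1 by simp [i0]), mul_zero, add_zero]
    by_cases hj1 : 1 ≤ j.1
    · rw [dif_pos hj1, hlow _ _ (by simp; omega)]
      split_ifs with a1 a2 a3 <;> simp at * <;> first | omega | (rw [hlow _ _ hj, if_pos (by simp; omega)]) |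
        (rw [hlow _ _ hj, if_neg (by simp; omega)])
    · rw [dif_neg hj1]
      split_ifs with h
      · rw [hlow _ _ hj, if_neg (by simp; omega)]
      · rfl

end Conj

section Main

variable (hn : 4 ≤ n) (a : Fin n → F) (h0 : a ⟨0, by omega⟩ = -2) (h1 : a ⟨1, by omega⟩ = 4)
  (hl : a ⟨n - 1, by omega⟩ ≠ 0)
  (hg : a ⟨2, by omega⟩ + 8 ≠ 0) (hf1 : psi1 n F ⬝ᵥ a = 0)
  (hfull : ∀ S : AddSubgroup F, (1 : F) ∈ S →
    (∀ x ∈ S, x * ((a ⟨2, by omega⟩ + 8) ^ 2 * (psi2 n F ⬝ᵥ a)) ∈ S) → ∀ x, x ∈ S)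
  (v : SpecialLinearGroup (Fin n) F) (hv : (v : Matrix (Fin n) (Fin n) F) = vMat (show 2 ≤ n by omega) a)

include h0 h1 hl hg hf1 hfull hv in
theorem closure_eq_top [Fintype F] : Subgroup.closure ({uMat n F, v} : Set (SpecialLinearGroup (Fin n) F)) = ⊤ := by
  classical
  set i0 : Fin n := ⟨0, by omega⟩ with hi0
  set i1 : Fin n := ⟨1, by omega⟩ with hi1
  set i2 : Fin n := ⟨2, by omega⟩ with hi2
  set il : Fin n := ⟨n - 1, by omega⟩ with hil
  set g := a i2 + 8
  set u : SpecialLinearGroup (Fin n) F := uMat n F with hu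
  set H := Subgroup.closure ({u, v} : Set (SpecialLinearGroup (Fin n) F))
  have huH : u ∈ H := Subgroup.subset_closure (Or.inl rfl)
  have hvH : v ∈ H := Subgroup.subset_closure (Or.inr rfl)
  set U : Matrix (Fin n) (Fin n) F := (u : Matrix (Fin n) (Fin n) F) with hU
  set V : Matrix (Fin n) (Fin n) F := ((u⁻¹ : SpecialLinearGroup (Fin n) F) : Matrix (Fin n) (Fin n) F) with hV
  have hVU : V * U = 1 := congrArg Subtype.val (inv_mul_cancel u)
  have hUV : U * V = 1 := congrArg Subtype.val (mul_inv_cancel u)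
  set φ := phi n F
  have hφ1 : φ ᵥ* V = psi1 n F := by
    rw [show φ = psi1 n F ᵥ* U from psi1_mul.symm, vecMul_vecMul, hUV, vecMul_one]
  have hφ2 : psi1 n F ᵥ* V = psi2 n F := by
    rw [show psi1 n F = psi2 n F ᵥ* U from psi2_mul.symm, vecMul_vecMul, hUV, vecMul_one]
  set a1 := U *ᵥ a
  have hpair : ∀ ψ b, (ψ ᵥ* V) ⬝ᵥ (U *ᵥ b) = ψ ⬝ᵥ b := fun ψ b => by
    rw [dotProduct_mulVec, vecMul_vecMul, hVU, vecMul_one]
  have hφa : φ ⬝ᵥ a = 0 := by
    rw [phi_dot (by omega), h0, h1]; ring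
  have hga : φ ⬝ᵥ a1 = g := by
    rw [phi_dot (by omega)]
    simp only [a1, U, hu, uMat_mulVec]
    rw [dif_pos (by simp; omega), dif_pos (by simp; omega), h0]
    simp only [Nat.zero_add, g, i2]
    rw [h1]; ring
  -- the transvection
  set w : Fin n → F := a - (2 : F) • Pi.single i0 1 with hw
  set Y : SpecialLinearGroup (Fin n) F := u⁻¹ * v
  set e0 : Fin n → F := Pi.single i0 1
  set e1 : Fin n → F := Pi.single i1 1
  have hY : (Y : Matrix (Fin n) (Fin n) F) = 1 + vecMulVec w e0 - vecMulVec e0 e1 := by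
    change V * v.1 = _
    rw [hv]
    change V * (U + vecMulVec (U *ᵥ w) e0 - vecMulVec e0 e1) = _
    rw [mul_sub, mul_add, hVU, mul_vecMulVec, mulVec_mulVec, hVU, one_mulVec, mul_vecMulVec]
    have : U *ᵥ e0 = e0 := by
      rw [hU, hu, coe_uMat, add_mulVec, one_mulVec, J_mulVec_zero i0 rfl, add_zero]
    conv_lhs => rw [show V *ᵥ e0 = e0 by conv_lhs => rw [← this, mulVec_mulVec, hVU, one_mulVec]]
  have he01 : i0 ≠ i1 := by simp [i0, i1, Fin.ext_iff]
  have d00 : e0 ⬝ᵥ e0 = 1 := by simp [e0]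
  have d10 : e1 ⬝ᵥ e0 = 0 := by simp [e0, e1, he01]
  have d0w : e0 ⬝ᵥ w = -4 := by
    simp [e0, w, dotProduct_sub, h0, i0]; norm_num
  have d1w : e1 ⬝ᵥ w = 4 := by
    simp [e1, w, dotProduct_sub, h1, i1, i0, Fin.ext_iff]
  have hphi : φ = (2 : F) • e0 + e1 := by
    ext i
    simp only [φ, phi, e0, e1, Pi.add_apply, Pi.smul_apply, Pi.single_apply, Fin.ext_iff, i0, i1, smul_eq_mul]
    split_ifs <;> first | omega | simp
  have hTm : ((Y * Y : SpecialLinearGroup (Fin n) F) : Matrix (Fin n) (Fin n) F) = 1 + (-1 : F) • vecMulVec a φ := by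
    change Y.1 * Y.1 = _
    rw [hY, hphi]
    have ea : a = w + (2 : F) • e0 := by rw [hw]; simp [e0]
    rw [ea]
    simp only [sub_mul, mul_sub, add_mul, mul_add, one_mul, mul_one, vecMulVec_mul_vecMulVec, d00, d10, d0w, d1w,
      vecMulVec_smul, smul_vecMulVec, add_vecMulVec, vecMulVec_add, zero_smul, one_smul, vecMulVec_zero]
    module
  have hYH : Y ∈ H := H.mul_mem (H.inv_mem huH) hvH
  have hT : Elt H a φ 1 := by
    have h' : Elt H a φ (-1) := ⟨hφa, by
      rw [show rankOne a φ hφa (-1 : F) = Y * Y from Subtype.ext (by rw [coe_rankOne, hTm])]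
      exact H.mul_mem hYH hYH⟩
    simpa using h'.neg
  have hψ2 : psi1 n F ⬝ᵥ (V *ᵥ a) = psi2 n F ⬝ᵥ a := by rw [dotProduct_mulVec, hφ2]
  have hUinv : ∀ {b ψ x}, Elt H b ψ x → Elt H (V *ᵥ b) (ψ ᵥ* U) x := fun h => by
    have := Elt.conj h (H.inv_mem huH)
    rwa [inv_inv] at this
  -- the root group at `a` is full
  have hroot : Root H a φ := by
    let S : AddSubgroup F :=
      { carrier := {x | Elt H a φ x}
        zero_mem' := Elt.zero hφa
        add_mem' := Elt.add
        neg_mem' := Elt.neg }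
    have hstep : ∀ x, Elt H a φ x → Elt H a (psi1 n F) (x * g) := by
      intro x hx
      have h2 := Elt.conj hT huH
      rw [hφ1] at h2
      have := Elt.comm hx h2 hf1
      rwa [mul_one, hga] at this
    have hS := hfull S hT (fun x hx => by
      have h2 : Elt H (V *ᵥ a) φ g := by
        have := hUinv (hstep 1 hT)
        rwa [psi1_mul, one_mul] at this
      have := Elt.comm (hstep x hx) h2 hφa
      rw [hψ2] at this
      show Elt H a φ (x * (g ^ 2 * (psi2 n F ⬝ᵥ a)))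
      rw [show x * (g ^ 2 * (psi2 n F ⬝ᵥ a)) = x * g * g * (psi2 n F ⬝ᵥ a) by ring]
      exact this)
    exact ⟨hφa, fun x => (hS x).2⟩
  set D := rootSpace H a with hD
  have hφD : φ ∈ D := hroot
  have hpD : psi1 n F ∈ D := by
    have h2 := Root.conj hroot huH
    rw [hφ1] at h2
    exact Root.comm hroot h2 hf1 (by rw [hga]; exact hg)
  have hD0 : ∀ ψ ∈ D, ψ ⬝ᵥ a = 0 := fun ψ h => h.1
  -- translates of `D` which kill `a`
  have hs1 : ∀ ψ ∈ D, (ψ ᵥ* V) ⬝ᵥ a = 0 → ψ ᵥ* V ∈ D := fun ψ hψ h0' =>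
    Root.comm hroot (Root.conj hψ huH) h0' (by rw [hga]; exact hg)
  have hs2 : ∀ ψ ∈ D, (ψ ᵥ* V ᵥ* V) ⬝ᵥ a = 0 → ψ ᵥ* V ᵥ* V ∈ D := fun ψ hψ h0' =>
    Root.comm hpD (Root.conj (Root.conj hψ huH) huH) h0' (by
      rw [← hφ1]
      rw [show (φ ᵥ* V) ⬝ᵥ (U *ᵥ (U *ᵥ a)) = φ ⬝ᵥ (U *ᵥ a) from hpair _ _, hga]
      exact hg)
  let Φ : (Fin n → F) →ₗ[F] (Fin n → F) := V.vecMulLinear
  set X : Submodule F (Fin n → F) := D ⊔ D.map Φ
  have hΦ : ∀ ψ, Φ ψ = ψ ᵥ* V := fun ψ => rfl
  have hJ : ∀ ψ : Fin n → F, ψ ᵥ* U - ψ = ψ ᵥ* ThreeUnipotents.J n F := fun ψ => by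
    rw [hU, hu, coe_uMat, vecMul_add, vecMul_one, add_sub_cancel_left]
  have hphiJ : ∀ m, (φ ᵥ* ThreeUnipotents.J n F ^ m) = fun j => if m ≤ j.1 then φ ⟨j.1 - m, by omega⟩ else 0 := by
    intro m
    ext j
    rw [vecMul_eq_sum, Finset.sum_apply]
    split_ifs with hm
    · rw [Finset.sum_eq_single (⟨j.1 - m, by omega⟩ : Fin n)]
      · simp [ThreeUnipotents.J_pow_apply]; intro hh; omega
      · intro b _ hb
        have : j.1 ≠ b.1 + m := fun e => hb (Fin.ext (by simp; omega))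
        simp [ThreeUnipotents.J_pow_apply, this]
      · simp
    · refine Finset.sum_eq_zero fun b _ => ?_
      have : j.1 ≠ b.1 + m := by omega
      simp [ThreeUnipotents.J_pow_apply, this]
  -- a translate of `φ` does not kill `a`
  have hk : ∃ ψ ∈ D, (ψ ᵥ* V) ⬝ᵥ a ≠ 0 := by
    by_contra hno
    push_neg at hno
    have hinv : D.map Φ ≤ D := by
      rintro _ ⟨ψ, hψ, rfl⟩
      exact hs1 ψ hψ (hno ψ hψ)
    have heq : D.map Φ = D := Submodule.eq_of_le_of_finrank_eq hinv
      (LinearEquiv.finrank_eq (Submodule.equivMapOfInjective Φ (fun x y hxy => by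
        simpa [hΦ, vecMul_vecMul, hVU] using congrArg (· ᵥ* U) hxy) D).symm)
    have hUD : ∀ ψ ∈ D, ψ ᵥ* U ∈ D := fun ψ hψ => by
      rw [← heq] at hψ
      obtain ⟨χ, hχ, rfl⟩ := hψ
      rw [hΦ, vecMul_vecMul, hVU, vecMul_one]; exact hχ
    have hm : ∀ m, φ ᵥ* ThreeUnipotents.J n F ^ m ∈ D := by
      intro m
      induction m with
      | zero => simpa using hφD
      | succ m ih => rw [pow_succ, ← vecMul_vecMul, ← hJ]; exact D.sub_mem (hUD _ ih) ih
    have e2 := hD0 _ (hm (n - 2))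
    have e1' := hD0 _ (hm (n - 1))
    have hv1 : (fun j : Fin n => if n - 1 ≤ j.1 then φ ⟨j.1 - (n - 1), by omega⟩ else 0) = (2 : F) • Pi.single il 1 := by
      ext j
      simp only [φ, phi, Pi.smul_apply, Pi.single_apply, Fin.ext_iff, il, smul_eq_mul]
      split_ifs <;> first | omega | simp
    have hv2 : (fun j : Fin n => if n - 2 ≤ j.1 then φ ⟨j.1 - (n - 2), by omega⟩ else 0) =
        (2 : F) • Pi.single ⟨n - 2, by omega⟩ 1 + Pi.single il 1 := by
      ext j
      simp only [φ, phi, Pi.add_apply, Pi.smul_apply, Pi.single_apply, Fin.ext_iff, il, smul_eq_mul]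
      split_ifs <;> first | omega | simp
    rw [hphiJ, hv1] at e1'
    rw [hphiJ, hv2] at e2
    simp [smul_dotProduct] at e1' e2
    rcases e1' with e | e
    · rw [e] at e2; simp at e2; exact hl e2
    · exact hl e
  obtain ⟨χ0, hχ0, hχ0a⟩ : ∃ ψ ∈ D, (ψ ᵥ* V ᵥ* V) ⬝ᵥ a ≠ 0 ∧ ψ ᵥ* V ∈ D := by
    by_contra hno
    push_neg at hno
    obtain ⟨ψ, hψ, hne⟩ := hk
    -- every element is moved by two steps into `D`
    have h2 : ∀ ψ ∈ D, (ψ ᵥ* V) ⬝ᵥ a = 0 → (ψ ᵥ* V ᵥ* V) ⬝ᵥ a = 0 := fun ψ hψ h0' => by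
      by_contra h
      exact hno ψ hψ h (hs1 ψ hψ h0')
    -- `D ∩ D V` is then invariant
    let E : Submodule F (Fin n → F) := D ⊓ D.map Φ
    have hinv : E.map Φ ≤ E := by
      rintro _ ⟨χ, ⟨hχD, χ', hχ', rfl⟩, rfl⟩
      have ha' : (χ' ᵥ* V) ⬝ᵥ a = 0 := hD0 _ hχD
      exact ⟨hs2 χ' hχ' (h2 χ' hχ' ha'), ⟨_, hχD, rfl⟩⟩
    have hinj : Function.Injective Φ := fun x y hxy => by
      simpa [hΦ, vecMul_vecMul, hVU] using congrArg (· ᵥ* U) hxy
    have heq : E.map Φ = E := Submodule.eq_of_le_of_finrank_eq hinv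
      (LinearEquiv.finrank_eq (Submodule.equivMapOfInjective Φ hinj E).symm)
    have hp : psi1 n F ∈ E := ⟨hpD, ⟨φ, hφD, hφ1⟩⟩
    have hphiE : φ ∈ E := by
      rw [← heq] at hp
      obtain ⟨χ, hχ, hχe⟩ := hp
      have : χ = φ := hinj (by rw [hχe]; exact hφ1.symm)
      exact this ▸ hχ
    have hUE : ∀ χ ∈ E, χ ᵥ* U ∈ E := fun χ hχ => by
      rw [← heq] at hχ
      obtain ⟨η, hη, rfl⟩ := hχ
      rw [hΦ, vecMul_vecMul, hVU, vecMul_one]; exact hη
    have hm : ∀ m, φ ᵥ* ThreeUnipotents.J n F ^ m ∈ E := by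
      intro m
      induction m with
      | zero => simpa using hphiE
      | succ m ih => rw [pow_succ, ← vecMul_vecMul, ← hJ]; exact E.sub_mem (hUE _ ih) ih
    have e2 := hD0 _ (hm (n - 2)).1
    have e1' := hD0 _ (hm (n - 1)).1
    have hv1 : (fun j : Fin n => if n - 1 ≤ j.1 then φ ⟨j.1 - (n - 1), by omega⟩ else 0) = (2 : F) • Pi.single il 1 := by
      ext j
      simp only [φ, phi, Pi.smul_apply, Pi.single_apply, Fin.ext_iff, il, smul_eq_mul]
      split_ifs <;> first | omega | simp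
    have hv2 : (fun j : Fin n => if n - 2 ≤ j.1 then φ ⟨j.1 - (n - 2), by omega⟩ else 0) =
        (2 : F) • Pi.single ⟨n - 2, by omega⟩ 1 + Pi.single il 1 := by
      ext j
      simp only [φ, phi, Pi.add_apply, Pi.smul_apply, Pi.single_apply, Fin.ext_iff, il, smul_eq_mul]
      split_ifs <;> first | omega | simp
    rw [hphiJ, hv1] at e1'
    rw [hphiJ, hv2] at e2
    simp [smul_dotProduct] at e1' e2
    rcases e1' with e | e
    · rw [e] at e2; simp at e2; exact hl e2
    · exact hl e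
  have hXinv : X.map Φ ≤ X := by
    rw [Submodule.map_sup]
    refine sup_le le_sup_right ?_
    rintro _ ⟨_, ⟨ψ, hψ, rfl⟩, rfl⟩
    rw [hΦ, hΦ]
    set k := ((ψ ᵥ* V ᵥ* V) ⬝ᵥ a) / ((χ0 ᵥ* V ᵥ* V) ⬝ᵥ a)
    have hkill : ((ψ - k • χ0) ᵥ* V ᵥ* V) ⬝ᵥ a = 0 := by
      simp only [sub_vecMul, smul_vecMul, sub_dotProduct, smul_dotProduct, smul_eq_mul, k]
      rw [div_mul_cancel₀ _ hχ0a.1, sub_self]
    have hm := hs2 _ (D.sub_mem hψ (D.smul_mem k hχ0)) hkill
    have e : ψ ᵥ* V ᵥ* V = (ψ - k • χ0) ᵥ* V ᵥ* V + k • (χ0 ᵥ* V ᵥ* V) := by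
      simp only [sub_vecMul, smul_vecMul]; abel
    rw [e]
    exact X.add_mem (Submodule.mem_sup_left hm)
      (X.smul_mem k (Submodule.mem_sup_right ⟨_, hχ0a.2, rfl⟩))
  have hinj : Function.Injective Φ := fun x y hxy => by
    simpa [hΦ, vecMul_vecMul, hVU] using congrArg (· ᵥ* U) hxy
  have hXeq : X.map Φ = X := Submodule.eq_of_le_of_finrank_eq hXinv
    (LinearEquiv.finrank_eq (Submodule.equivMapOfInjective Φ hinj X).symm)
  have hXm : ∀ m, φ ᵥ* ThreeUnipotents.J n F ^ m ∈ X := by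
    intro m
    induction m with
    | zero => simpa using Submodule.mem_sup_left hφD
    | succ m ih =>
      rw [pow_succ, ← vecMul_vecMul, ← hJ]
      refine X.sub_mem ?_ ih
      generalize φ ᵥ* ThreeUnipotents.J n F ^ m = χ at ih ⊢
      rw [← hXeq] at ih
      obtain ⟨η, hη, rfl⟩ := ih
      rw [hΦ, vecMul_vecMul, hVU, vecMul_one]; exact hη
  have hXD : ∀ χ ∈ X, χ ⬝ᵥ a = 0 → χ ∈ D := by
    intro χ hχ h0'
    obtain ⟨d, hd, _, ⟨d', hd', rfl⟩, rfl⟩ := Submodule.mem_sup.1 hχ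
    refine D.add_mem hd (hs1 d' hd' ?_)
    rw [add_dotProduct, hD0 d hd, zero_add] at h0'
    exact h0'
  -- a root at `a` moving `e₀`
  have hX : ∀ χ : Fin n → F, χ ∈ X := by
    have hsucc : ∀ d, ∀ j : Fin n, 1 ≤ j.1 → j.1 + d + 1 = n → Pi.single j (1 : F) ∈ X := by
      intro d
      induction d with
      | zero =>
        intro j hj1 hj
        by_cases h2 : (2 : F) = 0
        · have := hXm (n - 2)
          rw [hphiJ] at this
          convert this using 1
          ext i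
          simp only [φ, phi, Pi.single_apply, Fin.ext_iff, h2]
          split_ifs <;> first | omega | rfl
        · have := X.smul_mem (2 : F)⁻¹ (hXm (n - 1))
          rw [hphiJ] at this
          convert this using 1
          ext i
          simp only [φ, phi, Pi.single_apply, Fin.ext_iff, Pi.smul_apply, smul_eq_mul]
          split_ifs <;> first | omega | (simp [h2]; done)
      | succ d ih =>
        intro j hj1 hj
        have hj' := ih ⟨j.1 + 1, by omega⟩ (by simp) (by simp; omega)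
        by_cases h2 : (2 : F) = 0
        · have := hXm (j.1 - 1)
          rw [hphiJ] at this
          convert this using 1
          ext i
          simp only [φ, phi, Pi.single_apply, Fin.ext_iff, h2]
          split_ifs <;> first | omega | rfl
        · have := X.smul_mem (2 : F)⁻¹ (X.sub_mem (hXm j.1) hj')
          rw [hphiJ] at this
          convert this using 1
          ext i
          simp only [φ, phi, Pi.single_apply, Fin.ext_iff, Pi.smul_apply, Pi.sub_apply, smul_eq_mul]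
          split_ifs <;> first | omega | (simp [h2]; done)
    have hpos : ∀ j : Fin n, 1 ≤ j.1 → Pi.single j (1 : F) ∈ X := fun j hj =>
      hsucc (n - 1 - j.1) j hj (by omega)
    have hzero : Pi.single i0 (1 : F) ∈ X := by
      by_cases h2 : (2 : F) = 0
      · -- characteristic two
        set Z : SpecialLinearGroup (Fin n) F := u * Y * u⁻¹
        have hZH : Z ∈ H := H.mul_mem (H.mul_mem huH hYH) (H.inv_mem huH)
        have hwa : w = a := by rw [hw, h2, zero_smul, sub_zero]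
        have hy : ∀ b, (Y : Matrix (Fin n) (Fin n) F) *ᵥ b = b + (e0 ⬝ᵥ b) • a - (e1 ⬝ᵥ b) • e0 := fun b => by
          rw [hY, hwa, sub_mulVec, add_mulVec, one_mulVec, vecMulVec_mulVec, vecMulVec_mulVec]
          simp
        have hZ : ∀ b, (Z : Matrix (Fin n) (Fin n) F) *ᵥ b =
            U *ᵥ ((Y : Matrix (Fin n) (Fin n) F) *ᵥ (V *ᵥ b)) := fun b => by
          change (U * Y.1 * V) *ᵥ b = _
          rw [mulVec_mulVec, mulVec_mulVec, Matrix.mul_assoc]
        have ha0 : e1 ⬝ᵥ (V *ᵥ a) = 0 := by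
          have := hf1
          rw [← hφ1, ← dotProduct_mulVec, hphi, h2, zero_smul, zero_add] at this
          exact this
        have ha1 : e0 ⬝ᵥ (V *ᵥ a) = 0 := by
          have ho : e0 ᵥ* V = psi1 n F + e0 := by
            have h3 : (psi1 n F + e0) ᵥ* U = e0 := by
              rw [add_vecMul, psi1_mul]
              ext j
              have h11 : (1 : F) + 1 = 0 := by rw [one_add_one_eq_two, h2]
              simp only [Pi.add_apply, vecMul_uMat, U, hu, phi, e0, Pi.single_apply, Fin.ext_iff, i0, h2]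
              split_ifs <;> first | omega | simp [h11]
            conv_lhs => rw [← h3, vecMul_vecMul, hUV, vecMul_one]
          rw [dotProduct_mulVec, ho, add_dotProduct, hf1]
          simp [e0, i0, h0, h2]
        have hZa : (Z : Matrix (Fin n) (Fin n) F) *ᵥ a = a := by
          rw [hZ, hy, ha0, ha1, zero_smul, zero_smul, add_zero, sub_zero, mulVec_mulVec, hUV, one_mulVec]
        have hUe : U *ᵥ e0 = e0 := by
          rw [hU, hu, coe_uMat, add_mulVec, one_mulVec, J_mulVec_zero i0 rfl, add_zero]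
        have hZe : (Z : Matrix (Fin n) (Fin n) F) *ᵥ e0 = e0 + a1 := by
          have : V *ᵥ e0 = e0 := by conv_lhs => rw [← hUe, mulVec_mulVec, hVU, one_mulVec]
          rw [hZ, this, hy, d00, d10, one_smul, zero_smul, sub_zero, mulVec_add, hUe]
        have hm : φ ᵥ* (Z : Matrix (Fin n) (Fin n) F) ∈ D := by
          have h' := Root.conj hroot (H.inv_mem hZH)
          rw [inv_inv] at h'
          have : ((Z⁻¹ : SpecialLinearGroup (Fin n) F) : Matrix (Fin n) (Fin n) F) *ᵥ a = a := by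
            conv_lhs => rw [← hZa, mulVec_mulVec]
            rw [show ((Z⁻¹ : SpecialLinearGroup (Fin n) F) : Matrix (Fin n) (Fin n) F) * Z.1 = 1 from
              congrArg Subtype.val (inv_mul_cancel Z), one_mulVec]
          rwa [this] at h'
        set χ := φ ᵥ* (Z : Matrix (Fin n) (Fin n) F)
        have hval : χ i0 = g := by
          have : χ ⬝ᵥ e0 = g := by
            rw [← dotProduct_mulVec, hZe, dotProduct_add, hga, hphi, h2, zero_smul, zero_add, d10, zero_add]
          simpa [e0] using this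
        have hsum : χ - ∑ j ∈ Finset.univ.erase i0, χ j • Pi.single j (1 : F) = g • Pi.single i0 1 := by
          rw [← hval, sub_eq_iff_eq_add,
            Finset.add_sum_erase _ (fun j => χ j • Pi.single j (1 : F)) (Finset.mem_univ i0)]
          exact pi_eq_sum_univ' χ
        have hm' : g • Pi.single i0 (1 : F) ∈ X := hsum ▸ X.sub_mem (Submodule.mem_sup_left hm)
          (Submodule.sum_mem _ fun j hj => X.smul_mem _ (hpos j (by
            have := (Finset.mem_erase.1 hj).1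
            simp [i0, Fin.ext_iff] at this
            omega)))
        have := X.smul_mem g⁻¹ hm'
        rwa [smul_smul, inv_mul_cancel₀ hg, one_smul] at this
      · have h := X.smul_mem (2 : F)⁻¹ (X.sub_mem (Submodule.mem_sup_left hφD) (hpos i1 (by simp [i1])))
        rw [hphi, add_sub_cancel_right, smul_smul, inv_mul_cancel₀ h2, one_smul] at h
        exact h
    intro χ
    rw [pi_eq_sum_univ' χ]
    refine Submodule.sum_mem _ fun j _ => X.smul_mem _ ?_
    rcases Nat.eq_zero_or_pos j.1 with hj | hj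
    · rw [show j = i0 from Fin.ext hj]; exact hzero
    · exact hpos j hj
  have ha : ∀ χ : Fin n → F, χ ⬝ᵥ a = 0 → Root H a χ := fun χ h => hXD χ (hX χ) h
  -- all points are centres with every axis
  let O : Submodule F (Fin n → F) :=
    { carrier := {b | ∀ χ : Fin n → F, χ ⬝ᵥ b = 0 → Root H b χ}
      zero_mem' := fun χ h => ⟨h, fun x => by
        rw [show rankOne 0 χ h x = 1 from Subtype.ext (by simp [coe_rankOne])]; exact H.one_mem⟩
      add_mem' := by
        intro b c hb hc χ hχ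
        by_cases hd : ∃ k : F, c = k • b
        · obtain ⟨k, rfl⟩ := hd
          rw [show b + k • b = (1 + k) • b by rw [add_smul, one_smul]] at hχ ⊢
          rcases eq_or_ne (1 + k) 0 with e | e
          · rw [e, zero_smul]
            exact ⟨dotProduct_zero χ, fun x => by
              rw [show rankOne 0 χ _ x = 1 from Subtype.ext (by simp [coe_rankOne])]; exact H.one_mem⟩
          · rw [dotProduct_smul, smul_eq_zero] at hχ
            exact (hb χ (hχ.resolve_left e)).smul_left _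
        · rcases eq_or_ne b 0 with rfl | hb0
          · rw [zero_add] at hχ ⊢; exact hc χ hχ
          push_neg at hd
          -- a functional separating
          have : ∃ η : Fin n → F, η ⬝ᵥ b = 0 ∧ η ⬝ᵥ c ≠ 0 := by
            obtain ⟨j, hj⟩ := Function.ne_iff.1 hb0
            obtain ⟨i, hi⟩ := Function.ne_iff.1 (hd (c j / b j))
            refine ⟨Pi.single i (b j) - Pi.single j (b i), ?_, ?_⟩
            · simp [sub_dotProduct]; ring
            · simp only [sub_dotProduct, single_dotProduct]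
              intro h
              apply hi
              simp only [Pi.smul_apply, smul_eq_mul]
              rw [div_mul_eq_mul_div, eq_div_iff hj]
              linear_combination h
          obtain ⟨η, hη, hηc⟩ := this
          obtain ⟨hη0, hmem⟩ := hb η hη
          have hgm := hmem (η ⬝ᵥ c)⁻¹
          set T := rankOne b η hη0 (η ⬝ᵥ c)⁻¹
          have hTc : (T : Matrix (Fin n) (Fin n) F) *ᵥ c = b + c := by
            rw [coe_rankOne, add_mulVec, one_mulVec, smul_mulVec, vecMulVec_mulVec]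
            simp [smul_smul, inv_mul_cancel₀ hηc, add_comm]
          have hχ' : (χ ᵥ* (T : Matrix (Fin n) (Fin n) F)) ⬝ᵥ c = 0 := by
            rw [← dotProduct_mulVec, hTc, hχ]
          have := Root.conj (hc _ hχ') hgm
          rwa [hTc, vecMul_vecMul, show (T : Matrix (Fin n) (Fin n) F) * (T⁻¹ : SpecialLinearGroup (Fin n) F).1 = 1 from
            congrArg Subtype.val (mul_inv_cancel T), vecMul_one] at this
      smul_mem' := by
        intro k b hb χ hχ
        rcases eq_or_ne k 0 with rfl | hk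
        · rw [zero_smul]
          exact ⟨dotProduct_zero χ, fun x => by
            rw [show rankOne 0 χ _ x = 1 from Subtype.ext (by simp [coe_rankOne])]; exact H.one_mem⟩
        · rw [dotProduct_smul, smul_eq_zero] at hχ
          exact (hb χ (hχ.resolve_left hk)).smul_left k }
  have hOU : ∀ b ∈ O, U *ᵥ b ∈ O := by
    intro b hb χ hχ
    rw [dotProduct_mulVec] at hχ
    have := Root.conj (hb _ hχ) huH
    rwa [vecMul_vecMul, hUV, vecMul_one] at this
  have hJm : ∀ m, ThreeUnipotents.J n F ^ m *ᵥ a ∈ O := by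
    intro m
    induction m with
    | zero => rw [pow_zero, one_mulVec]; exact ha
    | succ m ih =>
      have e : ThreeUnipotents.J n F = U - 1 := by rw [hU, hu, coe_uMat, add_sub_cancel_left]
      rw [pow_succ', ← mulVec_mulVec]
      generalize ThreeUnipotents.J n F ^ m *ᵥ a = b at ih ⊢
      rw [e, sub_mulVec, one_mulVec]
      exact O.sub_mem (hOU b ih) ih
  have hJa : ∀ m i, (ThreeUnipotents.J n F ^ m *ᵥ a) i = if h : i.1 + m < n then a ⟨i.1 + m, h⟩ else 0 := by
    intro m i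
    rw [mulVec, dotProduct]
    split_ifs with h
    · rw [Finset.sum_eq_single (⟨i.1 + m, h⟩ : Fin n)]
      · simp [ThreeUnipotents.J_pow_apply]
      · intro j _ hj
        have : j.1 ≠ i.1 + m := fun e => hj (Fin.ext e)
        simp [ThreeUnipotents.J_pow_apply, this]
      · simp
    · refine Finset.sum_eq_zero fun j _ => ?_
      have : j.1 ≠ i.1 + m := by omega
      simp [ThreeUnipotents.J_pow_apply, this]
  have hsingle : ∀ j : Fin n, Pi.single j (1 : F) ∈ O := by
    intro j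
    induction hj : j.1 using Nat.strong_induction_on generalizing j with
    | _ k ih =>
      subst hj
      set y := ThreeUnipotents.J n F ^ (n - 1 - j.1) *ᵥ a
      have hy : y ∈ O := hJm _
      have hsum : y - ∑ i ∈ Finset.univ.erase j, y i • Pi.single i (1 : F) = y j • Pi.single j 1 := by
        rw [sub_eq_iff_eq_add, Finset.add_sum_erase _ (fun i => y i • Pi.single i (1 : F)) (Finset.mem_univ j)]
        exact pi_eq_sum_univ' y
      have hmem : y j • Pi.single j (1 : F) ∈ O := hsum ▸ O.sub_mem hy (Submodule.sum_mem _ fun i hi => by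
        have hij : i.1 ≠ j.1 := fun e => (Finset.mem_erase.1 hi).1 (Fin.ext e)
        rcases lt_or_gt_of_ne hij with h | h
        · exact O.smul_mem _ (ih i.1 h i rfl)
        · rw [show y i = 0 from (hJa _ i).trans (dif_neg (by omega)), zero_smul]
          exact O.zero_mem)
      have hyj : y j ≠ 0 := by
        simp only [y, hJa]
        rw [dif_pos (by omega)]
        convert hl using 2
        exact Fin.ext (by simp [il]; omega)
      have := O.smul_mem (y j)⁻¹ hmem
      rwa [smul_smul, inv_mul_cancel₀ hyj, one_smul] at this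
  refine Cfsg.Lib.Classical.eq_top_of_transvection_mem H fun i j hij x => ?_
  obtain ⟨_, hm⟩ := hsingle i (Pi.single j 1) (by simp [hij])
  rw [← rankOne_single hij]
  exact hm x

end Main

end Cfsg.Lib.Known.TwoUnipotents
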