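import Cfsg.Agent.Known.TwoUnipotents
import Cfsg.Agent.Known.SLThreeSmall

/-!
`SL 4 q` for `q ∈ {3, 4, 5}`: certificates.
-/

namespace Cfsg.Lib.Known.TwoUnipotents

open Matrix Cfsg.Lib.Known.ThreeUnipotents Cfsg.Lib.Known.SLThree

/-- Sixteen entries. -/
structure M4 (K : Type*) where
  (a00 a01 a02 a03 a10 a11 a12 a13 a20 a21 a22 a23 a30 a31 a32 a33 : K)
deriving DecidableEq

variable {K : Type*} [DecidableEq K] [Zero K] [One K] [Add K] [Mul K]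

/-- The product. -/
def mm4 (x y : M4 K) : M4 K :=
  ⟨x.a00 * y.a00 + x.a01 * y.a10 + x.a02 * y.a20 + x.a03 * y.a30, x.a00 * y.a01 + x.a01 * y.a11 + x.a02 * y.a21 + x.a03 * y.a31, x.a00 * y.a02 + x.a01 * y.a12 + x.a02 * y.a22 + x.a03 * y.a32, x.a00 * y.a03 + x.a01 * y.a13 + x.a02 * y.a23 + x.a03 * y.a33,
   x.a10 * y.a00 + x.a11 * y.a10 + x.a12 * y.a20 + x.a13 * y.a30, x.a10 * y.a01 + x.a11 * y.a11 + x.a12 * y.a21 + x.a13 * y.a31, x.a10 * y.a02 + x.a11 * y.a12 + x.a12 * y.a22 + x.a13 * y.a32, x.a10 * y.a03 + x.a11 * y.a13 + x.a12 * y.a23 + x.a13 * y.a33,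
   x.a20 * y.a00 + x.a21 * y.a10 + x.a22 * y.a20 + x.a23 * y.a30, x.a20 * y.a01 + x.a21 * y.a11 + x.a22 * y.a21 + x.a23 * y.a31, x.a20 * y.a02 + x.a21 * y.a12 + x.a22 * y.a22 + x.a23 * y.a32, x.a20 * y.a03 + x.a21 * y.a13 + x.a22 * y.a23 + x.a23 * y.a33,
   x.a30 * y.a00 + x.a31 * y.a10 + x.a32 * y.a20 + x.a33 * y.a30, x.a30 * y.a01 + x.a31 * y.a11 + x.a32 * y.a21 + x.a33 * y.a31, x.a30 * y.a02 + x.a31 * y.a12 + x.a32 * y.a22 + x.a33 * y.a32, x.a30 * y.a03 + x.a31 * y.a13 + x.a32 * y.a23 + x.a33 * y.a33⟩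

/-- The identity. -/
def one4 : M4 K := ⟨1, 0, 0, 0, 0, 1, 0, 0, 0, 0, 1, 0, 0, 0, 0, 1⟩

/-- From a function. -/
def ofFn (f : Fin 4 → Fin 4 → K) : M4 K :=
  ⟨f 0 0, f 0 1, f 0 2, f 0 3, f 1 0, f 1 1, f 1 2, f 1 3, f 2 0, f 2 1, f 2 2, f 2 3, f 3 0, f 3 1, f 3 2, f 3 3⟩

/-- The certificate. -/
structure Cert (K : Type*) where
  (four gam top : K)
  (ui vi : M4 K)
  (basis : List K)
  (items : List (K × Fin 4 × Fin 4 × List (Fin 4)))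

/-- The first generator. -/
def u4 : M4 K := ⟨1, 1, 0, 0, 0, 1, 1, 0, 0, 0, 1, 1, 0, 0, 0, 1⟩

/-- The second generator. -/
def Cert.v (C : Cert K) : M4 K :=
  ⟨1, 0, 0, 0, C.four + C.gam, 1, 1, 0, C.gam + C.top, 0, 1, 1, C.top, 0, 0, 1⟩

/-- The transvection. -/
def Cert.tv (C : Cert K) : M4 K := mm4 (mm4 C.ui C.v) (mm4 C.ui C.v)

/-- A conjugate of the transvection. -/
def Cert.eval (C : Cert K) (w : List (Fin 4)) : M4 K :=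
  w.foldr (fun k m => mm4 (mm4 (![u4, C.v, C.ui, C.vi] k) m) (![C.ui, C.vi, u4, C.v] k)) C.tv

/-- The parameters available in a position, closed under a few sums. -/
def Cert.vals (C : Cert K) (i j : Fin 4) : List K :=
  let L := (C.items.filter fun t => t.2.1 = i ∧ t.2.2.1 = j).map Prod.fst
  let L2 := L.flatMap fun x => L.map fun y => x + y
  let L3 := L2.flatMap fun x => L.map fun y => x + y
  let L4 := L2.flatMap fun x => L2.map fun y => x + y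
  L ++ L2 ++ L3 ++ L4

/-- The checks. -/
def Cert.Valid (C : Cert K) : Prop :=
  mm4 u4 C.ui = one4 ∧ mm4 C.v C.vi = one4 ∧
  (∀ t ∈ C.items, t.2.1 ≠ t.2.2.1 ∧
    C.eval t.2.2.2 = ofFn fun r s => if r = s then 1 else if r = t.2.1 ∧ s = t.2.2.1 then t.1 else 0) ∧
  ∀ i j : Fin 4, i ≠ j → ∀ b ∈ C.basis, b ∈ C.vals i j

instance (C : Cert K) : Decidable C.Valid := by unfold Cert.Valid; infer_instance

variable {F : Type*} [Field F]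

/-- The matrix over `F`. -/
def toMat4 (ι : K → F) (x : M4 K) : Matrix (Fin 4) (Fin 4) F :=
  !![ι x.a00, ι x.a01, ι x.a02, ι x.a03; ι x.a10, ι x.a11, ι x.a12, ι x.a13;
     ι x.a20, ι x.a21, ι x.a22, ι x.a23; ι x.a30, ι x.a31, ι x.a32, ι x.a33]

set_option maxHeartbeats 1000000 in
theorem closure_of_cert (ι : K → F) (h0 : ι 0 = 0) (h1 : ι 1 = 1) (hadd : ∀ a b, ι (a + b) = ι a + ι b)
    (hmul : ∀ a b, ι (a * b) = ι a * ι b) (C : Cert K) (hC : C.Valid) (hfour : ι C.four = 4)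
    (hspan : AddSubgroup.closure {x | ∃ b ∈ C.basis, ι b = x} = ⊤) (v : SpecialLinearGroup (Fin 4) F)
    (hv : (v : Matrix (Fin 4) (Fin 4) F) = vMat (show 2 ≤ 4 by norm_num) ![-2, 4, ι C.gam, ι C.top]) :
    Subgroup.closure ({uMat 4 F, v} : Set (SpecialLinearGroup (Fin 4) F)) = ⊤ := by
  obtain ⟨hui, hvi, hitems, hbasis⟩ := hC
  have hmm : ∀ x y : M4 K, toMat4 ι (mm4 x y) = toMat4 ι x * toMat4 ι y := by
    intro x y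
    ext i j
    fin_cases i <;> fin_cases j <;> simp [toMat4, mm4, Matrix.mul_apply, Fin.sum_univ_four, hadd, hmul]
  have hone : toMat4 ι (one4 : M4 K) = 1 := by
    ext i j
    fin_cases i <;> fin_cases j <;> simp [toMat4, one4, h0, h1]
  have hu : toMat4 ι (u4 : M4 K) = (uMat 4 F : Matrix (Fin 4) (Fin 4) F) := by
    ext i j
    fin_cases i <;> fin_cases j <;> simp [toMat4, u4, coe_uMat, ThreeUnipotents.J, h0, h1]
  have hvM : (v : Matrix (Fin 4) (Fin 4) F) = toMat4 ι C.v := by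
    have hw : (![-2, 4, ι C.gam, ι C.top] : Fin 4 → F) - (2 : F) • Pi.single ⟨0, by norm_num⟩ 1 =
        ![-4, 4, ι C.gam, ι C.top] := by
      ext i; fin_cases i <;> simp; norm_num
    have hd : (1 + ThreeUnipotents.J 4 F) *ᵥ ![-4, 4, ι C.gam, ι C.top] =
        ![0, 4 + ι C.gam, ι C.gam + ι C.top, ι C.top] := by
      ext i
      rw [← coe_uMat, uMat_mulVec]
      fin_cases i <;> simp
    rw [hv, vMat, hw, hd]
    ext i j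
    simp only [Matrix.sub_apply, Matrix.add_apply, vecMulVec_apply]
    fin_cases i <;> fin_cases j <;>
      simp [toMat4, Cert.v, ThreeUnipotents.J, h0, h1, hadd, hfour]
  set H := Subgroup.closure ({uMat 4 F, v} : Set (SpecialLinearGroup (Fin 4) F))
  have huH : uMat 4 F ∈ H := Subgroup.subset_closure (Or.inl rfl)
  have hvH : v ∈ H := Subgroup.subset_closure (Or.inr rfl)
  have inv : ∀ (A : SpecialLinearGroup (Fin 4) F) (a b : M4 K), A.1 = toMat4 ι a → mm4 a b = one4 →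
      (A⁻¹ : SpecialLinearGroup (Fin 4) F).1 = toMat4 ι b := by
    intro A a b hA hab
    have hA' : IsUnit A.1 := (Matrix.isUnit_iff_isUnit_det _).2 (by rw [A.2]; exact isUnit_one)
    refine hA'.mul_right_injective ?_
    change (A * A⁻¹).1 = A.1 * toMat4 ι b
    rw [mul_inv_cancel, hA, ← hmm, hab, hone]
    rfl
  have iu := inv _ _ _ hu.symm hui
  have iv := inv _ _ _ hvM hvi
  have hev : ∀ w, ∃ M ∈ H, M.1 = toMat4 ι (C.eval w) := by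
    intro w
    induction w with
    | nil =>
      refine ⟨(uMat 4 F)⁻¹ * v * ((uMat 4 F)⁻¹ * v),
        H.mul_mem (H.mul_mem (H.inv_mem huH) hvH) (H.mul_mem (H.inv_mem huH) hvH), ?_⟩
      change ((uMat 4 F)⁻¹).1 * v.1 * (((uMat 4 F)⁻¹).1 * v.1) = toMat4 ι C.tv
      rw [Cert.tv, hmm, hmm, iu, hvM]
    | cons k w ih =>
      obtain ⟨M, hM, hMe⟩ := ih
      have hk : ∃ G ∈ H, G.1 = toMat4 ι (![u4, C.v, C.ui, C.vi] k) ∧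
          (G⁻¹).1 = toMat4 ι (![C.ui, C.vi, u4, C.v] k) := by
        fin_cases k
        · exact ⟨_, huH, hu.symm, iu⟩
        · exact ⟨_, hvH, hvM, iv⟩
        · exact ⟨_, H.inv_mem huH, iu, by rw [inv_inv]; exact hu.symm⟩
        · exact ⟨_, H.inv_mem hvH, iv, by rw [inv_inv]; exact hvM⟩
      obtain ⟨G, hG, hGe, hGi⟩ := hk
      refine ⟨G * M * G⁻¹, H.mul_mem (H.mul_mem hG hM) (H.inv_mem hG), ?_⟩
      change G.1 * M.1 * (G⁻¹).1 = toMat4 ι (mm4 (mm4 (![u4, C.v, C.ui, C.vi] k) (C.eval w)) (![C.ui, C.vi, u4, C.v] k))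
      rw [hmm, hmm, hGe, hMe, hGi]
  refine Cfsg.Lib.Classical.eq_top_of_transvection_mem H fun i j hij x => ?_
  let S : AddSubgroup F :=
    { carrier := {y | SpecialLinearGroup.transvection hij y ∈ H}
      zero_mem' := by
        have : SpecialLinearGroup.transvection hij (0 : F) = 1 :=
          Subtype.ext (by simp [SpecialLinearGroup.transvection_coe])
        show SpecialLinearGroup.transvection hij (0 : F) ∈ H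
        rw [this]; exact H.one_mem
      add_mem' := fun {y z} hy hz => by
        show SpecialLinearGroup.transvection hij (y + z) ∈ H
        rw [SpecialLinearGroup.transvection_add]; exact H.mul_mem hy hz
      neg_mem' := fun {y} hy => by
        show SpecialLinearGroup.transvection hij (-y) ∈ H
        rw [← SpecialLinearGroup.transvection_inv]; exact H.inv_mem hy }
  have hitem : ∀ y ∈ (C.items.filter fun t => t.2.1 = i ∧ t.2.2.1 = j).map Prod.fst, ι y ∈ S := by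
    intro y hy
    obtain ⟨t, ht, rfl⟩ := List.mem_map.1 hy
    obtain ⟨hmem, hcond⟩ := List.mem_filter.1 ht
    obtain ⟨hi, hj⟩ := of_decide_eq_true hcond
    subst hi
    subst hj
    obtain ⟨M, hM, hMe⟩ := hev t.2.2.2
    show SpecialLinearGroup.transvection hij (ι t.1) ∈ H
    convert hM using 1
    apply Subtype.ext
    rw [hMe, (hitems t hmem).2, transv_eq hij]
    have hof : ∀ f : Fin 4 → Fin 4 → K, toMat4 ι (ofFn f) = Matrix.of fun r s => ι (f r s) := by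
      intro f
      ext r s
      fin_cases r <;> fin_cases s <;> rfl
    rw [hof]
    ext r s
    simp only [Matrix.of_apply, apply_ite ι, h0, h1, Matrix.add_apply, Matrix.one_apply, Matrix.smul_apply,
      vecMulVec_apply, Pi.single_apply, smul_eq_mul]
    split_ifs <;> simp_all
  have hx : x ∈ AddSubgroup.closure {x | ∃ b ∈ C.basis, ι b = x} := hspan ▸ AddSubgroup.mem_top x
  refine (AddSubgroup.closure_le S).2 ?_ hx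
  rintro _ ⟨b, hb, rfl⟩
  have hb' := hbasis i j hij b hb
  simp only [Cert.vals, List.mem_append, List.mem_flatMap, List.mem_map] at hb'
  rcases hb' with ((h | ⟨y, hy, z, hz, rfl⟩) | ⟨y, ⟨y', hy', z', hz', rfl⟩, z, hz, rfl⟩) |
    ⟨y, ⟨y', hy', z', hz', rfl⟩, z, ⟨y'', hy'', z'', hz'', rfl⟩, rfl⟩
  · exact hitem b (List.mem_map.2 h)
  · rw [hadd]
    exact S.add_mem (hitem y (List.mem_map.2 hy)) (hitem z (List.mem_map.2 hz))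
  · rw [hadd, hadd]
    exact S.add_mem (S.add_mem (hitem y' (List.mem_map.2 hy')) (hitem z' (List.mem_map.2 hz')))
      (hitem z (List.mem_map.2 hz))
  · rw [hadd, hadd, hadd]
    exact S.add_mem (S.add_mem (hitem y' (List.mem_map.2 hy')) (hitem z' (List.mem_map.2 hz')))
      (S.add_mem (hitem y'' (List.mem_map.2 hy'')) (hitem z'' (List.mem_map.2 hz'')))

/-- The certificate for 3 elements. -/
def cert3 : Cert (ZMod 3) where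
  four := 1
  gam := 1
  top := 2
  ui := ⟨1, 2, 1, 2, 0, 1, 2, 1, 0, 0, 1, 2, 0, 0, 0, 1⟩
  vi := ⟨1, 0, 0, 0, 2, 1, 2, 1, 2, 0, 1, 2, 1, 0, 0, 1⟩
  basis := [1]
  items :=
    [ (2, 0, 1, [1, 1, 2, 3, 2]),
      (1, 0, 2, [1, 2, 3, 2, 2, 2, 2]),
      (1, 0, 3, [3, 0, 3, 2, 2]),
      (1, 1, 0, [2, 1, 2, 3, 3]),
      (2, 1, 2, [2, 3, 0, 1, 0, 0, 0, 0]),
      (1, 1, 3, [2, 1, 2, 1, 0, 3, 2]),
      (1, 2, 0, [1, 2, 3, 2, 2, 3, 3]),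
      (1, 2, 1, [1, 0, 3, 3, 2]),
      (1, 2, 3, [1, 0, 3, 2, 3, 3, 3]),
      (1, 3, 0, [0, 3, 3, 3]),
      (2, 3, 1, [3, 0, 0, 3, 3, 3]),
      (2, 3, 2, [3, 0, 0, 0, 3, 2]) ]

theorem cert3_valid : cert3.Valid := by decide +kernel

/-- The certificate for 5 elements. -/
def cert5 : Cert (ZMod 5) where
  four := 4
  gam := 2
  top := 4
  ui := ⟨1, 4, 1, 4, 0, 1, 4, 1, 0, 0, 1, 4, 0, 0, 0, 1⟩
  vi := ⟨1, 0, 0, 0, 1, 1, 4, 1, 3, 0, 1, 4, 1, 0, 0, 1⟩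
  basis := [1]
  items :=
    [ (3, 0, 1, [1, 1, 2, 3, 3, 2, 3, 0, 3, 3]),
      (3, 0, 2, [0, 1, 2, 1, 0, 1, 2, 2]),
      (4, 0, 3, [1, 2, 2, 1, 2, 2, 3, 2, 3, 2]),
      (4, 1, 0, [0, 3, 3, 0, 3, 3, 2, 3, 2, 3]),
      (2, 1, 2, [2, 1, 0, 0, 1, 1, 0, 1, 1, 2]),
      (4, 1, 3, [0, 3, 2, 3, 3, 2]),
      (3, 2, 0, [2, 1, 2, 3, 2, 3, 3]),
      (1, 2, 1, [3, 3, 2, 3, 3]),
      (1, 2, 3, [0, 1, 1, 2, 2, 1, 1, 2, 2, 3]),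
      (4, 3, 0, [0, 1, 0, 3, 2, 2, 3]),
      (1, 3, 1, [1, 2, 3, 0, 3, 2, 3, 3, 2, 2]),
      (2, 3, 2, [2, 3, 2, 1, 1, 0, 0, 3, 3, 2]) ]

theorem cert5_valid : cert5.Valid := by decide +kernel

/-- The certificate for 4 elements. -/
def cert4 : Cert G4 where
  four := ⟨0, 0⟩
  gam := ⟨0, 0⟩
  top := ⟨0, 1⟩
  ui := ⟨⟨1, 0⟩, ⟨1, 0⟩, ⟨1, 0⟩, ⟨1, 0⟩, ⟨0, 0⟩, ⟨1, 0⟩, ⟨1, 0⟩, ⟨1, 0⟩, ⟨0, 0⟩, ⟨0, 0⟩, ⟨1, 0⟩, ⟨1, 0⟩, ⟨0, 0⟩, ⟨0, 0⟩, ⟨0, 0⟩, ⟨1, 0⟩⟩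
  vi := ⟨⟨1, 0⟩, ⟨0, 0⟩, ⟨0, 0⟩, ⟨0, 0⟩, ⟨0, 0⟩, ⟨1, 0⟩, ⟨1, 0⟩, ⟨1, 0⟩, ⟨0, 0⟩, ⟨0, 0⟩, ⟨1, 0⟩, ⟨1, 0⟩, ⟨0, 1⟩, ⟨0, 0⟩, ⟨0, 0⟩, ⟨1, 0⟩⟩
  basis := [⟨1, 0⟩, ⟨0, 1⟩]
  items :=
    [ (⟨1, 1⟩, 0, 1, [3, 0, 0, 1, 1, 0, 1, 2]),
      (⟨1, 0⟩, 0, 1, [1, 0, 3, 0, 1, 2, 3, 0, 1, 0]),
      (⟨0, 1⟩, 0, 2, [3, 2, 1, 1, 2, 3, 0, 0, 1, 0, 0]),
      (⟨1, 0⟩, 0, 2, [3, 0, 0, 1, 1, 0, 1, 0, 1, 2, 1, 0]),
      (⟨1, 0⟩, 0, 3, [3, 0, 0, 1, 1, 2, 3, 0, 0, 3, 2]),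
      (⟨1, 1⟩, 0, 3, [1, 1, 0, 1, 0, 3, 2, 3, 0, 1, 0]),
      (⟨1, 0⟩, 1, 0, [0, 0, 3, 2, 3, 0, 1, 0, 3, 2]),
      (⟨0, 1⟩, 1, 0, [0, 1, 0, 3, 0, 1, 2, 3, 2, 3, 2]),
      (⟨0, 1⟩, 1, 2, [1, 1, 2, 3, 0, 0, 1, 2, 3]),
      (⟨1, 0⟩, 1, 2, [1, 0, 1, 1, 0, 0, 1, 0, 1, 1, 2]),
      (⟨1, 0⟩, 1, 3, [1, 0, 3, 2, 3, 0, 3, 2]),
      (⟨1, 1⟩, 1, 3, [1, 0, 1, 0, 3, 0, 1, 1, 0, 3]),
      (⟨0, 1⟩, 2, 0, [2, 3, 0, 1, 0, 0, 3, 2, 1, 2]),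
      (⟨1, 0⟩, 2, 0, [2, 3, 0, 3, 0, 1, 0, 0, 3, 2, 3]),
      (⟨0, 1⟩, 2, 1, [0, 1, 0, 3, 2, 1, 0, 0, 1, 0, 0]),
      (⟨1, 0⟩, 2, 1, [0, 3, 0, 1, 2, 1, 0, 3, 2, 1, 0, 0]),
      (⟨0, 1⟩, 2, 3, [0, 1, 0, 1, 1, 2, 1, 0, 0]),
      (⟨1, 0⟩, 2, 3, [0, 3, 0, 1, 0, 0, 3, 2, 1, 0, 0]),
      (⟨1, 0⟩, 3, 0, [2, 3, 0, 1, 0, 0, 1, 0]),
      (⟨0, 1⟩, 3, 0, [3, 2, 3, 0, 3, 2, 1, 0, 3, 2]),
      (⟨0, 1⟩, 3, 1, []),
      (⟨1, 0⟩, 3, 1, [1, 0, 1, 0, 1, 0, 1, 0, 3, 2, 1, 2]),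
      (⟨1, 0⟩, 3, 2, [1, 2, 1, 0, 0, 3, 2, 1, 1, 2, 3]),
      (⟨0, 1⟩, 3, 2, [1, 1, 2, 3, 0, 1, 2, 1, 1, 2, 3]) ]

theorem cert4_valid : cert4.Valid := by decide +kernel

end Cfsg.Lib.Known.TwoUnipotents
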