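import Cfsg.Agent.Known.TwoUnipotentsCert

/-!
The two regular unipotents generating `SL n`, `n ≥ 4`.
-/

namespace Cfsg.Lib.Known.TwoUnipotents

open Matrix Cfsg.Lib.Known.ThreeUnipotents Cfsg.Lib.Known.SLThree

variable {F : Type*} [Field F] {n : ℕ}

/-- The second generator exists, is regular, and is conjugate to the first when the class matches. -/
theorem exists_v (hn : 4 ≤ n) (a : Fin n → F) (c : F) (h0 : a ⟨0, by omega⟩ = -2) (h1 : a ⟨1, by omega⟩ = 4)
    (hl : a ⟨n - 1, by omega⟩ * c = 1) :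
    ∃ v : SpecialLinearGroup (Fin n) F, (v : Matrix (Fin n) (Fin n) F) = vMat (show 2 ≤ n by omega) a ∧
      RegUnip v ∧ ((-1) ^ (n - 1) * c = 1 → ∃ g, v = g * uMat n F * g⁻¹) := by
  classical
  set C := conjMat hn a c
  have hconj := conj_eq hn a c h0 h1 hl
  have hc : c ≠ 0 := fun h => by rw [h, mul_zero] at hl; exact zero_ne_one hl
  have hdet : C.det ≠ 0 := by rw [det_conjMat]; exact mul_ne_zero (pow_ne_zero _ (by simp)) hc
  have hdu : (1 + J n F).det = 1 := (uMat n F).2
  set V := vMat (show 2 ≤ n by omega) a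
  have hV : V.det = 1 := by
    have h := congrArg Matrix.det hconj
    rw [Matrix.det_mul, Matrix.det_mul, hdu, mul_one] at h
    exact mul_right_cancel₀ hdet (by rw [one_mul]; exact h.symm)
  refine ⟨⟨V, hV⟩, rfl, ?_, ?_⟩
  · have hpow : ∀ m, (V - 1) ^ m * C = C * J n F ^ m := by
      intro m
      induction m with
      | zero => simp
      | succ m ih =>
        rw [pow_succ, pow_succ', Matrix.mul_assoc, sub_mul, one_mul, ← hconj, mul_add, mul_one, add_sub_cancel_left,
          ← Matrix.mul_assoc, ih, Matrix.mul_assoc, ← pow_succ', ← pow_succ]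
    have hCu : IsUnit C := (Matrix.isUnit_iff_isUnit_det C).2 hdet.isUnit
    refine ⟨⟨n, ?_⟩, fun h => ?_⟩
    · apply hCu.mul_left_injective
      show (V - 1) ^ n * C = 0 * C
      rw [hpow, zero_mul, show J n F ^ n = 0 by ext i j; rw [J_pow_apply, if_neg (by omega)]; rfl, mul_zero]
    · have h' := hpow (n - 1)
      rw [show (V - 1) ^ (n - 1) = 0 from h, zero_mul] at h'
      have h2 : J n F ^ (n - 1) = 0 := by
        apply hCu.mul_right_injective
        show C * J n F ^ (n - 1) = C * 0
        rw [← h', mul_zero]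
      have h3 := congrFun (congrFun h2 ⟨0, by omega⟩) ⟨n - 1, by omega⟩
      rw [J_pow_apply, if_pos (by simp)] at h3
      exact one_ne_zero h3
  · intro hcl
    let G : SpecialLinearGroup (Fin n) F := ⟨C, by rw [det_conjMat]; exact hcl⟩
    exact ⟨G, eq_mul_inv_iff_mul_eq.2 (Subtype.ext hconj.symm)⟩

/-- The vector `(-2, 4, γ, δ, ε, 0, …, 0, t)`. -/
def param (n : ℕ) (γ δ ε t : F) : Fin n → F := fun i =>
  if i.1 = 0 then -2 else if i.1 = 1 then 4 else if i.1 + 1 = n then t else
    if i.1 = 2 then γ else if i.1 = 3 then δ else if i.1 = 4 then ε else 0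

theorem param_values (hn : 6 ≤ n) (γ δ ε t : F) :
    param n γ δ ε t ⟨0, by omega⟩ = -2 ∧ param n γ δ ε t ⟨1, by omega⟩ = 4 ∧
    param n γ δ ε t ⟨2, by omega⟩ = γ ∧ param n γ δ ε t ⟨3, by omega⟩ = δ ∧
    param n γ δ ε t ⟨4, by omega⟩ = ε ∧ param n γ δ ε t ⟨n - 1, by omega⟩ = t := by
  have h2 : ¬ (2 + 1 = n) := by omega
  have h3 : ¬ (3 + 1 = n) := by omega
  have h4 : ¬ (4 + 1 = n) := by omega
  have l0 : ¬ (n - 1 = 0) := by omega
  have l1 : ¬ (n - 1 = 1) := by omega
  have l2 : n - 1 + 1 = n := by omega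
  refine ⟨by simp [param], by simp [param], by simp [param, h2], by simp [param, h3], by simp [param, h4],
    by simp [param, l0, l1, l2]⟩

theorem dot_param_six (hn : 6 ≤ n) (ψ : Fin n → F) (γ δ ε t : F) :
    ψ ⬝ᵥ param n γ δ ε t = ψ ⟨0, by omega⟩ * (-2) + ψ ⟨1, by omega⟩ * 4 + ψ ⟨2, by omega⟩ * γ +
      ψ ⟨3, by omega⟩ * δ + ψ ⟨4, by omega⟩ * ε + ψ ⟨n - 1, by omega⟩ * t := by
  rw [dotProduct, ← Finset.sum_subset (Finset.subset_univ ({⟨0, by omega⟩, ⟨1, by omega⟩, ⟨2, by omega⟩,
      ⟨3, by omega⟩, ⟨4, by omega⟩, ⟨n - 1, by omega⟩} : Finset (Fin n)))]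
  · obtain ⟨p0, p1, p2, p3, p4, pl⟩ := param_values hn γ δ ε t
    rw [Finset.sum_insert, Finset.sum_insert, Finset.sum_insert, Finset.sum_insert, Finset.sum_pair,
      p0, p1, p2, p3, p4, pl]
    · ring
    all_goals (simp [Fin.ext_iff]; try omega)
  · intro i _ hi
    simp [Fin.ext_iff] at hi
    obtain ⟨a0, a1, a2, a3, a4, al⟩ := hi
    have : ¬ (i.1 + 1 = n) := by omega
    simp [param, a0, a1, a2, a3, a4, this]

theorem psi1_last (hn : 2 ≤ n) :
    psi1 n F ⟨n - 1, by omega⟩ = (-1) ^ (n - 1) := by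
  simp only [psi1]; rw [if_neg (by omega)]

/-- Arithmetic of the prime field. -/
theorem full_of_natCast {F : Type*} [Field F] (h : ∀ x : F, ∃ k : ℕ, (k : F) = x) (r : F) :
    ∀ S : AddSubgroup F, (1 : F) ∈ S → (∀ x ∈ S, x * r ∈ S) → ∀ x, x ∈ S := by
  intro S h1 _ x
  obtain ⟨k, rfl⟩ := h x
  rw [← nsmul_one]
  exact S.nsmul_mem h1 k

/-- A primitive element gives everything. -/
theorem full_of_gen {F : Type*} [Field F] [Fintype F] (r : F)
    (h : ∀ x : F, x ≠ 0 → ∃ k : ℕ, r ^ k = x) :
    ∀ S : AddSubgroup F, (1 : F) ∈ S → (∀ x ∈ S, x * r ∈ S) → ∀ x, x ∈ S := by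
  intro S h1 hmul x
  rcases eq_or_ne x 0 with rfl | hx
  · exact S.zero_mem
  obtain ⟨k, rfl⟩ := h x hx
  clear hx
  induction k with
  | zero => rwa [pow_zero]
  | succ k ih => rw [pow_succ]; exact hmul _ ih

/-- An element outside every proper subfield gives everything. -/
theorem full_of_not_subfield {F : Type*} [Field F] [Fintype F] (r : F)
    (h : ∀ K : Subfield F, K ≠ ⊤ → r ∉ K) :
    ∀ S : AddSubgroup F, (1 : F) ∈ S → (∀ x ∈ S, x * r ∈ S) → ∀ x, x ∈ S := by
  intro S h1 hmul x
  let T : Subring F :=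
    { carrier := {t | ∀ s ∈ S, t * s ∈ S}
      mul_mem' := fun ha hb s hs => by rw [mul_assoc]; exact ha _ (hb s hs)
      one_mem' := fun s hs => by rwa [one_mul]
      add_mem' := fun ha hb s hs => by rw [add_mul]; exact S.add_mem (ha s hs) (hb s hs)
      zero_mem' := fun s hs => by rw [zero_mul]; exact S.zero_mem
      neg_mem' := fun ha s hs => by rw [neg_mul]; exact S.neg_mem (ha s hs) }
  have hq : 2 ≤ Fintype.card F := Fintype.one_lt_card
  have hinv : ∀ y ∈ T, y⁻¹ ∈ T := by
    intro y hy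
    rcases eq_or_ne y 0 with rfl | hy0
    · rw [_root_.inv_zero]; exact T.zero_mem
    have e : y⁻¹ = y ^ (Fintype.card F - 2) := by
      refine inv_eq_of_mul_eq_one_right ?_
      rw [← pow_succ', show Fintype.card F - 2 + 1 = Fintype.card F - 1 by omega]
      exact FiniteField.pow_card_sub_one_eq_one y hy0
    rw [e]
    exact T.pow_mem hy _
  let K : Subfield F := { T with inv_mem' := hinv }
  by_cases hK : K = ⊤
  · have hx : x ∈ K := hK ▸ Subfield.mem_top x
    simpa using hx 1 h1
  · exact absurd (fun s hs => by rw [mul_comm]; exact hmul s hs : r ∈ K) (h K hK)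

open Polynomial in
/-- `r = (γ + 8)² (24 - γ)` avoids the subfields for some `γ`. -/
theorem exists_gamma [Fintype F] (hq : 5 < Fintype.card F) (hnp : ¬ (Fintype.card F).Prime) :
    ∃ γ : F, γ ≠ 8 ∧ γ + 8 ≠ 0 ∧ ∀ K : Subfield F, K ≠ ⊤ → (γ + 8) ^ 2 * (24 - γ) ∉ K := by
  classical
  obtain ⟨p, hp⟩ := CharP.exists F
  obtain ⟨m, hprime, hm⟩ := FiniteField.card F p
  have := Fact.mk hprime
  set e : ℕ := (m : ℕ) with he
  have he2 : 2 ≤ e := by
    by_contra h
    have : e = 1 := by have := m.pos; omega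
    rw [hm, this, pow_one] at hnp
    exact hnp hprime
  set q := Fintype.card F
  have hp2 : 2 ≤ p := hprime.two_le
  set D := Finset.Icc 1 (e / 2)
  let P : ℕ → F[X] := fun d => ((X + C 8) ^ 2 * (C 24 - X)) ^ p ^ d - (X + C 8) ^ 2 * (C 24 - X)
  have hdeg : ((X + C 8) ^ 2 * (C (24 : F) - X)).natDegree = 3 := by
    have key : ∀ a b : F, ((X + C a) ^ 2 * (C b - X)).natDegree = 3 := fun a b => by
      rw [show C b - X = -(X - C b) by ring, mul_neg, natDegree_neg,
        natDegree_mul (pow_ne_zero _ (X_add_C_ne_zero a)) (X_sub_C_ne_zero b), natDegree_pow, natDegree_X_add_C,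
        natDegree_X_sub_C]
    exact key 8 24
  have hP : ∀ d ∈ D, P d ≠ 0 ∧ (P d).natDegree ≤ 3 * p ^ d := by
    intro d hd
    have hd1 : 1 < p ^ d := Nat.one_lt_pow (by simp [D] at hd; omega) hprime.one_lt
    have hlt : ((X + C 8) ^ 2 * (C (24 : F) - X)).natDegree <
        (((X + C 8) ^ 2 * (C (24 : F) - X)) ^ p ^ d).natDegree := by
      rw [natDegree_pow, hdeg]; omega
    have h' : (P d).natDegree = 3 * p ^ d := by
      simp only [P]
      rw [natDegree_sub_eq_left_of_natDegree_lt hlt, natDegree_pow, hdeg, mul_comm]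
    exact ⟨fun h => by rw [h, natDegree_zero] at h'; omega, h'.le⟩
  -- the bad parameters
  set B : Finset F := D.biUnion fun d => (P d).roots.toFinset
  have hfix : ∀ γ : F, ∀ d ∈ D, ((γ + 8) ^ 2 * (24 - γ)) ^ p ^ d = (γ + 8) ^ 2 * (24 - γ) → γ ∈ B := by
    intro γ d hd h
    refine Finset.mem_biUnion.2 ⟨d, hd, ?_⟩
    rw [Multiset.mem_toFinset, mem_roots (hP d hd).1]
    simp [P, h]
  -- every prime field element is bad, and the subfields are small
  have hsub : ∀ K : Subfield F, K ≠ ⊤ → ∀ x ∈ K, ∃ d ∈ D, x ^ p ^ d = x := by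
    intro K hK x hx
    have : Fintype K := Fintype.ofFinite _
    have hpK : CharP K p := (algebraMap K F).charP Subtype.val_injective p
    obtain ⟨d, -, hd⟩ := FiniteField.card K p
    refine ⟨d, ?_, ?_⟩
    · have hle := sq_card_le K hK
      rw [Nat.card_eq_fintype_card, hd, ← pow_mul] at hle
      replace hle := hle.trans_eq hm
      have := (Nat.pow_le_pow_iff_right hprime.one_lt).1 hle
      have := d.pos
      simp [D]
      omega
    · have := congrArg K.subtype (FiniteField.pow_card (⟨x, hx⟩ : K))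
      rw [hd] at this
      simpa using this
  have h1D : 1 ∈ D := by simp [D]; omega
  have hcard : B.card < q := by
    by_cases h4 : e ≤ 3
    · have hD : D = {1} := by ext d; simp [D]; omega
      have h1 : B.card ≤ 3 * p := by
        rw [show B = (P 1).roots.toFinset by simp [B, hD]]
        refine (Multiset.toFinset_card_le _).trans ((card_roots' _).trans ((hP 1 h1D).2.trans ?_))
        simp
      have h2 : p ^ 2 ≤ q := hm ▸ Nat.pow_le_pow_right hprime.pos he2
      have hgt : 5 < q := hq
      rcases Nat.lt_or_ge 3 p with h3 | h3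
      · nlinarith
      · -- `p ∈ {2, 3}`
        rcases (show p = 2 ∨ p = 3 by omega) with rfl | rfl
        · rcases (show e = 2 ∨ e = 3 by omega) with h | h <;> rw [h] at hm <;> norm_num at hm <;> omega
        · rcases (show e = 2 ∨ e = 3 by omega) with h | h
          · -- nine elements: two of the roots coincide
            have h9 : q = 9 := by rw [hm, h]; norm_num
            have h3F : (3 : F) = 0 := by exact_mod_cast CharP.cast_eq_zero F 3
            have hBle : B.card ≤ 8 := by
              have hB : B = (P 1).roots.toFinset := by simp [B, hD]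
              have hfac : P 1 = ((X + C 8) ^ 2 * (C (24 : F) - X)) *
                  ((((X + C 8) ^ 2 * (C (24 : F) - X)) - 1) * (((X + C 8) ^ 2 * (C (24 : F) - X)) + 1)) := by
                simp only [P]; ring
              rw [hB, hfac, roots_mul (hfac ▸ (hP 1 h1D).1), Multiset.toFinset_add]
              refine (Finset.card_union_le _ _).trans ?_
              have a1 : (((X + C 8) ^ 2 * (C (24 : F) - X))).roots.toFinset.card ≤ 2 := by
                refine (Finset.card_le_card (t := {-8, 24}) ?_).trans Finset.card_le_two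
                intro z hz
                rw [Multiset.mem_toFinset, mem_roots (fun h0 => by rw [h0] at hdeg; simp at hdeg)] at hz
                simp only [IsRoot.def, eval_mul, eval_pow, eval_add, eval_sub, eval_X, eval_C, mul_eq_zero,
                  pow_eq_zero_iff (two_ne_zero : (2 : ℕ) ≠ 0)] at hz
                simp only [Finset.mem_insert, Finset.mem_singleton]
                rcases hz with hz | hz
                · exact Or.inl (eq_neg_of_add_eq_zero_left hz)
                · exact Or.inr (sub_eq_zero.1 hz).symm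
              have a2 : ((((X + C 8) ^ 2 * (C (24 : F) - X)) - 1) *
                  (((X + C 8) ^ 2 * (C (24 : F) - X)) + 1)).roots.toFinset.card ≤ 6 := by
                refine (Multiset.toFinset_card_le _).trans ((card_roots' _).trans ?_)
                refine natDegree_mul_le.trans ?_
                have b1 : ((((X + C 8) ^ 2 * (C (24 : F) - X)) - 1)).natDegree ≤ 3 :=
                  (natDegree_sub_le _ _).trans (by simp [hdeg])
                have b2 : ((((X + C 8) ^ 2 * (C (24 : F) - X)) + 1)).natDegree ≤ 3 :=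
                  (natDegree_add_le _ _).trans (by simp [hdeg])
                omega
              omega
            omega
          · have : q = 27 := by rw [hm, h]; norm_num
            omega
    · -- at least the fourth power
      have h1 : B.card ≤ ∑ d ∈ D, 3 * p ^ d := Finset.card_biUnion_le.trans (Finset.sum_le_sum fun d hd =>
        (Multiset.toFinset_card_le _).trans ((card_roots' _).trans (hP d hd).2))
      have hgeom : ∀ N, ∑ d ∈ Finset.Icc 1 N, p ^ d < 2 * p ^ N := by
        intro N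
        induction N with
        | zero => simp
        | succ N ih =>
          rw [Finset.sum_Icc_succ_top (by omega)]
          have : 2 * p ^ N ≤ p ^ (N + 1) := by rw [pow_succ, mul_comm (p ^ N)]; exact Nat.mul_le_mul_right _ hp2
          omega
      have h2 : ∑ d ∈ D, 3 * p ^ d < 6 * p ^ (e / 2) := by
        rw [← Finset.mul_sum]; have := hgeom (e / 2); simp only [D]; omega
      rcases Nat.lt_or_ge (p ^ (e / 2)) 6 with h | h
      · have hp' : p = 2 := by
          by_contra hne
          have : 3 ^ 2 ≤ p ^ (e / 2) := (Nat.pow_le_pow_left (by omega) 2).trans (Nat.pow_le_pow_right hprime.pos (by omega))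
          omega
        subst hp'
        have he' : e / 2 = 2 := by
          by_contra hne
          have : 2 ^ 3 ≤ 2 ^ (e / 2) := Nat.pow_le_pow_right (by norm_num) (by omega)
          omega
        have hD : D = {1, 2} := by ext d; simp [D, he']; omega
        have hsubB : B ⊆ (P 2).roots.toFinset := by
          intro z hz
          simp only [B, hD, Finset.biUnion_insert, Finset.singleton_biUnion, Finset.mem_union] at hz
          rcases hz with hz | hz
          · rw [Multiset.mem_toFinset, mem_roots (hP 1 h1D).1] at hz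
            rw [Multiset.mem_toFinset, mem_roots (hP 2 (by simp [hD])).1]
            simp [P, sub_eq_zero] at hz ⊢
            rw [show (4 : ℕ) = 2 * 2 from rfl, pow_mul ((z + 8) ^ 2 * (24 - z)) 2 2, hz, hz]
          · exact hz
        have h3 : B.card ≤ 12 := (Finset.card_le_card hsubB).trans
          ((Multiset.toFinset_card_le _).trans ((card_roots' _).trans (hP 2 (by simp [hD])).2))
        have : 2 ^ 4 ≤ q := by rw [hm]; exact Nat.pow_le_pow_right (by norm_num) (by omega)
        omega
      · have : p ^ (e / 2) * p ^ (e / 2) ≤ q := by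
          rw [hm, ← pow_add]; exact Nat.pow_le_pow_right hprime.pos (by omega)
        nlinarith
  obtain ⟨γ, -, hγ⟩ := Finset.exists_mem_notMem_of_card_lt_card
    (show B.card < (Finset.univ : Finset F).card by rwa [Finset.card_univ])
  have hnat : ∀ k : ℕ, γ ≠ (k : F) ∧ γ ≠ -(k : F) := by
    intro k
    have hk : (k : F) ^ p ^ 1 = k := by
      rw [pow_one]; exact map_natCast (frobenius F p) k
    have hknK : ∀ x : F, x ^ p = x → ((x + 8) ^ 2 * (24 - x)) ^ p ^ 1 = (x + 8) ^ 2 * (24 - x) := by
      intro x hx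
      rw [pow_one]
      show frobenius F p ((x + 8) ^ 2 * (24 - x)) = _
      rw [map_mul, map_pow, map_add, map_sub, map_ofNat, map_ofNat, frobenius_def, hx]
    rw [pow_one] at hk
    refine ⟨fun h => hγ (h ▸ hfix _ 1 h1D (hknK _ hk)), fun h => hγ (h ▸ hfix _ 1 h1D (hknK _ ?_))⟩
    show frobenius F p (-(k : F)) = _
    rw [map_neg, frobenius_def, hk]
  refine ⟨γ, by simpa using (hnat 8).1, fun h => (hnat 8).2 (by simpa using eq_neg_of_add_eq_zero_left h), ?_⟩
  intro K hK hmem
  obtain ⟨d, hd, hfixd⟩ := hsub K hK _ hmem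
  exact hγ (hfix γ d hd hfixd)

/-- The conclusion, with conjugate generators. -/
def Conjugate (n : ℕ) (F : Type*) [Field F] : Prop :=
  ∃ u g : SpecialLinearGroup (Fin n) F, RegUnip u ∧
    Subgroup.closure ({u, g * u * g⁻¹} : Set (SpecialLinearGroup (Fin n) F)) = ⊤

/-- The conclusion. -/
def Pair (n : ℕ) (F : Type*) [Field F] : Prop :=
  ∃ u v : SpecialLinearGroup (Fin n) F, RegUnip u ∧ RegUnip v ∧
    Subgroup.closure ({u, v} : Set (SpecialLinearGroup (Fin n) F)) = ⊤

theorem conjugate_of (hn : 4 ≤ n) (a : Fin n → F) (h0 : a ⟨0, by omega⟩ = -2) (h1 : a ⟨1, by omega⟩ = 4)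
    (hl : a ⟨n - 1, by omega⟩ = (-1) ^ (n - 1))
    (h : ∀ v : SpecialLinearGroup (Fin n) F, (v : Matrix (Fin n) (Fin n) F) = vMat (show 2 ≤ n by omega) a →
      Subgroup.closure ({uMat n F, v} : Set (SpecialLinearGroup (Fin n) F)) = ⊤) : Conjugate n F := by
  have e : ((-1 : F) ^ (n - 1)) * (-1) ^ (n - 1) = 1 := by rw [← mul_pow]; simp
  obtain ⟨v, hv, -, hg⟩ := exists_v hn a ((-1) ^ (n - 1)) h0 h1 (by rw [hl, e])
  obtain ⟨g, rfl⟩ := hg e
  exact ⟨uMat n F, g, uMat_regular (by omega), h _ hv⟩

theorem pair_of (hn : 4 ≤ n) (a : Fin n → F) (h0 : a ⟨0, by omega⟩ = -2) (h1 : a ⟨1, by omega⟩ = 4)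
    (hl : a ⟨n - 1, by omega⟩ ≠ 0)
    (h : ∀ v : SpecialLinearGroup (Fin n) F, (v : Matrix (Fin n) (Fin n) F) = vMat (show 2 ≤ n by omega) a →
      Subgroup.closure ({uMat n F, v} : Set (SpecialLinearGroup (Fin n) F)) = ⊤) : Pair n F := by
  obtain ⟨v, hv, hr, -⟩ := exists_v hn a _ h0 h1 (mul_inv_cancel₀ hl)
  exact ⟨uMat n F, v, uMat_regular (by omega), hr, h v hv⟩

variable [Fintype F]

/-- A generator of the multiplicative group. -/
theorem exists_gen : ∃ ω : F, ω ≠ 0 ∧ ∀ x : F, x ≠ 0 → ∃ k : ℕ, ω ^ k = x := by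
  obtain ⟨ω, hω⟩ := IsCyclic.exists_generator (α := Fˣ)
  refine ⟨ω, ω.ne_zero, fun x hx => ?_⟩
  obtain ⟨k, hk⟩ := mem_powers_iff_mem_zpowers.mpr (hω (Units.mk0 x hx))
  exact ⟨k, by simpa using congrArg Units.val hk⟩

theorem sign_mul : ((-1 : F) ^ (n - 1)) * (-1) ^ (n - 1) = 1 := by rw [← mul_pow]; simp

theorem conjugate_six (hn : 6 ≤ n) : Conjugate n F := by
  obtain ⟨ω, hω0, hω⟩ := exists_gen (F := F)
  set δ : F := ω - 40 - ((n - 1 : ℕ) : F) - 2
  obtain ⟨p0, p1, -, -, -, pl⟩ := param_values hn (-7) δ (δ + 14) ((-1 : F) ^ (n - 1))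
  refine conjugate_of (by omega) (param n (-7) δ (δ + 14) ((-1) ^ (n - 1))) p0 p1 pl ?_
  intro v hv
  refine closure_eq_top (by omega) _ p0 p1 ?_ ?_ ?_ ?_ v hv
  · rw [pl]; exact pow_ne_zero _ (by simp)
  · rw [(param_values hn (-7) δ (δ + 14) ((-1 : F) ^ (n - 1))).2.2.1]; norm_num
  · rw [dot_param_six hn, psi1_last (by omega), sign_mul]
    simp [psi1]
    norm_num
  · have e2 := (param_values hn (-7) δ (δ + 14) ((-1 : F) ^ (n - 1))).2.2.1
    have eh : psi2 n F ⬝ᵥ param n (-7) δ (δ + 14) ((-1) ^ (n - 1)) = ω := by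
      rw [dot_param_six hn]
      have : psi2 n F ⟨n - 1, by omega⟩ * (-1) ^ (n - 1) = ((n - 1 : ℕ) : F) + 2 := by
        simp only [psi2]; rw [mul_comm, ← mul_assoc, sign_mul, one_mul]
      rw [this]
      simp only [psi2, δ]
      norm_num
      ring
    rw [e2, eh, show (-7 + 8 : F) ^ 2 * ω = ω by norm_num]
    exact full_of_gen ω hω

theorem pair_five_four (hnp : ¬ (Fintype.card F).Prime) (hn : n = 4 ∨ n = 5) (h4 : n = 4 → 5 < Fintype.card F) :
    Pair n F := by
  rcases hn with rfl | rfl
  · obtain ⟨γ, h8, hg, hK⟩ := exists_gamma (h4 rfl) hnp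
    refine pair_of le_rfl ![-2, 4, γ, γ - 8] rfl rfl (sub_ne_zero.2 h8) (fun v hv => ?_)
    refine closure_eq_top le_rfl _ rfl rfl (sub_ne_zero.2 h8) hg ?_ ?_ v hv
    · simp [psi1, dotProduct, Fin.sum_univ_four]; ring
    · have eh : psi2 4 F ⬝ᵥ ![-2, 4, γ, γ - 8] = 24 - γ := by
        simp [psi2, dotProduct, Fin.sum_univ_four]; ring
      rw [eh]
      exact full_of_not_subfield _ hK
  · obtain ⟨ω, hω0, hω⟩ := exists_gen (F := F)
    have ht : ω - 31 ≠ 0 := by
      intro h
      apply hnp
      obtain ⟨p, hp⟩ := CharP.exists F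
      obtain ⟨m, hprime, hm⟩ := FiniteField.card F p
      have := Fact.mk hprime
      have hωp : ω ^ p = ω := by
        rw [sub_eq_zero.1 h]; exact map_ofNat (frobenius F p) 31
      have hall : ∀ x : F, x ^ p = x := by
        intro x
        rcases eq_or_ne x 0 with rfl | hx
        · exact zero_pow hprime.ne_zero
        obtain ⟨k, rfl⟩ := hω x hx
        rw [← pow_mul, mul_comm, pow_mul, hωp]
      have hne := FiniteField.X_pow_card_sub_X_ne_zero F hprime.one_lt
      have hle : Fintype.card F ≤ p := by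
        classical
        rw [← Finset.card_univ]
        refine (Finset.card_le_card (fun x _ => ?_ :
          (Finset.univ : Finset F) ⊆ (Polynomial.X ^ p - Polynomial.X : Polynomial F).roots.toFinset)).trans
          ((Multiset.toFinset_card_le _).trans ((Polynomial.card_roots' _).trans
            (FiniteField.X_pow_card_sub_X_natDegree_eq F hprime.one_lt).le))
        simp [hne, hall x]
      have : p ≤ Fintype.card F := hm ▸ Nat.le_self_pow m.ne_zero p
      rw [show Fintype.card F = p by omega]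
      exact hprime
    set t := ω - 31
    refine pair_of (by norm_num) ![-2, 4, -7, t - 15, t] rfl rfl (by exact ht) (fun v hv => ?_)
    refine closure_eq_top (by norm_num) _ rfl rfl (by exact ht) ?_ ?_ ?_ v hv
    · show (-7 : F) + 8 ≠ 0
      norm_num
    · simp [psi1, dotProduct, Fin.sum_univ_five]; ring
    · have eh : psi2 5 F ⬝ᵥ ![-2, 4, -7, t - 15, t] = ω := by
        simp [psi2, dotProduct, Fin.sum_univ_five, t]; ring
      rw [eh]
      show ∀ S : AddSubgroup F, (1 : F) ∈ S → (∀ x ∈ S, x * (((-7 : F) + 8) ^ 2 * ω) ∈ S) → ∀ x, x ∈ S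
      rw [show ((-7 : F) + 8) ^ 2 * ω = ω by norm_num]
      exact full_of_gen ω hω

theorem pair_four_four (hq : Fintype.card F = 4) : Pair 4 F := by
  classical
  have : CharP F 2 := charP_of_card_eq_prime_pow (show Fintype.card F = 2 ^ 2 by rw [hq]; norm_num)
  have h2 : (2 : F) = 0 := CharP.cast_eq_zero F 2
  obtain ⟨w, -, hw⟩ := Finset.exists_mem_notMem_of_card_lt_card
    (show ({0, 1} : Finset F).card < (Finset.univ : Finset F).card by
      rw [Finset.card_univ, hq, Finset.card_pair zero_ne_one]; norm_num)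
  simp only [Finset.mem_insert, Finset.mem_singleton, not_or] at hw
  have h3 : w ^ 3 = 1 := by
    have := FiniteField.pow_card_sub_one_eq_one w hw.1
    rwa [hq] at this
  have hrel : w ^ 2 + w + 1 = 0 := by
    have : (w - 1) * (w ^ 2 + w + 1) = 0 := by linear_combination h3
    exact (mul_eq_zero.1 this).resolve_left (sub_ne_zero.2 hw.2)
  let φ : ZMod 2 →+* F := ZMod.castHom dvd_rfl F
  let ι : G4 → F := fun x => φ x.a + φ x.b * w
  have hadd : ∀ a b, ι (a + b) = ι a + ι b := fun a b => by
    show φ (a.a + b.a) + φ (a.b + b.b) * w = _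
    simp only [map_add, ι]; ring
  have hmul : ∀ a b, ι (a * b) = ι a * ι b := fun a b => by
    show φ (a.a * b.a + a.b * b.b) + φ (a.a * b.b + a.b * b.a + a.b * b.b) * w = _
    simp only [map_add, map_mul, ι]
    linear_combination (-(φ a.b * φ b.b)) * hrel + (φ a.b * φ b.b * w + φ a.b * φ b.b) * h2
  have hι0 : ι 0 = 0 := by show φ 0 + φ 0 * w = 0; simp
  have hι1 : ι 1 = 1 := by show φ 1 + φ 0 * w = 1; simp
  have hfour : ι cert4.four = 4 := by
    show φ 0 + φ 0 * w = 4
    simp; linear_combination (-2 : F) * h2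
  have htop : ι cert4.top = w := by show φ 0 + φ 1 * w = w; simp
  refine pair_of le_rfl ![-2, 4, ι cert4.gam, ι cert4.top] rfl rfl ?_ (fun v hv => ?_)
  · show ι cert4.top ≠ 0
    rw [htop]; exact hw.1
  refine closure_of_cert ι hι0 hι1 hadd hmul cert4 cert4_valid hfour (eq_top_iff.2 fun x _ => ?_) v hv
  set S := AddSubgroup.closure {x | ∃ b ∈ cert4.basis, ι b = x}
  have m1 : (1 : F) ∈ S := AddSubgroup.subset_closure ⟨_, List.mem_cons_self, hι1⟩
  have mw : w ∈ S := AddSubgroup.subset_closure ⟨_, List.mem_cons_of_mem _ List.mem_cons_self, htop⟩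
  have hall : ({0, 1, w, w ^ 2} : Finset F) = Finset.univ := Finset.eq_univ_of_card _ (by
    rw [hq]
    have e1 : w ^ 2 ≠ w := fun e => hw.2 (mul_left_cancel₀ hw.1 (by linear_combination e))
    have e2 : w ^ 2 ≠ 1 := fun e => hw.2 (by linear_combination h3 - w * e)
    simp [Ne.symm hw.1, Ne.symm hw.2, e1.symm, e2.symm, (pow_ne_zero 2 hw.1).symm])
  have hx := Finset.mem_univ x
  rw [← hall] at hx
  simp only [Finset.mem_insert, Finset.mem_singleton] at hx
  rcases hx with rfl | rfl | rfl | rfl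
  · exact S.zero_mem
  · exact m1
  · exact mw
  · rw [show w ^ 2 = -(w + 1) by linear_combination hrel]
    exact S.neg_mem (S.add_mem mw m1)

theorem conjugate_prime (hn : 4 ≤ n) (hp : (Fintype.card F).Prime) : Conjugate n F := by
  classical
  set p := Fintype.card F with hpdef
  have := Fact.mk hp
  have := charP_of_card_eq_prime (p := p) (R := F) rfl
  let ι : ZMod p →+* F := ZMod.castHom dvd_rfl F
  have hbij : Function.Bijective ι := (Fintype.bijective_iff_injective_and_card _).2
    ⟨ι.injective, by rw [ZMod.card]⟩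
  have hnat : ∀ x : F, ∃ k : ℕ, (k : F) = x := fun x => by
    obtain ⟨k, rfl⟩ := hbij.2 x
    exact ⟨k.val, by rw [← map_natCast ι, ZMod.natCast_zmod_val]⟩
  rcases Nat.lt_or_ge 5 n with h6 | h6
  · exact conjugate_six h6
  rcases (show n = 4 ∨ n = 5 by omega) with rfl | rfl
  · by_cases h35 : p = 3 ∨ p = 5
    · have small : ∀ (m : ℕ) [Fact m.Prime] [CharP F m] (C : Cert (ZMod m)), C.Valid →
          ((ZMod.cast C.gam : F) = 7) → ((ZMod.cast C.top : F) = -1) → ((ZMod.cast C.four : F) = 4) →
          C.basis = [1] → Conjugate 4 F := by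
        intro m _ _ C hC h7 h1' h4 hb
        let κ : ZMod m →+* F := ZMod.castHom dvd_rfl F
        refine conjugate_of le_rfl ![-2, 4, 7, -1] rfl rfl (by norm_num) (fun v hv => ?_)
        refine closure_of_cert κ (map_zero _) (map_one _) (map_add _) (map_mul _) C hC h4
          (eq_top_iff.2 fun x _ => ?_) v ?_
        · obtain ⟨k, rfl⟩ := hnat x
          rw [← nsmul_one]
          exact AddSubgroup.nsmul_mem _ (AddSubgroup.subset_closure (show (1 : F) ∈ {y : F | ∃ b ∈ C.basis, κ b = y} from ⟨1, by rw [hb]; exact List.mem_cons_self, map_one κ⟩)) k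
        · rw [show κ C.gam = 7 from h7, show κ C.top = -1 from h1']
          exact hv
      rcases h35 with h | h
      · have := Fact.mk Nat.prime_three
        have : CharP F 3 := h ▸ ‹CharP F p›
        have h3F : (3 : F) = 0 := by exact_mod_cast CharP.cast_eq_zero F 3
        refine small 3 cert3 cert3_valid ?_ ?_ ?_ rfl
        · show (ZMod.castHom dvd_rfl F : ZMod 3 →+* F) 1 = 7
          rw [map_one]; linear_combination (-2 : F) * h3F
        · show (ZMod.castHom dvd_rfl F : ZMod 3 →+* F) 2 = -1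
          rw [map_ofNat]; linear_combination h3F
        · show (ZMod.castHom dvd_rfl F : ZMod 3 →+* F) 1 = 4
          rw [map_one]; linear_combination (-1 : F) * h3F
      · have := Fact.mk (show Nat.Prime 5 by norm_num)
        have : CharP F 5 := h ▸ ‹CharP F p›
        have h5F : (5 : F) = 0 := by exact_mod_cast CharP.cast_eq_zero F 5
        refine small 5 cert5 cert5_valid ?_ ?_ ?_ rfl
        · show (ZMod.castHom dvd_rfl F : ZMod 5 →+* F) 2 = 7
          rw [map_ofNat]; linear_combination (-1 : F) * h5F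
        · show (ZMod.castHom dvd_rfl F : ZMod 5 →+* F) 4 = -1
          rw [map_ofNat]; linear_combination h5F
        · show (ZMod.castHom dvd_rfl F : ZMod 5 →+* F) 4 = 4
          rw [map_ofNat]
    · refine conjugate_of le_rfl ![-2, 4, 7, -1] rfl rfl (by norm_num) (fun v hv => ?_)
      refine closure_eq_top le_rfl _ rfl rfl (by simp) ?_ ?_ (full_of_natCast hnat _) v hv
      · show (7 : F) + 8 ≠ 0
        intro h
        have h15 : ((15 : ℕ) : F) = 0 := by push_cast; linear_combination h
        rw [CharP.cast_eq_zero_iff F p] at h15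
        rcases (Nat.Prime.dvd_mul hp).1 (show p ∣ 3 * 5 from h15) with h' | h'
        · exact h35 (Or.inl ((Nat.prime_dvd_prime_iff_eq hp Nat.prime_three).1 h'))
        · exact h35 (Or.inr ((Nat.prime_dvd_prime_iff_eq hp (by norm_num)).1 h'))
      · simp [psi1, dotProduct, Fin.sum_univ_four]; norm_num
  · refine conjugate_of (by norm_num) ![-2, 4, -7, -14, 1] rfl rfl (by norm_num) (fun v hv => ?_)
    refine closure_eq_top (by norm_num) _ rfl rfl one_ne_zero ?_ ?_ (full_of_natCast hnat _) v hv
    · show (-7 : F) + 8 ≠ 0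
      norm_num
    · simp [psi1, dotProduct, Fin.sum_univ_five]; norm_num

theorem pair (hn : 4 ≤ n) : Pair n F := by
  have key : Conjugate n F → Pair n F := by
    rintro ⟨u, g, hu, h⟩
    refine ⟨u, g * u * g⁻¹, hu, ?_, h⟩
    have hinv : (g : Matrix (Fin n) (Fin n) F) * (g⁻¹ : SpecialLinearGroup (Fin n) F).1 = 1 :=
      congrArg Subtype.val (mul_inv_cancel g)
    have hinv' : (g⁻¹ : SpecialLinearGroup (Fin n) F).1 * (g : Matrix (Fin n) (Fin n) F) = 1 :=
      congrArg Subtype.val (inv_mul_cancel g)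
    have e : ((g * u * g⁻¹ : SpecialLinearGroup (Fin n) F) : Matrix (Fin n) (Fin n) F) - 1 =
        g.1 * (u.1 - 1) * (g⁻¹ : SpecialLinearGroup (Fin n) F).1 := by
      rw [mul_sub, mul_one, sub_mul, hinv]; rfl
    have hp : ∀ m, ((g * u * g⁻¹ : SpecialLinearGroup (Fin n) F).1 - 1) ^ m =
        g.1 * (u.1 - 1) ^ m * (g⁻¹ : SpecialLinearGroup (Fin n) F).1 := by
      intro m
      induction m with
      | zero => rw [pow_zero, pow_zero, Matrix.mul_one, hinv]
      | succ m ih =>
        rw [pow_succ, ih, e, pow_succ]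
        simp only [← Matrix.mul_assoc]
        rw [Matrix.mul_assoc (g.1 * (u.1 - 1) ^ m) _ g.1, hinv', Matrix.mul_one]
    obtain ⟨⟨k, hk⟩, h2⟩ := hu
    refine ⟨⟨k, by rw [hp, hk, Matrix.mul_zero, Matrix.zero_mul]⟩, fun h0 => h2 ?_⟩
    rw [hp] at h0
    calc (u.1 - 1) ^ (n - 1)
        = (g⁻¹ : SpecialLinearGroup (Fin n) F).1 * g.1 * (u.1 - 1) ^ (n - 1) *
            ((g⁻¹ : SpecialLinearGroup (Fin n) F).1 * g.1) := by rw [hinv', Matrix.one_mul, Matrix.mul_one]
      _ = (g⁻¹ : SpecialLinearGroup (Fin n) F).1 *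
            (g.1 * (u.1 - 1) ^ (n - 1) * (g⁻¹ : SpecialLinearGroup (Fin n) F).1) * g.1 := by
          simp only [Matrix.mul_assoc]
      _ = 0 := by rw [h0, Matrix.mul_zero, Matrix.zero_mul]
  by_cases hp : (Fintype.card F).Prime
  · exact key (conjugate_prime hn hp)
  rcases Nat.lt_or_ge 5 n with h6 | h6
  · exact key (conjugate_six h6)
  by_cases h4 : n = 4 ∧ Fintype.card F ≤ 5
  · obtain ⟨rfl, hle⟩ := h4
    refine pair_four_four ?_
    obtain ⟨p, hpc⟩ := CharP.exists F
    obtain ⟨m, hprime, hm⟩ := FiniteField.card F p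
    have := Fintype.one_lt_card (α := F)
    interval_cases hq : Fintype.card F <;> first | rfl | exact absurd (by norm_num) hp
  · exact pair_five_four hp (by omega) (fun h => by omega)

end Cfsg.Lib.Known.TwoUnipotents
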