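import Cfsg.Agent.Known.SympJordan
import Mathlib

/-! The centraliser in the general linear group of a unipotent matrix of given Jordan type. -/

set_option autoImplicit false
set_option linter.style.haveILetI false

open Matrix

namespace Cfsg.Lib.UnipCentGL

universe u

variable {F : Type u} [Field F] {t : ℕ} (d : Fin t → ℕ)

/-- The free coordinates of a commuting matrix. -/
abbrev Pos : Type := {z : Fin t × (Σ k, Fin (d k)) // d z.2.1 ≤ (z.2.2 : ℕ) + d z.1}

variable {d}

/-- Coefficients, extended by zero. -/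
def coef (w : Pos d → F) (k : Fin t) (y : Σ k, Fin (d k)) : F :=
  if h : d y.1 ≤ (y.2 : ℕ) + d k then w ⟨(k, y), h⟩ else 0

/-- The commuting matrix with given coefficients. -/
def toMat (w : Pos d → F) : Matrix (Σ k, Fin (d k)) (Σ k, Fin (d k)) F :=
  Matrix.of fun a b =>
    if (b.2 : ℕ) ≤ (a.2 : ℕ) then coef w b.1 ⟨a.1, ⟨(a.2 : ℕ) - b.2, lt_of_le_of_lt (Nat.sub_le _ _) a.2.isLt⟩⟩ else 0

theorem mk_eq {a : Fin t} {x y : Fin (d a)} (h : (x : ℕ) = y) : (⟨a, x⟩ : Σ k, Fin (d k)) = ⟨a, y⟩ := by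
  rw [Fin.ext h]

theorem mul_J_apply (g : Matrix (Σ k, Fin (d k)) (Σ k, Fin (d k)) F) (a b : Σ k, Fin (d k)) :
    (g * (UnipClasses.J d : Matrix (Σ k, Fin (d k)) (Σ k, Fin (d k)) F)) a b = if h : (b.2 : ℕ) + 1 < d b.1 then g a ⟨b.1, ⟨b.2 + 1, h⟩⟩ else 0 := by
  rw [Matrix.mul_apply]
  split_ifs with h
  · rw [Finset.sum_eq_single (⟨b.1, ⟨b.2 + 1, h⟩⟩ : Σ k, Fin (d k))]
    · simp [UnipClasses.J]
    · rintro ⟨c, z⟩ _ hne
      rw [UnipClasses.J, if_neg, mul_zero]
      rintro ⟨h1, h2⟩
      dsimp only at h1 h2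
      subst h1
      exact hne (mk_eq h2)
    · simp
  · refine Finset.sum_eq_zero fun c _ => ?_
    rw [UnipClasses.J, if_neg, mul_zero]
    rintro ⟨h1, h2⟩
    have := c.2.isLt
    have : d c.1 = d b.1 := congrArg d h1
    omega

theorem J_mul_apply (g : Matrix (Σ k, Fin (d k)) (Σ k, Fin (d k)) F) (a b : Σ k, Fin (d k)) :
    ((UnipClasses.J d : Matrix (Σ k, Fin (d k)) (Σ k, Fin (d k)) F) * g) a b = if 1 ≤ (a.2 : ℕ) then g ⟨a.1, ⟨a.2 - 1, by omega⟩⟩ b else 0 := by
  rw [← dite_eq_ite (P := 1 ≤ (a.2 : ℕ)), show ((UnipClasses.J d : Matrix (Σ k, Fin (d k)) (Σ k, Fin (d k)) F) * g) a b = ((UnipClasses.J d : Matrix (Σ k, Fin (d k)) (Σ k, Fin (d k)) F) *ᵥ fun c => g c b) a from rfl,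
    UnipClasses.J_mulVec]

theorem toMat_commute (w : Pos d → F) :
    toMat w * (UnipClasses.J d : Matrix (Σ k, Fin (d k)) (Σ k, Fin (d k)) F) = UnipClasses.J d * toMat w := by
  ext ⟨a, x⟩ ⟨b, y⟩
  rw [mul_J_apply, J_mul_apply]
  simp only [toMat, Matrix.of_apply]
  by_cases h1 : (y : ℕ) + 1 < d b
  · rw [dif_pos h1]
    by_cases h2 : 1 ≤ (x : ℕ)
    · rw [if_pos h2]
      by_cases h3 : (y : ℕ) + 1 ≤ x
      · rw [if_pos h3, if_pos (by omega)]
        congr 1
        exact mk_eq (by show (x : ℕ) - ((y : ℕ) + 1) = (x : ℕ) - 1 - y; omega)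
      · rw [if_neg h3, if_neg (by omega)]
    · rw [if_neg (by omega), if_neg h2]
  · rw [dif_neg h1]
    by_cases h2 : 1 ≤ (x : ℕ)
    · rw [if_pos h2]
      by_cases h3 : (y : ℕ) ≤ (x : ℕ) - 1
      · rw [if_pos h3, coef, dif_neg]
        show ¬ d a ≤ (x : ℕ) - 1 - y + d b
        have := x.isLt
        have := y.isLt
        omega
      · rw [if_neg h3]
    · rw [if_neg h2]

theorem exists_coef {g : Matrix (Σ k, Fin (d k)) (Σ k, Fin (d k)) F} (hd : ∀ k, 1 ≤ d k)
    (hg : g * UnipClasses.J d = UnipClasses.J d * g) : ∃ w : Pos d → F, toMat w = g := by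
  refine ⟨fun z => g z.1.2 ⟨z.1.1, ⟨0, hd _⟩⟩, ?_⟩
  -- columns are images of the first columns
  have hcol : ∀ (a b : Σ k, Fin (d k)),
      g a b = if h : (b.2 : ℕ) ≤ (a.2 : ℕ) then g ⟨a.1, ⟨a.2 - b.2, by omega⟩⟩ ⟨b.1, ⟨0, hd _⟩⟩ else 0 := by
    intro a b
    obtain ⟨b, ⟨y, hy⟩⟩ := b
    induction y generalizing a with
    | zero => rw [dif_pos (Nat.zero_le _)]; congr 1
    | succ y ih =>
      have h := congrFun (congrFun hg a) ⟨b, ⟨y, by omega⟩⟩
      rw [mul_J_apply, J_mul_apply, dif_pos (show y + 1 < d b from hy)] at h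
      dsimp only at h ih ⊢
      rw [h]
      by_cases h2 : 1 ≤ (a.2 : ℕ)
      · rw [if_pos h2, ih _ (by omega)]
        by_cases h3 : y + 1 ≤ (a.2 : ℕ)
        · rw [dif_pos (show y ≤ (a.2 : ℕ) - 1 by omega), dif_pos h3]
          congr 1
          exact mk_eq (by show (a.2 : ℕ) - 1 - y = a.2 - (y + 1); omega)
        · rw [dif_neg (show ¬ y ≤ (a.2 : ℕ) - 1 by omega), dif_neg h3]
      · rw [if_neg h2, dif_neg (show ¬ y + 1 ≤ (a.2 : ℕ) by omega)]
  ext a b
  rw [hcol a b]
  simp only [toMat, Matrix.of_apply]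
  by_cases h : (b.2 : ℕ) ≤ (a.2 : ℕ)
  · rw [if_pos h, dif_pos h, coef]
    split_ifs with h2
    · rfl
    · -- the first column lies in the kernel of a power
      symm
      obtain ⟨a, x⟩ := a
      obtain ⟨b, y⟩ := b
      dsimp only at h h2 ⊢
      have h3 := congrFun (congrFun hg ⟨a, ⟨(x : ℕ) - y + d b, by omega⟩⟩) ⟨b, ⟨d b - 1, by have := hd b; omega⟩⟩
      rw [mul_J_apply, J_mul_apply, dif_neg (show ¬ d b - 1 + 1 < d b by omega),
        if_pos (show 1 ≤ (x : ℕ) - y + d b by have := hd b; omega), hcol,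
        dif_pos (show d b - 1 ≤ (x : ℕ) - y + d b - 1 by omega)] at h3
      rw [h3]
      congr 1
      exact mk_eq (by show (x : ℕ) - y = (x : ℕ) - y + d b - 1 - (d b - 1); have := hd b; omega)
  · rw [if_neg h, dif_neg h]

theorem toMat_injective (hd : ∀ k, 1 ≤ d k) : Function.Injective (toMat (F := F) (d := d)) := by
  intro w w' h
  funext z
  obtain ⟨⟨k, a, x⟩, hz⟩ := z
  have := congrFun (congrFun h ⟨a, x⟩) ⟨k, ⟨0, hd k⟩⟩
  simpa [toMat, coef, hz] using this

variable (d) in
/-- The tops of the chains. -/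
def top (hd : ∀ k, 1 ≤ d k) (k : Fin t) : Σ k, Fin (d k) := ⟨k, ⟨d k - 1, by have := hd k; omega⟩⟩

/-- The matrix induced on the socle. -/
def socle (hd : ∀ k, 1 ≤ d k) (w : Pos d → F) : Matrix (Fin t) (Fin t) F :=
  Matrix.of fun a b => toMat w (top d hd a) (top d hd b)

theorem socle_apply (hd : ∀ k, 1 ≤ d k) (w : Pos d → F) (a b : Fin t) :
    socle hd w a b = if h : d b ≤ d a then w ⟨(b, ⟨a, ⟨d a - d b, by have := hd b; omega⟩⟩), by
      show d a ≤ d a - d b + d b; omega⟩ else 0 := by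
  simp only [socle, toMat, Matrix.of_apply, top]
  by_cases h : d b ≤ d a
  · rw [if_pos (by have := hd a; have := hd b; omega), dif_pos h, coef, dif_pos (show d a ≤ d a - 1 - (d b - 1) + d b by have := hd b; omega)]
    congr 1
    exact Subtype.ext (Prod.ext rfl (mk_eq (by show d a - 1 - (d b - 1) = d a - d b; have := hd b; omega)))
  · rw [if_neg (by have := hd a; omega), dif_neg h]

theorem isUnit_iff [Finite F] (hd : ∀ k, 1 ≤ d k) (w : Pos d → F) :
    IsUnit (toMat w) ↔ ∀ a : ℕ, ((socle hd w).toSquareBlock (fun k => OrderDual.toDual (d k)) (OrderDual.toDual a)).det ≠ 0 := by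
  classical
  have htri : (socle hd w).BlockTriangular (fun k => OrderDual.toDual (d k)) := fun i j hij => by
    rw [socle_apply, dif_neg (show ¬ d j ≤ d i from not_le.2 hij)]
  have hblocks : (socle hd w).det ≠ 0 ↔
      ∀ a : ℕ, ((socle hd w).toSquareBlock (fun k => OrderDual.toDual (d k)) (OrderDual.toDual a)).det ≠ 0 := by
    rw [htri.det, Finset.prod_ne_zero_iff]
    refine ⟨fun h a => ?_, fun h a _ => h _⟩
    by_cases ha : ∃ k, d k = a
    · obtain ⟨k, hk⟩ := ha
      exact h _ (Finset.mem_image.2 ⟨k, Finset.mem_univ _, by rw [hk]⟩)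
    · haveI : IsEmpty {k // OrderDual.toDual (d k) = OrderDual.toDual a} :=
        ⟨fun k => ha ⟨k, OrderDual.toDual.injective k.2⟩⟩
      rw [Matrix.det_isEmpty]
      exact one_ne_zero
  rw [← hblocks]
  -- kernel vectors supported on the tops
  have hker : ∀ v, UnipClasses.J d *ᵥ v = (0 : (Σ k, Fin (d k)) → F) → ∀ x, v x ≠ 0 → x = top d hd x.1 := by
    intro v hv x hx
    by_contra hne
    have hlt : (x.2 : ℕ) + 1 < d x.1 := by
      by_contra hcon
      exact hne (mk_eq (by show (x.2 : ℕ) = d x.1 - 1; omega))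
    have := congrFun hv ⟨x.1, ⟨x.2 + 1, hlt⟩⟩
    rw [UnipClasses.J_mulVec, dif_pos (show 1 ≤ (x.2 : ℕ) + 1 by omega)] at this
    exact hx (by simpa using this)
  have hmv : ∀ v, UnipClasses.J d *ᵥ v = (0 : (Σ k, Fin (d k)) → F) → ∀ a,
      (toMat w *ᵥ v) (top d hd a) = (socle hd w *ᵥ fun k => v (top d hd k)) a := by
    intro v hv a
    show ∑ x, toMat w (top d hd a) x * v x = ∑ k, socle hd w a k * v (top d hd k)
    refine (Finset.sum_of_injOn (fun k => top d hd k) (fun k _ l _ h => congrArg Sigma.fst h) (fun k _ => Finset.mem_univ _)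
      (fun x _ hx => ?_) fun k _ => rfl).symm
    by_contra hne
    exact hx ⟨x.1, Finset.mem_univ _, (hker v hv x (right_ne_zero_of_mul hne)).symm⟩
  have hJker : ∀ v, UnipClasses.J d *ᵥ v = (0 : (Σ k, Fin (d k)) → F) → UnipClasses.J d *ᵥ (toMat w *ᵥ v) = 0 := by
    intro v hv
    rw [mulVec_mulVec, ← toMat_commute, ← mulVec_mulVec, hv, mulVec_zero]
  constructor
  · intro hu
    by_contra hdet
    obtain ⟨u, hu0, hu1⟩ := Matrix.exists_mulVec_eq_zero_iff.2 hdet
    let v : (Σ k, Fin (d k)) → F := fun x => if x = top d hd x.1 then u x.1 else 0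
    have hv : UnipClasses.J d *ᵥ v = (0 : (Σ k, Fin (d k)) → F) := by
      funext x
      rw [UnipClasses.J_mulVec, Pi.zero_apply]
      split_ifs with h
      · refine if_neg fun e => ?_
        have e' := congrArg (fun z : Σ k, Fin (d k) => (z.2 : ℕ)) e
        have := x.2.isLt
        simp only [top] at e'
        omega
      · rfl
    have hvt : (fun k => v (top d hd k)) = u := funext fun k => if_pos rfl
    have h0 : toMat w *ᵥ v = 0 := by
      funext x
      by_contra hne
      rw [hker _ (hJker v hv) x hne, hmv v hv, hvt, hu1] at hne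
      exact hne rfl
    have hinj : Function.Injective (toMat w *ᵥ ·) := Matrix.mulVec_injective_iff_isUnit.2 hu
    refine hu0 ?_
    rw [← hvt, hinj (h0.trans (mulVec_zero (toMat w)).symm)]
    rfl
  · intro hdet
    refine Matrix.mulVec_injective_iff_isUnit.1 fun v v' hvv => sub_eq_zero.1 ?_
    have hz : toMat w *ᵥ (v - v') = 0 := by rw [mulVec_sub, show toMat w *ᵥ v = toMat w *ᵥ v' from hvv, sub_self]
    have key : ∀ (j : ℕ) z, UnipClasses.J d ^ j *ᵥ z = (0 : (Σ k, Fin (d k)) → F) → toMat w *ᵥ z = 0 → z = 0 := by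
      intro j
      induction j with
      | zero => intro z hz _; rwa [pow_zero, one_mulVec] at hz
      | succ j ih =>
        intro z hz1 hz2
        have hJz : UnipClasses.J d *ᵥ z = (0 : (Σ k, Fin (d k)) → F) := by
          refine ih _ (by rw [mulVec_mulVec, ← pow_succ, hz1]) ?_
          rw [mulVec_mulVec, toMat_commute, ← mulVec_mulVec, hz2, mulVec_zero]
        have hs : (fun k => z (top d hd k)) = 0 := by
          by_contra hne
          refine hdet (Matrix.exists_mulVec_eq_zero_iff.1 ⟨_, hne, funext fun a => ?_⟩)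
          rw [← hmv z hJz, hz2, Pi.zero_apply, Pi.zero_apply]
        funext x
        by_contra hne
        rw [hker z hJz x hne] at hne
        exact hne (congrFun hs x.1)
    refine key (∑ k, d k) _ ?_ hz
    rw [UnipClasses.J_pow_eq_zero d fun k => Finset.single_le_sum (f := d) (fun i _ => Nat.zero_le _) (Finset.mem_univ k),
      zero_mulVec]

variable (d) in
/-- Index of the square blocks among the coordinates. -/
def IsTopPos (z : Pos d) : Prop := d z.1.1 = d z.1.2.1 ∧ (z.1.2.2 : ℕ) = 0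

theorem card_units [Fintype F] (hd : ∀ k, 1 ≤ d k) :
    Nat.card {w : Pos d → F // IsUnit (toMat w)} =
      Fintype.card F ^ ((∑ k, ∑ l, min (d k) (d l)) - ∑ k, (Finset.univ.filter fun l => d l = d k).card) *
        ∏ a ∈ Finset.range (Finset.univ.sup d + 1), Nat.card (GL (Fin (Finset.univ.filter fun l => d l = a).card) F) := by
  classical
  let R := Finset.range (Finset.univ.sup d + 1)
  have hR : ∀ k, d k ∈ R := fun k => Finset.mem_range.2 (Nat.lt_succ_of_le (Finset.le_sup (Finset.mem_univ k)))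
  let blk : ℕ → Type := fun a => {k : Fin t // OrderDual.toDual (d k) = OrderDual.toDual a}
  let P0 := {z : Pos d // IsTopPos d z}
  let e0 : (Σ a : R, blk a × blk a) ≃ P0 :=
    { toFun := fun s => ⟨⟨(s.2.2.1, ⟨s.2.1.1, ⟨0, hd _⟩⟩), by
          show d s.2.1.1 ≤ 0 + d s.2.2.1
          rw [OrderDual.toDual.injective s.2.1.2, OrderDual.toDual.injective s.2.2.2, zero_add]⟩,
        (OrderDual.toDual.injective s.2.2.2).trans (OrderDual.toDual.injective s.2.1.2).symm, rfl⟩
      invFun := fun z => ⟨⟨d z.1.1.1, hR _⟩, ⟨z.1.1.2.1, congrArg OrderDual.toDual z.2.1.symm⟩, ⟨z.1.1.1, rfl⟩⟩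
      left_inv := fun s => by
        obtain ⟨⟨a, ha⟩, ⟨x, hx⟩, ⟨y, hy⟩⟩ := s
        obtain rfl : d y = a := OrderDual.toDual.injective hy
        rfl
      right_inv := fun z => by
        obtain ⟨⟨⟨k, ⟨a, x⟩⟩, hz⟩, h1, h2⟩ := z
        exact Subtype.ext (Subtype.ext (Prod.ext rfl (mk_eq h2.symm))) }
  have hdet : ∀ w : Pos d → F, IsUnit (toMat w) ↔
      ∀ a : R, (Matrix.of fun x y : blk a => w (e0 ⟨a, x, y⟩).1).det ≠ 0 := by
    intro w
    rw [isUnit_iff hd]
    have heq : ∀ a : ℕ, ∀ ha : a ∈ R, (socle hd w).toSquareBlock (fun k => OrderDual.toDual (d k)) (OrderDual.toDual a) =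
        Matrix.of fun x y : blk a => w (e0 ⟨⟨a, ha⟩, x, y⟩).1 := by
      intro a ha
      ext x y
      have hxy : d y.1 = d x.1 := (OrderDual.toDual.injective y.2).trans (OrderDual.toDual.injective x.2).symm
      show socle hd w x.1 y.1 = _
      rw [socle_apply, dif_pos hxy.le]
      congr 1
      exact Subtype.ext (Prod.ext rfl (mk_eq (by show d x.1 - d y.1 = 0; omega)))
    refine ⟨fun h a => by rw [← heq a a.2]; exact h a, fun h a => ?_⟩
    by_cases ha : a ∈ R
    · rw [heq a ha]; exact h ⟨a, ha⟩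
    · haveI : IsEmpty {k // OrderDual.toDual (d k) = OrderDual.toDual a} :=
        ⟨fun k => ha (OrderDual.toDual.injective k.2 ▸ hR k.1)⟩
      rw [Matrix.det_isEmpty]
      exact one_ne_zero
  let S := Equiv.piEquivPiSubtypeProd (IsTopPos d) (fun _ : Pos d => F)
  have h1 : Nat.card {w : Pos d → F // IsUnit (toMat w)} =
      Nat.card ((∀ a : R, {M : Matrix (blk a) (blk a) F // M.det ≠ 0}) × ({z : Pos d // ¬ IsTopPos d z} → F)) := by
    let E : (Pos d → F) ≃ (∀ a : R, Matrix (blk a) (blk a) F) × ({z : Pos d // ¬ IsTopPos d z} → F) :=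
      S.trans (Equiv.prodCongr ((Equiv.arrowCongr e0.symm (Equiv.refl F)).trans
        ((Equiv.piCurry fun (a : R) (_ : blk a × blk a) => F).trans (Equiv.piCongrRight fun a => Equiv.curry _ _ _)))
        (Equiv.refl _))
    refine Nat.card_congr ((E.subtypeEquiv (q := fun p => ∀ a, (p.1 a).det ≠ 0) fun w => ?_).trans
      ((Equiv.prodSubtypeFstEquivSubtypeProd (p := fun M : ∀ a : R, Matrix (blk a) (blk a) F => ∀ a, (M a).det ≠ 0)).trans
        (Equiv.prodCongr (Equiv.subtypePiEquivPi (p := fun (a : R) (M : Matrix (blk a) (blk a) F) => M.det ≠ 0)) (Equiv.refl _))))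
    exact hdet w
  have hblk : ∀ a : ℕ, Fintype.card (blk a) = (Finset.univ.filter fun l => d l = a).card := fun a => by
    rw [Fintype.card_subtype]
    exact congrArg Finset.card (Finset.filter_congr fun k _ => OrderDual.toDual.injective.eq_iff)
  have h2 : ∀ a : R, Nat.card {M : Matrix (blk a) (blk a) F // M.det ≠ 0} =
      Nat.card (GL (Fin (Finset.univ.filter fun l => d l = (a : ℕ)).card) F) := by
    intro a
    let g := Fintype.equivFinOfCardEq (hblk a)
    refine Nat.card_congr (((Matrix.reindex g g).subtypeEquiv (q := fun M => M.det ≠ 0) fun M => by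
      rw [Matrix.det_reindex_self]).trans ?_)
    exact
      { toFun := fun M => Matrix.GeneralLinearGroup.mkOfDetNeZero M.1 M.2
        invFun := fun G => ⟨G.1, ((Matrix.isUnit_iff_isUnit_det _).1 G.isUnit).ne_zero⟩
        left_inv := fun M => rfl
        right_inv := fun G => Units.ext rfl }
  have hc0 : Nat.card P0 = ∑ k, (Finset.univ.filter fun l => d l = d k).card := by
    rw [← Nat.card_congr e0, Nat.card_sigma,
      ← Finset.sum_fiberwise_of_maps_to' (fun k _ => hR k) (fun a => (Finset.univ.filter fun l => d l = a).card),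
      ← Finset.sum_coe_sort R]
    refine Finset.sum_congr rfl fun a _ => ?_
    rw [Nat.card_prod, Nat.card_eq_fintype_card, hblk, Finset.sum_const, smul_eq_mul]
  have hP : Nat.card (Pos d) = ∑ k, ∑ l, min (d k) (d l) := by
    rw [Nat.card_congr (Equiv.subtypeProdEquivSigmaSubtype
      (fun (k : Fin t) (y : Σ k, Fin (d k)) => d y.1 ≤ (y.2 : ℕ) + d k)), Nat.card_sigma]
    refine Finset.sum_congr rfl fun k _ => ?_
    rw [Nat.card_congr (show {y : Σ l, Fin (d l) // d y.1 ≤ (y.2 : ℕ) + d k} ≃ Σ l, {x : Fin (d l) // d l ≤ (x : ℕ) + d k} from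
      { toFun := fun y => ⟨y.1.1, y.1.2, y.2⟩
        invFun := fun s => ⟨⟨s.1, s.2.1⟩, s.2.2⟩
        left_inv := fun y => rfl
        right_inv := fun s => rfl }), Nat.card_sigma]
    refine Finset.sum_congr rfl fun l _ => ?_
    rw [Nat.card_congr (show {x : Fin (d l) // d l ≤ (x : ℕ) + d k} ≃ Fin (min (d k) (d l)) from
      { toFun := fun x => ⟨d l - 1 - x.1, by have := x.1.isLt; have := x.2; omega⟩
        invFun := fun z => ⟨⟨d l - 1 - z, by have := z.isLt; omega⟩, by
          have := z.isLt; show d l ≤ d l - 1 - (z : ℕ) + d k; omega⟩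
        left_inv := fun x => Subtype.ext (Fin.ext (by
          have := x.1.isLt; show d l - 1 - (d l - 1 - (x.1 : ℕ)) = x.1; omega))
        right_inv := fun z => Fin.ext (by
          have := z.isLt; show d l - 1 - (d l - 1 - (z : ℕ)) = z; omega) }), Nat.card_fin]
  have hsplit : Nat.card (Pos d) = Nat.card P0 + Nat.card {z : Pos d // ¬ IsTopPos d z} := by
    rw [← Nat.card_sum]
    exact Nat.card_congr (Equiv.sumCompl _).symm
  rw [h1, Nat.card_prod, Nat.card_pi, Nat.card_fun, Nat.card_eq_fintype_card (α := F), mul_comm]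
  congr 1
  · congr 1; omega
  · rw [← Finset.prod_coe_sort R]
    exact Finset.prod_congr rfl fun a _ => h2 a

/-- Centraliser orders of unipotent elements of general linear groups. -/
theorem card_centralizer [Fintype F] {q : ℕ} (hF : Fintype.card F = q) (d : Fin t → ℕ) (hd : ∀ k, 1 ≤ d k) :
    Nat.card {g : GL ((k : Fin t) × Fin (d k)) F // (g : Matrix ((k : Fin t) × Fin (d k)) ((k : Fin t) × Fin (d k)) F) *
        Cfsg.jordanTypeMatrix d F = Cfsg.jordanTypeMatrix d F * (g : Matrix ((k : Fin t) × Fin (d k)) ((k : Fin t) × Fin (d k)) F)} =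
      q ^ (2 * (∑ i ∈ Finset.range (Finset.univ.sup d + 1), ∑ j ∈ Finset.range (Finset.univ.sup d + 1),
          if i < j then i * (Finset.univ.filter (fun k : Fin t => d k = i)).card *
            (Finset.univ.filter (fun k : Fin t => d k = j)).card else 0) +
          ∑ i ∈ Finset.range (Finset.univ.sup d + 1), (i - 1) * (Finset.univ.filter (fun k : Fin t => d k = i)).card ^ 2) *
        ∏ i ∈ Finset.range (Finset.univ.sup d + 1), ∏ j : Fin ((Finset.univ.filter (fun k : Fin t => d k = i)).card),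
          (q ^ (Finset.univ.filter (fun k : Fin t => d k = i)).card - q ^ (j : ℕ)) := by
  classical
  have hJ : Cfsg.jordanTypeMatrix d F = 1 + UnipClasses.J d := by
    ext ⟨a, x⟩ ⟨b, y⟩
    by_cases h : a = b
    · subst h
      simp [Cfsg.jordanTypeMatrix, SympJordan.jordanBlock_eq, SympJordan.shiftBlock, UnipClasses.J, Matrix.one_apply,
        Sigma.ext_iff]
    · simp [Cfsg.jordanTypeMatrix, UnipClasses.J, Matrix.one_apply, Sigma.ext_iff, h,
        Matrix.blockDiagonal'_apply_ne (fun k => Cfsg.jordanBlock (d k) F) x y h]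
  have h1 : Nat.card {g : GL ((k : Fin t) × Fin (d k)) F // (g : Matrix ((k : Fin t) × Fin (d k)) ((k : Fin t) × Fin (d k)) F) *
      Cfsg.jordanTypeMatrix d F = Cfsg.jordanTypeMatrix d F * (g : Matrix ((k : Fin t) × Fin (d k)) ((k : Fin t) × Fin (d k)) F)} =
      Nat.card {w : Pos d → F // IsUnit (toMat w)} := by
    refine (Nat.card_congr (Equiv.ofBijective
      (fun w : {w : Pos d → F // IsUnit (toMat w)} => ⟨w.2.unit, by
        rw [hJ, IsUnit.unit_spec, mul_add, add_mul, one_mul, mul_one, toMat_commute]⟩) ⟨?_, ?_⟩)).symm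
    · intro w w' h
      exact Subtype.ext (toMat_injective hd (congrArg Units.val (congrArg Subtype.val h) : _))
    · rintro ⟨g, hg⟩
      rw [hJ, mul_add, add_mul, one_mul, mul_one, add_left_cancel_iff] at hg
      obtain ⟨w, hw⟩ := exists_coef hd hg
      exact ⟨⟨w, hw ▸ g.isUnit⟩, Subtype.ext (Units.ext hw)⟩
  rw [h1, card_units hd, hF]
  congr 1
  · congr 1
    set R := Finset.range (Finset.univ.sup d + 1) with hRdef
    set c : ℕ → ℕ := fun i => (Finset.univ.filter fun k : Fin t => d k = i).card with hc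
    have hR : ∀ k, d k ∈ R := fun k => Finset.mem_range.2 (Nat.lt_succ_of_le (Finset.le_sup (Finset.mem_univ k)))
    have hfib : ∀ f : ℕ → ℕ, ∑ k, f (d k) = ∑ i ∈ R, c i * f i := fun f => by
      rw [← Finset.sum_fiberwise_of_maps_to' (fun k _ => hR k) f]
      exact Finset.sum_congr rfl fun i _ => by rw [Finset.sum_const, smul_eq_mul]
    have hc0 : c 0 = 0 := by
      simp only [hc, Finset.card_eq_zero, Finset.filter_eq_empty_iff]
      intro k _ h
      have := hd k
      omega
    have hpair : ∀ i j, c i * (c j * min i j) =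
        (if i < j then i * c i * c j else 0) + (if j < i then j * c j * c i else 0) + (if i = j then i * c i ^ 2 else 0) := by
      intro i j
      rcases lt_trichotomy i j with h | rfl | h
      · rw [if_pos h, if_neg (by omega), if_neg h.ne, min_eq_left h.le]; ring
      · simp only [lt_irrefl, if_false, if_true, zero_add, min_self]; ring
      · rw [if_pos h, if_neg (by omega), if_neg h.ne', min_eq_right h.le]; ring
    rw [hfib (fun a => ∑ l, min a (d l)), hfib (fun a => c a),
      Finset.sum_congr rfl (fun i _ => show c i * ∑ l, min i (d l) = ∑ j ∈ R, c i * (c j * min i j) by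
        rw [hfib (fun b => min i b), Finset.mul_sum]),
      Finset.sum_congr rfl (fun i _ => Finset.sum_congr rfl fun j _ => hpair i j)]
    simp only [Finset.sum_add_distrib, Finset.sum_ite_eq]
    rw [Finset.sum_comm (f := fun i j => if j < i then j * c j * c i else 0),
      Finset.sum_congr rfl (fun i (hi : i ∈ R) => if_pos hi)]
    have e1 : ∑ i ∈ R, i * c i ^ 2 = ∑ i ∈ R, (i - 1) * c i ^ 2 + ∑ i ∈ R, c i * c i := by
      rw [← Finset.sum_add_distrib]
      refine Finset.sum_congr rfl fun i _ => ?_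
      rcases Nat.eq_zero_or_pos i with rfl | hi
      · simp [hc0]
      · obtain ⟨j, rfl⟩ : ∃ j, i = j + 1 := ⟨i - 1, by omega⟩
        rw [Nat.add_sub_cancel]; ring
    show _ = (2 * ∑ i ∈ R, ∑ j ∈ R, if i < j then i * c i * c j else 0) + ∑ i ∈ R, (i - 1) * c i ^ 2
    omega
  · exact Finset.prod_congr rfl fun i _ => by rw [Matrix.card_GL_field, hF]

end Cfsg.Lib.UnipCentGL
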