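import Cfsg.Agent.Known.ChevFieldInvolution
import Cfsg.Agent.Chev.Types
import Cfsg.Agent.Chev.Ht

/-! Exponent of the unipotent radical of a Borel subgroup, from a grading of the adjoint module. -/

set_option autoImplicit false

open Cfsg.Lie Cfsg.Lib.Chev

namespace Cfsg.Lib.Known.UnipExp

variable {D : ChevalleyDatum} {C : Cert} {F : Type*} [Field F]

/-- `M` vanishes unless the grade strictly increases from column to row. -/
def LowBy (key : D.Idx → ℕ) (M : Matrix D.Idx D.Idx F) : Prop := ∀ x y, key x ≤ key y → M x y = 0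

theorem LowBy.mul {key : D.Idx → ℕ} {A B : Matrix D.Idx D.Idx F} (hA : LowBy key A) (hB : LowBy key B) :
    LowBy key (A * B) := by
  intro x y hxy
  rw [Matrix.mul_apply]
  refine Finset.sum_eq_zero fun z _ => ?_
  by_cases hz : key x ≤ key z
  · rw [hA x z hz, zero_mul]
  · rw [hB z y (by omega), mul_zero]

theorem LowBy.pow_apply {key : D.Idx → ℕ} {A : Matrix D.Idx D.Idx F} (hA : LowBy key A) :
    ∀ (m : ℕ) (x y : D.Idx), key x < key y + m → (A ^ m) x y = 0
  | 0, x, y, h => by
    rw [pow_zero, Matrix.one_apply_ne]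
    rintro rfl
    omega
  | m + 1, x, y, h => by
    rw [pow_succ', Matrix.mul_apply]
    refine Finset.sum_eq_zero fun z _ => ?_
    by_cases hz : key x ≤ key z
    · rw [hA x z hz, zero_mul]
    · rw [hA.pow_apply m z y (by omega), mul_zero]

/-- Height of the root with index `u`, shifted by `N`. -/
noncomputable def kap (T : List (List ℤ)) (N u : ℕ) : ℕ := ((T.getD u []).sum + (N : ℤ)).toNat

/-- The grading of the coordinates. -/
noncomputable def key (D : ChevalleyDatum) (T : List (List ℤ)) (N : ℕ) : D.Idx → ℕ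
  | Sum.inl _ => N
  | Sum.inr u => kap T N u.val

/-- Certificate: positive root elements raise the grade. -/
noncomputable def okKey (D : ChevalleyDatum) (T : List (List ℤ)) (N : ℕ) : Bool :=
  kall (fun r =>
    decide (N < kap T N r) && decide (kap T N (D.negIdx.getD r 0) < N) &&
    kall (fun e => kall (fun q : ℕ × ℤ => decide (kap T N e.1 < kap T N q.1)) e.2.toList)
      (D.chain.getD r #[]).toList)
    (krange (D.nroots / 2) (D.nroots - D.nroots / 2)) &&
  kall (fun u => decide (kap T N u < 2 * N + 1)) (krange 0 D.nroots)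

theorem okKey_F4 : okKey chevF4 F4.htTab 11 = true := by decide +kernel

variable {T : List (List ℤ)} {N : ℕ}

theorem okKey_pos (h : okKey D T N = true) {r : ℕ} (hr : r < D.nroots) (hrp : D.nroots / 2 ≤ r) :
    N < kap T N r ∧ kap T N (D.negIdx.getD r 0) < N ∧
      ∀ e ∈ (D.chain.getD r #[]).toList, ∀ q ∈ e.2.toList, kap T N e.1 < kap T N q.1 := by
  simp only [okKey, Bool.and_eq_true, kall_iff, decide_eq_true_eq] at h
  obtain ⟨⟨h1, h2⟩, h3⟩ := h.1 r (by rw [krange_eq, List.mem_range'_1]; omega)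
  exact ⟨h1, h2, h3⟩

theorem key_lt (h : okKey D T N = true) (x : D.Idx) : key D T N x < 2 * N + 1 := by
  rcases x with i | u
  · simp only [key]; omega
  · simp only [okKey, Bool.and_eq_true, kall_iff, decide_eq_true_eq] at h
    exact h.2 u.val (by rw [krange_eq, List.mem_range'_1]; omega)

theorem chainCoeff_nil (h : okKey D T N = true) {r s u : ℕ} (hr : r < D.nroots) (hrp : D.nroots / 2 ≤ r)
    (hu : kap T N u ≤ kap T N s) : D.chainCoeff r s u = [] := by
  rw [ChevalleyDatum.chainCoeff, List.eq_nil_iff_forall_not_mem]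
  intro km hkm
  simp only [List.mem_flatMap, List.mem_filter, decide_eq_true_eq, List.mem_map] at hkm
  obtain ⟨e, ⟨he, hes⟩, q, ⟨hq, hqu⟩, -⟩ := hkm
  have := (okKey_pos h hr hrp).2.2 e he q.1 (by
    obtain ⟨qv, qi⟩ := q
    exact (List.mem_zipIdx hq).2.2 ▸ List.getElem_mem _)
  rw [hes, hqu] at this
  omega

theorem low_x (h : okKey D T N = true) {r : ℕ} (hr : r < D.nroots) (hrp : D.nroots / 2 ≤ r) (t : F) :
    LowBy (key D T N) (D.x F r t - 1) := by
  intro x y hxy
  obtain ⟨hr1, hr2, -⟩ := okKey_pos h hr hrp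
  rw [Matrix.sub_apply]
  rcases y with i | s
  · rw [ChevalleyDatum.x, dif_pos hr]
    simp only [ChevalleyDatum.xMat, Matrix.of_apply]
    rcases x with j | u
    · simp only [Matrix.one_apply, Sum.inl.injEq]
      exact sub_self _
    · have h1 : (1 : Matrix D.Idx D.Idx F) (Sum.inr u) (Sum.inl i) = 0 := Matrix.one_apply_ne (by simp)
      rw [h1, sub_zero]
      refine if_neg ?_
      rintro rfl
      simp only [key] at hxy
      omega
  · by_cases hsr : s.val = r
    · rw [ChevalleyDatum.x, dif_pos hr]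
      simp only [ChevalleyDatum.xMat, Matrix.of_apply]
      rw [if_pos (show s = ⟨r, hr⟩ from Fin.ext hsr)]
      rcases x with j | u
      · simp
      · simp [Matrix.one_apply, Fin.ext_iff, hsr]
    · by_cases hsn : s.val = D.negIdx.getD r 0
      · rw [ChevalleyDatum.x, dif_pos hr]
        simp only [ChevalleyDatum.xMat, Matrix.of_apply]
        rw [if_neg (fun e => hsr (congrArg Fin.val e)), if_pos hsn]
        rcases x with j | u
        · simp only [key] at hxy
          rw [hsn] at hxy
          omega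
        · simp only [key] at hxy
          have hur : u.val ≠ r := by
            intro e
            rw [e, hsn] at hxy
            omega
          rcases eq_or_ne u s with rfl | hus
          · simp
          · simp [hus, Fin.ext_iff, hur]
      · rcases x with j | u
        · rw [ChevalleyDatum.x, dif_pos hr]
          simp only [ChevalleyDatum.xMat, Matrix.of_apply]
          rw [if_neg (fun e => hsr (congrArg Fin.val e)), if_neg hsn]
          simp
        · rw [xMat_root_entry hr s u hsr hsn]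
          simp only [key] at hxy
          rw [chainCoeff_nil h hr hrp hxy]
          simp [Matrix.one_apply]

theorem low_of_mem (S : Struct D C) (h : okKey D T N = true) {g : GL D.Idx F} (hg : g ∈ D.posUnipotent F) :
    LowBy (key D T N) ((g : Matrix D.Idx D.Idx F) - 1) := by
  rw [S.posUnipotent_eq] at hg
  induction hg using Subgroup.closure_induction'' with
  | mem g hg =>
    obtain ⟨r, t, a, b, rfl⟩ := hg
    rw [S.ok.val_xG]
    exact low_x h b a t
  | inv_mem g hg =>
    obtain ⟨r, t, a, b, rfl⟩ := hg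
    rw [S.ok.xG_inv, S.ok.val_xG]
    exact low_x h b a _
  | one => rw [Units.val_one, sub_self]; exact fun _ _ _ => rfl
  | mul a b _ _ iha ihb =>
    have e : ((a * b : GL D.Idx F) : Matrix D.Idx D.Idx F) - 1 =
        ((a : Matrix D.Idx D.Idx F) - 1) + ((b : Matrix D.Idx D.Idx F) - 1) +
          ((a : Matrix D.Idx D.Idx F) - 1) * ((b : Matrix D.Idx D.Idx F) - 1) := by
      rw [Units.val_mul]; noncomm_ring
    rw [e]
    intro x y hxy
    rw [Matrix.add_apply, Matrix.add_apply, iha x y hxy, ihb x y hxy, (iha.mul ihb) x y hxy]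
    simp

theorem pow_eq_one_of_mem (S : Struct D C) (h : okKey D T N = true) (p k : ℕ) [Fact p.Prime] [CharP F p]
    (hk : 2 * N + 1 ≤ p ^ k) {g : GL D.Idx F} (hg : g ∈ D.posUnipotent F) : g ^ (p ^ k) = 1 := by
  have h1 : ((g : Matrix D.Idx D.Idx F) - 1) ^ (p ^ k) = 0 := by
    ext x y
    refine (low_of_mem S h hg).pow_apply _ x y ?_
    have := key_lt h x
    omega
  rcases isEmpty_or_nonempty D.Idx with he | he
  · exact Units.ext (Matrix.ext fun x => he.elim x)
  rw [sub_pow_char_pow_of_commute _ _ (Commute.one_right _), one_pow, sub_eq_zero] at h1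
  exact Units.ext (by rw [Units.val_pow_eq_pow_val, h1, Units.val_one])

theorem orderOf_dvd_of_two_element [Fintype F] [CharP F 2] (S : Struct D C) (hN : okNeg D = true)
    (h : okKey D T N = true) (k : ℕ) (hk : 2 * N + 1 ≤ 2 ^ k) {g : GL D.Idx F} (hg : g ∈ D.group F)
    (h2 : ∃ j, orderOf g = 2 ^ j) : orderOf g ∣ 2 ^ k := by
  haveI : Fact (Nat.Prime 2) := ⟨Nat.prime_two⟩
  obtain ⟨P, hP⟩ := ChevFixed.exists_sylow_pos (F := F) S hN
  obtain ⟨j, hj⟩ := h2
  have hord : orderOf (⟨g, hg⟩ : ↥(D.group F)) = 2 ^ j := by rw [Subgroup.orderOf_mk, hj]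
  have hp : IsPGroup 2 ↥(Subgroup.zpowers (⟨g, hg⟩ : ↥(D.group F))) :=
    IsPGroup.of_card (n := j) (by rw [Nat.card_zpowers, hord])
  obtain ⟨Q, hQ⟩ := hp.exists_le_sylow
  obtain ⟨c, rfl⟩ := MulAction.exists_smul_eq ↥(D.group F) P Q
  have hgm := hQ (Subgroup.mem_zpowers _)
  rw [Sylow.coe_subgroup_smul, Subgroup.mem_pointwise_smul_iff_inv_smul_mem, hP, Subgroup.mem_subgroupOf] at hgm
  have h1 : (↑(((MulAut.conj c)⁻¹ : MulAut ↥(D.group F)) ⟨g, hg⟩) : GL D.Idx F) ^ (2 ^ k) = 1 :=
    pow_eq_one_of_mem S h 2 k hk hgm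
  refine orderOf_dvd_of_pow_eq_one ?_
  have h2' : (((MulAut.conj c)⁻¹ : MulAut ↥(D.group F)) ⟨g, hg⟩) ^ (2 ^ k) = 1 := Subtype.ext (by simpa using h1)
  rw [← map_pow, map_eq_one_iff _ (MulEquiv.injective _)] at h2'
  simpa using congrArg Subtype.val h2'

theorem twistedF4_le_group (K : Type*) [Field K] (e : ℕ) : twistedF4 K e ≤ chevF4.group K := by
  refine (Subgroup.closure_le _).2 ?_
  rintro g ⟨w, -, hw⟩
  have hg : g = F4.struct.ok.wG w := Units.ext (by rw [hw, Ok.val_wG])
  rw [SetLike.mem_coe, hg]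
  exact list_prod_mem fun x hx => by
    obtain ⟨p, -, rfl⟩ := List.mem_map.1 hx
    exact F4.struct.ok.xG_mem_group _ _

end Cfsg.Lib.Known.UnipExp
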