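import Cfsg.Agent.Classical.Misc.JordanBasis
import Mathlib

/-! Unipotent classes of the general linear group and partitions. -/

set_option autoImplicit false
set_option linter.style.haveILetI false

open Matrix

namespace Cfsg.Lib.UnipClasses

variable {F : Type*} [Field F] {I : Type*} [Fintype I] [DecidableEq I]

/-- A sum of nilpotent chains. -/
def J (k : I → ℕ) : Matrix (Σ i, Fin (k i)) (Σ i, Fin (k i)) F :=
  fun x y => if x.1 = y.1 ∧ (x.2 : ℕ) = y.2 + 1 then 1 else 0

theorem J_mulVec (k : I → ℕ) (v : (Σ i, Fin (k i)) → F) (x : Σ i, Fin (k i)) :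
    (J k *ᵥ v) x = if h : 1 ≤ (x.2 : ℕ) then v ⟨x.1, ⟨x.2 - 1, by omega⟩⟩ else 0 := by
  split_ifs with h
  · rw [mulVec, dotProduct, Finset.sum_eq_single (⟨x.1, ⟨x.2 - 1, by omega⟩⟩ : Σ i, Fin (k i))]
    · rw [J, if_pos ⟨rfl, by show (x.2 : ℕ) = x.2 - 1 + 1; omega⟩, one_mul]
    · rintro ⟨i, b⟩ _ hne
      rw [J, if_neg, zero_mul]
      rintro ⟨e1, e2⟩
      obtain ⟨xi, xb⟩ := x
      dsimp only at e1 e2 h hne ⊢
      subst e1
      apply hne
      congr 1
      exact Fin.ext (by show (b : ℕ) = xb - 1; omega)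
    · simp
  · rw [mulVec, dotProduct]
    refine Finset.sum_eq_zero fun y _ => ?_
    rw [J, if_neg, zero_mul]
    rintro ⟨-, e⟩
    omega

theorem J_pow_mulVec (k : I → ℕ) (j : ℕ) : ∀ (v : (Σ i, Fin (k i)) → F) (x : Σ i, Fin (k i)),
    ((J k) ^ j *ᵥ v) x = if h : j ≤ (x.2 : ℕ) then v ⟨x.1, ⟨x.2 - j, by omega⟩⟩ else 0 := by
  induction j with
  | zero => intro v x; simp
  | succ j ih =>
    intro v x
    rw [pow_succ, ← mulVec_mulVec, ih]
    by_cases h : j ≤ (x.2 : ℕ)
    · rw [dif_pos h, J_mulVec]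
      by_cases h2 : j + 1 ≤ (x.2 : ℕ)
      · rw [dif_pos (by show 1 ≤ (x.2 : ℕ) - j; omega), dif_pos h2]
        congr 2
      · rw [dif_neg (by show ¬ 1 ≤ (x.2 : ℕ) - j; omega), dif_neg h2]
    · rw [dif_neg h, dif_neg (by omega)]

theorem J_pow_eq_zero (k : I → ℕ) {m : ℕ} (h : ∀ i, k i ≤ m) : ((J k : Matrix _ _ F)) ^ m = 0 := by
  refine Matrix.ext_of_mulVec_single fun y => funext fun x => ?_
  rw [J_pow_mulVec, dif_neg, zero_mulVec]
  · rfl
  · have := x.2.isLt
    have := h x.1
    omega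

/-- The kernel of a power. -/
theorem card_ker [Finite F] (k : I → ℕ) (j : ℕ) :
    Nat.card {v : (Σ i, Fin (k i)) → F // (J k) ^ j *ᵥ v = 0} = Nat.card F ^ ∑ i, min j (k i) := by
  classical
  have hker : ∀ v : (Σ i, Fin (k i)) → F, (J k) ^ j *ᵥ v = 0 ↔ ∀ y, ¬ k y.1 ≤ (y.2 : ℕ) + j → v y = 0 := by
    intro v
    constructor
    · intro hv y hy
      have h := congrFun hv ⟨y.1, ⟨y.2 + j, by omega⟩⟩
      rw [J_pow_mulVec, dif_pos (show j ≤ (y.2 : ℕ) + j by omega)] at h
      simpa using h
    · intro hv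
      funext x
      rw [J_pow_mulVec]
      split_ifs with h
      · exact hv _ (by have := x.2.isLt; show ¬ k x.1 ≤ (x.2 : ℕ) - j + j; omega)
      · rfl
  let e : {v : (Σ i, Fin (k i)) → F // (J k) ^ j *ᵥ v = 0} ≃ ({y : Σ i, Fin (k i) // k y.1 ≤ (y.2 : ℕ) + j} → F) :=
    { toFun := fun v y => v.1 y.1
      invFun := fun f => ⟨fun y => if h : k y.1 ≤ (y.2 : ℕ) + j then f ⟨y, h⟩ else 0,
        (hker _).2 fun y hy => dif_neg hy⟩
      left_inv := fun v => Subtype.ext (funext fun y => by
        show (if h : k y.1 ≤ (y.2 : ℕ) + j then v.1 y else 0) = v.1 y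
        split_ifs with h
        · rfl
        · exact ((hker _).1 v.2 y h).symm)
      right_inv := fun f => funext fun y => dif_pos y.2 }
  let d : {y : Σ i, Fin (k i) // k y.1 ≤ (y.2 : ℕ) + j} ≃ Σ i, Fin (min j (k i)) :=
    { toFun := fun y => ⟨y.1.1, ⟨k y.1.1 - 1 - y.1.2, by have := y.1.2.isLt; have := y.2; omega⟩⟩
      invFun := fun z => ⟨⟨z.1, ⟨k z.1 - 1 - z.2, by have := z.2.isLt; omega⟩⟩, by
        have := z.2.isLt; show k z.1 ≤ k z.1 - 1 - (z.2 : ℕ) + j; omega⟩
      left_inv := fun y => by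
        obtain ⟨⟨i, b⟩, hb⟩ := y
        refine Subtype.ext ?_
        show (⟨i, _⟩ : Σ i, Fin (k i)) = ⟨i, b⟩
        congr 1
        exact Fin.ext (by show k i - 1 - (k i - 1 - (b : ℕ)) = b; have := b.isLt; omega)
      right_inv := fun z => by
        obtain ⟨i, b⟩ := z
        show (⟨i, _⟩ : Σ i, Fin (min j (k i))) = ⟨i, b⟩
        congr 1
        exact Fin.ext (by show k i - 1 - (k i - 1 - (b : ℕ)) = b; have := b.isLt; omega) }
  rw [Nat.card_congr e, Nat.card_fun, Nat.card_congr d, Nat.card_sigma]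
  simp

theorem count_map (k : I → ℕ) (a : ℕ) :
    (Finset.univ.val.map k).count a = (Finset.univ.filter fun i => k i = a).card := by
  rw [Multiset.count_map, Finset.card_def, Finset.filter_val]
  congr 1
  exact Multiset.filter_congr fun i _ => eq_comm

theorem min_succ_sum {L : Type*} [Fintype L] (f : L → ℕ) (a : ℕ) : (∑ i, min (a + 1) (f i)) =
    (∑ i, min a (f i)) + (Finset.univ.filter fun i => a < f i).card := by
  rw [Finset.card_filter, ← Finset.sum_add_distrib]
  refine Finset.sum_congr rfl fun i _ => ?_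
  split_ifs with hi <;> omega

theorem gt_split {L : Type*} [Fintype L] (f : L → ℕ) (a : ℕ) :
    (Finset.univ.filter fun i => a < f i).card =
    (Finset.univ.filter fun i => a + 1 < f i).card + (Finset.univ.filter fun i => f i = a + 1).card := by
  classical
  rw [← Finset.card_union_of_disjoint]
  · congr 1
    ext i
    simp only [Finset.mem_filter, Finset.mem_union, Finset.mem_univ, true_and]
    omega
  · rw [Finset.disjoint_filter]
    intro i _ h1 h2
    omega

/-- Kernel sizes determine the chain lengths. -/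
theorem counts_eq {I' : Type*} [Fintype I'] [DecidableEq I'] (k : I → ℕ) (k' : I' → ℕ) (hk : ∀ i, 0 < k i)
    (hk' : ∀ i, 0 < k' i) (h : ∀ j, ∑ i, min j (k i) = ∑ i, min j (k' i)) :
    Finset.univ.val.map k = Finset.univ.val.map k' := by
  classical
  ext a
  rw [count_map, count_map]
  rcases a with _ | a
  · rw [Finset.filter_false_of_mem fun i _ => (hk i).ne', Finset.filter_false_of_mem fun i _ => (hk' i).ne',
      Finset.card_empty, Finset.card_empty]
  · have e1 := min_succ_sum k a
    have e2 := min_succ_sum k (a + 1)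
    have e3 := min_succ_sum k' a
    have e4 := min_succ_sum k' (a + 1)
    have e5 := gt_split k a
    have e6 := gt_split k' a
    have := h a
    have := h (a + 1)
    have := h (a + 1 + 1)
    omega

/-- Chain matrices with the same lengths differ by a renumbering. -/
theorem exists_equiv {I' : Type*} [Fintype I'] [DecidableEq I'] (k : I → ℕ) (k' : I' → ℕ)
    (h : Finset.univ.val.map k = Finset.univ.val.map k') :
    ∃ s : (Σ i, Fin (k i)) ≃ (Σ i, Fin (k' i)),
      (J k : Matrix _ _ F) = (J k' : Matrix _ _ F).submatrix s s := by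
  classical
  have hc : ∀ a, Nonempty ({i // k i = a} ≃ {i // k' i = a}) := fun a => by
    refine ⟨Fintype.equivOfCardEq ?_⟩
    rw [Fintype.card_subtype, Fintype.card_subtype, ← count_map, ← count_map, h]
  let σ : I ≃ I' := Equiv.ofFiberEquiv (f := k) (g := k') fun a => (hc a).some
  have hσ : ∀ i, k' (σ i) = k i := Equiv.ofFiberEquiv_map _
  let s : (Σ i, Fin (k i)) ≃ (Σ i, Fin (k' i)) := σ.sigmaCongr (fun i => finCongr (hσ i).symm)
  refine ⟨s, ?_⟩
  ext x y
  have e1 : ∀ z : Σ i, Fin (k i), (s z).1 = σ z.1 := fun z => rfl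
  have e2 : ∀ z : Σ i, Fin (k i), ((s z).2 : ℕ) = z.2 := fun z => rfl
  simp only [Matrix.submatrix_apply, J, e1, e2, σ.injective.eq_iff]

variable {n : ℕ}

/-- The chain lengths of a partition. -/
noncomputable def lens (μ : Nat.Partition n) : Fin μ.parts.toList.length → ℕ := fun i => μ.parts.toList.get i

theorem map_lens (μ : Nat.Partition n) : Finset.univ.val.map (lens μ) = μ.parts := by
  conv_rhs => rw [← Multiset.coe_toList μ.parts, ← List.ofFn_get μ.parts.toList]
  rw [Fin.univ_def, List.ofFn_eq_map]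
  rfl

theorem lens_mem (μ : Nat.Partition n) (i) : lens μ i ∈ μ.parts :=
  Multiset.mem_toList.1 (List.get_mem _ i)

theorem card_lens (μ : Nat.Partition n) : Fintype.card (Σ i, Fin (lens μ i)) = n := by
  rw [Fintype.card_sigma]
  simp only [Fintype.card_fin]
  rw [Finset.sum_eq_multiset_sum, map_lens, μ.parts_sum]

/-- The standard nilpotent matrix of a partition. -/
noncomputable def std (F : Type*) [Field F] (μ : Nat.Partition n) : Matrix (Fin n) (Fin n) F :=
  (J (lens μ)).submatrix (Fintype.equivFinOfCardEq (card_lens μ)).symm (Fintype.equivFinOfCardEq (card_lens μ)).symm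

theorem std_pow (μ : Nat.Partition n) (j : ℕ) :
    std F μ ^ j = ((J (lens μ) : Matrix _ _ F) ^ j).submatrix (Fintype.equivFinOfCardEq (card_lens μ)).symm
      (Fintype.equivFinOfCardEq (card_lens μ)).symm := by
  have e : ∀ M : Matrix (Σ i, Fin (lens μ i)) (Σ i, Fin (lens μ i)) F,
      M.submatrix (Fintype.equivFinOfCardEq (card_lens μ)).symm (Fintype.equivFinOfCardEq (card_lens μ)).symm =
        Matrix.reindexAlgEquiv F F (Fintype.equivFinOfCardEq (card_lens μ)) M := fun M => rfl
  rw [std, e, e, map_pow]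

theorem std_pow_eq_zero (μ : Nat.Partition n) {m : ℕ} (h : ∀ a ∈ μ.parts, a ≤ m) : std F μ ^ m = 0 := by
  rw [std_pow, J_pow_eq_zero _ fun i => h _ (lens_mem μ i)]
  rfl

theorem parts_le (μ : Nat.Partition n) {a : ℕ} (h : a ∈ μ.parts) : a ≤ n := by
  have := Multiset.le_sum_of_mem h
  rwa [μ.parts_sum] at this

theorem card_ker_std [Finite F] (μ : Nat.Partition n) (j : ℕ) :
    Nat.card {v : Fin n → F // std F μ ^ j *ᵥ v = 0} = Nat.card F ^ ∑ i, min j (lens μ i) := by
  rw [← card_ker (F := F) (lens μ) j]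
  refine Nat.card_congr ((Equiv.arrowCongr (Fintype.equivFinOfCardEq (card_lens μ)).symm (Equiv.refl F)).subtypeEquiv ?_)
  intro v
  rw [std_pow, submatrix_mulVec_equiv]
  constructor
  · intro h
    funext x
    have := congrFun h ((Fintype.equivFinOfCardEq (card_lens μ)) x)
    simpa [Function.comp_def, Equiv.arrowCongr] using this
  · intro h
    funext x
    have := congrFun h ((Fintype.equivFinOfCardEq (card_lens μ)).symm x)
    simpa [Function.comp_def, Equiv.arrowCongr] using this

theorem eq_of_similar [Finite F] {μ ν : Nat.Partition n} (P : GL (Fin n) F)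
    (h : (P : Matrix (Fin n) (Fin n) F) * std F μ = std F ν * P) : μ = ν := by
  have hq : 1 < Nat.card F := Finite.one_lt_card
  refine Nat.Partition.ext ?_
  rw [← map_lens μ, ← map_lens ν]
  refine counts_eq _ _ (fun i => μ.parts_pos (lens_mem μ i)) (fun i => ν.parts_pos (lens_mem ν i)) fun j => ?_
  have hj : (P : Matrix (Fin n) (Fin n) F) * std F μ ^ j = std F ν ^ j * P :=
    (SemiconjBy.pow_right (show SemiconjBy (P : Matrix (Fin n) (Fin n) F) (std F μ) (std F ν) from h) j).eq
  have hc : Nat.card {v : Fin n → F // std F μ ^ j *ᵥ v = 0} = Nat.card {v : Fin n → F // std F ν ^ j *ᵥ v = 0} := by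
    refine Nat.card_congr
      { toFun := fun v => ⟨(P : Matrix (Fin n) (Fin n) F) *ᵥ v.1, by
          rw [mulVec_mulVec, ← hj, ← mulVec_mulVec, v.2, mulVec_zero]⟩
        invFun := fun v => ⟨((P⁻¹ : GL (Fin n) F) : Matrix (Fin n) (Fin n) F) *ᵥ v.1, by
          rw [mulVec_mulVec]
          have e : std F μ ^ j * ((P⁻¹ : GL (Fin n) F) : Matrix (Fin n) (Fin n) F) =
              ((P⁻¹ : GL (Fin n) F) : Matrix (Fin n) (Fin n) F) * std F ν ^ j := by
            rw [Units.mul_inv_eq_iff_eq_mul, mul_assoc, ← hj, ← mul_assoc, Units.inv_mul, one_mul]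
          rw [e, ← mulVec_mulVec, v.2, mulVec_zero]⟩
        left_inv := fun v => Subtype.ext (by simp only; rw [mulVec_mulVec, Units.inv_mul, one_mulVec])
        right_inv := fun v => Subtype.ext (by simp only; rw [mulVec_mulVec, Units.mul_inv, one_mulVec]) }
  rw [card_ker_std, card_ker_std] at hc
  exact Nat.pow_right_injective hq hc

/-- Every nilpotent matrix is similar to a standard one. -/
theorem exists_std (N : Matrix (Fin n) (Fin n) F) {m : ℕ} (hN : N ^ m = 0) :
    ∃ (μ : Nat.Partition n) (P : GL (Fin n) F), (∀ a ∈ μ.parts, a ≤ m) ∧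
      N * (P : Matrix (Fin n) (Fin n) F) = (P : Matrix (Fin n) (Fin n) F) * std F μ := by
  classical
  obtain ⟨l, k, w, hk, hw⟩ := Cfsg.Lib.Classical.Jordan.exists_jordan (N := Matrix.toLin' N) (p := m)
    (by rw [← Matrix.toLin'_pow, hN, map_zero])
  have hsum : ∑ i, k i = n := by
    have h := Module.finrank_eq_card_basis w
    simpa using h.symm
  let μ : Nat.Partition n :=
    { parts := Finset.univ.val.map k
      parts_pos := fun {i} hi => by
        obtain ⟨a, -, rfl⟩ := Multiset.mem_map.1 hi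
        exact (hk a).1
      parts_sum := hsum }
  obtain ⟨s, hs⟩ := exists_equiv (F := F) (lens μ) k (map_lens μ)
  have hNw : ∀ (x : Fin n) (z : Σ i, Fin (k i)), (N *ᵥ w z) x = ∑ y, w y x * (J k : Matrix _ _ F) y z := by
    rintro x ⟨i, b⟩
    have h := congrFun (hw i b) x
    rw [Matrix.toLin'_apply] at h
    rw [h]
    split_ifs with hb
    · rw [Finset.sum_eq_single (⟨i, ⟨b + 1, hb⟩⟩ : Σ i, Fin (k i))]
      · simp [J]
      · rintro ⟨i', b'⟩ _ hne
        rw [J, if_neg, mul_zero]
        rintro ⟨e1, e2⟩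
        dsimp only at e1 e2
        subst e1
        exact hne (by congr 1; exact Fin.ext e2)
      · simp
    · rw [Pi.zero_apply]
      symm
      refine Finset.sum_eq_zero fun y _ => ?_
      rw [J, if_neg, mul_zero]
      rintro ⟨e1, e2⟩
      obtain ⟨i', b'⟩ := y
      dsimp only at e1 e2
      subst e1
      have := b'.isLt
      omega
  let ε := Fintype.equivFinOfCardEq (card_lens μ)
  let B : Matrix (Fin n) (Σ i, Fin (k i)) F := Matrix.of fun x y => w y x
  have hB : N * B = B * J k := by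
    ext x z
    exact hNw x z
  let Q : Matrix (Fin n) (Fin n) F := B.submatrix id (ε.symm.trans s)
  have hQ : IsUnit Q := by
    rw [← Matrix.linearIndependent_cols_iff_isUnit]
    exact w.linearIndependent.comp _ (ε.symm.trans s).injective
  refine ⟨μ, hQ.unit, fun a ha => ?_, ?_⟩
  · obtain ⟨i, -, rfl⟩ := Multiset.mem_map.1 (show a ∈ Finset.univ.val.map k from ha)
    exact (hk i).2
  · rw [IsUnit.unit_spec]
    have e : std F μ = (J k).submatrix (ε.symm.trans s) (ε.symm.trans s) := by
      rw [std, hs, Matrix.submatrix_submatrix]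
      rfl
    show N * B.submatrix id (ε.symm.trans s) = B.submatrix id (ε.symm.trans s) * _
    rw [e, Matrix.submatrix_mul_equiv]
    exact (congrArg (fun M : Matrix (Fin n) (Σ i, Fin (k i)) F => M.submatrix id ⇑(ε.symm.trans s)) hB)

/-- Classes of elements `g` with `(g - 1) ^ m = 0`. -/
theorem card_classes [Finite F] (m : ℕ) :
    Nat.card {C : ConjClasses (GL (Fin n) F) // ∃ g : GL (Fin n) F, ConjClasses.mk g = C ∧
      ((g : Matrix (Fin n) (Fin n) F) - 1) ^ m = 0} =
    (Finset.univ.filter (fun μ : Nat.Partition n => ∀ a ∈ μ.parts, a ≤ m)).card := by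
  classical
  have hu : ∀ μ : Nat.Partition n, IsUnit (1 + std F μ) := fun μ =>
    IsNilpotent.isUnit_one_add ⟨n, std_pow_eq_zero μ fun a ha => parts_le μ ha⟩
  let ψ : {μ : Nat.Partition n // ∀ a ∈ μ.parts, a ≤ m} → {C : ConjClasses (GL (Fin n) F) // ∃ g : GL (Fin n) F,
      ConjClasses.mk g = C ∧ ((g : Matrix (Fin n) (Fin n) F) - 1) ^ m = 0} := fun μ =>
    ⟨ConjClasses.mk (hu μ.1).unit, (hu μ.1).unit, rfl, by
      rw [IsUnit.unit_spec, add_sub_cancel_left]; exact std_pow_eq_zero μ.1 μ.2⟩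
  have hψ : Function.Bijective ψ := by
    constructor
    · intro μ ν e
      obtain ⟨P, hP⟩ := isConj_iff.1 (ConjClasses.mk_eq_mk_iff_isConj.1 (congrArg Subtype.val e))
      rw [mul_inv_eq_iff_eq_mul] at hP
      have h := congrArg Units.val hP
      rw [Units.val_mul, Units.val_mul, IsUnit.unit_spec, IsUnit.unit_spec, mul_add, add_mul, mul_one, one_mul,
        add_right_inj] at h
      exact Subtype.ext (eq_of_similar P h)
    · rintro ⟨C, g, rfl, hg⟩
      obtain ⟨μ, P, hμ, hP⟩ := exists_std ((g : Matrix (Fin n) (Fin n) F) - 1) hg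
      refine ⟨⟨μ, hμ⟩, Subtype.ext (ConjClasses.mk_eq_mk_iff_isConj.2 (isConj_iff.2 ⟨P, ?_⟩))⟩
      rw [mul_inv_eq_iff_eq_mul]
      refine Units.ext ?_
      rw [Units.val_mul, Units.val_mul, IsUnit.unit_spec, mul_add, mul_one, ← hP, sub_mul, one_mul,
        add_sub_cancel]
  rw [← Nat.card_eq_of_bijective ψ hψ, Nat.card_eq_fintype_card, Fintype.card_subtype]

end Cfsg.Lib.UnipClasses
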