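import Cfsg.Agent.Known.UnipotentType
import Mathlib

/-! Conjugacy of unipotent elements in the special linear group. -/

set_option autoImplicit false

open Matrix

namespace Cfsg.Lib.UnipClasses

variable {F : Type*} [Field F] [Finite F] {n : ℕ}

omit [Finite F] in
/-- Torus elements commuting with the standard nilpotent matrix. -/
theorem exists_std_torus (μ : Nat.Partition n) (z : Fin μ.parts.toList.length → F) :
    ∃ D : Matrix (Fin n) (Fin n) F, D * std F μ = std F μ * D ∧ D.det = ∏ i, z i ^ lens μ i := by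
  classical
  let ε := Fintype.equivFinOfCardEq (card_lens μ)
  let Φ := Matrix.reindexAlgEquiv F F ε
  let D0 : Matrix (Σ i, Fin (lens μ i)) (Σ i, Fin (lens μ i)) F := Matrix.diagonal fun x => z x.1
  have hD : D0 * J (lens μ) = J (lens μ) * D0 := by
    ext x y
    rw [show D0 = Matrix.diagonal fun x => z x.1 from rfl, diagonal_mul, mul_diagonal, J]
    split_ifs with h
    · rw [h.1, mul_comm]
    · simp
  have hstd : std F μ = Φ (J (lens μ)) := rfl
  refine ⟨Φ D0, by rw [hstd, ← map_mul, ← map_mul, hD], ?_⟩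
  rw [Matrix.reindexAlgEquiv_apply, Matrix.reindex_apply, det_submatrix_equiv_self,
    show D0 = Matrix.diagonal fun x => z x.1 from rfl, det_diagonal, Fintype.prod_sigma]
  simp

/-- Unipotent elements of one type are conjugate in `SL` when determinants can be corrected. -/
theorem isConj_SL_of_type (s t : Matrix.SpecialLinearGroup (Fin n) F) {μ : Nat.Partition n}
    (hs : HasType ((s : Matrix (Fin n) (Fin n) F) - 1) μ) (ht : HasType ((t : Matrix (Fin n) (Fin n) F) - 1) μ)
    (hdet : ∀ d : F, d ≠ 0 → ∃ z : Fin μ.parts.toList.length → F, ∏ i, z i ^ lens μ i = d) : IsConj s t := by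
  obtain ⟨P, hP⟩ := similar_of_type (hasType_std μ) hs
  obtain ⟨Q, hQ⟩ := similar_of_type (hasType_std μ) ht
  set Pm := (P : Matrix (Fin n) (Fin n) F) with hPm
  set Qm := (Q : Matrix (Fin n) (Fin n) F) with hQm
  have hP0 : Pm.det ≠ 0 := Matrix.GeneralLinearGroup.det_ne_zero P
  have hQ0 : Qm.det ≠ 0 := Matrix.GeneralLinearGroup.det_ne_zero Q
  obtain ⟨z, hz⟩ := hdet (Pm.det / Qm.det) (div_ne_zero hP0 hQ0)
  obtain ⟨D, hD, hDd⟩ := exists_std_torus (F := F) μ z
  set Pi := ((P⁻¹ : GL (Fin n) F) : Matrix (Fin n) (Fin n) F) with hPi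
  have hPPi : Pm * Pi = 1 := P.mul_inv
  have hPiP : Pi * Pm = 1 := P.inv_mul
  have hdet1 : (Qm * D * Pi).det = 1 := by
    have e : Pm.det * Pi.det = 1 := by rw [← det_mul, hPPi, det_one]
    rw [det_mul, det_mul, hDd, hz, mul_div_cancel₀ _ hQ0, e]
  refine isConj_iff.2 ⟨⟨_, hdet1⟩, mul_inv_eq_iff_eq_mul.2 (Subtype.ext ?_)⟩
  show Qm * D * Pi * (s : Matrix (Fin n) (Fin n) F) = (t : Matrix (Fin n) (Fin n) F) * (Qm * D * Pi)
  have e1 : Pi * ((s : Matrix (Fin n) (Fin n) F) - 1) = std F μ * Pi := by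
    calc Pi * ((s : Matrix (Fin n) (Fin n) F) - 1) = Pi * (((s : Matrix (Fin n) (Fin n) F) - 1) * Pm) * Pi := by
          simp only [mul_assoc, hPPi, mul_one]
      _ = std F μ * Pi := by rw [← hP, ← mul_assoc Pi, hPiP, one_mul]
  have e2 : Qm * D * Pi * ((s : Matrix (Fin n) (Fin n) F) - 1) = ((t : Matrix (Fin n) (Fin n) F) - 1) * (Qm * D * Pi) := by
    calc _ = Qm * (D * std F μ) * Pi := by rw [mul_assoc (Qm * D), e1]; simp only [mul_assoc]
      _ = (Qm * std F μ) * D * Pi := by rw [hD]; simp only [mul_assoc]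
      _ = _ := by rw [hQ]; simp only [mul_assoc]
  rw [mul_sub, sub_mul, mul_one, one_mul, sub_left_inj] at e2
  exact e2

end Cfsg.Lib.UnipClasses
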